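import Mathlib

/-!
# Abelian permutation groups of degree 8 (helper647)

* `card_pow_three_le` : an abelian permutation group `E` moving only points of `S` satisfies `|E|³ ≤ 3^|S|`;
* `card_abel` : an abelian subgroup of the symmetric group of degree 8 has order at most 18.
-/

set_option autoImplicit false

namespace Cfsg.Agent.OddHalf.D5.Eight.Gr

open Subgroup Equiv MulAction

theorem pow_three_le (m : ℕ) (hm : 1 ≤ m) : m ^ 3 ≤ 3 ^ m := by
  rcases Nat.lt_or_ge m 3 with h | h
  · interval_cases m <;> norm_num
  · induction m, h using Nat.le_induction with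
    | base => norm_num
    | succ n hn ih =>
      have h1 := ih (by omega)
      have h2 : (n + 1) ^ 3 ≤ 3 * n ^ 3 := by nlinarith [sq_nonneg n, mul_le_mul hn hn (by omega) (by omega)]
      calc (n + 1) ^ 3 ≤ 3 * n ^ 3 := h2
        _ ≤ 3 * 3 ^ n := by omega
        _ = 3 ^ (n + 1) := by ring

theorem card_pow_three_le {α : Type*} [Finite α] [DecidableEq α] (k : ℕ) :
    ∀ (S : Finset α) (_ : S.card = k) (E : Subgroup (Perm α)) (_ : ∀ x ∈ E, ∀ y ∈ E, x * y = y * x)
      (_ : ∀ x ∈ E, ∀ i, i ∉ S → x i = i), Nat.card E ^ 3 ≤ 3 ^ S.card := by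
  induction k using Nat.strong_induction_on with
  | _ k ih =>
    intro S hS E hE hfix
    rcases S.eq_empty_or_nonempty with h0 | ⟨i, hi⟩
    · have : E = ⊥ := by
        rw [eq_bot_iff]
        intro x hx
        rw [mem_bot]
        ext j
        rw [hfix x hx j (by simp [h0]), Perm.one_apply]
      rw [this, h0]
      simp
    · classical
      have hO : ∀ j ∈ orbit E i, j ∈ S := by
        rintro _ ⟨⟨x, hx⟩, rfl⟩
        by_contra hj
        have h1 : x i ∉ S := hj
        have h2 := hfix x hx _ h1
        have h3 : x i = i := x.injective h2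
        rw [h3] at h1
        exact h1 hi
      have hfin : (orbit E i).Finite := Set.toFinite _
      set O : Finset α := hfin.toFinset with hOdef
      have hOS : O ⊆ S := fun j hj => hO j (hfin.mem_toFinset.1 hj)
      have hiO : i ∈ O := hfin.mem_toFinset.2 (mem_orbit_self i)
      set E' : Subgroup (Perm α) := (stabilizer E i).map E.subtype with hE'
      have hcard' : Nat.card E' = Nat.card (stabilizer E i) :=
        Nat.card_congr (Subgroup.equivMapOfInjective _ _ E.subtype_injective).toEquiv.symm
      have hle : E' ≤ E := by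
        rintro _ ⟨x, _, rfl⟩
        exact x.2
      have hcO : (stabilizer E i).index = O.card := by
        rw [MulAction.index_stabilizer, Set.ncard_eq_toFinset_card _ hfin]
      have hmul : Nat.card E = Nat.card E' * O.card := by
        rw [hcard', ← hcO, Subgroup.card_mul_index]
      have hfix' : ∀ x ∈ E', ∀ j, j ∉ S \ O → x j = j := by
        rintro _ ⟨x, hx, rfl⟩ j hj
        rw [Finset.mem_sdiff, not_and_not_right] at hj
        by_cases hjS : j ∈ S
        · obtain ⟨⟨g, hg⟩, hgj⟩ := hfin.mem_toFinset.1 (hj hjS)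
          have hgj' : g i = j := hgj
          have hxi : (x : Perm α) i = i := hx
          have h1 := hE x x.2 g hg
          have h2 : (x : Perm α) (g i) = g ((x : Perm α) i) := by
            rw [← Perm.mul_apply, ← Perm.mul_apply, h1]
          rw [hgj', hxi, hgj'] at h2
          exact h2
        · exact hfix x x.2 j hjS
      have hlt : (S \ O).card < k := by
        rw [← hS]
        apply Finset.card_lt_card
        rw [Finset.ssubset_iff_of_subset Finset.sdiff_subset]
        exact ⟨i, hi, fun h => (Finset.mem_sdiff.1 h).2 hiO⟩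
      have h1 := ih _ hlt (S \ O) rfl E' (fun x hx y hy => hE x (hle hx) y (hle hy)) hfix'
      have h2 := pow_three_le O.card (Finset.card_pos.2 ⟨i, hiO⟩)
      have h3 : (S \ O).card + O.card = S.card := by
        rw [Finset.card_sdiff_of_subset hOS]
        exact Nat.sub_add_cancel (Finset.card_le_card hOS)
      calc Nat.card E ^ 3 = Nat.card E' ^ 3 * O.card ^ 3 := by rw [hmul, mul_pow]
        _ ≤ 3 ^ (S \ O).card * 3 ^ O.card := Nat.mul_le_mul h1 h2
        _ = 3 ^ S.card := by rw [← pow_add, h3]

/-- abelian permutation groups of degree 8 have order at most 18 -/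
theorem card_abel (E : Subgroup (Perm (Fin 8))) (hE : ∀ x ∈ E, ∀ y ∈ E, x * y = y * x) : Nat.card E ≤ 18 := by
  have h := card_pow_three_le 8 (Finset.univ : Finset (Fin 8)) (by simp) E hE
    (fun x _ i hi => absurd (Finset.mem_univ i) hi)
  rw [Finset.card_univ, Fintype.card_fin] at h
  by_contra hc
  have h1 : 19 ≤ Nat.card E := by omega
  have h2 : 19 ^ 3 ≤ Nat.card E ^ 3 := Nat.pow_le_pow_left h1 3
  have h3 : (19 : ℕ) ^ 3 ≤ 3 ^ 8 := h2.trans h
  norm_num at h3

end Cfsg.Agent.OddHalf.D5.Eight.Gr
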