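import Cfsg.Agent.OddHalf.D5.CTPerm

/-!
# ODD D5, clean case: the base group of the centralizer of an involution of `Sym Ω` (helper522)
-/

set_option autoImplicit false

namespace Cfsg.Agent.OddHalf.D5.CleanTwo

open Equiv Equiv.Perm

variable {Ω : Type*} [DecidableEq Ω]

omit [DecidableEq Ω] in
theorem papi (f : Perm Ω) (x : Ω) : f (f⁻¹ x) = x := f.apply_symm_apply x

/-- `r` fixes every point moved by `w`. -/
def Fx (w r : Perm Ω) : Prop := ∀ x, w x ≠ x → r x = x

/-- `b` lies in the base group of `C(w)`. -/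
def Bs (w b : Perm Ω) : Prop := ∀ x, b x = x ∨ b x = w x

omit [DecidableEq Ω] in
theorem Fx.mul {w r s : Perm Ω} (h1 : Fx w r) (h2 : Fx w s) : Fx w (r * s) := by
  intro x hx
  rw [Perm.mul_apply, h2 x hx, h1 x hx]

omit [DecidableEq Ω] in
theorem Fx.inv {w r : Perm Ω} (h1 : Fx w r) : Fx w r⁻¹ := by
  intro x hx
  rw [Perm.inv_eq_iff_eq, h1 x hx]

omit [DecidableEq Ω] in
theorem Fx.conj {w r c : Perm Ω} (h1 : Fx w r) (hc : c * w = w * c) : Fx w (c * r * c⁻¹) := by
  intro x hx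
  have h2 : w (c⁻¹ x) ≠ c⁻¹ x := by
    intro e
    apply hx
    have h3 : c (w (c⁻¹ x)) = w (c (c⁻¹ x)) := congrFun (congrArg DFunLike.coe hc) _
    rw [e, papi] at h3
    exact h3.symm
  rw [Perm.mul_apply, Perm.mul_apply, h1 _ h2, papi]

section
variable {w : Perm Ω} (hw : w * w = 1)
include hw

omit [DecidableEq Ω] in
theorem Bs.mul {b c : Perm Ω} (hb : Bs w b) (hc : Bs w c) : Bs w (b * c) := by
  intro x
  rw [Perm.mul_apply]
  rcases hc x with h | h <;> rw [h]
  · exact hb x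
  · rcases hb (w x) with h1 | h1
    · exact Or.inr h1
    · left; rw [h1, app_app hw]

omit [DecidableEq Ω] in
theorem Bs.inv {b : Perm Ω} (hb : Bs w b) : Bs w b⁻¹ := by
  intro x
  rcases hb (b⁻¹ x) with h | h
  · rw [papi] at h
    exact Or.inl h.symm
  · rw [papi] at h
    right
    conv_rhs => rw [h, app_app hw]

omit [DecidableEq Ω] in
theorem Bs.comm {b : Perm Ω} (hb : Bs w b) (x : Ω) : b (w x) = w (b x) := by
  rcases hb x with h | h <;> rw [h]
  · rcases hb (w x) with h1 | h1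
    · exact h1
    · rw [app_app hw] at h1
      rw [h1]
      have : w x = x := b.injective (h1.trans h.symm)
      exact this.symm
  · rw [app_app hw]
    rcases hb (w x) with h1 | h1
    · have : w x = x := b.injective (h1.trans h.symm)
      rw [h1, this]
    · rw [h1, app_app hw]

omit [DecidableEq Ω] in
theorem Bs.sq {b : Perm Ω} (hb : Bs w b) : b * b = 1 := by
  ext x
  rw [Perm.mul_apply, Perm.one_apply]
  rcases hb x with h | h
  · rw [h, h]
  · rw [h, hb.comm hw, h, app_app hw]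

theorem Bs.swap (x : Ω) : Bs w (swap x (w x)) := by
  intro z
  by_cases h1 : z = x
  · right; rw [h1, swap_apply_left]
  by_cases h2 : z = w x
  · right; rw [h2, swap_apply_right, app_app hw]
  · left; rw [swap_apply_of_ne_of_ne h1 h2]

end

omit [DecidableEq Ω] in
theorem Bs.conj {w b c : Perm Ω} (hb : Bs w b) (hc : c * w = w * c) : Bs w (c * b * c⁻¹) := by
  intro x
  have h3 : ∀ y, c (w y) = w (c y) := fun y => congrFun (congrArg DFunLike.coe hc) y
  rw [Perm.mul_apply, Perm.mul_apply]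
  rcases hb (c⁻¹ x) with h | h <;> rw [h]
  · left; rw [papi]
  · right; rw [h3, papi]

/-- product of two 2-cycles of `w` -/
def bb (w : Perm Ω) (x y : Ω) : Perm Ω := swap x (w x) * swap y (w y)

/-- the swap of two 2-cycles of `w` -/
def cc (w : Perm Ω) (x y : Ω) : Perm Ω := swap x y * swap (w x) (w y)

theorem bb_bs {w : Perm Ω} (hw : w * w = 1) (x y : Ω) : Bs w (bb w x y) :=
  (Bs.swap hw x).mul hw (Bs.swap hw y)

theorem bb_sign [Fintype Ω] {w : Perm Ω} {x y : Ω} (hx : w x ≠ x) (hy : w y ≠ y) :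
    Perm.sign (bb w x y) = 1 := by
  rw [bb, map_mul, sign_swap hx.symm, sign_swap hy.symm]; decide

section
variable {w : Perm Ω} (hw : w * w = 1) {x y : Ω} (hx : w x ≠ x) (hy : w y ≠ y) (h1 : y ≠ x) (h2 : y ≠ w x)
include hw h1 h2

omit [DecidableEq Ω] h1 in
theorem ne3 : w y ≠ x := fun e => h2 (by rw [← e, app_app hw])

omit [DecidableEq Ω] hw h2 in
theorem ne4 : w y ≠ w x := fun e => h1 (w.injective e)

theorem bb_x : bb w x y x = w x := by
  rw [bb, Perm.mul_apply, swap_apply_of_ne_of_ne h1.symm (ne3 hw h2).symm, swap_apply_left]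

omit hw in
theorem bb_wx : bb w x y (w x) = x := by
  rw [bb, Perm.mul_apply, swap_apply_of_ne_of_ne h2.symm (ne4 h1).symm, swap_apply_right]

theorem bb_y : bb w x y y = w y := by
  rw [bb, Perm.mul_apply, swap_apply_left, swap_apply_of_ne_of_ne (ne3 hw h2) (ne4 h1)]

omit hw in
theorem bb_wy : bb w x y (w y) = y := by
  rw [bb, Perm.mul_apply, swap_apply_right, swap_apply_of_ne_of_ne h1 h2]

omit hw h1 h2 in
theorem bb_ne {z : Ω} (z1 : z ≠ x) (z2 : z ≠ w x) (z3 : z ≠ y) (z4 : z ≠ w y) : bb w x y z = z := by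
  rw [bb, Perm.mul_apply, swap_apply_of_ne_of_ne z3 z4, swap_apply_of_ne_of_ne z1 z2]

include hx in
theorem cc_x : cc w x y x = y := by
  rw [cc, Perm.mul_apply, swap_apply_of_ne_of_ne hx.symm (ne3 hw h2).symm, swap_apply_left]

omit h1 hw in
include hy in
theorem cc_y : cc w x y y = x := by
  rw [cc, Perm.mul_apply, swap_apply_of_ne_of_ne h2 hy.symm, swap_apply_right]

include hy in
theorem cc_wx : cc w x y (w x) = w y := by
  rw [cc, Perm.mul_apply, swap_apply_left, swap_apply_of_ne_of_ne (ne3 hw h2) hy]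

include hx in
omit h1 hw in
theorem cc_wy : cc w x y (w y) = w x := by
  rw [cc, Perm.mul_apply, swap_apply_right, swap_apply_of_ne_of_ne hx h2.symm]

omit hw h1 h2 in
theorem cc_ne {z : Ω} (z1 : z ≠ x) (z2 : z ≠ w x) (z3 : z ≠ y) (z4 : z ≠ w y) : cc w x y z = z := by
  rw [cc, Perm.mul_apply, swap_apply_of_ne_of_ne z2 z4, swap_apply_of_ne_of_ne z1 z3]

include hx hy in
theorem cc_comm : cc w x y * w = w * cc w x y := by
  ext z
  rw [Perm.mul_apply, Perm.mul_apply]
  by_cases z1 : z = x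
  · rw [z1, cc_x hw hx h1 h2, cc_wx hw hy h1 h2]
  by_cases z2 : z = w x
  · rw [z2, app_app hw, cc_x hw hx h1 h2, cc_wx hw hy h1 h2, app_app hw]
  by_cases z3 : z = y
  · rw [z3, cc_y hy h2, cc_wy hx h2]
  by_cases z4 : z = w y
  · rw [z4, app_app hw, cc_y hy h2, cc_wy hx h2, app_app hw]
  rw [cc_ne z1 z2 z3 z4, cc_ne]
  · exact fun e => z2 (by rw [← e, app_app hw])
  · exact fun e => z1 (w.injective e)
  · exact fun e => z4 (by rw [← e, app_app hw])
  · exact fun e => z3 (w.injective e)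

omit hw h2 in
theorem cc_sign [Fintype Ω] : Perm.sign (cc w x y) = 1 := by
  rw [cc, map_mul, sign_swap h1.symm, sign_swap (ne4 h1).symm]; decide

include hx hy in
/-- the swap trick -/
theorem bb_eq {b : Perm Ω} (hb : Bs w b) (hbx : b x ≠ x) (hby : b y = y) :
    b * (cc w x y * b * (cc w x y)⁻¹) = bb w x y := by
  have hbx' : b x = w x := (hb x).resolve_left hbx
  have hbwx : b (w x) = x := by rw [hb.comm hw, hbx', app_app hw]
  have hbwy : b (w y) = w y := by rw [hb.comm hw, hby]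
  have i1 : (cc w x y)⁻¹ x = y := by rw [Perm.inv_eq_iff_eq, cc_y hy h2]
  have i2 : (cc w x y)⁻¹ y = x := by rw [Perm.inv_eq_iff_eq, cc_x hw hx h1 h2]
  have i3 : (cc w x y)⁻¹ (w x) = w y := by rw [Perm.inv_eq_iff_eq, cc_wy hx h2]
  have i4 : (cc w x y)⁻¹ (w y) = w x := by rw [Perm.inv_eq_iff_eq, cc_wx hw hy h1 h2]
  ext z
  rw [Perm.mul_apply, Perm.mul_apply, Perm.mul_apply]
  by_cases z1 : z = x
  · rw [z1, i1, hby, cc_y hy h2, hbx', bb_x hw h1 h2]
  by_cases z2 : z = w x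
  · rw [z2, i3, hbwy, cc_wy hx h2, hbwx, bb_wx h1 h2]
  by_cases z3 : z = y
  · rw [z3, i2, hbx', cc_wx hw hy h1 h2, hbwy, bb_y hw h1 h2]
  by_cases z4 : z = w y
  · rw [z4, i4, hbwx, cc_x hw hx h1 h2, hby, bb_wy h1 h2]
  have i5 : (cc w x y)⁻¹ z = z := by rw [Perm.inv_eq_iff_eq, cc_ne z1 z2 z3 z4]
  have hbb : b (b z) = z := app_app (hb.sq hw) z
  rw [i5, bb_ne z1 z2 z3 z4, cc_ne, hbb]
  · intro e; rw [e, hbx'] at hbb; exact z2 hbb.symm
  · intro e; rw [e, hbwx] at hbb; exact z1 hbb.symm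
  · intro e; rw [e, hby] at hbb; exact z3 hbb.symm
  · intro e; rw [e, hbwy] at hbb; exact z4 hbb.symm

end

end Cfsg.Agent.OddHalf.D5.CleanTwo
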