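import Cfsg.Agent.OddHalf.D5.CTView
import Cfsg.Agent.OddHalf.D5.CTBase

/-!
# ODD D5, clean case: the alternating group on the fixed points of `w` is natural in both views (helper522)
-/

set_option autoImplicit false

namespace Cfsg.Agent.OddHalf.D5.CleanTwo

open Equiv Equiv.Perm

variable {G : Type*} [Group G] {Ω : Type*} [Fintype Ω] [DecidableEq Ω]

omit [Fintype Ω] [DecidableEq Ω] in
theorem Fx.comm {w r : Perm Ω} (h : Fx w r) : r * w = w * r := by
  ext x
  rw [Perm.mul_apply, Perm.mul_apply]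
  by_cases hx : w x = x
  · rw [hx]
    by_contra hne
    have h1 : r (r x) = r x := h _ (fun e => hne e.symm)
    have h2 := r.injective h1
    rw [h2, hx] at hne
    exact hne rfl
  · rw [h x hx, h (w x) (fun e => hx (w.injective e))]

/-- membership in the image of the alternating group on the fixed points of `w` -/
def InL (ι : alternatingGroup Ω →* G) (w : alternatingGroup Ω) (y : G) : Prop :=
  ∃ r : alternatingGroup Ω, Fx (w : Perm Ω) r ∧ ι r = y

theorem InL.mul {ι : alternatingGroup Ω →* G} {w : alternatingGroup Ω} {y z : G} (hy : InL ι w y)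
    (hz : InL ι w z) : InL ι w (y * z) := by
  obtain ⟨r, hr, rfl⟩ := hy
  obtain ⟨s, hs, rfl⟩ := hz
  exact ⟨r * s, hr.mul hs, map_mul _ _ _⟩

theorem InL.inv {ι : alternatingGroup Ω →* G} {w : alternatingGroup Ω} {y : G} (hy : InL ι w y) :
    InL ι w y⁻¹ := by
  obtain ⟨r, hr, rfl⟩ := hy
  exact ⟨r⁻¹, hr.inv, map_inv _ _⟩

theorem coe_comm {a b : alternatingGroup Ω} (h : a * b = b * a) :
    (a : Perm Ω) * b = b * a := congrArg Subtype.val h

theorem coe_sq {a : alternatingGroup Ω} (h : a * a = 1) : (a : Perm Ω) * a = 1 :=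
  congrArg Subtype.val h

namespace Pair

variable {t : G} {ι κ : alternatingGroup Ω →* G} {w w' : alternatingGroup Ω}

theorem w'w' (P : Pair t ι w κ) (hw' : κ w' = ι w) : w' * w' = 1 := by
  apply P.hu.inj
  rw [map_mul, hw', ← map_mul, P.ww, map_one, map_one]

theorem stepA (P : Pair t ι w κ) (hw' : κ w' = ι w) {c : alternatingGroup Ω} (hc : c * w' = w' * c) :
    ∃ c₁ : alternatingGroup Ω, c₁ * w = w * c₁ ∧ (κ c = ι c₁ ∨ κ c = t * ι c₁) := by
  have h1 : κ c * ι w = ι w * κ c := by
    rw [← hw', ← map_mul, hc, map_mul]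
  have h2 : κ c * t = t * κ c := by
    have h3 := P.hu.comm c
    apply mul_right_cancel (b := ι w)
    calc κ c * t * ι w = κ c * (t * ι w) := by group
      _ = t * ι w * κ c := by rw [← P.hu.comm]
      _ = t * (ι w * κ c) := by group
      _ = t * (κ c * ι w) := by rw [h1]
      _ = t * κ c * ι w := by group
  rcases P.ht.cent _ h2 with ⟨a, ha⟩ | ⟨a, ha⟩
  · refine ⟨a, ?_, Or.inl ha⟩
    apply P.ht.inj
    rw [map_mul, map_mul, ← ha, h1]
  · refine ⟨a, ?_, Or.inr ha⟩
    apply P.ht.inj
    rw [map_mul, map_mul]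
    rw [ha] at h1
    apply mul_left_cancel (a := t)
    calc t * (ι a * ι w) = t * ι a * ι w := by group
      _ = ι w * (t * ι a) := h1
      _ = (ι w * t) * ι a := by group
      _ = (t * ι w) * ι a := by rw [P.ht.comm]
      _ = t * (ι w * ι a) := by group

theorem conjL (P : Pair t ι w κ) (hw' : κ w' = ι w) {c : alternatingGroup Ω} (hc : c * w' = w' * c)
    {y : G} (hy : InL ι w y) : InL ι w (κ c * y * (κ c)⁻¹) := by
  obtain ⟨c₁, hc₁, h⟩ := P.stepA hw' hc
  obtain ⟨r, hr, rfl⟩ := hy
  refine ⟨c₁ * r * c₁⁻¹, hr.conj (coe_comm hc₁), ?_⟩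
  rcases h with h | h
  · rw [h, map_mul, map_mul, map_inv]
  · rw [h, map_mul, map_mul, map_inv]
    symm
    calc t * ι c₁ * ι r * (t * ι c₁)⁻¹ = t * ι c₁ * ι r * (ι c₁ * t)⁻¹ := by rw [P.ht.comm]
      _ = t * ι c₁ * ι r * t⁻¹ * (ι c₁)⁻¹ := by group
      _ = t * (ι (c₁ * r)) * t⁻¹ * (ι c₁)⁻¹ := by rw [map_mul]; group
      _ = ι (c₁ * r) * t * t⁻¹ * (ι c₁)⁻¹ := by rw [P.ht.comm]
      _ = ι c₁ * ι r * (ι c₁)⁻¹ := by rw [map_mul]; group

theorem baseBB (P : Pair t ι w κ) (hw' : κ w' = ι w) {b : alternatingGroup Ω}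
    (hb : Bs (w' : Perm Ω) b) (hL : InL ι w (κ b)) {x y : Ω} (hx : (b : Perm Ω) x ≠ x)
    (hwy : (w' : Perm Ω) y ≠ y) (hy : (b : Perm Ω) y = y) :
    ∃ z : alternatingGroup Ω, (z : Perm Ω) = bb (w' : Perm Ω) x y ∧ InL ι w (κ z) := by
  have hww := coe_sq (P.w'w' hw')
  have hbx : (b : Perm Ω) x = (w' : Perm Ω) x := (hb x).resolve_left hx
  have hwx : (w' : Perm Ω) x ≠ x := by rw [← hbx]; exact hx
  have h1 : y ≠ x := by rintro rfl; exact hx hy
  have h2 : y ≠ (w' : Perm Ω) x := by
    intro e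
    rw [e, hb.comm hww, hbx, app_app hww] at hy
    exact hwx hy.symm
  have hcs : Perm.sign (cc (w' : Perm Ω) x y) = 1 := cc_sign h1
  have hcc : (⟨cc (w' : Perm Ω) x y, hcs⟩ : alternatingGroup Ω) * w' =
      w' * ⟨cc (w' : Perm Ω) x y, hcs⟩ := Subtype.ext (cc_comm hww hwx hwy h1 h2)
  refine ⟨b * (⟨cc (w' : Perm Ω) x y, hcs⟩ * b * (⟨cc (w' : Perm Ω) x y, hcs⟩)⁻¹),
    bb_eq hww hwx hwy h1 h2 hb hx hy, ?_⟩
  rw [map_mul, map_mul, map_mul, map_inv]
  exact hL.mul (P.conjL hw' hcc hL)

theorem base_trivial (P : Pair t ι w κ) (hw' : κ w' = ι w) (hw1 : w ≠ 1) (n : ℕ) :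
    ∀ b : alternatingGroup Ω, Bs (w' : Perm Ω) b → InL ι w (κ b) → b ≠ 1 →
      (w' : Perm Ω).support.card ≤ n + (b : Perm Ω).support.card → False := by
  have hww := coe_sq (P.w'w' hw')
  induction n with
  | zero =>
    intro b hb hL hb1 hcard
    have hsub : (b : Perm Ω).support ⊆ (w' : Perm Ω).support := by
      intro x hx
      rw [mem_support] at hx ⊢
      rw [← (hb x).resolve_left hx]; exact hx
    have hS := Finset.eq_of_subset_of_card_le hsub (by omega)
    have hbw : b = w' := by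
      apply Subtype.ext
      ext x
      rcases hb x with h | h
      · have : x ∉ (b : Perm Ω).support := by rw [notMem_support]; exact h
        rw [hS, notMem_support] at this
        rw [h, this]
      · exact h
    rw [hbw, hw'] at hL
    obtain ⟨r, hr, he⟩ := hL
    rw [P.ht.inj he] at hr
    apply hw1
    apply Subtype.ext
    ext x
    by_contra hne
    exact hne (hr x hne)
  | succ n ih =>
    intro b hb hL hb1 hcard
    by_cases hle : (w' : Perm Ω).support.card ≤ n + (b : Perm Ω).support.card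
    · exact ih b hb hL hb1 hle
    have hsub : (b : Perm Ω).support ⊆ (w' : Perm Ω).support := by
      intro x hx
      rw [mem_support] at hx ⊢
      rw [← (hb x).resolve_left hx]; exact hx
    have hd1 := four_dvd hww w'.2
    have hd2 := four_dvd (hb.sq hww) b.2
    have hdiff := Finset.card_sdiff_add_card_eq_card hsub
    have h4 : 4 ≤ ((w' : Perm Ω).support \ (b : Perm Ω).support).card := by omega
    obtain ⟨x, hx⟩ : ∃ x, (b : Perm Ω) x ≠ x := by
      by_contra hne
      push Not at hne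
      exact hb1 (Subtype.ext (Equiv.ext hne))
    obtain ⟨y, hy⟩ : ((w' : Perm Ω).support \ (b : Perm Ω).support).Nonempty :=
      Finset.card_pos.1 (by omega)
    obtain ⟨y₂, hy₂⟩ : (((w' : Perm Ω).support \ (b : Perm Ω).support) \ {y, (w' : Perm Ω) y}).Nonempty := by
      apply Finset.card_pos.1
      have := Finset.le_card_sdiff {y, (w' : Perm Ω) y} ((w' : Perm Ω).support \ (b : Perm Ω).support)
      have h5 : ({y, (w' : Perm Ω) y} : Finset Ω).card ≤ 2 := Finset.card_le_two
      omega
    simp only [Finset.mem_sdiff, mem_support, not_not, Finset.mem_insert, Finset.mem_singleton,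
      not_or] at hy hy₂
    obtain ⟨y1, y2⟩ := hy
    obtain ⟨⟨z1, z2⟩, z3, z4⟩ := hy₂
    obtain ⟨r, hr, hrL⟩ := P.baseBB hw' hb hL hx y1 y2
    obtain ⟨s, hs, hsL⟩ := P.baseBB hw' hb hL hx z1 z2
    have hbx : (b : Perm Ω) x = (w' : Perm Ω) x := (hb x).resolve_left hx
    have hwx : (w' : Perm Ω) x ≠ x := by rw [← hbx]; exact hx
    have hbwx : (b : Perm Ω) ((w' : Perm Ω) x) = x := by rw [hb.comm hww, hbx, app_app hww]
    have hbwy : (b : Perm Ω) ((w' : Perm Ω) y) = (w' : Perm Ω) y := by rw [hb.comm hww, y2]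
    have hbwy₂ : (b : Perm Ω) ((w' : Perm Ω) y₂) = (w' : Perm Ω) y₂ := by rw [hb.comm hww, z2]
    -- distinctness
    have dx : ∀ v, (b : Perm Ω) v = v → v ≠ x ∧ v ≠ (w' : Perm Ω) x := by
      intro v hv
      refine ⟨fun e => hx (by rw [← e]; exact hv), fun e => ?_⟩
      rw [e, hbwx] at hv
      exact hwx hv.symm
    have dy := dx y y2
    have dwy := dx _ hbwy
    have dy₂ := dx y₂ z2
    have dwy₂ := dx _ hbwy₂
    have hbr : Bs (w' : Perm Ω) (r : Perm Ω) := by rw [hr]; exact bb_bs hww x y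
    have hbs : Bs (w' : Perm Ω) (s : Perm Ω) := by rw [hs]; exact bb_bs hww x y₂
    -- the product
    have key : ∀ v, (b : Perm Ω) v ≠ v → ((b * (r * s) : alternatingGroup Ω) : Perm Ω) v ≠ v := by
      intro v hv
      have hrs : (r : Perm Ω) ((s : Perm Ω) v) = v := by
        rw [hr, hs]
        by_cases v1 : v = x
        · rw [v1, bb_x hww dy₂.1 dy₂.2, bb_wx dy.1 dy.2]
        by_cases v2 : v = (w' : Perm Ω) x
        · rw [v2, bb_wx dy₂.1 dy₂.2, bb_x hww dy.1 dy.2]
        have v3 : v ≠ y := by rintro rfl; exact hv y2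
        have v4 : v ≠ (w' : Perm Ω) y := by rintro rfl; exact hv hbwy
        have v5 : v ≠ y₂ := by rintro rfl; exact hv z2
        have v6 : v ≠ (w' : Perm Ω) y₂ := by rintro rfl; exact hv hbwy₂
        rw [bb_ne v1 v2 v5 v6, bb_ne v1 v2 v3 v4]
      show (b : Perm Ω) ((r : Perm Ω) ((s : Perm Ω) v)) ≠ v
      rw [hrs]; exact hv
    have key2 : ((b * (r * s) : alternatingGroup Ω) : Perm Ω) y ≠ y := by
      have hsy : (s : Perm Ω) y = y := by
        rw [hs]
        apply bb_ne dy.1 dy.2 (Ne.symm z3)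
        intro e
        apply z4
        rw [e, app_app hww]
      show (b : Perm Ω) ((r : Perm Ω) ((s : Perm Ω) y)) ≠ y
      rw [hsy, hr, bb_y hww dy.1 dy.2, hbwy]
      exact y1
    refine ih (b * (r * s)) (hb.mul hww (hbr.mul hww hbs)) ?_ ?_ ?_
    · rw [map_mul, map_mul]
      exact hL.mul (hrL.mul hsL)
    · intro e
      rw [e] at key2
      exact key2 rfl
    · have hlt : (b : Perm Ω).support.card < ((b * (r * s) : alternatingGroup Ω) : Perm Ω).support.card := by
        apply Finset.card_lt_card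
        rw [Finset.ssubset_iff_of_subset]
        · exact ⟨y, by rw [mem_support]; exact key2, by rw [notMem_support]; exact y2⟩
        · intro v hv
          rw [mem_support] at hv ⊢
          exact key v hv
      omega

theorem base_one (P : Pair t ι w κ) (hw' : κ w' = ι w) (hw1 : w ≠ 1) {b : alternatingGroup Ω}
    (hb : Bs (w' : Perm Ω) b) (hL : InL ι w (κ b)) : b = 1 := by
  by_contra hne
  exact P.base_trivial hw' hw1 (w' : Perm Ω).support.card b hb hL hne (by omega)

/-- the pull back of an even permutation of `Fix w` commutes with the base group -/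
theorem comm_bb (P : Pair t ι w κ) (hw' : κ w' = ι w) (hw1 : w ≠ 1) {r r' : alternatingGroup Ω}
    (hr : Fx (w : Perm Ω) r) (h : κ r' = ι r) {x y : Ω} (hx : (w' : Perm Ω) x ≠ x)
    (hy : (w' : Perm Ω) y ≠ y) :
    (r' : Perm Ω) * bb (w' : Perm Ω) x y = bb (w' : Perm Ω) x y * r' := by
  have hww := coe_sq (P.w'w' hw')
  have hrw : r' * w' = w' * r' := P.comm_of_comm h hw' (Subtype.ext hr.comm)
  have hbb : Bs (w' : Perm Ω) (bb (w' : Perm Ω) x y) := bb_bs hww x y
  set b : alternatingGroup Ω := ⟨bb (w' : Perm Ω) x y, bb_sign hx hy⟩ with hb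
  have hbw : b * w' = w' * b := by
    apply Subtype.ext
    ext z
    exact hbb.comm hww z
  have h1 : b * (r' * b⁻¹ * r'⁻¹) = 1 := by
    apply P.base_one hw' hw1
    · exact hbb.mul hww ((hbb.inv hww).conj (coe_comm hrw))
    · have e : κ (b * (r' * b⁻¹ * r'⁻¹)) = (κ b * ι r * (κ b)⁻¹) * (ι r)⁻¹ := by
        rw [map_mul, map_mul, map_mul, map_inv, map_inv, h]; group
      rw [e]
      exact (P.conjL hw' hbw ⟨r, hr, rfl⟩).mul (InL.inv ⟨r, hr, rfl⟩)
  have h2 : b * r' = r' * b := by
    have h3 : b * (r' * b⁻¹ * r'⁻¹) = (b * r') * (r' * b)⁻¹ := by group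
    rw [h3] at h1
    exact mul_inv_eq_one.1 h1
  exact (congrArg Subtype.val h2).symm

theorem fx_of_three (P : Pair t ι w κ) (hw' : κ w' = ι w) (hw1 : w ≠ 1)
    (h6 : 6 ≤ (w' : Perm Ω).support.card) {r r' : alternatingGroup Ω}
    (hr : Fx (w : Perm Ω) r) (h3 : r * r * r = 1) (h : κ r' = ι r) : Fx (w' : Perm Ω) r' := by
  have hww := coe_sq (P.w'w' hw')
  have hrw : r' * w' = w' * r' := P.comm_of_comm h hw' (Subtype.ext hr.comm)
  have h3' : r' * r' * r' = 1 := by
    apply P.hu.inj
    rw [map_mul, map_mul, h, ← map_mul, ← map_mul, h3, map_one, map_one]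
  have h3'' : ∀ x, (r' : Perm Ω) ((r' : Perm Ω) ((r' : Perm Ω) x)) = x := fun x =>
    congrFun (congrArg DFunLike.coe (congrArg Subtype.val h3')) x
  have hrw' : ∀ x, (r' : Perm Ω) ((w' : Perm Ω) x) = (w' : Perm Ω) ((r' : Perm Ω) x) := fun x =>
    congrFun (congrArg DFunLike.coe (congrArg Subtype.val hrw)) x
  intro x hx
  have step : ∀ y, (w' : Perm Ω) y ≠ y → y ≠ x → y ≠ (w' : Perm Ω) x →
      (r' : Perm Ω) x = x ∨ (r' : Perm Ω) x = (w' : Perm Ω) x ∨ (r' : Perm Ω) x = y ∨
        (r' : Perm Ω) x = (w' : Perm Ω) y := by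
    intro y hy h1 h2
    by_contra hne
    push Not at hne
    obtain ⟨n1, n2, n3, n4⟩ := hne
    have h4 := congrFun (congrArg DFunLike.coe (P.comm_bb hw' hw1 hr h hx hy)) x
    rw [Perm.mul_apply, Perm.mul_apply, bb_x hww h1 h2, bb_ne n1 n2 n3 n4] at h4
    exact hx ((r' : Perm Ω).injective h4)
  obtain ⟨y, hy⟩ : ((w' : Perm Ω).support \ {x, (w' : Perm Ω) x}).Nonempty := by
    apply Finset.card_pos.1
    have := Finset.le_card_sdiff {x, (w' : Perm Ω) x} (w' : Perm Ω).support
    have h5 : ({x, (w' : Perm Ω) x} : Finset Ω).card ≤ 2 := Finset.card_le_two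
    omega
  obtain ⟨z, hz⟩ : ((w' : Perm Ω).support \ {x, (w' : Perm Ω) x, y, (w' : Perm Ω) y}).Nonempty := by
    apply Finset.card_pos.1
    have := Finset.le_card_sdiff {x, (w' : Perm Ω) x, y, (w' : Perm Ω) y} (w' : Perm Ω).support
    have h5 : ({x, (w' : Perm Ω) x, y, (w' : Perm Ω) y} : Finset Ω).card ≤ 4 := Finset.card_le_four
    omega
  simp only [Finset.mem_sdiff, mem_support, Finset.mem_insert, Finset.mem_singleton, not_or] at hy hz
  obtain ⟨y1, y2, y3⟩ := hy
  obtain ⟨z1, z2, z3, z4, z5⟩ := hz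
  have hcase : (r' : Perm Ω) x = x ∨ (r' : Perm Ω) x = (w' : Perm Ω) x := by
    rcases step y y1 y2 y3 with h | h | h | h
    · exact Or.inl h
    · exact Or.inr h
    · rcases step z z1 z2 z3 with k | k | k | k
      · exact Or.inl k
      · exact Or.inr k
      · exact absurd (k.symm.trans h) z4
      · exact absurd (by rw [← h, k, app_app hww]) z5
    · rcases step z z1 z2 z3 with k | k | k | k
      · exact Or.inl k
      · exact Or.inr k
      · exact absurd (k.symm.trans h) z5
      · exact absurd ((w' : Perm Ω).injective (k.symm.trans h)) z4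
  rcases hcase with h4 | h4
  · exact h4
  · exfalso
    have h5 := h3'' x
    rw [h4, hrw', h4, app_app hww, h4] at h5
    exact hx h5

/-- every even permutation of `Fix w` pulls back to an even permutation of `Fix w'` -/
theorem exists_pull (P : Pair t ι w κ) (hw' : κ w' = ι w) (hw1 : w ≠ 1)
    (h6 : 6 ≤ (w' : Perm Ω).support.card) {r : alternatingGroup Ω} (hr : Fx (w : Perm Ω) r) :
    ∃ r' : alternatingGroup Ω, κ r' = ι r ∧ Fx (w' : Perm Ω) r' := by
  have key : ∀ s ∈ Subgroup.closure {σ : Perm {x // (w : Perm Ω) x = x} | IsThreeCycle σ},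
      ∃ r r' : alternatingGroup Ω, (r : Perm Ω) = ofSubtype s ∧ κ r' = ι r ∧ Fx (w' : Perm Ω) r' := by
    intro s hs
    induction hs using Subgroup.closure_induction with
    | mem σ hσ =>
      have hs1 : Perm.sign (ofSubtype σ : Perm Ω) = 1 := by
        rw [sign_ofSubtype, IsThreeCycle.sign hσ]
      have h3 : σ * σ * σ = 1 := by
        have h4 : orderOf σ = 3 := IsThreeCycle.orderOf hσ
        have h5 := pow_orderOf_eq_one σ
        rw [h4] at h5
        rw [← h5]; rfl
      have hfx : Fx (w : Perm Ω) (ofSubtype σ : Perm Ω) := by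
        intro x hx
        exact ofSubtype_apply_of_not_mem σ hx
      have h3' : (⟨ofSubtype σ, hs1⟩ : alternatingGroup Ω) * ⟨ofSubtype σ, hs1⟩ * ⟨ofSubtype σ, hs1⟩ = 1 := by
        apply Subtype.ext
        show ofSubtype σ * ofSubtype σ * ofSubtype σ = (1 : Perm Ω)
        rw [← map_mul, ← map_mul, h3, map_one]
      obtain ⟨r', hr'⟩ := P.pull3 (c := ⟨ofSubtype σ, hs1⟩) (Subtype.ext hfx.comm) h3'
      exact ⟨⟨ofSubtype σ, hs1⟩, r', rfl, hr', P.fx_of_three hw' hw1 h6 hfx h3' hr'⟩
    | one => exact ⟨1, 1, by simp, by simp, fun x _ => rfl⟩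
    | mul a b _ _ ha hb =>
      obtain ⟨r, r', h1, h2, h3⟩ := ha
      obtain ⟨s, s', h4, h5, h6⟩ := hb
      refine ⟨r * s, r' * s', ?_, ?_, h3.mul h6⟩
      · rw [Subgroup.coe_mul, h1, h4, map_mul]
      · rw [map_mul, map_mul, h2, h5]
    | inv a _ ha =>
      obtain ⟨r, r', h1, h2, h3⟩ := ha
      refine ⟨r⁻¹, r'⁻¹, ?_, ?_, h3.inv⟩
      · rw [Subgroup.coe_inv, h1, map_inv]
      · rw [map_inv, map_inv, h2]
  have hiff : ∀ x, (w : Perm Ω) x = x ↔ (w : Perm Ω) ((r : Perm Ω) x) = (r : Perm Ω) x := by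
    intro x
    have h1 : (r : Perm Ω) ((w : Perm Ω) x) = (w : Perm Ω) ((r : Perm Ω) x) :=
      congrFun (congrArg DFunLike.coe hr.comm) x
    rw [← h1]
    exact ⟨fun h => by rw [h], fun h => (r : Perm Ω).injective h⟩
  set s : Perm {x // (w : Perm Ω) x = x} := (r : Perm Ω).subtypePerm (fun x => (hiff x).symm) with hs
  have hrs : ofSubtype s = (r : Perm Ω) := by
    rw [hs]
    apply ofSubtype_subtypePerm
    intro x hx
    by_contra hne
    exact hx (hr x hne)
  have hs1 : s ∈ Subgroup.closure {σ : Perm {x // (w : Perm Ω) x = x} | IsThreeCycle σ} := by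
    rw [closure_three_cycles_eq_alternating, mem_alternatingGroup, ← sign_ofSubtype, hrs]
    exact r.2
  obtain ⟨r₁, r', h1, h2, h3⟩ := key s hs1
  have h4 : r₁ = r := Subtype.ext (h1.trans hrs)
  exact ⟨r', by rw [h2, h4], h3⟩

end Pair

/-- The even permutations fixing the points moved by `w` are those of `Fix w`. -/
theorem card_fx (w : Perm Ω) : Nat.card {r : alternatingGroup Ω // Fx w r} =
    Nat.card (alternatingGroup {x // w x = x}) := by
  apply Nat.card_congr
  have hiff : ∀ r : alternatingGroup Ω, Fx w r → ∀ x, w ((r : Perm Ω) x) = (r : Perm Ω) x ↔ w x = x := by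
    intro r hr x
    have h1 : (r : Perm Ω) (w x) = w ((r : Perm Ω) x) :=
      congrFun (congrArg DFunLike.coe hr.comm) x
    rw [← h1]
    exact ⟨fun h => (r : Perm Ω).injective h, fun h => by rw [h]⟩
  have hof : ∀ (r : alternatingGroup Ω) (hr : Fx w r),
      ofSubtype ((r : Perm Ω).subtypePerm (p := fun x => w x = x) (hiff r hr)) = (r : Perm Ω) := by
    intro r hr
    apply ofSubtype_subtypePerm
    intro x hx
    by_contra hne
    exact hx (hr x hne)
  exact
    { toFun := fun r => ⟨(r.1 : Perm Ω).subtypePerm (p := fun x => w x = x) (hiff r.1 r.2), by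
        rw [mem_alternatingGroup, ← sign_ofSubtype, hof r.1 r.2]; exact r.1.2⟩
      invFun := fun s => ⟨⟨ofSubtype (s : Perm {x // w x = x}), by
        rw [mem_alternatingGroup, sign_ofSubtype]; exact s.2⟩, fun x hx => ofSubtype_apply_of_not_mem _ hx⟩
      left_inv := fun r => Subtype.ext (Subtype.ext (hof r.1 r.2))
      right_inv := fun s => Subtype.ext (by
        apply Equiv.ext
        intro x
        apply Subtype.ext
        rw [subtypePerm_apply]
        exact ofSubtype_apply_coe _ x) }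

theorem card_fix (w : Perm Ω) : Nat.card {x // w x = x} + w.support.card = Fintype.card Ω := by
  classical
  have h1 : Nat.card {x // w x = x} = (w.support)ᶜ.card := by
    rw [Nat.subtype_card]
    intro x
    rw [Finset.mem_compl, notMem_support]
  rw [h1, Finset.card_compl]
  have := Finset.card_le_univ w.support
  omega

namespace Pair

variable {t : G} {ι κ : alternatingGroup Ω →* G} {w w' : alternatingGroup Ω}

/-- **(**)**: the alternating group on the fixed points of `w` is natural in both views. -/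
theorem gamma (P : Pair t ι w κ) (hw' : κ w' = ι w) (hw1 : w ≠ 1)
    (hle : (w : Perm Ω).support.card ≤ (w' : Perm Ω).support.card)
    (h6 : 6 ≤ (w : Perm Ω).support.card) (h3 : (w : Perm Ω).support.card + 3 ≤ Fintype.card Ω) :
    (w' : Perm Ω).support.card = (w : Perm Ω).support.card ∧
      ∀ r' : alternatingGroup Ω, Fx (w' : Perm Ω) r' →
        ∃ r : alternatingGroup Ω, κ r' = ι r ∧ Fx (w : Perm Ω) r := by
  classical
  have hpull : ∀ r : {r : alternatingGroup Ω // Fx (w : Perm Ω) r},
      ∃ r' : {r : alternatingGroup Ω // Fx (w' : Perm Ω) r}, κ r'.1 = ι r.1 := by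
    intro r
    obtain ⟨r', h1, h2⟩ := P.exists_pull hw' hw1 (by omega) r.2
    exact ⟨⟨r', h2⟩, h1⟩
  choose F hF using hpull
  have hinj : Function.Injective F := by
    intro a b hab
    apply Subtype.ext
    apply P.ht.inj
    rw [← hF a, ← hF b, hab]
  have hc1 : Nat.card {r : alternatingGroup Ω // Fx (w : Perm Ω) r} ≤
      Nat.card {r : alternatingGroup Ω // Fx (w' : Perm Ω) r} := Nat.card_le_card_of_injective F hinj
  rw [card_fx, card_fx] at hc1
  have e1 := card_fix (w : Perm Ω)
  have e2 := card_fix (w' : Perm Ω)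
  have n1 : 3 ≤ Nat.card {x // (w : Perm Ω) x = x} := by omega
  have f1 : 2 * Nat.card (alternatingGroup {x // (w : Perm Ω) x = x}) =
      (Nat.card {x // (w : Perm Ω) x = x}).factorial := by
    have : Nontrivial {x // (w : Perm Ω) x = x} := by
      rw [← Fintype.one_lt_card_iff_nontrivial, ← Nat.card_eq_fintype_card]; omega
    rw [Nat.card_eq_fintype_card, Nat.card_eq_fintype_card, two_mul_card_alternatingGroup,
      Fintype.card_perm]
  have n2 : Nat.card {x // (w' : Perm Ω) x = x} = Nat.card {x // (w : Perm Ω) x = x} := by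
    by_contra hne
    have hlt : Nat.card {x // (w' : Perm Ω) x = x} < Nat.card {x // (w : Perm Ω) x = x} := by omega
    have f2 : 2 * Nat.card (alternatingGroup {x // (w' : Perm Ω) x = x}) ≤
        max 2 (Nat.card {x // (w' : Perm Ω) x = x}).factorial := by
      by_cases hn : Nontrivial {x // (w' : Perm Ω) x = x}
      · rw [Nat.card_eq_fintype_card, Nat.card_eq_fintype_card, two_mul_card_alternatingGroup,
          Fintype.card_perm]
        exact le_max_right _ _
      · rw [not_nontrivial_iff_subsingleton] at hn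
        have : Nat.card (alternatingGroup {x // (w' : Perm Ω) x = x}) = 1 := by
          have : Subsingleton (alternatingGroup {x // (w' : Perm Ω) x = x}) := inferInstance
          exact Nat.card_unique
        rw [this]
        exact le_max_left _ _
    have f3 : (Nat.card {x // (w : Perm Ω) x = x}).factorial ≤
        max 2 (Nat.card {x // (w' : Perm Ω) x = x}).factorial := by
      rw [← f1]
      exact le_trans (Nat.mul_le_mul_left 2 hc1) f2
    have f4 : 6 ≤ (Nat.card {x // (w : Perm Ω) x = x}).factorial := by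
      have := Nat.factorial_le n1
      exact this
    have f5 : (Nat.card {x // (w' : Perm Ω) x = x}).factorial <
        (Nat.card {x // (w : Perm Ω) x = x}).factorial := by
      by_cases h0 : Nat.card {x // (w' : Perm Ω) x = x} = 0
      · rw [h0, Nat.factorial_zero]; omega
      · exact (Nat.factorial_lt (Nat.pos_of_ne_zero h0)).2 hlt
    rcases le_max_iff.1 f3 with h | h
    · omega
    · omega
  refine ⟨by omega, ?_⟩
  have hbij : Function.Bijective F := by
    rw [Nat.bijective_iff_injective_and_card]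
    refine ⟨hinj, ?_⟩
    rw [card_fx, card_fx]
    have f1' : 2 * Nat.card (alternatingGroup {x // (w' : Perm Ω) x = x}) =
        (Nat.card {x // (w' : Perm Ω) x = x}).factorial := by
      have : Nontrivial {x // (w' : Perm Ω) x = x} := by
        rw [← Fintype.one_lt_card_iff_nontrivial, ← Nat.card_eq_fintype_card]; omega
      rw [Nat.card_eq_fintype_card, Nat.card_eq_fintype_card, two_mul_card_alternatingGroup,
        Fintype.card_perm]
    rw [n2, ← f1] at f1'
    omega
  intro r' hr'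
  obtain ⟨r, hr⟩ := hbij.2 ⟨r', hr'⟩
  exact ⟨r.1, by rw [← hF r, hr], r.2⟩

/-- an involution commuting with the alternating group on `Fix w` is supported on the points moved by `w'` -/
theorem fix_of_comm (P : Pair t ι w κ) (hw' : κ w' = ι w) (hw1 : w ≠ 1)
    (hle : (w : Perm Ω).support.card ≤ (w' : Perm Ω).support.card)
    (h6 : 6 ≤ (w : Perm Ω).support.card) (h3 : (w : Perm Ω).support.card + 3 ≤ Fintype.card Ω)
    {f f' : alternatingGroup Ω} (h : κ f' = ι f) (hf : f * f = 1)
    (hc : ∀ r : alternatingGroup Ω, Fx (w : Perm Ω) r → f * r = r * f) {x : Ω}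
    (hx : (w' : Perm Ω) x = x) : (f' : Perm Ω) x = x := by
  obtain ⟨hcard, hsurj⟩ := P.gamma hw' hw1 hle h6 h3
  have hca : CommAlt (f' : Perm Ω) ((w' : Perm Ω).support)ᶜ := by
    intro r hr1 hr2
    have hfr : Fx (w' : Perm Ω) r := by
      intro y hy
      apply hr2
      rw [Finset.mem_compl, not_not, mem_support]
      exact hy
    obtain ⟨s, hs, hs2⟩ := hsurj ⟨r, hr1⟩ hfr
    exact congrArg Subtype.val (P.comm_of_comm h hs (hc s hs2))
  have hff : f' * f' = 1 := by
    apply P.hu.inj
    rw [map_mul, h, ← map_mul, hf, map_one, map_one]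
  apply hca.fix _ (coe_sq hff)
  · rw [Finset.mem_compl, mem_support, not_not]; exact hx
  · rw [Finset.card_compl, hcard]; omega

end Pair

end Cfsg.Agent.OddHalf.D5.CleanTwo
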