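import Cfsg.Agent.OddHalf.D5.CTTwo

/-!
# ODD D5, clean case, `k = 2`: the two explicit models (helper522)
-/

set_option autoImplicit false
set_option linter.unusedSectionVars false

namespace Cfsg.Agent.OddHalf.D5.CleanTwo

open Equiv Equiv.Perm

/-! ### `n = 10` -/

namespace Ten

abbrev a₁ : alternatingGroup (Fin 10) := ⟨swap 0 1 * swap 2 3, mem_alternatingGroup.2 (by decide)⟩
abbrev a₂ : alternatingGroup (Fin 10) := ⟨swap 0 2 * swap 1 3, mem_alternatingGroup.2 (by decide)⟩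
abbrev b₁ : alternatingGroup (Fin 10) := ⟨swap 4 5 * swap 6 7, mem_alternatingGroup.2 (by decide)⟩
abbrev b₂ : alternatingGroup (Fin 10) := ⟨swap 6 7 * swap 8 9, mem_alternatingGroup.2 (by decide)⟩
abbrev ρ : alternatingGroup (Fin 10) := ⟨swap 4 6 * swap 6 8 * (swap 5 7 * swap 7 9), mem_alternatingGroup.2 (by decide)⟩

set_option maxRecDepth 4000 in
theorem four : Four a₁ a₂ b₁ b₂ := by
  constructor <;> decide

variable {G : Type*} [Group G]

set_option maxRecDepth 4000 in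
theorem false_of {t : G} {ι : alternatingGroup (Fin 10) →* G} (h : Spl t ι) (hK : ∀ c, ¬ IsConj t (ι c))
    (h4 : ∀ a : alternatingGroup (Fin 10), a * a = 1 → (a : Perm (Fin 10)).support.card = 4 →
      ¬ IsConj t (t * ι a))
    (h8 : ∀ a : alternatingGroup (Fin 10), a * a = 1 → (a : Perm (Fin 10)).support.card = 8 →
      IsConj t (t * ι a)) : False := by
  obtain ⟨c, c1, c2, -, -, -⟩ := two h hK h4 h8 (ρ := ρ) four (by decide) (by decide) (by decide)
    (by decide) (Or.inl (by simp))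
  have k1 : ∀ x, (c : Perm (Fin 10)) ((a₁ : Perm (Fin 10)) x) = (b₂ : Perm (Fin 10)) ((c : Perm (Fin 10)) x) :=
    fun x => congrFun (congrArg DFunLike.coe (congrArg Subtype.val c1)) x
  have k2 : ∀ x, (c : Perm (Fin 10)) ((a₂ : Perm (Fin 10)) x) =
      ((b₁ * b₂ : alternatingGroup (Fin 10)) : Perm (Fin 10)) ((c : Perm (Fin 10)) x) :=
    fun x => congrFun (congrArg DFunLike.coe (congrArg Subtype.val c2)) x
  have fixa : ∀ x : Fin 10, 4 ≤ x → (a₁ : Perm (Fin 10)) x = x ∧ (a₂ : Perm (Fin 10)) x = x := by decide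
  have fixb : ∀ y : Fin 10, (b₂ : Perm (Fin 10)) y = y →
      ((b₁ * b₂ : alternatingGroup (Fin 10)) : Perm (Fin 10)) y = y → y < 4 := by decide
  have hmap : ∀ x ∈ (Finset.univ.filter fun x : Fin 10 => 4 ≤ x),
      (c : Perm (Fin 10)) x ∈ (Finset.univ.filter fun x : Fin 10 => x < 4) := by
    intro x hx
    rw [Finset.mem_filter] at hx ⊢
    obtain ⟨e1, e2⟩ := fixa x hx.2
    refine ⟨Finset.mem_univ _, fixb _ ?_ ?_⟩
    · rw [← k1, e1]
    · rw [← k2, e2]
  have hcard := Finset.card_le_card_of_injOn _ hmap ((c : Perm (Fin 10)).injective.injOn)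
  revert hcard
  decide

end Ten

/-! ### `n ≠ 10` -/

namespace Eight

abbrev a₁ : alternatingGroup (Fin 8) := ⟨swap 0 1 * swap 2 3, mem_alternatingGroup.2 (by decide)⟩
abbrev a₂ : alternatingGroup (Fin 8) := ⟨swap 0 2 * swap 1 3, mem_alternatingGroup.2 (by decide)⟩
abbrev b₁ : alternatingGroup (Fin 8) := ⟨swap 4 5 * swap 6 7, mem_alternatingGroup.2 (by decide)⟩
abbrev b₂ : alternatingGroup (Fin 8) := ⟨swap 4 6 * swap 5 7, mem_alternatingGroup.2 (by decide)⟩
abbrev ρ : alternatingGroup (Fin 8) := ⟨swap 5 6 * swap 6 7, mem_alternatingGroup.2 (by decide)⟩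

/-- the odd permutation `c₀` -/
abbrev c₀ : Perm (Fin 8) := swap 0 4 * swap 1 6 * (swap 2 7 * swap 7 3 * swap 3 5)

theorem four : Four a₁ a₂ b₁ b₂ := by
  constructor <;> decide

theorem c0_sign : Perm.sign c₀ = -1 := by decide

theorem c0_a1 : c₀ * (a₁ : Perm (Fin 8)) = b₂ * c₀ := by decide
theorem c0_a2 : c₀ * (a₂ : Perm (Fin 8)) = (b₁ * b₂ : Perm (Fin 8)) * c₀ := by decide
theorem c0_b1 : c₀ * (b₁ : Perm (Fin 8)) = a₂ * c₀ := by decide
theorem c0_b2 : c₀ * (b₂ : Perm (Fin 8)) = a₁ * c₀ := by decide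

theorem exf (i : Fin 8) (hi : i < 4) : ∃ f : Perm (Fin 8), f i = 0 ∧ Perm.sign f = 1 ∧
    f * (a₁ : Perm (Fin 8)) = (a₁ : Perm (Fin 8)) * f ∧ f * (a₂ : Perm (Fin 8)) = (a₂ : Perm (Fin 8)) * f ∧
    f * (b₁ : Perm (Fin 8)) = (b₁ : Perm (Fin 8)) * f ∧ f * (b₂ : Perm (Fin 8)) = (b₂ : Perm (Fin 8)) * f ∧
    ∀ j, 4 ≤ j → f j = j := by
  have h : ∀ i : Fin 8, i < 4 → i = 0 ∨ i = 1 ∨ i = 2 ∨ i = 3 := by decide
  rcases h i hi with rfl | rfl | rfl | rfl
  · exact ⟨1, by decide, by decide, by decide, by decide, by decide, by decide, by decide⟩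
  · exact ⟨(a₁ : Perm (Fin 8)), by decide, by decide, by decide, by decide, by decide, by decide, by decide⟩
  · exact ⟨(a₂ : Perm (Fin 8)), by decide, by decide, by decide, by decide, by decide, by decide, by decide⟩
  · exact ⟨(a₁ : Perm (Fin 8)) * (a₂ : Perm (Fin 8)), by decide, by decide, by decide, by decide, by decide,
      by decide, by decide⟩

theorem exg (i : Fin 8) (hi : 4 ≤ i) : ∃ f : Perm (Fin 8), f i = 4 ∧ Perm.sign f = 1 ∧
    f * (a₁ : Perm (Fin 8)) = (a₁ : Perm (Fin 8)) * f ∧ f * (a₂ : Perm (Fin 8)) = (a₂ : Perm (Fin 8)) * f ∧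
    f * (b₁ : Perm (Fin 8)) = (b₁ : Perm (Fin 8)) * f ∧ f * (b₂ : Perm (Fin 8)) = (b₂ : Perm (Fin 8)) * f ∧
    f 0 = 0 := by
  have h : ∀ i : Fin 8, 4 ≤ i → i = 4 ∨ i = 5 ∨ i = 6 ∨ i = 7 := by decide
  rcases h i hi with rfl | rfl | rfl | rfl
  · exact ⟨1, by decide, by decide, by decide, by decide, by decide, by decide, by decide⟩
  · exact ⟨(b₁ : Perm (Fin 8)), by decide, by decide, by decide, by decide, by decide, by decide, by decide⟩
  · exact ⟨(b₂ : Perm (Fin 8)), by decide, by decide, by decide, by decide, by decide, by decide, by decide⟩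
  · exact ⟨(b₁ : Perm (Fin 8)) * (b₂ : Perm (Fin 8)), by decide, by decide, by decide, by decide, by decide,
      by decide, by decide⟩

variable (Γ : Type*) [Fintype Γ] [DecidableEq Γ]

/-- extension by the identity -/
def L : Perm (Fin 8) →* Perm (Fin 8 ⊕ Γ) where
  toFun σ := Perm.sumCongr σ 1
  map_one' := Perm.sumCongr_one
  map_mul' σ τ := by rw [Perm.sumCongr_mul, mul_one]

theorem L_inl (σ : Perm (Fin 8)) (i : Fin 8) : L Γ σ (Sum.inl i) = Sum.inl (σ i) := rfl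

theorem L_inr (σ : Perm (Fin 8)) (x : Γ) : L Γ σ (Sum.inr x) = Sum.inr x := rfl

theorem L_sign (σ : Perm (Fin 8)) : Perm.sign (L Γ σ) = Perm.sign σ := by
  show Perm.sign (Perm.sumCongr σ 1) = _
  rw [Perm.sign_sumCongr, map_one, mul_one]

theorem L_card (σ : Perm (Fin 8)) : (L Γ σ).support.card = σ.support.card := by
  have : (L Γ σ).support = σ.support.map (Function.Embedding.inl : Fin 8 ↪ Fin 8 ⊕ Γ) := by
    ext x
    rw [mem_support, Finset.mem_map]
    constructor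
    · intro hx
      rcases x with i | x
      · refine ⟨i, ?_, rfl⟩
        rw [mem_support]
        intro e
        apply hx
        rw [L_inl, e]
      · exact absurd (L_inr Γ σ x) hx
    · rintro ⟨i, hi, rfl⟩
      rw [mem_support] at hi
      intro e
      change L Γ σ (Sum.inl i) = Sum.inl i at e
      rw [L_inl] at e
      exact hi (Sum.inl_injective e)
  rw [this, Finset.card_map]

/-- extension on the alternating groups -/
def LA : alternatingGroup (Fin 8) →* alternatingGroup (Fin 8 ⊕ Γ) where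
  toFun σ := ⟨L Γ σ, by rw [mem_alternatingGroup, L_sign]; exact σ.2⟩
  map_one' := Subtype.ext (map_one (L Γ))
  map_mul' σ τ := Subtype.ext (map_mul (L Γ) _ _)

theorem LA_coe (σ : alternatingGroup (Fin 8)) : (LA Γ σ : Perm (Fin 8 ⊕ Γ)) = L Γ σ := rfl

theorem LA_card (σ : alternatingGroup (Fin 8)) :
    (LA Γ σ : Perm (Fin 8 ⊕ Γ)).support.card = (σ : Perm (Fin 8)).support.card := L_card Γ _

theorem four' : Four (LA Γ a₁) (LA Γ a₂) (LA Γ b₁) (LA Γ b₂) where
  a1 := by rw [← map_mul, four.a1, map_one]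
  a2 := by rw [← map_mul, four.a2, map_one]
  b1 := by rw [← map_mul, four.b1, map_one]
  b2 := by rw [← map_mul, four.b2, map_one]
  c21 := by rw [← map_mul, four.c21, map_mul]
  d11 := by rw [← map_mul, four.d11, map_mul]
  d12 := by rw [← map_mul, four.d12, map_mul]
  d21 := by rw [← map_mul, four.d21, map_mul]
  d22 := by rw [← map_mul, four.d22, map_mul]
  e21 := by rw [← map_mul, four.e21, map_mul]
  sa1 := by rw [LA_card, four.sa1]
  sa2 := by rw [LA_card, four.sa2]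
  sa3 := by rw [← map_mul, LA_card, four.sa3]
  sb1 := by rw [LA_card, four.sb1]
  sb2 := by rw [LA_card, four.sb2]
  sb3 := by rw [← map_mul, LA_card, four.sb3]
  s11 := by rw [← map_mul, LA_card, four.s11]
  s12 := by rw [← map_mul, LA_card, four.s12]
  s13 := by rw [← map_mul, ← map_mul, LA_card, four.s13]
  s21 := by rw [← map_mul, LA_card, four.s21]
  s22 := by rw [← map_mul, LA_card, four.s22]
  s23 := by rw [← map_mul, ← map_mul, LA_card, four.s23]
  s31 := by rw [← map_mul, ← map_mul, LA_card, four.s31]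
  s32 := by rw [← map_mul, ← map_mul, LA_card, four.s32]
  s33 := by rw [← map_mul, ← map_mul, ← map_mul, LA_card, four.s33]

variable {Γ}

theorem sign_lemma (hΓ : Fintype.card Γ ≠ 2) {c : Perm (Fin 8 ⊕ Γ)} (hs : Perm.sign c = 1)
    (c1 : c * L Γ a₁ = L Γ b₂ * c) (c2 : c * L Γ a₂ = L Γ (b₁ * b₂ : Perm (Fin 8)) * c)
    (c3 : c * L Γ b₁ = L Γ a₂ * c) (c4 : c * L Γ b₂ = L Γ a₁ * c)
    (hr : 3 ≤ Fintype.card Γ → ∀ r : Perm (Fin 8 ⊕ Γ), Perm.sign r = 1 → (∀ i, r (Sum.inl i) = Sum.inl i) →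
      c * r = r * c) : False := by
  -- `c₁` centralises the four-groups
  obtain ⟨c₁, hc₁⟩ : ∃ c₁, c₁ = (L Γ c₀)⁻¹ * c := ⟨_, rfl⟩
  have conj : ∀ {x y : Perm (Fin 8)}, c * L Γ x = L Γ y * c → c₀ * x = y * c₀ → c₁ * L Γ x = L Γ x * c₁ := by
    intro x y h1 h2
    have h3 : L Γ c₀ * L Γ x = L Γ y * L Γ c₀ := by rw [← map_mul, h2, map_mul]
    rw [hc₁]
    calc (L Γ c₀)⁻¹ * c * L Γ x = (L Γ c₀)⁻¹ * (L Γ y * c) := by rw [← h1]; group
      _ = (L Γ c₀)⁻¹ * (L Γ y * L Γ c₀) * (L Γ c₀)⁻¹ * c := by group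
      _ = (L Γ c₀)⁻¹ * (L Γ c₀ * L Γ x) * (L Γ c₀)⁻¹ * c := by rw [h3]
      _ = L Γ x * ((L Γ c₀)⁻¹ * c) := by group
  have d1 := conj c1 c0_a1
  have d2 := conj c2 c0_a2
  have d3 := conj c3 c0_b1
  have d4 := conj c4 c0_b2
  have s1 : Perm.sign c₁ = -1 := by
    rw [hc₁, map_mul, map_inv, L_sign, c0_sign, hs]; decide
  have app : ∀ {σ τ : Perm (Fin 8 ⊕ Γ)}, σ * τ = τ * σ → ∀ x, σ (τ x) = τ (σ x) := fun h x =>
    congrFun (congrArg DFunLike.coe h) x
  -- images of `0` and `4`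
  obtain ⟨i, hi, hi4⟩ : ∃ i : Fin 8, c₁ (Sum.inl 0) = Sum.inl i ∧ i < 4 := by
    have h1 : c₁ (Sum.inl 1) ≠ c₁ (Sum.inl 0) := fun e =>
      absurd (Sum.inl_injective (c₁.injective e)) (by decide)
    have h2 := app d1 (Sum.inl 0)
    rw [L_inl, show (a₁ : Perm (Fin 8)) 0 = 1 by decide] at h2
    rcases hx : c₁ (Sum.inl 0) with i | x
    · refine ⟨i, rfl, ?_⟩
      have h3 : (a₁ : Perm (Fin 8)) i ≠ i := by
        intro e
        rw [hx, L_inl, e] at h2
        exact h1 (h2.trans hx.symm)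
      have h4 : ∀ i : Fin 8, (a₁ : Perm (Fin 8)) i ≠ i → i < 4 := by decide
      exact h4 i h3
    · exfalso
      rw [hx, L_inr] at h2
      exact h1 (h2.trans hx.symm)
  obtain ⟨j, hj, hj4⟩ : ∃ j : Fin 8, c₁ (Sum.inl 4) = Sum.inl j ∧ 4 ≤ j := by
    have h1 : c₁ (Sum.inl 5) ≠ c₁ (Sum.inl 4) := fun e =>
      absurd (Sum.inl_injective (c₁.injective e)) (by decide)
    have h2 := app d3 (Sum.inl 4)
    rw [L_inl, show (b₁ : Perm (Fin 8)) 4 = 5 by decide] at h2
    rcases hx : c₁ (Sum.inl 4) with i | x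
    · refine ⟨i, rfl, ?_⟩
      have h3 : (b₁ : Perm (Fin 8)) i ≠ i := by
        intro e
        rw [hx, L_inl, e] at h2
        exact h1 (h2.trans hx.symm)
      have h4 : ∀ i : Fin 8, (b₁ : Perm (Fin 8)) i ≠ i → 4 ≤ i := by decide
      exact h4 i h3
    · exfalso
      rw [hx, L_inr] at h2
      exact h1 (h2.trans hx.symm)
  -- correction
  obtain ⟨f, hfi, f1, f2, f3, f4, f5, f6⟩ := exf i hi4
  obtain ⟨g, hgj, g1, g2, g3, g4, g5, g6⟩ := exg j hj4
  obtain ⟨c₂, hc₂⟩ : ∃ c₂, c₂ = L Γ g * (L Γ f * c₁) := ⟨_, rfl⟩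
  have comm2 : ∀ {x : Perm (Fin 8)}, c₁ * L Γ x = L Γ x * c₁ → f * x = x * f → g * x = x * g →
      c₂ * L Γ x = L Γ x * c₂ := by
    intro x h1 h2 h3
    have h2' : L Γ f * L Γ x = L Γ x * L Γ f := by rw [← map_mul, h2, map_mul]
    have h3' : L Γ g * L Γ x = L Γ x * L Γ g := by rw [← map_mul, h3, map_mul]
    rw [hc₂]
    calc L Γ g * (L Γ f * c₁) * L Γ x = L Γ g * (L Γ f * (c₁ * L Γ x)) := by group
      _ = L Γ g * ((L Γ f * L Γ x) * c₁) := by rw [h1]; group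
      _ = (L Γ g * L Γ x) * (L Γ f * c₁) := by rw [h2']; group
      _ = L Γ x * (L Γ g * (L Γ f * c₁)) := by rw [h3']; group
  have e1 := app (comm2 d1 f2 g2)
  have e2 := app (comm2 d2 f3 g3)
  have e3 := app (comm2 d3 f4 g4)
  have e4 := app (comm2 d4 f5 g5)
  have z0 : c₂ (Sum.inl 0) = Sum.inl 0 := by
    rw [hc₂, Perm.mul_apply, Perm.mul_apply, hi, L_inl, hfi, L_inl, g6]
  have z4 : c₂ (Sum.inl 4) = Sum.inl 4 := by
    rw [hc₂, Perm.mul_apply, Perm.mul_apply, hj, L_inl, f6 j hj4, L_inl, hgj]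
  have z1 : c₂ (Sum.inl 1) = Sum.inl 1 := by
    have := e1 (Sum.inl 0)
    rwa [z0, L_inl, show (a₁ : Perm (Fin 8)) 0 = 1 by decide] at this
  have z2 : c₂ (Sum.inl 2) = Sum.inl 2 := by
    have := e2 (Sum.inl 0)
    rwa [z0, L_inl, show (a₂ : Perm (Fin 8)) 0 = 2 by decide] at this
  have z3 : c₂ (Sum.inl 3) = Sum.inl 3 := by
    have := e2 (Sum.inl 1)
    rwa [z1, L_inl, show (a₂ : Perm (Fin 8)) 1 = 3 by decide] at this
  have z5 : c₂ (Sum.inl 5) = Sum.inl 5 := by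
    have := e3 (Sum.inl 4)
    rwa [z4, L_inl, show (b₁ : Perm (Fin 8)) 4 = 5 by decide] at this
  have z6 : c₂ (Sum.inl 6) = Sum.inl 6 := by
    have := e4 (Sum.inl 4)
    rwa [z4, L_inl, show (b₂ : Perm (Fin 8)) 4 = 6 by decide] at this
  have z7 : c₂ (Sum.inl 7) = Sum.inl 7 := by
    have := e4 (Sum.inl 5)
    rwa [z5, L_inl, show (b₂ : Perm (Fin 8)) 5 = 7 by decide] at this
  have z : ∀ i : Fin 8, c₂ (Sum.inl i) = Sum.inl i := by
    intro i
    have hcase : i = 0 ∨ i = 1 ∨ i = 2 ∨ i = 3 ∨ i = 4 ∨ i = 5 ∨ i = 6 ∨ i = 7 := by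
      revert i; decide
    rcases hcase with rfl | rfl | rfl | rfl | rfl | rfl | rfl | rfl <;> assumption
  have s2 : Perm.sign c₂ = -1 := by
    rw [hc₂, map_mul, map_mul, L_sign, L_sign, f1, g1, s1]; decide
  by_cases h3 : 3 ≤ Fintype.card Γ
  · have hca : CommAlt c₂ (Finset.univ.map (Function.Embedding.inr : Γ ↪ Fin 8 ⊕ Γ)) := by
      intro r hr1 hr2
      have hr3 : ∀ i, r (Sum.inl i) = Sum.inl i := by
        intro i
        apply hr2
        rw [Finset.mem_map]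
        rintro ⟨x, -, hx⟩
        exact Sum.inr_ne_inl hx
      have hrL : ∀ x : Perm (Fin 8), L Γ x * r = r * L Γ x := by
        intro x
        apply comm_of_fix
        intro y
        rcases y with y | y
        · exact Or.inr (hr3 y)
        · exact Or.inl (L_inr Γ x y)
      have hcr := hr h3 r hr1 hr3
      have hrc0 : (L Γ c₀)⁻¹ * r = r * (L Γ c₀)⁻¹ := by
        rw [← map_inv, hrL]
      rw [hc₂, hc₁]
      calc L Γ g * (L Γ f * ((L Γ c₀)⁻¹ * c)) * r = L Γ g * (L Γ f * ((L Γ c₀)⁻¹ * (c * r))) := by group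
        _ = L Γ g * (L Γ f * (((L Γ c₀)⁻¹ * r) * c)) := by rw [hcr]; group
        _ = L Γ g * ((L Γ f * r) * ((L Γ c₀)⁻¹ * c)) := by rw [hrc0]; group
        _ = (L Γ g * r) * (L Γ f * ((L Γ c₀)⁻¹ * c)) := by rw [hrL f]; group
        _ = r * (L Γ g * (L Γ f * ((L Γ c₀)⁻¹ * c))) := by rw [hrL g]; group
    have := hca.sign (by rw [Finset.card_map, Finset.card_univ]; exact h3) (by
      intro x hx
      rcases x with i | x
      · exact z i
      · exact absurd (Finset.mem_map.2 ⟨x, Finset.mem_univ _, rfl⟩) hx)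
    rw [this] at s2
    exact absurd s2 (by decide)
  · have hsub : Subsingleton Γ := by
      rw [← Fintype.card_le_one_iff_subsingleton]; omega
    have hc21 : c₂ = 1 := by
      ext x
      rcases x with i | x
      · rw [z i]; rfl
      · rcases hx : c₂ (Sum.inr x) with i | y
        · exfalso
          have h5 : c₂ (Sum.inr x) = c₂ (Sum.inl i) := by rw [hx, z i]
          exact Sum.inr_ne_inl (c₂.injective h5)
        · rw [Subsingleton.elim y x]; rfl
    rw [hc21, map_one] at s2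
    exact absurd s2 (by decide)

variable {G : Type*} [Group G]

theorem false_of (hΓ : Fintype.card Γ ≠ 2) {t : G} {ι : alternatingGroup (Fin 8 ⊕ Γ) →* G} (h : Spl t ι)
    (hK : ∀ c, ¬ IsConj t (ι c))
    (h4 : ∀ a : alternatingGroup (Fin 8 ⊕ Γ), a * a = 1 → (a : Perm (Fin 8 ⊕ Γ)).support.card = 4 →
      ¬ IsConj t (t * ι a))
    (h8 : ∀ a : alternatingGroup (Fin 8 ⊕ Γ), a * a = 1 → (a : Perm (Fin 8 ⊕ Γ)).support.card = 8 →
      IsConj t (t * ι a)) : False := by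
  have hcard : Fintype.card (Fin 8 ⊕ Γ) = 8 + Fintype.card Γ := by
    rw [Fintype.card_sum, Fintype.card_fin]
  have hmov : ∀ i : Fin 8, ((a₁ * b₁ : alternatingGroup (Fin 8)) : Perm (Fin 8)) i ≠ i := by decide
  have hw : ∀ i : Fin 8, ((LA Γ a₁ * LA Γ b₁ : alternatingGroup (Fin 8 ⊕ Γ)) : Perm (Fin 8 ⊕ Γ)) (Sum.inl i) ≠
      Sum.inl i := by
    intro i e
    rw [← map_mul, LA_coe, L_inl] at e
    exact hmov i (Sum.inl_injective e)
  obtain ⟨c, c1, c2, c3, c4, c5⟩ := two h hK h4 h8 (ρ := LA Γ ρ) (four' Γ)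
    (by rw [← map_mul, ← map_mul]; congr 1; decide) (by rw [← map_mul, ← map_mul]; congr 1; decide)
    (by rw [← map_mul, ← map_mul]; congr 1; decide)
    (by rw [← map_mul, ← map_mul, ← map_mul]; congr 1; decide)
    (by
      by_cases hle : Fintype.card (Fin 8 ⊕ Γ) ≤ 10
      · exact Or.inl hle
      · right
        refine ⟨by omega, ?_⟩
        intro x hx
        rcases x with i | x
        · exact absurd hx (hw i)
        · exact ⟨rfl, rfl, rfl, rfl, rfl⟩)
  refine sign_lemma hΓ c.2 (congrArg Subtype.val c1) ?_ (congrArg Subtype.val c3) (congrArg Subtype.val c4) ?_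
  · have h2 : (c : Perm (Fin 8 ⊕ Γ)) * L Γ a₂ = (L Γ b₁ * L Γ b₂) * c := congrArg Subtype.val c2
    rw [h2]
    congr 1
    exact (map_mul (L Γ) _ _).symm
  · intro h3 r hr1 hr2
    refine congrArg Subtype.val (c5 (by omega) ⟨r, hr1⟩ ?_)
    intro x hx
    rcases x with i | x
    · exact hr2 i
    · exact absurd rfl hx

end Eight

end Cfsg.Agent.OddHalf.D5.CleanTwo
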