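import Mathlib

/-!
# ODD D5, clean case: permutations (helper522)
-/

set_option autoImplicit false

namespace Cfsg.Agent.OddHalf.D5.CleanTwo

open Equiv Equiv.Perm

variable {Ω : Type*} [Fintype Ω] [DecidableEq Ω]

theorem cycleType_of_sq {σ : Perm Ω} (h : σ * σ = 1) :
    σ.cycleType = Multiset.replicate (Multiset.card σ.cycleType) 2 := by
  rw [Multiset.eq_replicate]
  refine ⟨rfl, fun n hn => ?_⟩
  have h1 : n ∣ 2 := (dvd_of_mem_cycleType hn).trans (orderOf_dvd_of_pow_eq_one (by rw [pow_two, h]))
  have h2 := two_le_of_mem_cycleType hn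
  exact le_antisymm (Nat.le_of_dvd (by norm_num) h1) h2

theorem card_support_of_sq {σ : Perm Ω} (h : σ * σ = 1) :
    σ.support.card = 2 * Multiset.card σ.cycleType := by
  have h1 := σ.sum_cycleType
  rw [← h1]
  conv_lhs => rw [cycleType_of_sq h]
  rw [Multiset.sum_replicate, smul_eq_mul, mul_comm]

theorem sign_of_sq {σ : Perm Ω} (h : σ * σ = 1) :
    Perm.sign σ = (-1) ^ (σ.support.card / 2) := by
  rw [sign_of_cycleType, ← sum_cycleType]
  conv_lhs => rw [cycleType_of_sq h]
  conv_rhs => rw [cycleType_of_sq h]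
  rw [Multiset.sum_replicate, Multiset.card_replicate, smul_eq_mul]
  set n := Multiset.card σ.cycleType
  rw [Nat.mul_div_cancel _ (by norm_num : 0 < 2), pow_add, pow_mul, pow_right_comm]
  rcases Int.units_eq_one_or ((-1 : ℤˣ) ^ n) with h | h <;> simp [h]

theorem four_dvd {σ : Perm Ω} (h : σ * σ = 1) (hs : Perm.sign σ = 1) : 4 ∣ σ.support.card := by
  have h1 := sign_of_sq h
  rw [hs] at h1
  have h2 := card_support_of_sq h
  set n := Multiset.card σ.cycleType
  rw [h2, Nat.mul_div_cancel_left _ (by norm_num : 0 < 2)] at h1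
  have h3 : Even n := by
    by_contra hne
    rw [Nat.not_even_iff_odd] at hne
    rw [hne.neg_one_pow] at h1
    exact absurd h1 (by decide)
  obtain ⟨m, hm⟩ := h3
  exact ⟨m, by rw [h2, hm]; ring⟩

theorem isConj_of_card {σ τ : Perm Ω} (hσ : σ * σ = 1) (hτ : τ * τ = 1)
    (h : σ.support.card = τ.support.card) : IsConj σ τ := by
  rw [isConj_iff_cycleType_eq, cycleType_of_sq hσ, cycleType_of_sq hτ]
  rw [card_support_of_sq hσ, card_support_of_sq hτ] at h
  rw [Nat.eq_of_mul_eq_mul_left (by norm_num) h]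

/-- Even involutions with the same number of moved points are conjugate in the alternating group. -/
theorem conj_alt {a b : alternatingGroup Ω} (ha : a * a = 1) (hb : b * b = 1)
    (h : (a : Perm Ω).support.card = (b : Perm Ω).support.card) :
    ∃ c : alternatingGroup Ω, c * a * c⁻¹ = b := by
  have ha' : (a : Perm Ω) * a = 1 := congrArg Subtype.val ha
  have hb' : (b : Perm Ω) * b = 1 := congrArg Subtype.val hb
  obtain ⟨c, hc⟩ := isConj_iff.1 (isConj_of_card ha' hb' h)
  by_cases hs : Perm.sign c = 1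
  · exact ⟨⟨c, hs⟩, Subtype.ext hc⟩
  have hs1 : Perm.sign c = -1 := (Int.units_eq_one_or _).resolve_left hs
  by_cases h1 : (a : Perm Ω) = 1
  · refine ⟨1, Subtype.ext ?_⟩
    rw [h1] at hc
    show (1 : Perm Ω) * a * 1⁻¹ = b
    rw [← hc, h1]; group
  have hx : ∃ x, (a : Perm Ω) x ≠ x := by
    by_contra hne
    push Not at hne
    exact h1 (Equiv.ext hne)
  obtain ⟨x, hx⟩ := hx
  have hcomm : (a : Perm Ω) * swap x ((a : Perm Ω) x) = swap x ((a : Perm Ω) x) * a := by
    rw [mul_swap_eq_swap_mul, swap_comm]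
    congr 2
    exact (congrFun (congrArg DFunLike.coe ha') x)
  refine ⟨⟨c * swap x ((a : Perm Ω) x), ?_⟩, Subtype.ext ?_⟩
  · rw [mem_alternatingGroup, map_mul, hs1, sign_swap hx.symm]
    decide
  · show c * swap x ((a : Perm Ω) x) * a * (c * swap x ((a : Perm Ω) x))⁻¹ = b
    rw [mul_assoc c, ← hcomm, mul_inv_rev, swap_inv, ← hc]
    calc c * ((a : Perm Ω) * swap x ((a : Perm Ω) x)) * (swap x ((a : Perm Ω) x) * c⁻¹)
        = c * a * (swap x ((a : Perm Ω) x) * swap x ((a : Perm Ω) x)) * c⁻¹ := by group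
      _ = c * a * c⁻¹ := by rw [swap_mul_self, mul_one]

omit [Fintype Ω] [DecidableEq Ω] in
theorem app_app {σ : Perm Ω} (h : σ * σ = 1) (x : Ω) : σ (σ x) = x :=
  congrFun (congrArg DFunLike.coe h) x

omit [Fintype Ω] in
theorem conj_swap (r : Perm Ω) (a b : Ω) : r * swap a b * r⁻¹ = swap (r a) (r b) := by
  rw [mul_swap_eq_swap_mul, mul_inv_cancel_right]

/-- an involution with four moved points -/
theorem eq_swap_swap {σ : Perm Ω} (h : σ * σ = 1) (h4 : σ.support.card = 4) {p q : Ω}
    (hp : σ p ≠ p) (hq : σ q ≠ q) (hpq : q ≠ p) (hpq' : q ≠ σ p) :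
    σ = swap p (σ p) * swap q (σ q) := by
  have hqp : σ q ≠ p := fun e => hpq' (by rw [← e, app_app h])
  have hqp' : σ q ≠ σ p := fun e => hpq (σ.injective e)
  have hS : ({p, σ p, q, σ q} : Finset Ω) = σ.support := by
    apply Finset.eq_of_subset_of_card_le
    · intro x hx
      simp only [Finset.mem_insert, Finset.mem_singleton] at hx
      rw [mem_support]
      rcases hx with rfl | rfl | rfl | rfl
      · exact hp
      · rw [app_app h]; exact hp.symm
      · exact hq
      · rw [app_app h]; exact hq.symm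
    · rw [h4, Finset.card_insert_of_notMem, Finset.card_insert_of_notMem, Finset.card_insert_of_notMem,
        Finset.card_singleton]
      · simp [hq.symm]
      · simp [hpq'.symm, hqp'.symm]
      · simp [hp.symm, hpq.symm, hqp.symm]
  ext x
  by_cases hx : x ∈ σ.support
  · rw [← hS] at hx
    simp only [Finset.mem_insert, Finset.mem_singleton] at hx
    rw [Perm.mul_apply]
    rcases hx with rfl | rfl | rfl | rfl
    · rw [swap_apply_of_ne_of_ne hpq.symm hqp.symm, swap_apply_left]
    · rw [swap_apply_of_ne_of_ne hpq'.symm hqp'.symm, swap_apply_right, app_app h]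
    · rw [swap_apply_left, swap_apply_of_ne_of_ne hqp hqp']
    · rw [swap_apply_right, swap_apply_of_ne_of_ne hpq hpq', app_app h]
  · rw [notMem_support] at hx
    have h1 : x ≠ p := by rintro rfl; exact hp hx
    have h2 : x ≠ σ p := by rintro rfl; rw [app_app h] at hx; exact hp hx.symm
    have h3 : x ≠ q := by rintro rfl; exact hq hx
    have h4 : x ≠ σ q := by rintro rfl; rw [app_app h] at hx; exact hq hx.symm
    rw [Perm.mul_apply, swap_apply_of_ne_of_ne h3 h4, swap_apply_of_ne_of_ne h1 h2, hx]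

/-- A four-group all of whose involutions move four points is rotated by an even permutation supported
on its moved points. -/
theorem exists_rot {a b : Perm Ω} (ha : a * a = 1) (hb : b * b = 1) (hab : a * b = b * a)
    (ha4 : a.support.card = 4) (hb4 : b.support.card = 4) (hab4 : (a * b).support.card = 4) :
    ∃ r : Perm Ω, Perm.sign r = 1 ∧ r * a * r⁻¹ = b ∧ r * b * r⁻¹ = a * b ∧
      ∀ x, a x = x → b x = x → r x = x := by
  have hc : (a * b) * (a * b) = 1 := by
    calc (a * b) * (a * b) = a * (b * a) * b := by group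
      _ = (a * a) * (b * b) := by rw [← hab]; group
      _ = 1 := by rw [ha, hb, one_mul]
  have hba : ∀ x, b (a x) = a (b x) := fun x => (congrFun (congrArg DFunLike.coe hab) x).symm
  by_cases hcase : ∃ p, a p ≠ p ∧ b p ≠ p ∧ b p ≠ a p
  · obtain ⟨p, h1, h2, h3⟩ := hcase
    have h4 : a (b p) ≠ p := fun e => h3 (by rw [← e, app_app ha, e])
    have h5 : a (b p) ≠ a p := fun e => h2 (a.injective e)
    have h6 : a (b p) ≠ b p := by
      rw [← hba]; exact fun e => h1 (b.injective e)
    have ea : a = swap p (a p) * swap (b p) (a (b p)) :=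
      eq_swap_swap ha ha4 h1 h6 h2 h3
    have eb : b = swap p (b p) * swap (a p) (a (b p)) := by
      have := eq_swap_swap hb hb4 (p := p) (q := a p) h2 (by rw [hba]; exact h5) h1 h3.symm
      rwa [hba] at this
    have ec : a * b = swap p (a (b p)) * swap (a p) (b p) := by
      have := eq_swap_swap hc hab4 (p := p) (q := a p) (by rw [Perm.mul_apply]; exact h4)
        (by rw [Perm.mul_apply, hba, app_app ha]; exact h3) h1 (by rw [Perm.mul_apply]; exact h5.symm)
      rwa [Perm.mul_apply, Perm.mul_apply, hba, app_app ha] at this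
    set r : Perm Ω := swap (a p) (b p) * swap (b p) (a (b p)) with hr
    have r1 : r p = p := by
      rw [hr, Perm.mul_apply, swap_apply_of_ne_of_ne h2.symm h4.symm, swap_apply_of_ne_of_ne h1.symm h2.symm]
    have r2 : r (a p) = b p := by
      rw [hr, Perm.mul_apply, swap_apply_of_ne_of_ne h3.symm h5.symm, swap_apply_left]
    have r3 : r (b p) = a (b p) := by
      rw [hr, Perm.mul_apply, swap_apply_left, swap_apply_of_ne_of_ne h5 h6]
    have r4 : r (a (b p)) = a p := by
      rw [hr, Perm.mul_apply, swap_apply_right, swap_apply_right]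
    refine ⟨r, ?_, ?_, ?_, ?_⟩
    · rw [hr, map_mul, sign_swap h3.symm, sign_swap h6.symm]; decide
    · calc r * a * r⁻¹ = r * (swap p (a p) * swap (b p) (a (b p))) * r⁻¹ := by rw [← ea]
        _ = (r * swap p (a p) * r⁻¹) * (r * swap (b p) (a (b p)) * r⁻¹) := by group
        _ = b := by rw [conj_swap, conj_swap, r1, r2, r3, r4, swap_comm (a (b p)) (a p), ← eb]
    · calc r * b * r⁻¹ = r * (swap p (b p) * swap (a p) (a (b p))) * r⁻¹ := by rw [← eb]
        _ = (r * swap p (b p) * r⁻¹) * (r * swap (a p) (a (b p)) * r⁻¹) := by group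
        _ = a * b := by rw [conj_swap, conj_swap, r1, r2, r3, r4, swap_comm (b p) (a p), ← ec]
    · intro x hxa hxb
      have e1 : x ≠ a p := by rintro rfl; rw [app_app ha] at hxa; exact h1 hxa.symm
      have e2 : x ≠ b p := by rintro rfl; rw [app_app hb] at hxb; exact h2 hxb.symm
      have e3 : x ≠ a (b p) := by
        rintro rfl
        rw [app_app ha] at hxa
        exact h6 hxa.symm
      rw [hr, Perm.mul_apply, swap_apply_of_ne_of_ne e2 e3, swap_apply_of_ne_of_ne e1 e2]
  · push Not at hcase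
    -- supports
    have hS : (a * b).support = (a.support \ b.support) ∪ (b.support \ a.support) := by
      ext x
      simp only [mem_support, Finset.mem_union, Finset.mem_sdiff, Perm.mul_apply, not_not]
      constructor
      · intro h
        by_cases hax : a x = x
        · right
          refine ⟨fun e => h (by rw [e, hax]), hax⟩
        · by_cases hbx : b x = x
          · exact Or.inl ⟨hax, hbx⟩
          · exfalso
            exact h (by rw [hcase x hax hbx, app_app ha])
      · rintro (⟨h1, h2⟩ | ⟨h1, h2⟩)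
        · rw [h2]; exact h1
        · intro e
          rw [← hba, h2] at e
          exact h1 e
    have hcard : (a.support \ b.support).card + (b.support \ a.support).card = 4 := by
      rw [← hab4, hS, Finset.card_union_of_disjoint]
      exact Finset.disjoint_left.2 fun x hx hx' => (Finset.mem_sdiff.1 hx').2 (Finset.mem_sdiff.1 hx).1
    have e1 := Finset.card_sdiff_add_card_inter a.support b.support
    have e2 := Finset.card_sdiff_add_card_inter b.support a.support
    rw [Finset.inter_comm b.support] at e2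
    have n1 : (a.support \ b.support).card = 2 := by omega
    have n2 : (b.support \ a.support).card = 2 := by omega
    have n3 : (a.support ∩ b.support).card = 2 := by omega
    obtain ⟨p, hp⟩ : (a.support ∩ b.support).Nonempty := Finset.card_pos.1 (by omega)
    obtain ⟨q, hq⟩ : (a.support \ b.support).Nonempty := Finset.card_pos.1 (by omega)
    obtain ⟨s, hs⟩ : (b.support \ a.support).Nonempty := Finset.card_pos.1 (by omega)
    rw [Finset.mem_inter, mem_support, mem_support] at hp
    rw [Finset.mem_sdiff, mem_support, mem_support, not_not] at hq hs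
    obtain ⟨pa, pb⟩ := hp
    obtain ⟨qa, qb⟩ := hq
    obtain ⟨sb, sa⟩ := hs
    have hpp : b p = a p := hcase p pa pb
    have qp : q ≠ p := by rintro rfl; exact pb qb
    have qp' : q ≠ a p := by
      rintro rfl
      rw [hba, hpp] at qb
      exact pa (a.injective qb)
    have sp : s ≠ p := by rintro rfl; exact pa sa
    have sp' : s ≠ a p := by
      rintro rfl
      rw [app_app ha] at sa
      exact pa sa.symm
    have sq : s ≠ q := by rintro rfl; exact qa sa
    have sq' : s ≠ a q := by
      rintro rfl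
      rw [app_app ha] at sa
      exact qa sa.symm
    have hqb : b (a q) = a q := by rw [hba, qb]
    have hsa : a (b s) = b s := by rw [← hba, sa]
    have sp2 : b s ≠ p := by intro e; rw [e] at hsa; exact pa hsa
    have sp3 : b s ≠ a p := by intro e; rw [e, app_app ha] at hsa; exact pa hsa.symm
    have sq2 : b s ≠ q := by intro e; rw [e] at hsa; exact qa hsa
    have sq3 : b s ≠ a q := by intro e; rw [e, app_app ha] at hsa; exact qa hsa.symm
    have qp2 : a q ≠ p := fun e => qp' (by rw [← e, app_app ha])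
    have qp3 : a q ≠ a p := fun e => qp (a.injective e)
    have ea : a = swap p (a p) * swap q (a q) := eq_swap_swap ha ha4 pa qa qp qp'
    have eb : b = swap p (a p) * swap s (b s) := by
      have := eq_swap_swap hb hb4 pb sb sp (by rw [hpp]; exact sp')
      rwa [hpp] at this
    have ec : a * b = swap q (a q) * swap s (b s) := by
      have := eq_swap_swap hc hab4 (p := q) (q := s) (by rw [Perm.mul_apply, qb]; exact qa)
        (by rw [Perm.mul_apply, hsa]; exact sb) sq (by rw [Perm.mul_apply, qb]; exact sq')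
      rwa [Perm.mul_apply, Perm.mul_apply, qb, hsa] at this
    set r : Perm Ω := (swap p s * swap s q) * (swap (a p) (b s) * swap (b s) (a q)) with hr
    have r1 : r p = s := by
      rw [hr, Perm.mul_apply, Perm.mul_apply, Perm.mul_apply, swap_apply_of_ne_of_ne sp2.symm qp2.symm,
        swap_apply_of_ne_of_ne pa.symm sp2.symm, swap_apply_of_ne_of_ne sp.symm qp.symm,
        swap_apply_left]
    have r2 : r (a p) = b s := by
      rw [hr, Perm.mul_apply, Perm.mul_apply, Perm.mul_apply, swap_apply_of_ne_of_ne sp3.symm qp3.symm, swap_apply_left,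
        swap_apply_of_ne_of_ne sb sq2, swap_apply_of_ne_of_ne sp2 sb]
    have r3 : r q = p := by
      rw [hr, Perm.mul_apply, Perm.mul_apply, Perm.mul_apply, swap_apply_of_ne_of_ne sq2.symm qa.symm,
        swap_apply_of_ne_of_ne qp' sq2.symm, swap_apply_right, swap_apply_right]
    have r4 : r (a q) = a p := by
      rw [hr, Perm.mul_apply, Perm.mul_apply, Perm.mul_apply, swap_apply_right, swap_apply_right,
        swap_apply_of_ne_of_ne sp'.symm qp'.symm, swap_apply_of_ne_of_ne pa sp'.symm]
    have r5 : r s = q := by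
      rw [hr, Perm.mul_apply, Perm.mul_apply, Perm.mul_apply, swap_apply_of_ne_of_ne sb.symm sq',
        swap_apply_of_ne_of_ne sp' sb.symm, swap_apply_left, swap_apply_of_ne_of_ne qp sq.symm]
    have r6 : r (b s) = a q := by
      rw [hr, Perm.mul_apply, Perm.mul_apply, Perm.mul_apply, swap_apply_left, swap_apply_of_ne_of_ne qp3 sq3.symm,
        swap_apply_of_ne_of_ne sq'.symm qa, swap_apply_of_ne_of_ne qp2 sq'.symm]
    refine ⟨r, ?_, ?_, ?_, ?_⟩
    · rw [hr, map_mul, map_mul, map_mul, sign_swap sp.symm, sign_swap sq, sign_swap sp3.symm,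
        sign_swap sq3]
      decide
    · calc r * a * r⁻¹ = r * (swap p (a p) * swap q (a q)) * r⁻¹ := by rw [← ea]
        _ = (r * swap p (a p) * r⁻¹) * (r * swap q (a q) * r⁻¹) := by group
        _ = swap s (b s) * swap p (a p) := by rw [conj_swap, conj_swap, r1, r2, r3, r4]
        _ = (swap p (a p) * swap s (b s))⁻¹ := by rw [mul_inv_rev, swap_inv, swap_inv]
        _ = b := by rw [← eb]; exact inv_eq_of_mul_eq_one_left hb
    · calc r * b * r⁻¹ = r * (swap p (a p) * swap s (b s)) * r⁻¹ := by rw [← eb]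
        _ = (r * swap p (a p) * r⁻¹) * (r * swap s (b s) * r⁻¹) := by group
        _ = swap s (b s) * swap q (a q) := by rw [conj_swap, conj_swap, r1, r2, r5, r6]
        _ = (swap q (a q) * swap s (b s))⁻¹ := by rw [mul_inv_rev, swap_inv, swap_inv]
        _ = a * b := by rw [← ec]; exact inv_eq_of_mul_eq_one_left hc
    · intro x hxa hxb
      have f1 : x ≠ p := by rintro rfl; exact pa hxa
      have f2 : x ≠ a p := by rintro rfl; rw [app_app ha] at hxa; exact pa hxa.symm
      have f3 : x ≠ q := by rintro rfl; exact qa hxa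
      have f4 : x ≠ a q := by rintro rfl; rw [app_app ha] at hxa; exact qa hxa.symm
      have f5 : x ≠ s := by rintro rfl; exact sb hxb
      have f6 : x ≠ b s := by rintro rfl; rw [app_app hb] at hxb; exact sb hxb.symm
      rw [hr, Perm.mul_apply, Perm.mul_apply, Perm.mul_apply, swap_apply_of_ne_of_ne f6 f4, swap_apply_of_ne_of_ne f2 f6,
        swap_apply_of_ne_of_ne f5 f3, swap_apply_of_ne_of_ne f1 f5]

/-- The 3-cycle `x ↦ b ↦ c ↦ x`. -/
def cyc3 (x b c : Ω) : Perm Ω := swap x b * swap b c

theorem cyc3_sign {x b c : Ω} (h1 : x ≠ b) (h2 : b ≠ c) : Perm.sign (cyc3 x b c) = 1 := by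
  rw [cyc3, map_mul, sign_swap h1, sign_swap h2]; decide

omit [Fintype Ω] in
theorem cyc3_x {x b c : Ω} (h1 : x ≠ b) (h3 : x ≠ c) : cyc3 x b c x = b := by
  rw [cyc3, Perm.mul_apply, swap_apply_of_ne_of_ne h1 h3, swap_apply_left]

omit [Fintype Ω] in
theorem cyc3_b {x b c : Ω} (h2 : b ≠ c) (h3 : x ≠ c) : cyc3 x b c b = c := by
  rw [cyc3, Perm.mul_apply, swap_apply_left, swap_apply_of_ne_of_ne h3.symm h2.symm]

omit [Fintype Ω] in
theorem cyc3_c {x b c : Ω} : cyc3 x b c c = x := by
  rw [cyc3, Perm.mul_apply, swap_apply_right, swap_apply_right]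

omit [Fintype Ω] in
theorem cyc3_ne {x b c y : Ω} (h1 : y ≠ x) (h2 : y ≠ b) (h3 : y ≠ c) : cyc3 x b c y = y := by
  rw [cyc3, Perm.mul_apply, swap_apply_of_ne_of_ne h2 h3, swap_apply_of_ne_of_ne h1 h2]

/-- `y` commutes with all even permutations supported on `S` -/
def CommAlt (y : Perm Ω) (S : Finset Ω) : Prop :=
  ∀ r : Perm Ω, Perm.sign r = 1 → (∀ x, x ∉ S → r x = x) → y * r = r * y

theorem CommAlt.cyc {y : Perm Ω} {S : Finset Ω} (h : CommAlt y S) {x b c : Ω} (hx : x ∈ S) (hb : b ∈ S)
    (hc : c ∈ S) (h1 : x ≠ b) (h2 : b ≠ c) (z : Ω) : y (cyc3 x b c z) = cyc3 x b c (y z) := by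
  have := h (cyc3 x b c) (cyc3_sign h1 h2) (fun w hw => cyc3_ne (fun e => hw (e ▸ hx))
    (fun e => hw (e ▸ hb)) (fun e => hw (e ▸ hc)))
  exact congrFun (congrArg DFunLike.coe this) z

theorem CommAlt.fix {y : Perm Ω} {S : Finset Ω} (h : CommAlt y S) (hS : 3 ≤ S.card) (hy : y * y = 1)
    {x : Ω} (hx : x ∈ S) : y x = x := by
  obtain ⟨b, hb, hbx⟩ := Finset.exists_mem_ne (by omega : 1 < S.card) x
  have h3 : 1 < (S.erase x).card := by rw [Finset.card_erase_of_mem hx]; omega
  obtain ⟨c, hc, hcb⟩ := Finset.exists_mem_ne h3 b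
  have hcx := (Finset.mem_erase.1 hc).1
  have hc := (Finset.mem_erase.1 hc).2
  by_contra hne
  have k := h.cyc hx hb hc hbx.symm hcb.symm
  by_cases e1 : y x = b
  · have e2 : y b = x := by rw [← e1, app_app hy]
    have k1 := k x
    rw [cyc3_x hbx.symm hcx.symm, e2, e1, cyc3_b hcb.symm hcx.symm] at k1
    exact hcx k1.symm
  by_cases e2 : y x = c
  · have k1 := k x
    rw [cyc3_x hbx.symm hcx.symm, e2, cyc3_c] at k1
    exact hcb (by rw [← e2, ← k1, app_app hy])
  have k1 := k x
  rw [cyc3_x hbx.symm hcx.symm, cyc3_ne hne e1 e2] at k1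
  exact hbx (y.injective k1)

theorem CommAlt.sign {y : Perm Ω} {S : Finset Ω} (h : CommAlt y S) (hS : 3 ≤ S.card)
    (hy : ∀ x, x ∉ S → y x = x) : Perm.sign y = 1 := by
  by_cases hy1 : y = 1
  · rw [hy1, map_one]
  have hx : ∃ x, y x ≠ x := by
    by_contra hne
    push Not at hne
    exact hy1 (Equiv.ext hne)
  obtain ⟨x, hx⟩ := hx
  have hxS : x ∈ S := by
    by_contra hne
    exact hx (hy x hne)
  have hbS : y x ∈ S := by
    by_contra hne
    exact hx (y.injective (hy _ hne))
  have h3 : ∃ c ∈ S, c ≠ x ∧ c ≠ y x := by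
    have h3 : 1 < (S.erase x).card := by rw [Finset.card_erase_of_mem hxS]; omega
    obtain ⟨c, hc, hcb⟩ := Finset.exists_mem_ne h3 (y x)
    exact ⟨c, (Finset.mem_erase.1 hc).2, (Finset.mem_erase.1 hc).1, hcb⟩
  obtain ⟨c, hc, hcx, hcb⟩ := h3
  have e1 : y (y x) = c := by
    have := h.cyc hxS hbS hc hx.symm hcb.symm x
    rwa [cyc3_x hx.symm hcx.symm, cyc3_b hcb.symm hcx.symm] at this
  have e2 : y c = x := by
    have := h.cyc hxS hbS hc hx.symm hcb.symm (y x)
    rwa [cyc3_b hcb.symm hcx.symm, e1, cyc3_c] at this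
  have hyc : y = cyc3 x (y x) c := by
    ext z
    by_cases z1 : z = x
    · rw [z1, cyc3_x hx.symm hcx.symm]
    by_cases z2 : z = y x
    · rw [z2, cyc3_b hcb.symm hcx.symm, e1]
    by_cases z3 : z = c
    · rw [z3, cyc3_c, e2]
    rw [cyc3_ne z1 z2 z3]
    apply hy
    intro hz
    have := h.cyc hbS hc hz hcb.symm (Ne.symm z3) x
    rw [cyc3_ne hx.symm hcx.symm (Ne.symm z1), cyc3_x hcb.symm (Ne.symm z2)] at this
    exact hcb this.symm
  rw [hyc]
  exact cyc3_sign hx.symm hcb.symm

end Cfsg.Agent.OddHalf.D5.CleanTwo
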