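import Cfsg.Agent.OddHalf.D5.CTGamma

/-!
# ODD D5, clean case, `k ≥ 3` (helper522)
-/

set_option autoImplicit false
set_option linter.unusedSectionVars false

namespace Cfsg.Agent.OddHalf.D5.CleanTwo

open Equiv Equiv.Perm

/-- counting orbits -/
theorem orbit_ineq {Q Q' X : Type*} [CommGroup Q] [Group Q'] [Fintype Q] [Fintype Q'] [Fintype X]
    [DecidableEq X] (φ : Q →* Perm X) (j : Q' →* Q) :
    Fintype.card Q * ∑ u : Q', (φ (j u)).support.card ≤ Fintype.card Q' * ∑ q : Q, (φ q).support.card := by
  classical
  have h1 : ∀ σ : Perm X, σ.support.card = ∑ x : X, if σ x ≠ x then 1 else 0 := by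
    intro σ
    rw [← Finset.card_filter]
    rfl
  simp only [h1]
  rw [Finset.sum_comm, Finset.sum_comm (s := Finset.univ (α := Q)), Finset.mul_sum, Finset.mul_sum]
  apply Finset.sum_le_sum
  intro x _
  rw [← Finset.card_filter, ← Finset.card_filter]
  let H : Subgroup Q :=
    { carrier := {q | φ q x = x}
      mul_mem' := by
        intro a b ha hb
        show φ (a * b) x = x
        rw [map_mul, Perm.mul_apply, hb, ha]
      one_mem' := by
        show φ 1 x = x
        rw [map_one]; rfl
      inv_mem' := by
        intro a ha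
        show φ a⁻¹ x = x
        rw [map_inv, Perm.inv_eq_iff_eq, ha] }
  have hH : (Finset.univ.filter fun q : Q => φ q x ≠ x).card + Nat.card H = Fintype.card Q := by
    have e : Nat.card H = (Finset.univ.filter fun q : Q => φ q x = x).card := by
      rw [Nat.subtype_card]
      intro q
      simp only [Finset.mem_filter, Finset.mem_univ, true_and]
      rfl
    rw [e, add_comm, ← Finset.card_univ, ← Finset.card_filter_add_card_filter_not (s := Finset.univ) (fun q : Q => φ q x = x)]
  have hH' : (Finset.univ.filter fun u : Q' => φ (j u) x ≠ x).card + Nat.card (H.comap j) = Fintype.card Q' := by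
    have e : Nat.card (H.comap j) = (Finset.univ.filter fun u : Q' => φ (j u) x = x).card := by
      rw [Nat.subtype_card]
      intro q
      simp only [Finset.mem_filter, Finset.mem_univ, true_and]
      rfl
    rw [e, add_comm, ← Finset.card_univ, ← Finset.card_filter_add_card_filter_not (s := Finset.univ) (fun u : Q' => φ (j u) x = x)]
  have i1 := H.card_mul_index
  have i2 := (H.comap j).card_mul_index
  have i3 : (H.comap j).index ≤ H.index := by
    rw [Subgroup.index_comap]
    exact Nat.le_of_dvd (Nat.pos_of_ne_zero H.index_ne_zero_of_finite) (Subgroup.relIndex_dvd_index_of_normal _ _)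
  rw [Nat.card_eq_fintype_card (α := Q)] at i1
  rw [Nat.card_eq_fintype_card (α := Q')] at i2
  set a := (Finset.univ.filter fun q : Q => φ q x ≠ x).card
  set b := (Finset.univ.filter fun u : Q' => φ (j u) x ≠ x).card
  set m := Nat.card H
  set n := Nat.card (H.comap j)
  have h5 : Fintype.card Q' * m ≤ Fintype.card Q * n := by
    calc Fintype.card Q' * m = (n * (H.comap j).index) * m := by rw [i2]
      _ ≤ (n * H.index) * m := by gcongr
      _ = n * (m * H.index) := by ring
      _ = n * Fintype.card Q := by rw [i1]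
      _ = Fintype.card Q * n := by ring
  have h6 : Fintype.card Q * (b + n) = Fintype.card Q' * (a + m) := by
    rw [hH, hH']; ring
  rw [mul_add, mul_add] at h6
  omega

theorem pow_ineq : ∀ k : ℕ, 3 ≤ k → k * 2 ^ k + 1 + 3 ^ k < 4 ^ k + k := by
  intro k hk
  induction k, hk using Nat.le_induction with
  | base => norm_num
  | succ k hk ih =>
    have h1 : (k + 1) * 2 ^ (k + 1) + 2 * 2 ^ (k + 1) ≤ 4 * (k * 2 ^ k) := by
      rw [pow_succ]
      nlinarith [Nat.one_le_two_pow (n := k)]
    have h2 : 3 ^ (k + 1) + 3 ^ k = 4 * 3 ^ k := by rw [pow_succ]; ring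
    have h3 : 4 ^ (k + 1) = 4 * 4 ^ k := by rw [pow_succ]; ring
    have h4 : k < 2 ^ k := Nat.lt_two_pow_self
    have h5 : 2 ^ (k + 1) = 2 * 2 ^ k := by rw [pow_succ]; ring
    have h6 : 1 ≤ 3 ^ k := Nat.one_le_pow _ _ (by norm_num)
    omega

/-- the four-group -/
abbrev K4 := ZMod 2 × ZMod 2

theorem k4_add (x : K4) : x + x = 0 := by revert x; decide

variable {k : ℕ} {Γ : Type*} [Fintype Γ] [DecidableEq Γ]

/-- `k` blocks of four letters, translated by `v` -/
def pv (v : Fin k → K4) : Perm (Fin k × K4) where
  toFun p := (p.1, v p.1 + p.2)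
  invFun p := (p.1, v p.1 + p.2)
  left_inv p := by ext1 <;> simp [← add_assoc, k4_add]
  right_inv p := by ext1 <;> simp [← add_assoc, k4_add]

theorem pv_apply (v : Fin k → K4) (p : Fin k × K4) : pv v p = (p.1, v p.1 + p.2) := rfl

theorem pv_mul (v w : Fin k → K4) : pv (v + w) = pv v * pv w := by
  ext1 p
  rw [Perm.mul_apply, pv_apply, pv_apply, pv_apply, Pi.add_apply, add_assoc]

/-- the elementary abelian group `V` -/
def trp (Γ : Type*) (v : Fin k → K4) : Perm ((Fin k × K4) ⊕ Γ) := Perm.sumCongr (pv v) 1

theorem trp_mul (v w : Fin k → K4) : trp Γ (v + w) = trp Γ v * trp Γ w := by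
  rw [trp, trp, trp, pv_mul, Perm.sumCongr_mul, mul_one]

theorem trp_zero : trp Γ (0 : Fin k → K4) = 1 := by
  have : pv (0 : Fin k → K4) = 1 := by
    ext1 p
    rw [pv_apply, Pi.zero_apply, zero_add]; rfl
  rw [trp, this, Perm.sumCongr_one]

theorem trp_inl (v : Fin k → K4) (p : Fin k × K4) : trp Γ v (Sum.inl p) = Sum.inl (p.1, v p.1 + p.2) := rfl

theorem trp_inr (v : Fin k → K4) (x : Γ) : trp Γ v (Sum.inr x) = Sum.inr x := rfl

theorem trp_sq (v : Fin k → K4) : trp Γ v * trp Γ v = 1 := by
  rw [← trp_mul]
  have : v + v = 0 := funext fun i => k4_add _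
  rw [this, trp_zero]

theorem trp_card (v : Fin k → K4) :
    (trp Γ v).support.card = 4 * (Finset.univ.filter fun i => v i ≠ 0).card := by
  have h1 : (trp Γ v).support =
      (((Finset.univ.filter fun i => v i ≠ 0) ×ˢ (Finset.univ : Finset K4)).map
        (Function.Embedding.inl : (Fin k × K4) ↪ (Fin k × K4) ⊕ Γ)) := by
    ext x
    rw [mem_support, Finset.mem_map]
    constructor
    · intro hx
      rcases x with p | x
      · refine ⟨p, ?_, rfl⟩
        rw [Finset.mem_product, Finset.mem_filter]
        refine ⟨⟨Finset.mem_univ _, ?_⟩, Finset.mem_univ _⟩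
        intro h0
        apply hx
        rw [trp_inl, h0, zero_add]
      · exact absurd (trp_inr v x) hx
    · rintro ⟨p, hp, rfl⟩
      rw [Finset.mem_product, Finset.mem_filter] at hp
      intro e
      change trp Γ v (Sum.inl p) = Sum.inl p at e
      rw [trp_inl] at e
      have e1 := congrArg Prod.snd (Sum.inl_injective e)
      exact hp.1.2 (add_eq_right.1 e1)
  have hK : (Finset.univ : Finset K4).card = 4 := by decide
  rw [h1, Finset.card_map, Finset.card_product, hK, mul_comm]

theorem trp_sign (v : Fin k → K4) : Perm.sign (trp Γ v) = 1 := by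
  rw [sign_of_sq (trp_sq v), trp_card]
  have : 4 * (Finset.univ.filter fun i => v i ≠ 0).card / 2 =
      2 * (Finset.univ.filter fun i => v i ≠ 0).card := by omega
  rw [this, pow_mul]
  simp

/-- the element of the alternating group -/
def tra (Γ : Type*) [Fintype Γ] [DecidableEq Γ] (v : Fin k → K4) :
    alternatingGroup ((Fin k × K4) ⊕ Γ) := ⟨trp Γ v, trp_sign v⟩

theorem tra_mul (v w : Fin k → K4) : tra Γ (v + w) = tra Γ v * tra Γ w := Subtype.ext (trp_mul v w)

theorem tra_zero : tra Γ (0 : Fin k → K4) = 1 := Subtype.ext trp_zero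

theorem tra_sq (v : Fin k → K4) : tra Γ v * tra Γ v = 1 := Subtype.ext (trp_sq v)

theorem tra_comm (v w : Fin k → K4) : tra Γ v * tra Γ w = tra Γ w * tra Γ v := by
  rw [← tra_mul, ← tra_mul, add_comm]

theorem tra_card_full {v : Fin k → K4} (h : ∀ i, v i ≠ 0) : (trp Γ v).support.card = 4 * k := by
  rw [trp_card, Finset.filter_true_of_mem (fun i _ => h i), Finset.card_univ, Fintype.card_fin]

theorem tra_card_lt {v : Fin k → K4} (h : ∃ i, v i = 0) : (trp Γ v).support.card < 4 * k := by
  obtain ⟨i, hi⟩ := h
  rw [trp_card]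
  have : (Finset.univ.filter fun i => v i ≠ 0).card < (Finset.univ : Finset (Fin k)).card := by
    apply Finset.card_lt_card
    rw [Finset.ssubset_iff_of_subset (Finset.filter_subset _ _)]
    exact ⟨i, Finset.mem_univ _, by simp [hi]⟩
  rw [Finset.card_univ, Fintype.card_fin] at this
  omega

variable {G : Type*} [Group G]

theorem three {t : G} {ι : alternatingGroup ((Fin k × K4) ⊕ Γ) →* G} (h : Spl t ι) (hk : 3 ≤ k)
    (hK : ∀ c, ¬ IsConj t (ι c))
    (hmin : ∀ a : alternatingGroup ((Fin k × K4) ⊕ Γ), a * a = 1 → a ≠ 1 →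
      (a : Perm ((Fin k × K4) ⊕ Γ)).support.card < 4 * k → ¬ IsConj t (t * ι a))
    (hful : ∀ a : alternatingGroup ((Fin k × K4) ⊕ Γ), a * a = 1 →
      (a : Perm ((Fin k × K4) ⊕ Γ)).support.card = 4 * k → IsConj t (t * ι a)) : False := by
  classical
  have hfull : ∀ v : Fin k → K4, (∀ i, v i ≠ 0) → IsConj t (t * ι (tra Γ v)) := fun v hv =>
    hful _ (tra_sq v) (tra_card_full hv)
  set wv : Fin k → K4 := fun _ => (0, 1) with hwv
  have hwv0 : ∀ i, wv i ≠ 0 := fun i => (by decide : ((0, 1) : K4) ≠ 0)
  set w := tra Γ wv with hw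
  have wcard : (w : Perm ((Fin k × K4) ⊕ Γ)).support.card = 4 * k := tra_card_full hwv0
  obtain ⟨κ, P⟩ := h.exists_pair hK (hfull wv hwv0)
  -- the pull backs
  have hpull : ∀ f : Fin k → K4, ∃ f', κ f' = ι (tra Γ f) := by
    intro f
    set c : Fin k → K4 := fun i => if f i = (0, 1) then (1, 0) else (0, 1) with hc
    have hc0 : ∀ i, c i ≠ 0 := by
      intro i
      rw [hc]
      show (if f i = (0, 1) then ((1, 0) : K4) else (0, 1)) ≠ 0
      split_ifs <;> decide
    have hd0 : ∀ i, (f + c) i ≠ 0 := by
      intro i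
      rw [hc]
      show f i + (if f i = (0, 1) then ((1, 0) : K4) else (0, 1)) ≠ 0
      generalize f i = z
      revert z
      decide
    obtain ⟨f', hf'⟩ := P.pull (c := tra Γ (f + c)) (d := tra Γ c) (tra_comm _ _) (tra_comm _ _)
      (hfull _ hd0) (hfull _ hc0)
    refine ⟨f', ?_⟩
    have : c + c = 0 := funext fun i => k4_add _
    rw [hf', ← tra_mul, add_assoc, this, add_zero]
  choose φ hφ using hpull
  have hφm : ∀ f g, φ (f + g) = φ f * φ g := by
    intro f g
    apply P.hu.inj
    rw [hφ, map_mul, hφ, hφ, tra_mul, map_mul]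
  have hφ0 : φ 0 = 1 := by
    apply P.hu.inj
    rw [hφ, tra_zero, map_one, map_one]
  have hφsq : ∀ f, φ f * φ f = 1 := by
    intro f
    have : f + f = 0 := funext fun i => k4_add _
    rw [← hφm, this, hφ0]
  have hφne : ∀ f, f ≠ 0 → φ f ≠ 1 := by
    intro f hf h1
    apply hf
    have h2 := hφ f
    rw [h1, map_one] at h2
    have h3 : tra Γ f = 1 := P.ht.inj (h2.symm.trans (map_one ι).symm)
    funext i
    have h4 : trp Γ f (Sum.inl (i, 0)) = Sum.inl (i, 0) := by
      rw [show trp Γ f = 1 from congrArg Subtype.val h3]; rfl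
    rw [trp_inl] at h4
    have h5 := congrArg Prod.snd (Sum.inl_injective h4)
    simpa using h5
  have hfour : ∀ f, 4 ∣ (φ f : Perm ((Fin k × K4) ⊕ Γ)).support.card := fun f =>
    four_dvd (coe_sq (hφsq f)) (φ f).2
  have hD : ∀ f, IsConj t (t * ι (φ f)) ↔ IsConj t (t * ι (tra Γ (wv + f))) := by
    intro f
    rw [P.inD_iff (hφ f), tra_mul]
  have hcardΩ : Fintype.card ((Fin k × K4) ⊕ Γ) = 4 * k + Fintype.card Γ := by
    rw [Fintype.card_sum, Fintype.card_prod, Fintype.card_fin]
    have hK : Fintype.card K4 = 4 := by decide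
    rw [hK, mul_comm]
  have hww : wv + wv = 0 := funext fun i => k4_add _
  have hwv1 : wv ≠ 0 := by
    intro e
    exact hwv0 ⟨0, by omega⟩ (by rw [e]; rfl)
  have hw1 : w ≠ 1 := by
    intro e
    rw [e] at wcard
    simp at wcard
    omega
  have hge : 4 * k ≤ (φ wv : Perm ((Fin k × K4) ⊕ Γ)).support.card := by
    by_contra hlt
    refine hmin (φ wv) (hφsq wv) (hφne wv hwv1) (by omega) ((hD wv).2 ?_)
    rw [hww, tra_zero, map_one, mul_one]
  -- the bound
  have bound : ∀ f, (φ f : Perm ((Fin k × K4) ⊕ Γ)).support.card ≤ 4 * k := by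
    intro f
    by_cases hΓ : Fintype.card Γ ≤ 2
    · have h1 := Finset.card_le_univ (φ f : Perm ((Fin k × K4) ⊕ Γ)).support
      have h2 := hfour f
      rw [hcardΩ] at h1
      omega
    · have hg := (P.gamma (hφ wv) hw1 (by rw [wcard]; exact hge) (by rw [wcard]; omega)
        (by rw [wcard, hcardΩ]; omega)).1
      rw [wcard] at hg
      rw [← hg]
      apply Finset.card_le_card
      intro x hx
      rw [mem_support] at hx ⊢
      intro hx'
      apply hx
      refine P.fix_of_comm (hφ wv) hw1 (by rw [wcard]; exact hge) (by rw [wcard]; omega)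
        (by rw [wcard, hcardΩ]; omega) (hφ f) (tra_sq f) ?_ hx'
      intro r hr
      apply Subtype.ext
      show trp Γ f * (r : Perm ((Fin k × K4) ⊕ Γ)) = r * trp Γ f
      have : Perm.Disjoint (trp Γ f) (r : Perm ((Fin k × K4) ⊕ Γ)) := by
        intro y
        rcases y with y | y
        · right
          apply hr
          intro e
          change trp Γ wv (Sum.inl y) = Sum.inl y at e
          rw [trp_inl] at e
          have e1 := congrArg Prod.snd (Sum.inl_injective e)
          exact hwv0 y.1 (add_eq_right.1 e1)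
        · left
          exact trp_inr f y
      exact this.commute
  -- the values
  have val1 : ∀ f, (∀ i, f i ≠ (0, 1)) → f ≠ 0 →
      (φ f : Perm ((Fin k × K4) ⊕ Γ)).support.card = 4 * k := by
    intro f hf hf0
    refine le_antisymm (bound f) ?_
    by_contra hlt
    refine hmin (φ f) (hφsq f) (hφne f hf0) (by omega) ((hD f).2 (hfull _ ?_))
    intro i
    have := hf i
    rw [Pi.add_apply, hwv]
    show ((0, 1) : K4) + f i ≠ 0
    revert this
    generalize f i = z
    revert z
    decide
  have val2 : ∀ f, (∃ i, f i = (0, 1)) → f ≠ wv →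
      (φ f : Perm ((Fin k × K4) ⊕ Γ)).support.card + 4 ≤ 4 * k := by
    intro f ⟨i, hi⟩ hf
    have h1 := bound f
    have h2 : (φ f : Perm ((Fin k × K4) ⊕ Γ)).support.card ≠ 4 * k := by
      intro e
      have h3 := (hD f).1 (hful (φ f) (hφsq f) e)
      refine hmin (tra Γ (wv + f)) (tra_sq _) ?_ (tra_card_lt ⟨i, ?_⟩) h3
      · intro e1
        apply hf
        have h4 : wv + f = 0 := by
          funext j
          have h5 : trp Γ (wv + f) (Sum.inl (j, 0)) = Sum.inl (j, 0) := by
            rw [show trp Γ (wv + f) = 1 from congrArg Subtype.val e1]; rfl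
          rw [trp_inl] at h5
          have h6 := congrArg Prod.snd (Sum.inl_injective h5)
          simpa using h6
        calc f = (wv + wv) + f := by rw [hww, zero_add]
          _ = wv + (wv + f) := by rw [add_assoc]
          _ = wv := by rw [h4, add_zero]
      · rw [Pi.add_apply, hi]
        exact k4_add _
    have h3 := hfour f
    omega
  -- the homomorphisms
  let Φ : Multiplicative (Fin k → K4) →* Perm ((Fin k × K4) ⊕ Γ) :=
    { toFun := fun f => (φ (Multiplicative.toAdd f) : Perm ((Fin k × K4) ⊕ Γ))
      map_one' := by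
        show ((φ 0 : alternatingGroup ((Fin k × K4) ⊕ Γ)) : Perm ((Fin k × K4) ⊕ Γ)) = 1
        rw [hφ0]; rfl
      map_mul' := by
        intro f g
        show ((φ (Multiplicative.toAdd f + Multiplicative.toAdd g) :
          alternatingGroup ((Fin k × K4) ⊕ Γ)) : Perm ((Fin k × K4) ⊕ Γ)) = _
        rw [hφm]; rfl }
  let j : Multiplicative (Fin k → ZMod 2) →* Multiplicative (Fin k → K4) :=
    { toFun := fun x => Multiplicative.ofAdd (fun i => ((Multiplicative.toAdd x) i, 0))
      map_one' := rfl
      map_mul' := by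
        intro x y
        rfl }
  have key := orbit_ineq Φ j
  have c1 : Fintype.card (Multiplicative (Fin k → K4)) = 4 ^ k := by
    rw [Fintype.card_multiplicative, Fintype.card_fun, Fintype.card_fin]
    have hK : Fintype.card K4 = 4 := by decide
    rw [hK]
  have c2 : Fintype.card (Multiplicative (Fin k → ZMod 2)) = 2 ^ k := by
    rw [Fintype.card_multiplicative, Fintype.card_fun, Fintype.card_fin]
    rfl
  rw [c1, c2] at key
  -- the sum over `U`
  have sU : (∑ u : Multiplicative (Fin k → ZMod 2), (Φ (j u)).support.card) + 4 * k = 2 ^ k * (4 * k) := by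
    have e : ∀ u : Multiplicative (Fin k → ZMod 2),
        (Φ (j u)).support.card + (if u = 1 then 4 * k else 0) = 4 * k := by
      intro u
      split_ifs with hu
      · rw [hu, map_one, map_one, support_one, Finset.card_empty, zero_add]
      · rw [add_zero]
        refine val1 _ ?_ ?_
        · intro i e
          have : (0 : ZMod 2) = 1 := congrArg Prod.snd e
          exact absurd this (by decide)
        · intro e
          apply hu
          have : ∀ i, (Multiplicative.toAdd u) i = 0 := fun i => congrArg Prod.fst (congrFun e i)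
          exact Multiplicative.toAdd.injective (funext this)
    have e2 := Finset.sum_congr (rfl : (Finset.univ : Finset (Multiplicative (Fin k → ZMod 2))) = Finset.univ)
      (fun u _ => e u)
    rw [Finset.sum_add_distrib, Finset.sum_ite_eq' Finset.univ (1 : Multiplicative (Fin k → ZMod 2)),
      if_pos (Finset.mem_univ _), Finset.sum_const, Finset.card_univ, c2, smul_eq_mul] at e2
    exact e2
  -- the sum over `V`
  have sV : (∑ q : Multiplicative (Fin k → K4), (Φ q).support.card) + 4 * 4 ^ k + 4 * k ≤
      4 ^ k * (4 * k) + 4 * 3 ^ k + 4 := by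
    have e : ∀ q : Multiplicative (Fin k → K4),
        (Φ q).support.card + 4 + (if q = 1 then 4 * k else 0) ≤
          4 * k + (if ∀ i, (Multiplicative.toAdd q) i ≠ (0, 1) then 4 else 0) +
            (if q = Multiplicative.ofAdd wv then 4 else 0) := by
      intro q
      by_cases h1 : ∀ i, (Multiplicative.toAdd q) i ≠ (0, 1)
      · rw [if_pos h1]
        by_cases hq : q = 1
        · rw [if_pos hq, hq, map_one, support_one, Finset.card_empty]
          omega
        · rw [if_neg hq]
          have := val1 (Multiplicative.toAdd q) h1 (fun e => hq (Multiplicative.toAdd.injective e))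
          have h2 : (Φ q).support.card = 4 * k := this
          rw [h2]
          omega
      · rw [if_neg h1]
        push Not at h1
        have hq : q ≠ 1 := by
          rintro rfl
          obtain ⟨i, hi⟩ := h1
          have : (0 : ZMod 2) = 1 := congrArg Prod.snd hi
          exact absurd this (by decide)
        rw [if_neg hq]
        by_cases hw2 : q = Multiplicative.ofAdd wv
        · rw [if_pos hw2]
          have h2 : (Φ q).support.card ≤ 4 * k := bound _
          omega
        · rw [if_neg hw2]
          have h2 : (Φ q).support.card + 4 ≤ 4 * k :=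
            val2 (Multiplicative.toAdd q) h1 (fun e => hw2 (by rw [← e]; rfl))
          omega
    have e2 := Finset.sum_le_sum (s := (Finset.univ : Finset (Multiplicative (Fin k → K4)))) (fun q _ => e q)
    rw [Finset.sum_add_distrib, Finset.sum_add_distrib, Finset.sum_add_distrib, Finset.sum_add_distrib,
      Finset.sum_ite_eq' Finset.univ (1 : Multiplicative (Fin k → K4)), if_pos (Finset.mem_univ _),
      Finset.sum_ite_eq' Finset.univ (Multiplicative.ofAdd wv), if_pos (Finset.mem_univ _),
      Finset.sum_const, Finset.sum_const, Finset.card_univ, c1, smul_eq_mul, smul_eq_mul,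
      ← Finset.sum_filter, Finset.sum_const, smul_eq_mul] at e2
    have c3 : (Finset.univ.filter fun q : Multiplicative (Fin k → K4) =>
        ∀ i, (Multiplicative.toAdd q) i ≠ (0, 1)).card = 3 ^ k := by
      have c4 : (Finset.univ.filter fun q : Multiplicative (Fin k → K4) =>
          ∀ i, (Multiplicative.toAdd q) i ≠ (0, 1)).card =
          (Fintype.piFinset (fun _ : Fin k => (Finset.univ.filter fun x : K4 => x ≠ (0, 1)))).card := by
        apply Finset.card_bij (fun q _ => Multiplicative.toAdd q)
        · intro q hq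
          rw [Finset.mem_filter] at hq
          rw [Fintype.mem_piFinset]
          intro i
          rw [Finset.mem_filter]
          exact ⟨Finset.mem_univ _, hq.2 i⟩
        · intro q _ q' _ e
          exact Multiplicative.toAdd.injective e
        · intro q hq
          refine ⟨Multiplicative.ofAdd q, ?_, rfl⟩
          rw [Finset.mem_filter]
          rw [Fintype.mem_piFinset] at hq
          exact ⟨Finset.mem_univ _, fun i => (Finset.mem_filter.1 (hq i)).2⟩
      rw [c4, Fintype.card_piFinset]
      have c5 : (Finset.univ.filter fun x : K4 => x ≠ (0, 1)).card = 3 := by decide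
      rw [Finset.prod_congr rfl (fun _ _ => c5), Finset.prod_const, Finset.card_univ, Fintype.card_fin]
    rw [c3] at e2
    nlinarith [e2]
  have hpi := pow_ineq k hk
  set SU := ∑ u : Multiplicative (Fin k → ZMod 2), (Φ (j u)).support.card
  set SV := ∑ q : Multiplicative (Fin k → K4), (Φ q).support.card
  have h42 : (4 : ℕ) ^ k = 2 ^ k * 2 ^ k := by rw [← mul_pow]; norm_num
  rw [h42] at key sV hpi
  set a : ℕ := 2 ^ k
  set b : ℕ := 3 ^ k
  have ha : 0 < a := by positivity
  have key2 : a * SU ≤ SV := by
    have : a * (a * SU) ≤ a * SV := by rw [← mul_assoc]; exact key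
    exact Nat.le_of_mul_le_mul_left this ha
  have h7 : a * SU + a * (4 * k) = a * (a * (4 * k)) := by rw [← mul_add, sU]
  have h8 : a * a * (4 * k) = a * (a * (4 * k)) := by ring
  have h9 : a * (4 * k) = 4 * (k * a) := by ring
  omega

end Cfsg.Agent.OddHalf.D5.CleanTwo
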