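import Cfsg.Agent.OddHalf.D5.CTGamma

/-!
# ODD D5, clean case, `k = 2` (helper522)

If no element `t x`, `x` of type `2²`, but all `t x`, `x` of type `2⁴`, are conjugate to `t`, then some element of
`Alt Ω` swaps two commuting four-groups in an odd way.
-/

set_option autoImplicit false
set_option linter.unusedSimpArgs false
set_option linter.unusedSectionVars false

namespace Cfsg.Agent.OddHalf.D5.CleanTwo

open Equiv Equiv.Perm

section word

variable {G : Type*} [Group G]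

/-- The word `R_B⁻¹ R_A R₂ R_A`. -/
theorem word {t A1 A2 B1 B2 RA RB R2 : G} (a1 : A1 * A1 = 1) (a2 : A2 * A2 = 1) (b1 : B1 * B1 = 1)
    (b2 : B2 * B2 = 1) (c21 : A2 * A1 = A1 * A2) (d11 : B1 * A1 = A1 * B1) (d12 : B1 * A2 = A2 * B1)
    (d21 : B2 * A1 = A1 * B2) (d22 : B2 * A2 = A2 * B2) (e21 : B2 * B1 = B1 * B2)
    (r1 : RA * (t * (A1 * B1)) = (t * (A1 * B1)) * RA) (r2 : RA * A1 = (A2 * B1) * RA)
    (r3 : RA * (A2 * B1) = (A1 * A2 * B1) * RA) (r4 : RA * B1 = B1 * RA)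
    (r5 : RA * (A1 * B2) = (A1 * B2) * RA)
    (s1 : RB * (t * (A1 * B1)) = (t * (A1 * B1)) * RB) (s2 : RB * A1 = A1 * RB)
    (s3 : RB * (A2 * B1) = (A2 * B1) * RB) (s4 : RB * B1 = (A1 * B2) * RB)
    (s5 : RB * (A1 * B2) = (A1 * B1 * B2) * RB)
    (q1 : R2 * t = t * R2) (q2 : R2 * A1 = A1 * R2) (q3 : R2 * A2 = A2 * R2)
    (q4 : R2 * B1 = B2 * R2) (q5 : R2 * B2 = (B1 * B2) * R2) :
    SemiconjBy (RB⁻¹ * RA * R2 * RA) t t ∧ SemiconjBy (RB⁻¹ * RA * R2 * RA) A1 B2 ∧
      SemiconjBy (RB⁻¹ * RA * R2 * RA) A2 (B1 * B2) ∧ SemiconjBy (RB⁻¹ * RA * R2 * RA) B1 A2 ∧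
      SemiconjBy (RB⁻¹ * RA * R2 * RA) B2 A1 := by
  -- extended rewriting rules
  have a1' : ∀ x, A1 * (A1 * x) = x := fun x => by rw [← mul_assoc, a1, one_mul]
  have a2' : ∀ x, A2 * (A2 * x) = x := fun x => by rw [← mul_assoc, a2, one_mul]
  have b1' : ∀ x, B1 * (B1 * x) = x := fun x => by rw [← mul_assoc, b1, one_mul]
  have b2' : ∀ x, B2 * (B2 * x) = x := fun x => by rw [← mul_assoc, b2, one_mul]
  have c21' : ∀ x, A2 * (A1 * x) = A1 * (A2 * x) := fun x => by rw [← mul_assoc, c21, mul_assoc]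
  have d11' : ∀ x, B1 * (A1 * x) = A1 * (B1 * x) := fun x => by rw [← mul_assoc, d11, mul_assoc]
  have d12' : ∀ x, B1 * (A2 * x) = A2 * (B1 * x) := fun x => by rw [← mul_assoc, d12, mul_assoc]
  have d21' : ∀ x, B2 * (A1 * x) = A1 * (B2 * x) := fun x => by rw [← mul_assoc, d21, mul_assoc]
  have d22' : ∀ x, B2 * (A2 * x) = A2 * (B2 * x) := fun x => by rw [← mul_assoc, d22, mul_assoc]
  have e21' : ∀ x, B2 * (B1 * x) = B1 * (B2 * x) := fun x => by rw [← mul_assoc, e21, mul_assoc]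
  -- `RA`
  have A_A1 : SemiconjBy RA A1 (A2 * B1) := r2
  have A_B1 : SemiconjBy RA B1 B1 := r4
  have A_A2 : SemiconjBy RA A2 (A1 * A2) := by
    have h : SemiconjBy RA (A2 * B1 * B1) (A1 * A2 * B1 * B1) := SemiconjBy.mul_right r3 A_B1
    simpa only [mul_assoc, b1, mul_one] using h
  have A_B2 : SemiconjBy RA B2 (A1 * A2 * B1 * B2) := by
    have h : SemiconjBy RA (A1 * (A1 * B2)) (A2 * B1 * (A1 * B2)) := SemiconjBy.mul_right A_A1 r5
    simpa only [mul_assoc, a1', d11', c21'] using h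
  have A_t : SemiconjBy RA t (t * (A1 * A2 * B1)) := by
    have h : SemiconjBy RA (t * (A1 * B1) * A1 * B1) (t * (A1 * B1) * (A2 * B1) * B1) :=
      SemiconjBy.mul_right (SemiconjBy.mul_right r1 A_A1) A_B1
    simpa only [mul_assoc, a1', b1', a1, b1, d11', d11, d12', d12, mul_one] using h
  -- `RB`
  have B_A1 : SemiconjBy RB A1 A1 := s2
  have B_B1 : SemiconjBy RB B1 (A1 * B2) := s4
  have B_B2 : SemiconjBy RB B2 (B1 * B2) := by
    have h : SemiconjBy RB (A1 * (A1 * B2)) (A1 * (A1 * B1 * B2)) := SemiconjBy.mul_right B_A1 s5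
    simpa only [mul_assoc, a1'] using h
  have B_A2 : SemiconjBy RB A2 (A1 * A2 * B1 * B2) := by
    have h : SemiconjBy RB (A2 * B1 * B1) (A2 * B1 * (A1 * B2)) := SemiconjBy.mul_right s3 B_B1
    simpa only [mul_assoc, b1, mul_one, d11', c21'] using h
  have B_t : SemiconjBy RB t (t * (A1 * B1 * B2)) := by
    have h : SemiconjBy RB (t * (A1 * B1) * A1 * B1) (t * (A1 * B1) * A1 * (A1 * B2)) :=
      SemiconjBy.mul_right (SemiconjBy.mul_right s1 B_A1) B_B1
    simpa only [mul_assoc, a1', b1', a1, b1, d11', d11, d12', d12, mul_one] using h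
  -- `RB⁻¹`
  have I_A1 : SemiconjBy RB⁻¹ A1 A1 := SemiconjBy.inv_symm_left_iff.2 B_A1
  have I_B1 : SemiconjBy RB⁻¹ B1 (A1 * B1 * B2) := by
    apply SemiconjBy.inv_symm_left_iff.2
    have h : SemiconjBy RB (A1 * B1 * B2) (A1 * (A1 * B2) * (B1 * B2)) :=
      SemiconjBy.mul_right (SemiconjBy.mul_right B_A1 B_B1) B_B2
    simpa only [mul_assoc, a1', b2', b2, e21', e21, mul_one] using h
  have I_B2 : SemiconjBy RB⁻¹ B2 (A1 * B1) := by
    apply SemiconjBy.inv_symm_left_iff.2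
    have h : SemiconjBy RB (A1 * B1) (A1 * (A1 * B2)) := SemiconjBy.mul_right B_A1 B_B1
    simpa only [mul_assoc, a1'] using h
  have I_A2 : SemiconjBy RB⁻¹ A2 (A1 * A2 * B2) := by
    apply SemiconjBy.inv_symm_left_iff.2
    have h : SemiconjBy RB (A1 * A2 * B2) (A1 * (A1 * A2 * B1 * B2) * (B1 * B2)) :=
      SemiconjBy.mul_right (SemiconjBy.mul_right B_A1 B_A2) B_B2
    simpa only [mul_assoc, a1', b1', b2', b1, b2, e21', e21, mul_one] using h
  have I_t : SemiconjBy RB⁻¹ t (t * (A1 * B2)) := by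
    apply SemiconjBy.inv_symm_left_iff.2
    have h : SemiconjBy RB (t * (A1 * B2)) (t * (A1 * B1 * B2) * (A1 * (B1 * B2))) :=
      SemiconjBy.mul_right B_t (SemiconjBy.mul_right B_A1 B_B2)
    simpa only [mul_assoc, a1', b1', b2', a1, b2, b1, e21', e21, d11', d21', mul_one] using h
  -- `R2 RA`
  have q1' : SemiconjBy R2 t t := q1
  have q2' : SemiconjBy R2 A1 A1 := q2
  have q3' : SemiconjBy R2 A2 A2 := q3
  have q4' : SemiconjBy R2 B1 B2 := q4
  have q5' : SemiconjBy R2 B2 (B1 * B2) := q5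
  refine ⟨?_, ?_, ?_, ?_, ?_⟩
  · have h1 : SemiconjBy R2 (t * (A1 * A2 * B1)) (t * (A1 * A2 * B2)) :=
      q1'.mul_right ((q2'.mul_right q3').mul_right q4')
    have h2 : SemiconjBy RA (t * (A1 * A2 * B2)) (t * (A1 * B1 * B2)) := by
      have := A_t.mul_right ((A_A1.mul_right A_A2).mul_right A_B2)
      simpa only [mul_assoc, a1', b1', b2', a2', a1, a2, b2, b1, e21', e21, d11', d21', d12', d22', c21',
        c21, d11, d12, d21, d22, mul_one] using this
    have h3 : SemiconjBy RB⁻¹ (t * (A1 * B1 * B2)) t := by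
      have := I_t.mul_right ((I_A1.mul_right I_B1).mul_right I_B2)
      simpa only [mul_assoc, a1', b1', b2', a2', a1, a2, b2, b1, e21', e21, d11', d21', d12', d22', c21',
        c21, d11, d12, d21, d22, mul_one] using this
    exact ((h3.mul_left h2).mul_left h1).mul_left A_t
  · have h1 : SemiconjBy R2 (A2 * B1) (A2 * B2) := q3'.mul_right q4'
    have h2 : SemiconjBy RA (A2 * B2) (B1 * B2) := by
      have := A_A2.mul_right A_B2
      simpa only [mul_assoc, a1', b1', b2', a2', a1, a2, b2, b1, e21', e21, d11', d21', d12', d22', c21',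
        c21, d11, d12, d21, d22, mul_one] using this
    have h3 : SemiconjBy RB⁻¹ (B1 * B2) B2 := by
      have := I_B1.mul_right I_B2
      simpa only [mul_assoc, a1', b1', b2', a2', a1, a2, b2, b1, e21', e21, d11', d21', d12', d22', c21',
        c21, d11, d12, d21, d22, mul_one] using this
    exact ((h3.mul_left h2).mul_left h1).mul_left A_A1
  · have h1 : SemiconjBy R2 (A1 * A2) (A1 * A2) := q2'.mul_right q3'
    have h2 : SemiconjBy RA (A1 * A2) (A1 * B1) := by
      have := A_A1.mul_right A_A2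
      simpa only [mul_assoc, a1', b1', b2', a2', a1, a2, b2, b1, e21', e21, d11', d21', d12', d22', c21',
        c21, d11, d12, d21, d22, mul_one] using this
    have h3 : SemiconjBy RB⁻¹ (A1 * B1) (B1 * B2) := by
      have := I_A1.mul_right I_B1
      simpa only [mul_assoc, a1', b1', b2', a2', a1, a2, b2, b1, e21', e21, d11', d21', d12', d22', c21',
        c21, d11, d12, d21, d22, mul_one] using this
    exact ((h3.mul_left h2).mul_left h1).mul_left A_A2
  · have h2 : SemiconjBy RA B2 (A1 * A2 * B1 * B2) := A_B2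
    have h3 : SemiconjBy RB⁻¹ (A1 * A2 * B1 * B2) A2 := by
      have := ((I_A1.mul_right I_A2).mul_right I_B1).mul_right I_B2
      simpa only [mul_assoc, a1', b1', b2', a2', a1, a2, b2, b1, e21', e21, d11', d21', d12', d22', c21',
        c21, d11, d12, d21, d22, mul_one] using this
    exact ((h3.mul_left h2).mul_left q4').mul_left A_B1
  · have h1 : SemiconjBy R2 (A1 * A2 * B1 * B2) (A1 * A2 * B1) := by
      have := ((q2'.mul_right q3').mul_right q4').mul_right q5'
      simpa only [mul_assoc, a1', b1', b2', a2', a1, a2, b2, b1, e21', e21, d11', d21', d12', d22', c21',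
        c21, d11, d12, d21, d22, mul_one] using this
    have h2 : SemiconjBy RA (A1 * A2 * B1) A1 := by
      have := (A_A1.mul_right A_A2).mul_right A_B1
      simpa only [mul_assoc, a1', b1', b2', a2', a1, a2, b2, b1, e21', e21, d11', d21', d12', d22', c21',
        c21, d11, d12, d21, d22, mul_one] using this
    exact ((I_A1.mul_left h2).mul_left h1).mul_left A_B2

end word

variable {G : Type*} [Group G] {Ω : Type*} [Fintype Ω] [DecidableEq Ω]

theorem disj_of_card {σ τ : Perm Ω} (h : (σ * τ).support.card = σ.support.card + τ.support.card) :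
    Disjoint σ.support τ.support := by
  rw [Finset.disjoint_iff_inter_eq_empty, ← Finset.card_eq_zero]
  have h1 := Finset.card_le_card (support_mul_le σ τ)
  have h2 := Finset.card_union_add_card_inter σ.support τ.support
  rw [Finset.sup_eq_union] at h1
  omega

omit [Fintype Ω] in
theorem comm_of_fix {σ τ : Perm Ω} (h : ∀ x, σ x = x ∨ τ x = x) : σ * τ = τ * σ :=
  (show Perm.Disjoint σ τ from h).commute

/-- The data for `k = 2`. -/
structure Four (a₁ a₂ b₁ b₂ : alternatingGroup Ω) : Prop where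
  a1 : a₁ * a₁ = 1
  a2 : a₂ * a₂ = 1
  b1 : b₁ * b₁ = 1
  b2 : b₂ * b₂ = 1
  c21 : a₂ * a₁ = a₁ * a₂
  d11 : b₁ * a₁ = a₁ * b₁
  d12 : b₁ * a₂ = a₂ * b₁
  d21 : b₂ * a₁ = a₁ * b₂
  d22 : b₂ * a₂ = a₂ * b₂
  e21 : b₂ * b₁ = b₁ * b₂
  sa1 : (a₁ : Perm Ω).support.card = 4
  sa2 : (a₂ : Perm Ω).support.card = 4
  sa3 : ((a₁ * a₂ : alternatingGroup Ω) : Perm Ω).support.card = 4
  sb1 : (b₁ : Perm Ω).support.card = 4
  sb2 : (b₂ : Perm Ω).support.card = 4
  sb3 : ((b₁ * b₂ : alternatingGroup Ω) : Perm Ω).support.card = 4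
  s11 : ((a₁ * b₁ : alternatingGroup Ω) : Perm Ω).support.card = 8
  s12 : ((a₁ * b₂ : alternatingGroup Ω) : Perm Ω).support.card = 8
  s13 : ((a₁ * (b₁ * b₂) : alternatingGroup Ω) : Perm Ω).support.card = 8
  s21 : ((a₂ * b₁ : alternatingGroup Ω) : Perm Ω).support.card = 8
  s22 : ((a₂ * b₂ : alternatingGroup Ω) : Perm Ω).support.card = 8
  s23 : ((a₂ * (b₁ * b₂) : alternatingGroup Ω) : Perm Ω).support.card = 8
  s31 : ((a₁ * a₂ * b₁ : alternatingGroup Ω) : Perm Ω).support.card = 8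
  s32 : ((a₁ * a₂ * b₂ : alternatingGroup Ω) : Perm Ω).support.card = 8
  s33 : ((a₁ * a₂ * (b₁ * b₂) : alternatingGroup Ω) : Perm Ω).support.card = 8

theorem sq_mul {M : Type*} [Group M] {a b : M} (ha : a * a = 1) (hb : b * b = 1) (h : a * b = b * a) :
    (a * b) * (a * b) = 1 := by
  calc (a * b) * (a * b) = a * (b * a) * b := by group
    _ = (a * a) * (b * b) := by rw [← h]; group
    _ = 1 := by rw [ha, hb, one_mul]

theorem two {t : G} {ι : alternatingGroup Ω →* G} (h : Spl t ι) (hK : ∀ c, ¬ IsConj t (ι c))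
    (h4 : ∀ a : alternatingGroup Ω, a * a = 1 → (a : Perm Ω).support.card = 4 → ¬ IsConj t (t * ι a))
    (h8 : ∀ a : alternatingGroup Ω, a * a = 1 → (a : Perm Ω).support.card = 8 → IsConj t (t * ι a))
    {a₁ a₂ b₁ b₂ ρ : alternatingGroup Ω} (F : Four a₁ a₂ b₁ b₂) (q2 : ρ * a₁ = a₁ * ρ)
    (q3 : ρ * a₂ = a₂ * ρ) (q4 : ρ * b₁ = b₂ * ρ) (q5 : ρ * b₂ = (b₁ * b₂) * ρ)
    (hn : Fintype.card Ω ≤ 10 ∨ (11 ≤ Fintype.card Ω ∧ ∀ x, ((a₁ * b₁ : alternatingGroup Ω) : Perm Ω) x = x →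
      (a₁ : Perm Ω) x = x ∧ (a₂ : Perm Ω) x = x ∧ (b₁ : Perm Ω) x = x ∧ (b₂ : Perm Ω) x = x ∧
        (ρ : Perm Ω) x = x)) :
    ∃ c : alternatingGroup Ω, c * a₁ = b₂ * c ∧ c * a₂ = (b₁ * b₂) * c ∧ c * b₁ = a₂ * c ∧
      c * b₂ = a₁ * c ∧ (11 ≤ Fintype.card Ω → ∀ r : alternatingGroup Ω,
        Fx ((a₁ * b₁ : alternatingGroup Ω) : Perm Ω) r → c * r = r * c) := by
  obtain ⟨a1, a2, b1, b2, c21, d11, d12, d21, d22, e21, sa1, sa2, sa3, sb1, sb2, sb3, s11, s12, s13,
    s21, s22, s23, s31, s32, s33⟩ := F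
  have a1' : ∀ x, a₁ * (a₁ * x) = x := fun x => by rw [← mul_assoc, a1, one_mul]
  have a2' : ∀ x, a₂ * (a₂ * x) = x := fun x => by rw [← mul_assoc, a2, one_mul]
  have b1' : ∀ x, b₁ * (b₁ * x) = x := fun x => by rw [← mul_assoc, b1, one_mul]
  have b2' : ∀ x, b₂ * (b₂ * x) = x := fun x => by rw [← mul_assoc, b2, one_mul]
  have c21' : ∀ x, a₂ * (a₁ * x) = a₁ * (a₂ * x) := fun x => by rw [← mul_assoc, c21, mul_assoc]
  have d11' : ∀ x, b₁ * (a₁ * x) = a₁ * (b₁ * x) := fun x => by rw [← mul_assoc, d11, mul_assoc]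
  have d12' : ∀ x, b₁ * (a₂ * x) = a₂ * (b₁ * x) := fun x => by rw [← mul_assoc, d12, mul_assoc]
  have d21' : ∀ x, b₂ * (a₁ * x) = a₁ * (b₂ * x) := fun x => by rw [← mul_assoc, d21, mul_assoc]
  have d22' : ∀ x, b₂ * (a₂ * x) = a₂ * (b₂ * x) := fun x => by rw [← mul_assoc, d22, mul_assoc]
  have e21' : ∀ x, b₂ * (b₁ * x) = b₁ * (b₂ * x) := fun x => by rw [← mul_assoc, e21, mul_assoc]
  obtain ⟨w, hw⟩ : ∃ w, w = a₁ * b₁ := ⟨_, rfl⟩
  rw [← hw] at hn s11 ⊢
  have ww : w * w = 1 := by rw [hw]; exact sq_mul a1 b1 d11.symm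
  obtain ⟨κ, P⟩ := h.exists_pair hK (h8 w ww s11)
  -- squares and commutation with `w`
  have sqs : ∀ f : alternatingGroup Ω, (∃ f₁ f₂ : alternatingGroup Ω, f₁ * f₁ = 1 ∧ f₂ * f₂ = 1 ∧
      f₁ * f₂ = f₂ * f₁ ∧ f = f₁ * f₂) → f * f = 1 := by
    rintro f ⟨f₁, f₂, g1, g2, g3, rfl⟩
    exact sq_mul g1 g2 g3
  have q21 : (a₂ * b₁) * (a₂ * b₁) = 1 := by
    simp only [mul_assoc, a1', a2', b1', b2', a1, a2, b1, b2, c21, c21', d11, d11', d12, d12', d21, d21', d22, d22', e21, e21', mul_one]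
  have q31 : (a₁ * a₂ * b₁) * (a₁ * a₂ * b₁) = 1 := by
    simp only [mul_assoc, a1', a2', b1', b2', a1, a2, b1, b2, c21, c21', d11, d11', d12, d12', d21, d21', d22, d22', e21, e21', mul_one]
  have q12 : (a₁ * b₂) * (a₁ * b₂) = 1 := by
    simp only [mul_assoc, a1', a2', b1', b2', a1, a2, b1, b2, c21, c21', d11, d11', d12, d12', d21, d21', d22, d22', e21, e21', mul_one]
  have q13 : (a₁ * (b₁ * b₂)) * (a₁ * (b₁ * b₂)) = 1 := by
    simp only [mul_assoc, a1', a2', b1', b2', a1, a2, b1, b2, c21, c21', d11, d11', d12, d12', d21, d21', d22, d22', e21, e21', mul_one]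
  have q33 : (a₁ * a₂ * (b₁ * b₂)) * (a₁ * a₂ * (b₁ * b₂)) = 1 := by
    simp only [mul_assoc, a1', a2', b1', b2', a1, a2, b1, b2, c21, c21', d11, d11', d12, d12', d21, d21', d22, d22', e21, e21', mul_one]
  have q22 : (a₂ * b₂) * (a₂ * b₂) = 1 := by
    simp only [mul_assoc, a1', a2', b1', b2', a1, a2, b1, b2, c21, c21', d11, d11', d12, d12', d21, d21', d22, d22', e21, e21', mul_one]
  -- the pull backs
  obtain ⟨α, hα⟩ : ∃ f, κ f = ι a₁ := by
    have := P.pull (c := a₂ * b₁) (d := a₁ * a₂ * b₁)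
      (by simp only [hw, mul_assoc, a1', a2', b1', b2', a1, a2, b1, b2, c21, c21', d11, d11', d12, d12', d21, d21', d22, d22', e21, e21', mul_one])
      (by simp only [hw, mul_assoc, a1', a2', b1', b2', a1, a2, b1, b2, c21, c21', d11, d11', d12, d12', d21, d21', d22, d22', e21, e21', mul_one])
      (h8 _ q21 s21) (h8 _ q31 s31)
    have e : a₂ * b₁ * (a₁ * a₂ * b₁) = a₁ := by
      simp only [mul_assoc, a1', a2', b1', b2', a1, a2, b1, b2, c21, c21', d11, d11', d12, d12', d21, d21', d22, d22', e21, e21', mul_one]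
    rwa [e] at this
  obtain ⟨β, hβ⟩ : ∃ f, κ f = ι b₁ := by
    have := P.pull (c := a₁ * b₂) (d := a₁ * (b₁ * b₂))
      (by simp only [hw, mul_assoc, a1', a2', b1', b2', a1, a2, b1, b2, c21, c21', d11, d11', d12, d12', d21, d21', d22, d22', e21, e21', mul_one])
      (by simp only [hw, mul_assoc, a1', a2', b1', b2', a1, a2, b1, b2, c21, c21', d11, d11', d12, d12', d21, d21', d22, d22', e21, e21', mul_one])
      (h8 _ q12 s12) (h8 _ q13 s13)
    have e : a₁ * b₂ * (a₁ * (b₁ * b₂)) = b₁ := by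
      simp only [mul_assoc, a1', a2', b1', b2', a1, a2, b1, b2, c21, c21', d11, d11', d12, d12', d21, d21', d22, d22', e21, e21', mul_one]
    rwa [e] at this
  obtain ⟨α₂, hα₂⟩ : ∃ f, κ f = ι (a₂ * b₁) := by
    have := P.pull (c := a₁ * b₂) (d := a₁ * a₂ * (b₁ * b₂))
      (by simp only [hw, mul_assoc, a1', a2', b1', b2', a1, a2, b1, b2, c21, c21', d11, d11', d12, d12', d21, d21', d22, d22', e21, e21', mul_one])
      (by simp only [hw, mul_assoc, a1', a2', b1', b2', a1, a2, b1, b2, c21, c21', d11, d11', d12, d12', d21, d21', d22, d22', e21, e21', mul_one])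
      (h8 _ q12 s12) (h8 _ q33 s33)
    have e : a₁ * b₂ * (a₁ * a₂ * (b₁ * b₂)) = a₂ * b₁ := by
      simp only [mul_assoc, a1', a2', b1', b2', a1, a2, b1, b2, c21, c21', d11, d11', d12, d12', d21, d21', d22, d22', e21, e21', mul_one]
    rwa [e] at this
  obtain ⟨β₂, hβ₂⟩ : ∃ f, κ f = ι (a₁ * b₂) := by
    have := P.pull (c := a₂ * b₁) (d := a₁ * a₂ * (b₁ * b₂))
      (by simp only [hw, mul_assoc, a1', a2', b1', b2', a1, a2, b1, b2, c21, c21', d11, d11', d12, d12', d21, d21', d22, d22', e21, e21', mul_one])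
      (by simp only [hw, mul_assoc, a1', a2', b1', b2', a1, a2, b1, b2, c21, c21', d11, d11', d12, d12', d21, d21', d22, d22', e21, e21', mul_one])
      (h8 _ q21 s21) (h8 _ q33 s33)
    have e : a₂ * b₁ * (a₁ * a₂ * (b₁ * b₂)) = a₁ * b₂ := by
      simp only [mul_assoc, a1', a2', b1', b2', a1, a2, b1, b2, c21, c21', d11, d11', d12, d12', d21, d21', d22, d22', e21, e21', mul_one]
    rwa [e] at this
  -- the second view of `w`
  have hw' : κ (α * β) = ι w := by rw [map_mul, hα, hβ, ← map_mul, hw]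
  have hw1 : w ≠ 1 := by
    intro e
    rw [e] at s11
    simp at s11
  have sq' : ∀ {f f' : alternatingGroup Ω}, κ f' = ι f → f * f = 1 → f' * f' = 1 := by
    intro f f' hk hf
    apply P.hu.inj
    rw [map_mul, hk, ← map_mul, hf, map_one, map_one]
  have ne' : ∀ {f f' : alternatingGroup Ω}, κ f' = ι f → f ≠ 1 → (f' : Perm Ω).support.card ≠ 0 := by
    intro f f' hk hf h0
    rw [Finset.card_eq_zero, support_eq_empty_iff] at h0
    have : f' = 1 := Subtype.ext h0
    rw [this, map_one] at hk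
    apply hf
    apply P.ht.inj
    rw [← hk, map_one]
  have card8' : ∀ {f f' : alternatingGroup Ω}, κ f' = ι f → f * f = 1 → f ≠ 1 →
      IsConj t (t * ι (w * f)) → 8 ≤ (f' : Perm Ω).support.card := by
    intro f f' hk hf hf1 hd
    have h1 := four_dvd (coe_sq (sq' hk hf)) f'.2
    have h2 := ne' hk hf1
    have h3 : (f' : Perm Ω).support.card ≠ 4 := fun e => h4 f' (sq' hk hf) e ((P.inD_iff hk).2 hd)
    omega
  have hww' : 8 ≤ ((α * β : alternatingGroup Ω) : Perm Ω).support.card := by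
    apply card8' hw' ww hw1
    rw [ww, map_one, mul_one]
  -- the bound
  have hfxcomm : ∀ {f r : alternatingGroup Ω}, (∀ x, (w : Perm Ω) x = x → (f : Perm Ω) x = x) →
      Fx (w : Perm Ω) r → f * r = r * f := by
    intro f r hfx hr
    apply Subtype.ext
    apply comm_of_fix
    intro y
    by_cases hy : (w : Perm Ω) y = y
    · exact Or.inl (hfx y hy)
    · exact Or.inr (hr y hy)
  have hle : (w : Perm Ω).support.card ≤ ((α * β : alternatingGroup Ω) : Perm Ω).support.card := by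
    rw [s11]; exact hww'
  have fixall : 11 ≤ Fintype.card Ω → ∀ {f f' : alternatingGroup Ω}, κ f' = ι f → f * f = 1 →
      (∀ x, (w : Perm Ω) x = x → (f : Perm Ω) x = x) → ∀ x,
      ((α * β : alternatingGroup Ω) : Perm Ω) x = x → (f' : Perm Ω) x = x := by
    intro h11 f f' hk hf hfx x hx
    exact P.fix_of_comm hw' hw1 hle (by rw [s11]; norm_num) (by rw [s11]; omega) hk hf
      (fun r hr => hfxcomm hfx hr) hx
  have bound : ∀ {f f' : alternatingGroup Ω}, κ f' = ι f → f * f = 1 →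
      (11 ≤ Fintype.card Ω → ∀ x, (w : Perm Ω) x = x → (f : Perm Ω) x = x) →
      (f' : Perm Ω).support.card ≤ 8 := by
    intro f f' hk hf hfx
    rcases hn with hn | ⟨hn, -⟩
    · have h1 := four_dvd (coe_sq (sq' hk hf)) f'.2
      have h2 := Finset.card_le_univ (f' : Perm Ω).support
      omega
    · have hg := (P.gamma hw' hw1 hle (by rw [s11]; norm_num) (by rw [s11]; omega)).1
      rw [s11] at hg
      rw [← hg]
      apply Finset.card_le_card
      intro x hx
      rw [mem_support] at hx ⊢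
      intro hx'
      exact hx (fixall hn hk hf (hfx hn) x hx')
  have hfxw : ∀ f : alternatingGroup Ω, 11 ≤ Fintype.card Ω →
      (f = a₁ ∨ f = a₂ ∨ f = b₁ ∨ f = b₂ ∨ f = ρ) → ∀ x, (w : Perm Ω) x = x → (f : Perm Ω) x = x := by
    intro f h11 hf x hx
    rcases hn with hn | ⟨-, hn⟩
    · omega
    obtain ⟨k1, k2, k3, k4, k5⟩ := hn x hx
    rcases hf with rfl | rfl | rfl | rfl | rfl <;> assumption
  have fx_mul : ∀ {f g : alternatingGroup Ω},
      (11 ≤ Fintype.card Ω → ∀ x, (w : Perm Ω) x = x → (f : Perm Ω) x = x) →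
      (11 ≤ Fintype.card Ω → ∀ x, (w : Perm Ω) x = x → (g : Perm Ω) x = x) →
      (11 ≤ Fintype.card Ω → ∀ x, (w : Perm Ω) x = x → ((f * g : alternatingGroup Ω) : Perm Ω) x = x) := by
    intro f g k1 k2 h11 x hx
    show (f : Perm Ω) ((g : Perm Ω) x) = x
    rw [k2 h11 x hx, k1 h11 x hx]
  have fa1 := fun h11 => hfxw a₁ h11 (Or.inl rfl)
  have fa2 := fun h11 => hfxw a₂ h11 (Or.inr (Or.inl rfl))
  have fb1 := fun h11 => hfxw b₁ h11 (Or.inr (Or.inr (Or.inl rfl)))
  have fb2 := fun h11 => hfxw b₂ h11 (Or.inr (Or.inr (Or.inr (Or.inl rfl))))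
  have fρ := fun h11 => hfxw ρ h11 (Or.inr (Or.inr (Or.inr (Or.inr rfl))))
  have card4 : ∀ {f f' : alternatingGroup Ω}, κ f' = ι f → f * f = 1 →
      (11 ≤ Fintype.card Ω → ∀ x, (w : Perm Ω) x = x → (f : Perm Ω) x = x) →
      ((w * f : alternatingGroup Ω) : Perm Ω).support.card = 4 → f ≠ 1 → (w * f) * (w * f) = 1 →
      (f' : Perm Ω).support.card = 4 := by
    intro f f' hk hf hfx hwf hf1 hwf2
    have h1 := four_dvd (coe_sq (sq' hk hf)) f'.2
    have h2 := bound hk hf hfx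
    have h3 := ne' hk hf1
    have h5 : (f' : Perm Ω).support.card ≠ 8 := by
      intro e
      exact h4 _ hwf2 hwf ((P.inD_iff hk).1 (h8 f' (sq' hk hf) e))
    omega
  have card8 : ∀ {f f' : alternatingGroup Ω}, κ f' = ι f → f * f = 1 →
      (11 ≤ Fintype.card Ω → ∀ x, (w : Perm Ω) x = x → (f : Perm Ω) x = x) → f ≠ 1 →
      IsConj t (t * ι (w * f)) → (f' : Perm Ω).support.card = 8 := by
    intro f f' hk hf hfx hf1 hd
    exact le_antisymm (bound hk hf hfx) (card8' hk hf hf1 hd)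
  have ne1 : ∀ {f : alternatingGroup Ω}, (f : Perm Ω).support.card = 4 → f ≠ 1 := by
    rintro f h rfl
    simp at h
  have ne1' : ∀ {f : alternatingGroup Ω}, (f : Perm Ω).support.card = 8 → f ≠ 1 := by
    rintro f h rfl
    simp at h
  -- the six elements of type 2
  have k1 : (α : Perm Ω).support.card = 4 := by
    have e : w * a₁ = b₁ := by
      simp only [hw, mul_assoc, a1', a2', b1', b2', a1, a2, b1, b2, c21, c21', d11, d11', d12, d12', d21, d21', d22, d22', e21, e21', mul_one]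
    exact card4 hα a1 fa1 (by rw [e]; exact sb1) (ne1 sa1) (by rw [e]; exact b1)
  have k2 : (α₂ : Perm Ω).support.card = 4 := by
    have e : w * (a₂ * b₁) = a₁ * a₂ := by
      simp only [hw, mul_assoc, a1', a2', b1', b2', a1, a2, b1, b2, c21, c21', d11, d11', d12, d12', d21, d21', d22, d22', e21, e21', mul_one]
    exact card4 hα₂ q21 (fx_mul fa2 fb1) (by rw [e]; exact sa3) (ne1' s21) (by
      rw [e]
      simp only [mul_assoc, a1', a2', b1', b2', a1, a2, b1, b2, c21, c21', d11, d11', d12, d12', d21, d21', d22, d22', e21, e21', mul_one])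
  have k3 : ((α * α₂ : alternatingGroup Ω) : Perm Ω).support.card = 4 := by
    have e : w * (a₁ * (a₂ * b₁)) = a₂ := by
      simp only [hw, mul_assoc, a1', a2', b1', b2', a1, a2, b1, b2, c21, c21', d11, d11', d12, d12', d21, d21', d22, d22', e21, e21', mul_one]
    exact card4 (by rw [map_mul, hα, hα₂, ← map_mul]) (by
      simp only [mul_assoc, a1', a2', b1', b2', a1, a2, b1, b2, c21, c21', d11, d11', d12, d12', d21, d21', d22, d22', e21, e21', mul_one]) (fx_mul fa1 (fx_mul fa2 fb1))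
      (by rw [e]; exact sa2) (by rw [← mul_assoc]; exact ne1' s31) (by rw [e]; exact a2)
  have k4 : (β : Perm Ω).support.card = 4 := by
    have e : w * b₁ = a₁ := by
      simp only [hw, mul_assoc, a1', a2', b1', b2', a1, a2, b1, b2, c21, c21', d11, d11', d12, d12', d21, d21', d22, d22', e21, e21', mul_one]
    exact card4 hβ b1 fb1 (by rw [e]; exact sa1) (ne1 sb1) (by rw [e]; exact a1)
  have k5 : (β₂ : Perm Ω).support.card = 4 := by
    have e : w * (a₁ * b₂) = b₁ * b₂ := by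
      simp only [hw, mul_assoc, a1', a2', b1', b2', a1, a2, b1, b2, c21, c21', d11, d11', d12, d12', d21, d21', d22, d22', e21, e21', mul_one]
    exact card4 hβ₂ q12 (fx_mul fa1 fb2) (by rw [e]; exact sb3) (ne1' s12) (by
      rw [e]
      simp only [mul_assoc, a1', a2', b1', b2', a1, a2, b1, b2, c21, c21', d11, d11', d12, d12', d21, d21', d22, d22', e21, e21', mul_one])
  have k6 : ((β * β₂ : alternatingGroup Ω) : Perm Ω).support.card = 4 := by
    have e : w * (b₁ * (a₁ * b₂)) = b₂ := by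
      simp only [hw, mul_assoc, a1', a2', b1', b2', a1, a2, b1, b2, c21, c21', d11, d11', d12, d12', d21, d21', d22, d22', e21, e21', mul_one]
    have e2 : b₁ * (a₁ * b₂) = a₁ * (b₁ * b₂) := by
      simp only [mul_assoc, a1', a2', b1', b2', a1, a2, b1, b2, c21, c21', d11, d11', d12, d12', d21, d21', d22, d22', e21, e21', mul_one]
    exact card4 (by rw [map_mul, hβ, hβ₂, ← map_mul]) (by
      simp only [mul_assoc, a1', a2', b1', b2', a1, a2, b1, b2, c21, c21', d11, d11', d12, d12', d21, d21', d22, d22', e21, e21', mul_one]) (fx_mul fb1 (fx_mul fa1 fb2))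
      (by rw [e]; exact sb2) (by rw [e2]; exact ne1' s13) (by rw [e]; exact b2)
  -- four of the elements of type 4
  have m11 : ((α * β : alternatingGroup Ω) : Perm Ω).support.card = 8 := by
    refine card8 hw' ww (by rw [hw]; rw [hw] at fa1 fb1 fx_mul; exact fx_mul fa1 fb1) hw1 ?_
    rw [ww, map_one, mul_one]
  have m12 : ((α * β₂ : alternatingGroup Ω) : Perm Ω).support.card = 8 := by
    have e1 : a₁ * (a₁ * b₂) = b₂ := by
      simp only [mul_assoc, a1', a2', b1', b2', a1, a2, b1, b2, c21, c21', d11, d11', d12, d12', d21, d21', d22, d22', e21, e21', mul_one]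
    have e : w * b₂ = a₁ * (b₁ * b₂) := by
      simp only [hw, mul_assoc, a1', a2', b1', b2', a1, a2, b1, b2, c21, c21', d11, d11', d12, d12', d21, d21', d22, d22', e21, e21', mul_one]
    refine card8 (f := b₂) (by rw [map_mul, hα, hβ₂, ← map_mul, e1]) b2 fb2 (ne1 sb2) ?_
    rw [e]; exact h8 _ q13 s13
  have m21 : ((α₂ * β : alternatingGroup Ω) : Perm Ω).support.card = 8 := by
    have e1 : a₂ * b₁ * b₁ = a₂ := by
      simp only [mul_assoc, a1', a2', b1', b2', a1, a2, b1, b2, c21, c21', d11, d11', d12, d12', d21, d21', d22, d22', e21, e21', mul_one]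
    have e : w * a₂ = a₁ * a₂ * b₁ := by
      simp only [hw, mul_assoc, a1', a2', b1', b2', a1, a2, b1, b2, c21, c21', d11, d11', d12, d12', d21, d21', d22, d22', e21, e21', mul_one]
    refine card8 (f := a₂) (by rw [map_mul, hα₂, hβ, ← map_mul, e1]) a2 fa2 (ne1 sa2) ?_
    rw [e]; exact h8 _ q31 s31
  have m22 : ((α₂ * β₂ : alternatingGroup Ω) : Perm Ω).support.card = 8 := by
    have e1 : a₂ * b₁ * (a₁ * b₂) = a₁ * a₂ * (b₁ * b₂) := by
      simp only [mul_assoc, a1', a2', b1', b2', a1, a2, b1, b2, c21, c21', d11, d11', d12, d12', d21, d21', d22, d22', e21, e21', mul_one]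
    have e : w * (a₁ * a₂ * (b₁ * b₂)) = a₂ * b₂ := by
      simp only [hw, mul_assoc, a1', a2', b1', b2', a1, a2, b1, b2, c21, c21', d11, d11', d12, d12', d21, d21', d22, d22', e21, e21', mul_one]
    refine card8 (f := a₁ * a₂ * (b₁ * b₂)) (by rw [map_mul, hα₂, hβ₂, ← map_mul, e1]) q33
      (fx_mul (fx_mul fa1 fa2) (fx_mul fb1 fb2)) (ne1' s33) ?_
    rw [e]; exact h8 _ q22 s22
  -- the rotations
  have cA : α * α₂ = α₂ * α := P.comm_of_comm hα hα₂ (by
      simp only [mul_assoc, a1', a2', b1', b2', a1, a2, b1, b2, c21, c21', d11, d11', d12, d12', d21, d21', d22, d22', e21, e21', mul_one])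
  have cB : β * β₂ = β₂ * β := P.comm_of_comm hβ hβ₂ (by
      simp only [mul_assoc, a1', a2', b1', b2', a1, a2, b1, b2, c21, c21', d11, d11', d12, d12', d21, d21', d22, d22', e21, e21', mul_one])
  obtain ⟨rA, rA1, rA2, rA3, rA4⟩ := exists_rot (coe_sq (sq' hα a1)) (coe_sq (sq' hα₂ q21))
    (coe_comm cA) k1 k2 k3
  obtain ⟨rB, rB1, rB2, rB3, rB4⟩ := exists_rot (coe_sq (sq' hβ b1)) (coe_sq (sq' hβ₂ q12))
    (coe_comm cB) k4 k5 k6
  have D11 := disj_of_card (σ := (α : Perm Ω)) (τ := (β : Perm Ω)) (by rw [k1, k4]; exact m11)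
  have D12 := disj_of_card (σ := (α : Perm Ω)) (τ := (β₂ : Perm Ω)) (by rw [k1, k5]; exact m12)
  have D21 := disj_of_card (σ := (α₂ : Perm Ω)) (τ := (β : Perm Ω)) (by rw [k2, k4]; exact m21)
  have D22 := disj_of_card (σ := (α₂ : Perm Ω)) (τ := (β₂ : Perm Ω)) (by rw [k2, k5]; exact m22)
  have nd : ∀ {σ τ : Perm Ω}, Disjoint σ.support τ.support → ∀ x, σ x ≠ x → τ x = x := by
    intro σ τ hd x hx
    by_contra hne
    exact Finset.disjoint_left.1 hd (mem_support.2 hx) (mem_support.2 hne)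
  have cAβ : (rA : Perm Ω) * β = β * rA := by
    apply comm_of_fix
    intro x
    by_cases hx : (β : Perm Ω) x = x
    · exact Or.inr hx
    · left
      apply rA4
      · by_contra hne; exact hx (nd D11 x hne)
      · by_contra hne; exact hx (nd D21 x hne)
  have cAβ₂ : (rA : Perm Ω) * β₂ = β₂ * rA := by
    apply comm_of_fix
    intro x
    by_cases hx : (β₂ : Perm Ω) x = x
    · exact Or.inr hx
    · left
      apply rA4
      · by_contra hne; exact hx (nd D12 x hne)
      · by_contra hne; exact hx (nd D22 x hne)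
  have cBα : (rB : Perm Ω) * α = α * rB := by
    apply comm_of_fix
    intro x
    by_cases hx : (α : Perm Ω) x = x
    · exact Or.inr hx
    · left
      apply rB4
      · exact nd D11 x hx
      · exact nd D12 x hx
  have cBα₂ : (rB : Perm Ω) * α₂ = α₂ * rB := by
    apply comm_of_fix
    intro x
    by_cases hx : (α₂ : Perm Ω) x = x
    · exact Or.inr hx
    · left
      apply rB4
      · exact nd D21 x hx
      · exact nd D22 x hx
  set RA : alternatingGroup Ω := ⟨rA, rA1⟩ with hRA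
  set RB : alternatingGroup Ω := ⟨rB, rB1⟩ with hRB
  have A1 : RA * α = α₂ * RA := Subtype.ext (by
    show rA * (α : Perm Ω) = α₂ * rA
    rw [← rA2]; group)
  have A2 : RA * α₂ = (α * α₂) * RA := Subtype.ext (by
    show rA * (α₂ : Perm Ω) = (α * α₂ : Perm Ω) * rA
    rw [← rA3]; group)
  have A3 : RA * β = β * RA := Subtype.ext cAβ
  have A4 : RA * β₂ = β₂ * RA := Subtype.ext cAβ₂
  have B1 : RB * α = α * RB := Subtype.ext cBα
  have B2 : RB * α₂ = α₂ * RB := Subtype.ext cBα₂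
  have B3 : RB * β = β₂ * RB := Subtype.ext (by
    show rB * (β : Perm Ω) = β₂ * rB
    rw [← rB2]; group)
  have B4 : RB * β₂ = (β * β₂) * RB := Subtype.ext (by
    show rB * (β₂ : Perm Ω) = (β * β₂ : Perm Ω) * rB
    rw [← rB3]; group)
  -- the word
  have tr : ∀ {R X Y X' Y' : alternatingGroup Ω}, κ X' = ι X → κ Y' = ι Y → R * X' = Y' * R →
      κ R * ι X = ι Y * κ R := by
    intro R X Y X' Y' hX hY hR
    rw [← hX, ← hY, ← map_mul, ← map_mul, hR]
  have hαα₂ : κ (α * α₂) = ι (a₁ * a₂ * b₁) := by rw [map_mul, hα, hα₂, ← map_mul, mul_assoc]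
  have hββ₂ : κ (β * β₂) = ι (a₁ * b₁ * b₂) := by
    rw [map_mul, hβ, hβ₂, ← map_mul]
    congr 1
    rw [← mul_assoc, d11]
  have iu : t * ι w = t * (ι a₁ * ι b₁) := by rw [hw, map_mul]
  obtain ⟨w1, w2, w3, w4, w5⟩ := word (t := t) (A1 := ι a₁) (A2 := ι a₂) (B1 := ι b₁) (B2 := ι b₂)
    (RA := κ RA) (RB := κ RB) (R2 := ι ρ)
    (by rw [← map_mul, a1, map_one]) (by rw [← map_mul, a2, map_one]) (by rw [← map_mul, b1, map_one])
    (by rw [← map_mul, b2, map_one]) (by rw [← map_mul, c21, map_mul]) (by rw [← map_mul, d11, map_mul])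
    (by rw [← map_mul, d12, map_mul]) (by rw [← map_mul, d21, map_mul]) (by rw [← map_mul, d22, map_mul])
    (by rw [← map_mul, e21, map_mul])
    (by rw [← iu]; exact (P.hu.comm RA).symm)
    (by rw [← map_mul]; exact tr hα hα₂ A1)
    (by rw [← map_mul, ← map_mul, ← map_mul]; exact tr hα₂ hαα₂ A2)
    (tr hβ hβ A3)
    (by rw [← map_mul]; exact tr hβ₂ hβ₂ A4)
    (by rw [← iu]; exact (P.hu.comm RB).symm)
    (tr hα hα B1)
    (by rw [← map_mul]; exact tr hα₂ hα₂ B2)
    (by rw [← map_mul]; exact tr hβ hβ₂ B3)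
    (by rw [← map_mul, ← map_mul, ← map_mul]; exact tr hβ₂ hββ₂ B4)
    (P.ht.comm ρ).symm
    (by rw [← map_mul, ← map_mul, q2]) (by rw [← map_mul, ← map_mul, q3])
    (by rw [← map_mul, ← map_mul, q4]) (by rw [← map_mul, ← map_mul, ← map_mul, q5])
  -- commutation with the alternating group on `Fix w`
  have hcr : 11 ≤ Fintype.card Ω → ∀ r : alternatingGroup Ω, Fx (w : Perm Ω) r →
      ((κ RB)⁻¹ * κ RA * ι ρ * κ RA) * ι r = ι r * ((κ RB)⁻¹ * κ RA * ι ρ * κ RA) := by
    intro h11 r hr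
    obtain ⟨r', hr', hfr'⟩ := P.exists_pull hw' hw1 (by omega) hr
    have hA : RA * r' = r' * RA := by
      apply Subtype.ext
      apply comm_of_fix
      intro x
      by_cases hx : ((α * β : alternatingGroup Ω) : Perm Ω) x = x
      · left
        apply rA4
        · exact fixall h11 hα a1 (fa1 h11) x hx
        · exact fixall h11 hα₂ q21 (fx_mul fa2 fb1 h11) x hx
      · exact Or.inr (hfr' x hx)
    have hB : RB * r' = r' * RB := by
      apply Subtype.ext
      apply comm_of_fix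
      intro x
      by_cases hx : ((α * β : alternatingGroup Ω) : Perm Ω) x = x
      · left
        apply rB4
        · exact fixall h11 hβ b1 (fb1 h11) x hx
        · exact fixall h11 hβ₂ q12 (fx_mul fa1 fb2 h11) x hx
      · exact Or.inr (hfr' x hx)
    have hA' : SemiconjBy (κ RA) (ι r) (ι r) := tr hr' hr' hA
    have hB' : SemiconjBy (κ RB) (ι r) (ι r) := tr hr' hr' hB
    have hρ' : SemiconjBy (ι ρ) (ι r) (ι r) := by
      show ι ρ * ι r = ι r * ι ρ
      rw [← map_mul, ← map_mul, hfxcomm (fρ h11) hr]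
    exact (((SemiconjBy.inv_symm_left_iff.2 hB').mul_left hA').mul_left hρ').mul_left hA'
  obtain ⟨x, hx⟩ : ∃ x, x = (κ RB)⁻¹ * κ RA * ι ρ * κ RA := ⟨_, rfl⟩
  rw [← hx] at w1 w2 w3 w4 w5 hcr
  have strip : ∀ {c X Y : alternatingGroup Ω}, (x = ι c ∨ x = t * ι c) → x * ι X = ι Y * x →
      c * X = Y * c := by
    rintro c X Y (hc | hc) hXY
    · apply P.ht.inj
      rw [map_mul, map_mul, ← hc, hXY]
    · apply P.ht.inj
      rw [map_mul, map_mul]
      apply mul_left_cancel (a := t)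
      rw [hc] at hXY
      calc t * (ι c * ι X) = t * ι c * ι X := by group
        _ = ι Y * (t * ι c) := hXY
        _ = (ι Y * t) * ι c := by group
        _ = (t * ι Y) * ι c := by rw [P.ht.comm]
        _ = t * (ι Y * ι c) := by group
  obtain ⟨c, hc⟩ : ∃ c, x = ι c ∨ x = t * ι c := by
    rcases P.ht.cent x w1 with ⟨a, ha⟩ | ⟨a, ha⟩
    · exact ⟨a, Or.inl ha⟩
    · exact ⟨a, Or.inr ha⟩
  refine ⟨c, strip hc w2, strip hc ?_, strip hc w4, strip hc w5, fun h11 r hr => strip hc (hcr h11 r hr)⟩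
  rw [map_mul]
  exact w3

end Cfsg.Agent.OddHalf.D5.CleanTwo
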