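import Cfsg.Agent.OddHalf.D5.CTPerm

/-!
# ODD D5, clean case: the two views (helper522)

`Spl t ι` : `C_G(t) = ⟨t⟩ × ι(Alt Ω)`. `Pair t ι w κ` : moreover `u = t ι(w)` is conjugate to `t` and `κ` is the
corresponding embedding for `u`; no conjugate of `t` lies in `ι(Alt Ω)`.

`Pair.gamma`: the alternating group on the fixed points of `w` is the same for `t` and for `u`.
-/

set_option autoImplicit false

namespace Cfsg.Agent.OddHalf.D5.CleanTwo

open Equiv Equiv.Perm

variable {G : Type*} [Group G] {Ω : Type*} [Fintype Ω] [DecidableEq Ω]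

/-- `C_G(t) = ⟨t⟩ × ι(Alt Ω)`. -/
structure Spl (t : G) (ι : alternatingGroup Ω →* G) : Prop where
  tt : t * t = 1
  inj : Function.Injective ι
  comm : ∀ a, t * ι a = ι a * t
  cent : ∀ g, g * t = t * g → (∃ a, g = ι a) ∨ ∃ a, g = t * ι a
  ne : ∀ a, ι a ≠ t

theorem Spl.conj {t : G} {ι : alternatingGroup Ω →* G} (h : Spl t ι) (x : G) :
    Spl (x * t * x⁻¹) ((MulAut.conj x).toMonoidHom.comp ι) where
  tt := by
    calc x * t * x⁻¹ * (x * t * x⁻¹) = x * (t * t) * x⁻¹ := by group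
      _ = 1 := by rw [h.tt]; group
  inj := (MulAut.conj x).injective.comp h.inj
  comm := by
    intro a
    show x * t * x⁻¹ * (x * ι a * x⁻¹) = x * ι a * x⁻¹ * (x * t * x⁻¹)
    calc x * t * x⁻¹ * (x * ι a * x⁻¹) = x * (t * ι a) * x⁻¹ := by group
      _ = x * (ι a * t) * x⁻¹ := by rw [h.comm a]
      _ = x * ι a * x⁻¹ * (x * t * x⁻¹) := by group
  cent := by
    intro g hg
    have h1 : (x⁻¹ * g * x) * t = t * (x⁻¹ * g * x) := by
      calc (x⁻¹ * g * x) * t = x⁻¹ * (g * (x * t * x⁻¹)) * x := by group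
        _ = x⁻¹ * (x * t * x⁻¹ * g) * x := by rw [hg]
        _ = t * (x⁻¹ * g * x) := by group
    rcases h.cent _ h1 with ⟨a, ha⟩ | ⟨a, ha⟩
    · left
      refine ⟨a, ?_⟩
      show g = x * ι a * x⁻¹
      rw [← ha]; group
    · right
      refine ⟨a, ?_⟩
      show g = x * t * x⁻¹ * (x * ι a * x⁻¹)
      calc g = x * (x⁻¹ * g * x) * x⁻¹ := by group
        _ = x * t * x⁻¹ * (x * ι a * x⁻¹) := by rw [ha]; group
  ne := by
    intro a e
    apply h.ne a
    have e' : x * ι a * x⁻¹ = x * t * x⁻¹ := e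
    exact mul_left_cancel (mul_right_cancel e')

/-- Conjugacy only depends on the number of moved points. -/
theorem Spl.inD_iff {t : G} {ι : alternatingGroup Ω →* G} (h : Spl t ι) {a b : alternatingGroup Ω}
    (ha : a * a = 1) (hb : b * b = 1) (hab : (a : Perm Ω).support.card = (b : Perm Ω).support.card) :
    IsConj t (t * ι a) → IsConj t (t * ι b) := by
  intro hc
  obtain ⟨c, hc'⟩ := conj_alt ha hb hab
  refine hc.trans (isConj_iff.2 ⟨ι c, ?_⟩)
  rw [← hc', map_mul, map_mul, map_inv]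
  calc ι c * (t * ι a) * (ι c)⁻¹ = (ι c * t) * ι a * (ι c)⁻¹ := by group
    _ = (t * ι c) * ι a * (ι c)⁻¹ := by rw [h.comm]
    _ = t * (ι c * ι a * (ι c)⁻¹) := by group

/-- If `t ι(a)` is conjugate to `t`, then `a² = 1`. -/
theorem Spl.sq_of_inD {t : G} {ι : alternatingGroup Ω →* G} (h : Spl t ι) {a : alternatingGroup Ω}
    (ha : IsConj t (t * ι a)) : a * a = 1 := by
  obtain ⟨g, hg⟩ := isConj_iff.1 ha
  have h1 : (t * ι a) * (t * ι a) = 1 := by
    rw [← hg]
    calc g * t * g⁻¹ * (g * t * g⁻¹) = g * (t * t) * g⁻¹ := by group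
      _ = 1 := by rw [h.tt]; group
  apply h.inj
  rw [map_mul, map_one, ← h1]
  calc ι a * ι a = (t * t) * ι a * ι a := by rw [h.tt, one_mul]
    _ = t * (t * ι a) * ι a := by group
    _ = t * (ι a * t) * ι a := by rw [h.comm]
    _ = (t * ι a) * (t * ι a) := by group

/-- The two views. -/
structure Pair (t : G) (ι : alternatingGroup Ω →* G) (w : alternatingGroup Ω)
    (κ : alternatingGroup Ω →* G) : Prop where
  ht : Spl t ι
  hu : Spl (t * ι w) κ
  ww : w * w = 1
  iff : ∀ c, IsConj t (t * ι c) ↔ IsConj t (t * ι w * κ c)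
  hK : ∀ c, ¬ IsConj t (ι c)
  hK' : ∀ c, ¬ IsConj t (κ c)

theorem Spl.exists_pair {t : G} {ι : alternatingGroup Ω →* G} (h : Spl t ι) (hK : ∀ c, ¬ IsConj t (ι c))
    {w : alternatingGroup Ω} (hw : IsConj t (t * ι w)) : ∃ κ : alternatingGroup Ω →* G, Pair t ι w κ := by
  obtain ⟨g, hg⟩ := isConj_iff.1 hw
  refine ⟨(MulAut.conj g).toMonoidHom.comp ι, ⟨h, ?_, h.sq_of_inD hw, ?_, hK, ?_⟩⟩
  · rw [← hg]
    exact h.conj g
  · intro c
    have e : t * ι w * ((MulAut.conj g).toMonoidHom.comp ι) c = g * (t * ι c) * g⁻¹ := by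
      rw [← hg]
      show g * t * g⁻¹ * (g * ι c * g⁻¹) = _
      group
    rw [e]
    have h1 : IsConj (t * ι c) (g * (t * ι c) * g⁻¹) := isConj_iff.2 ⟨g, rfl⟩
    exact ⟨fun h2 => h2.trans h1, fun h2 => h2.trans h1.symm⟩
  · intro c hc
    apply hK c
    have h1 : IsConj (ι c) (((MulAut.conj g).toMonoidHom.comp ι) c) := isConj_iff.2 ⟨g, rfl⟩
    exact hc.trans h1.symm

namespace Pair

variable {t : G} {ι κ : alternatingGroup Ω →* G} {w : alternatingGroup Ω}

/-- an element of `ι(Alt Ω)` commuting with `w` commutes with `u` -/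
theorem comm_u (P : Pair t ι w κ) {f : alternatingGroup Ω} (hf : f * w = w * f) :
    ι f * (t * ι w) = (t * ι w) * ι f := by
  calc ι f * (t * ι w) = (ι f * t) * ι w := by group
    _ = t * ι f * ι w := by rw [P.ht.comm]
    _ = t * ι (f * w) := by rw [map_mul]; group
    _ = (t * ι w) * ι f := by rw [hf, map_mul]; group

/-- the hyperplane argument -/
theorem pull (P : Pair t ι w κ) {c d : alternatingGroup Ω} (hc : c * w = w * c) (hd : d * w = w * d)
    (hc' : IsConj t (t * ι c)) (hd' : IsConj t (t * ι d)) : ∃ f, κ f = ι (c * d) := by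
  have hcc := P.ht.sq_of_inD hc'
  have h1 : (t * ι c) * (t * ι w) = (t * ι w) * (t * ι c) := by
    calc (t * ι c) * (t * ι w) = t * (ι c * (t * ι w)) := by group
      _ = t * (t * ι w * ι c) := by rw [P.comm_u hc]
      _ = t * (t * ι w) * ι c := by group
      _ = t * (ι w * t) * ι c := by rw [P.ht.comm]
      _ = (t * ι w) * (t * ι c) := by group
  have h2 : (t * ι d) * (t * ι w) = (t * ι w) * (t * ι d) := by
    calc (t * ι d) * (t * ι w) = t * (ι d * (t * ι w)) := by group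
      _ = t * (t * ι w * ι d) := by rw [P.comm_u hd]
      _ = t * (t * ι w) * ι d := by group
      _ = t * (ι w * t) * ι d := by rw [P.ht.comm]
      _ = (t * ι w) * (t * ι d) := by group
  rcases P.hu.cent _ h1 with ⟨a, ha⟩ | ⟨a, ha⟩
  · exact absurd (ha ▸ hc') (P.hK' a)
  rcases P.hu.cent _ h2 with ⟨b, hb⟩ | ⟨b, hb⟩
  · exact absurd (hb ▸ hd') (P.hK' b)
  refine ⟨a * b, ?_⟩
  rw [map_mul, map_mul]
  symm
  calc ι c * ι d = (ι c * t) * (t * ι d) := by
        calc ι c * ι d = ι c * (t * t) * ι d := by rw [P.ht.tt, mul_one]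
          _ = _ := by group
    _ = (t * ι c) * (t * ι d) := by rw [← P.ht.comm c]
    _ = (t * ι w * κ a) * (t * ι w * κ b) := by rw [ha, hb]
    _ = (κ a * (t * ι w)) * (t * ι w * κ b) := by rw [P.hu.comm]
    _ = κ a * ((t * ι w) * (t * ι w)) * κ b := by group
    _ = κ a * κ b := by rw [P.hu.tt, mul_one]

/-- elements of order 3 -/
theorem pull3 (P : Pair t ι w κ) {c : alternatingGroup Ω} (hc : c * w = w * c)
    (h3 : c * c * c = 1) : ∃ f, κ f = ι c := by
  rcases P.hu.cent _ (P.comm_u hc) with ⟨a, ha⟩ | ⟨a, ha⟩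
  · exact ⟨a, ha.symm⟩
  refine ⟨a * a * (a * a), ?_⟩
  have h4 : c = (c * c) * (c * c) := by
    calc c = c * c * c * c := by rw [h3, one_mul]
      _ = (c * c) * (c * c) := by group
  have h2 : ι c * ι c = κ (a * a) := by
    rw [ha, map_mul]
    calc t * ι w * κ a * (t * ι w * κ a) = t * ι w * (κ a * (t * ι w)) * κ a := by group
      _ = t * ι w * (t * ι w * κ a) * κ a := by rw [← P.hu.comm]
      _ = (t * ι w) * (t * ι w) * (κ a * κ a) := by group
      _ = κ a * κ a := by rw [P.hu.tt, one_mul]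
  conv_rhs => rw [h4, map_mul, map_mul, h2]
  rw [map_mul]

/-- types in the second view -/
theorem inD_iff (P : Pair t ι w κ) {f f' : alternatingGroup Ω} (h : κ f' = ι f) :
    IsConj t (t * ι f') ↔ IsConj t (t * ι (w * f)) := by
  rw [P.iff, h, map_mul, mul_assoc]

/-- pull backs commute -/
theorem comm_of_comm (P : Pair t ι w κ) {f f' g g' : alternatingGroup Ω} (h : κ f' = ι f)
    (h' : κ g' = ι g) (hfg : f * g = g * f) : f' * g' = g' * f' := by
  apply P.hu.inj
  rw [map_mul, map_mul, h, h', ← map_mul, ← map_mul, hfg]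

theorem comm_w (P : Pair t ι w κ) {f f' w' : alternatingGroup Ω} (hw' : κ w' = ι w) (h : κ f' = ι f) :
    f * w = w * f := by
  have h1 : f' * w' = w' * f' := by
    apply P.hu.inj
    have h2 := P.hu.comm f'
    have h3 := P.ht.comm f
    rw [map_mul, map_mul, hw', h]
    rw [h] at h2
    -- (t ι w) ι f = ι f (t ι w)
    have h4 : t * (ι w * ι f) = t * (ι f * ι w) := by
      calc t * (ι w * ι f) = t * ι w * ι f := by group
        _ = ι f * (t * ι w) := h2
        _ = (ι f * t) * ι w := by group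
        _ = (t * ι f) * ι w := by rw [h3]
        _ = t * (ι f * ι w) := by group
    exact (mul_left_cancel h4).symm
  apply P.ht.inj
  have h2 := congrArg κ h1
  rw [map_mul, map_mul, h, hw', ← map_mul, ← map_mul] at h2
  exact h2

end Pair

end Cfsg.Agent.OddHalf.D5.CleanTwo
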