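import Cfsg.Agent.OddHalf.D5.DblCentB

/-!
# ODD D5, `C_G(t) = ⟨t⟩ × Alt(α)`, `|α| ≥ 9`, `t ~ t r` for a root `r`: the elements `y_r` (helper845)

`cj x g = g⁻¹ x g`.
-/

set_option autoImplicit false
set_option linter.unusedSectionVars false

namespace Cfsg.Agent.OddHalf.D5.Dbl

open Equiv

section Cj

variable {G H : Type*} [Group G] [Group H]

/-- conjugation on the right -/
def cj (x g : G) : G := g⁻¹ * x * g

theorem cj_mul (x y g : G) : cj (x * y) g = cj x g * cj y g := by simp only [cj]; group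

theorem cj_comp (x g h : G) : cj x (g * h) = cj (cj x g) h := by simp only [cj]; group

theorem cj_inv (x g : G) : cj x⁻¹ g = (cj x g)⁻¹ := by simp only [cj]; group

theorem cj_one (x : G) : cj x 1 = x := by simp only [cj]; group

theorem one_cj (g : G) : cj 1 g = 1 := by simp only [cj]; group

theorem cj_cancel (x g : G) : cj (cj x g) g⁻¹ = x := by simp only [cj]; group

theorem cj_cancel' (x g : G) : cj (cj x g⁻¹) g = x := by simp only [cj]; group

theorem cj_inj {x y g : G} (h : cj x g = cj y g) : x = y := by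
  rw [← cj_cancel x g, h, cj_cancel]

theorem cj_self_iff {x g : G} : cj x g = x ↔ x * g = g * x := by
  rw [cj, mul_assoc, inv_mul_eq_iff_eq_mul]

theorem cj_eq {x g : G} (h : x * g = g * x) : cj x g = x := cj_self_iff.2 h

theorem cj_eq_iff {x y g : G} : cj x g = y ↔ x * g = g * y := by
  rw [cj, mul_assoc, inv_mul_eq_iff_eq_mul]

theorem map_cj (f : G →* H) (x g : G) : f (cj x g) = cj (f x) (f g) := by
  simp only [cj, map_mul, map_inv]

theorem isConj_cj (x g : G) : IsConj x (cj x g) := by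
  rw [isConj_iff]
  exact ⟨g⁻¹, by rw [cj, inv_inv]⟩

end Cj

variable {α : Type*} [Fintype α] [DecidableEq α] {G : Type*} [Group G]

/-- `C_G(t) = ⟨t⟩ × ι(Alt(α))`, `|α| ≥ 9`, and `t` is not conjugate into `ι(Alt(α))` -/
structure Cl (t : G) (ι : alternatingGroup α →* G) : Prop where
  h9 : 9 ≤ Fintype.card α
  tt : t * t = 1
  inj : Function.Injective ι
  comm : ∀ a, t * ι a = ι a * t
  cent : ∀ g, g * t = t * g → ∃ a, g = ι a ∨ g = t * ι a
  ne : ∀ a, ι a ≠ t
  hK : ∀ a, ¬ IsConj t (ι a)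

/-- the four elements of `V_B` -/
def VB (m : alternatingGroup (Fin 9)) : Prop :=
  m = 1 ∨ m = dt 0 1 2 3 ∨ m = dt 0 2 1 3 ∨ m = dt 0 3 1 2

/-- elements of `L_B` of order 1 or 3 -/
def LB (v : Fin 9 ↪ α) (l : alternatingGroup α) : Prop :=
  l * l * l = 1 ∧ ∀ i : Fin 9, i < 4 → (l : Perm α) (v i) = v i

/-- permutations of the first letters commute with permutations fixing these -/
theorem comm_fix (v : Fin 9 ↪ α) {l : alternatingGroup α}
    (hl : ∀ i : Fin 9, i < 4 → (l : Perm α) (v i) = v i) {m : alternatingGroup (Fin 9)}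
    (hm : ∀ i : Fin 9, 4 ≤ i → (m : Perm (Fin 9)) i = i) : emb v m * l = l * emb v m := by
  apply Subtype.ext
  apply Equiv.ext
  intro x
  show (emb v m : Perm α) ((l : Perm α) x) = (l : Perm α) ((emb v m : Perm α) x)
  have hfix : ∀ x, (∀ i : Fin 9, i < 4 → v i ≠ x) → (emb v m : Perm α) x = x := by
    intro x hx
    by_cases hr : x ∈ Set.range v
    · obtain ⟨i, rfl⟩ := hr
      rw [emb_apply, hm]
      by_contra hc
      exact hx i (not_le.1 hc) rfl
    · exact emb_notMem v _ hr
  by_cases hx : ∀ i : Fin 9, i < 4 → v i ≠ x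
  · rw [hfix x hx, hfix]
    intro i hi e
    rw [← hl i hi] at e
    exact hx i hi ((l : Perm α).injective e)
  · push Not at hx
    obtain ⟨i, hi, rfl⟩ := hx
    have : (m : Perm (Fin 9)) i < 4 := by
      by_contra hc
      have h1 := hm _ (not_lt.1 hc)
      have h2 := (m : Perm (Fin 9)).injective h1
      rw [h2] at hc
      exact hc hi
    rw [hl i hi, emb_apply, hl _ this]

/-- an element of order 3 commuting with `(01)(23)` fixes `0, 1, 2, 3` -/
theorem fix_of_cube (v : Fin 9 ↪ α) {a : alternatingGroup α} (h3 : a * a * a = 1)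
    (hr : emb v (dt 0 1 2 3) * a = a * emb v (dt 0 1 2 3)) :
    ∀ i : Fin 9, i < 4 → (a : Perm α) (v i) = v i := by
  have hne : ∀ i j : Fin 9, i ≠ j → v i ≠ v j := fun i j h => v.injective.ne h
  have hmem : ∀ i : Fin 4, ∃ j : Fin 4, (a : Perm α) (v (Fin.castLE (by decide) i)) =
      v (Fin.castLE (by decide) j) := by
    intro i
    have h1 := (mem_iff_of_comm (k := a) (a := v 0) (b := v 1) (c := v 2) (d := v 3)
      (nodup4 (hne _ _ (by decide)) (hne _ _ (by decide)) (hne _ _ (by decide)) (hne _ _ (by decide))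
        (hne _ _ (by decide)) (hne _ _ (by decide)))
      (by rw [← emb_dt v (by decide) (by decide)]; exact hr) (v (Fin.castLE (by decide) i))).2 (by
        have : i = 0 ∨ i = 1 ∨ i = 2 ∨ i = 3 := by revert i; decide
        rcases this with rfl | rfl | rfl | rfl
        · exact Or.inl rfl
        · exact Or.inr (Or.inl rfl)
        · exact Or.inr (Or.inr (Or.inl rfl))
        · exact Or.inr (Or.inr (Or.inr rfl)))
    rcases h1 with e | e | e | e
    · exact ⟨0, e⟩
    · exact ⟨1, e⟩
    · exact ⟨2, e⟩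
    · exact ⟨3, e⟩
  choose f hf using hmem
  have inj4 : ∀ i j : Fin 4, v (Fin.castLE (by decide) i) = v (Fin.castLE (by decide) j) → i = j := by
    intro i j h
    exact Fin.castLE_injective _ (v.injective h)
  have h1 : ∀ i : Fin 4, f (swap 0 1 (swap 2 3 i)) = swap 0 1 (swap 2 3 (f i)) := by
    intro i
    apply inj4
    have h2 := apply_comm hr (v (Fin.castLE (by decide) i))
    rw [emb_apply, hf, emb_apply] at h2
    have e : ∀ i : Fin 4, ((dt 0 1 2 3 : alternatingGroup (Fin 9)) : Perm (Fin 9))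
        (Fin.castLE (by decide) i) = Fin.castLE (by decide) (swap (0 : Fin 4) 1 (swap 2 3 i)) := by
      decide
    rw [e, e, hf] at h2
    exact h2
  have h2 : ∀ i : Fin 4, f (f (f i)) = i := by
    intro i
    apply inj4
    rw [← hf, ← hf, ← hf]
    exact congrArg (fun g : alternatingGroup α => (g : Perm α) (v (Fin.castLE (by decide) i))) h3
  have h4 : ∀ f : Fin 4 → Fin 4, (∀ i : Fin 4, f (swap 0 1 (swap 2 3 i)) = swap 0 1 (swap 2 3 (f i))) →
      (∀ i : Fin 4, f (f (f i)) = i) → ∀ i, f i = i := by decide +kernel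
  have h5 := h4 f h1 h2
  intro i hi
  have h6 : ∀ i : Fin 9, i < 4 → ∃ j : Fin 4, i = Fin.castLE (by decide) j := by decide
  obtain ⟨j, rfl⟩ := h6 i hi
  rw [hf, h5]

end Cfsg.Agent.OddHalf.D5.Dbl
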