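import Cfsg.Agent.OddHalf.D5.SymEnd
import Cfsg.Agent.OddHalf.D5.DblBase

/-!
# ODD D5, clean group: the end (helper684)

`C_G(t) = ⟨t⟩ × ι(Alt(α))`; `K₁` commutes with `K₁^t` and `{x x^t | x ∈ K₁} = ι(Alt(α))`: then `t` is not in the
commutator subgroup.
-/

set_option autoImplicit false

namespace Cfsg.Agent.OddHalf.D5.Dbl

open Equiv

variable {G : Type*} [Group G] [Finite G] {α : Type*} [Fintype α] [DecidableEq α] {t : G}
  {ι : alternatingGroup α →* G}

theorem clean_end (C : Cl t ι) (K₁ : Subgroup G)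
    (comm : ∀ x ∈ K₁, ∀ y ∈ K₁, x * (t * y * t) = (t * y * t) * x)
    (map : ∀ x ∈ K₁, ∃ a, x * (t * x * t) = ι a)
    (onto : ∀ a, ∃ x ∈ K₁, x * (t * x * t) = ι a)
    (norm : ∀ a, ∀ x ∈ K₁, ι a * x * (ι a)⁻¹ ∈ K₁) : ∃ m : G →* ℤˣ, m t = -1 := by
  classical
  set n := Fintype.card α with hn
  have hn6 : 6 ≤ n := by have := C.h9; omega
  let E : An n ≃* alternatingGroup α := (Fintype.equivFin α).altCongrHom.symm
  let j : An n →* G := ι.comp E.toMonoidHom
  have hj : ∀ a, j a = ι (E a) := fun _ => rfl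
  have hs : ∀ a, ι a = j (E.symm a) := fun a => by rw [hj, E.apply_symm_apply]
  have h : Spl t (An n) j :=
    { tt := C.tt
      t1 := fun e => C.ne 1 (by rw [map_one, e])
      inj := C.inj.comp E.injective
      comm := fun a => C.comm _
      cent := by
        intro g hg
        obtain ⟨a, ha | ha⟩ := C.cent g hg
        · exact Or.inl ⟨E.symm a, by rw [ha, hs]⟩
        · exact Or.inr ⟨E.symm a, by rw [ha, hs]⟩
      ne := fun a => C.ne _ }
  have H : SymEnd.Two t j K₁ :=
    { comm := comm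
      map := by
        intro x hx
        obtain ⟨a, ha⟩ := map x hx
        exact ⟨E.symm a, (E.symm a).2, by rw [ha, hs]⟩
      onto := by
        intro a _
        obtain ⟨x, hx, e⟩ := onto (E a)
        exact ⟨x, hx, e⟩
      norm := fun σ x hx => norm _ x hx }
  exact H.exists_sgn h hn6 le_rfl

end Cfsg.Agent.OddHalf.D5.Dbl
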