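import Cfsg.Agent.CoThreeStd.Parity

/-!
# ODD half, D5: the T-formula (helper704)

`G` finite without subgroup of index two, `t² = 1`, `M = C_G(t)`. For every `M₀ ≤ M` of index two the number
of conjugates of `t` in `M ∖ M₀` is even (`even_card_conj`): transfer of `M → M/M₀` at `t`. In particular
(`exists_conj`) some conjugate `x ≠ t` of `t` lies in `M ∖ M₀`, if `t ∉ M₀`. This kills the pattern
`M = ⟨t⟩ × S`, `t^G ∩ M ⊆ {t} ∪ S`, e.g. `t` = transposition of `S_{n+2}`.
-/

set_option autoImplicit false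

namespace Cfsg.Agent.OddHalf.D5.TForm

open Subgroup

variable {G : Type*} [Group G] [Finite G]

/-- The number of conjugates of `t` in `C(t) ∖ M₀` is even. -/
theorem even_card_conj (hG : ∀ H : Subgroup G, H.index ≠ 2) {t : G} (ht : t * t = 1) {M₀ : Subgroup G}
    (hle : M₀ ≤ centralizer ({t} : Set G)) (h2 : M₀.relIndex (centralizer ({t} : Set G)) = 2) :
    Even (Nat.card {h : G // (h ∈ centralizer ({t} : Set G) ∧ h ∉ M₀) ∧ IsConj t h}) := by
  have h := CoThreeStd.Parity.two_mul_card_dvd hG hle h2 t ht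
  rw [mul_comm 2] at h
  exact even_iff_two_dvd.2 (Nat.dvd_of_mul_dvd_mul_left Nat.card_pos h)

/-- If `t ∉ M₀`, there is another conjugate of `t` in `C(t) ∖ M₀`. -/
theorem exists_conj (hG : ∀ H : Subgroup G, H.index ≠ 2) {t : G} (ht : t * t = 1) {M₀ : Subgroup G}
    (hle : M₀ ≤ centralizer ({t} : Set G)) (h2 : M₀.relIndex (centralizer ({t} : Set G)) = 2)
    (htM : t ∉ M₀) : ∃ x ∈ centralizer ({t} : Set G), x ∉ M₀ ∧ x ≠ t ∧ IsConj t x := by
  by_contra hne
  push Not at hne
  have h := even_card_conj hG ht hle h2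
  have h1 : Nat.card {h : G // (h ∈ centralizer ({t} : Set G) ∧ h ∉ M₀) ∧ IsConj t h} = 1 := by
    rw [Nat.card_eq_one_iff_unique]
    refine ⟨⟨?_⟩, ⟨⟨t, ⟨mem_centralizer_singleton_iff.2 rfl, htM⟩, IsConj.refl t⟩⟩⟩
    have h2 : ∀ y : {h : G // (h ∈ centralizer ({t} : Set G) ∧ h ∉ M₀) ∧ IsConj t h}, y.1 = t := by
      rintro ⟨y, ⟨hy1, hy2⟩, hy3⟩
      by_contra hyt
      exact hne y hy1 hy2 hyt hy3
    intro a b
    exact Subtype.ext ((h2 a).trans (h2 b).symm)
  rw [h1] at h
  exact absurd h (by decide)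

/-- The same with a homomorphism `M → ±1`. -/
theorem even_card_hom (hG : ∀ H : Subgroup G, H.index ≠ 2) {t : G} (ht : t * t = 1)
    (l : centralizer ({t} : Set G) →* ℤˣ) :
    Even (Nat.card {h : centralizer ({t} : Set G) // l h = -1 ∧ IsConj t (h : G)}) := by
  classical
  by_cases hl : ∃ u, l u = -1
  · obtain ⟨u, hu⟩ := hl
    have hle : l.ker.map (centralizer ({t} : Set G)).subtype ≤ centralizer ({t} : Set G) := by
      rintro _ ⟨y, -, rfl⟩
      exact y.2
    have h2 : (l.ker.map (centralizer ({t} : Set G)).subtype).relIndex (centralizer ({t} : Set G)) = 2 := by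
      have h1 : (l.ker.map (centralizer ({t} : Set G)).subtype).relIndex (centralizer ({t} : Set G)) =
          l.ker.index := by
        rw [relIndex, subgroupOf, comap_map_eq_self_of_injective (subtype_injective _)]
      rw [h1, index_ker]
      have hsurj : Function.Surjective l := by
        intro y
        rcases Int.units_eq_one_or y with h | h
        · exact ⟨1, by rw [h, map_one]⟩
        · exact ⟨u, by rw [hu, h]⟩
      rw [MonoidHom.range_eq_top.2 hsurj, Nat.card_congr topEquiv.toEquiv, Nat.card_eq_fintype_card]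
      rfl
    have h := even_card_conj hG ht hle h2
    have e : {h : G // (h ∈ centralizer ({t} : Set G) ∧
        h ∉ l.ker.map (centralizer ({t} : Set G)).subtype) ∧ IsConj t h} ≃
        {h : centralizer ({t} : Set G) // l h = -1 ∧ IsConj t (h : G)} :=
      { toFun := fun h => ⟨⟨h.1, h.2.1.1⟩, by
          refine ⟨(Int.units_eq_one_or _).resolve_left fun h1 => h.2.1.2 ?_, h.2.2⟩
          exact ⟨⟨h.1, h.2.1.1⟩, h1, rfl⟩⟩
        invFun := fun h => ⟨h.1.1, ⟨h.1.2, by
          rintro ⟨y, hy1, hy2⟩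
          have hy3 : y = h.1 := Subtype.ext hy2
          rw [hy3] at hy1
          have hy4 : l h.1 = 1 := hy1
          rw [h.2.1] at hy4
          exact absurd hy4 (by decide)⟩, h.2.2⟩
        left_inv := fun _ => rfl
        right_inv := fun _ => rfl }
    rwa [Nat.card_congr e] at h
  · have : IsEmpty {h : centralizer ({t} : Set G) // l h = -1 ∧ IsConj t (h : G)} :=
      ⟨fun h => hl ⟨h.1, h.2.1⟩⟩
    rw [Nat.card_of_isEmpty]
    exact Even.zero

/-- If `l t = -1`, some other conjugate `x` of `t` in `C(t)` has `l x = -1`. -/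
theorem exists_conj_hom (hG : ∀ H : Subgroup G, H.index ≠ 2) {t : G} (ht : t * t = 1)
    (l : centralizer ({t} : Set G) →* ℤˣ) (hlt : l ⟨t, mem_centralizer_singleton_iff.2 rfl⟩ = -1) :
    ∃ x : centralizer ({t} : Set G), l x = -1 ∧ (x : G) ≠ t ∧ IsConj t (x : G) := by
  by_contra hne
  push Not at hne
  have h := even_card_hom hG ht l
  have h1 : Nat.card {h : centralizer ({t} : Set G) // l h = -1 ∧ IsConj t (h : G)} = 1 := by
    rw [Nat.card_eq_one_iff_unique]
    refine ⟨⟨?_⟩, ⟨⟨⟨t, mem_centralizer_singleton_iff.2 rfl⟩, hlt, IsConj.refl t⟩⟩⟩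
    have h2 : ∀ y : {h : centralizer ({t} : Set G) // l h = -1 ∧ IsConj t (h : G)}, (y.1 : G) = t := by
      rintro ⟨y, hy1, hy2⟩
      by_contra hyt
      exact hne y hy1 hyt hy2
    intro a b
    exact Subtype.ext (Subtype.ext ((h2 a).trans (h2 b).symm))
  rw [h1] at h
  exact absurd h (by decide)

end Cfsg.Agent.OddHalf.D5.TForm
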