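import Cfsg.Agent.OddHalf.D5.CTModel
import Cfsg.Agent.OddHalf.D5.CTThree
import Cfsg.Agent.OddHalf.D5.TForm
import Cfsg.Agent.OddHalf.D5.Defs

/-!
# ODD D5, clean case: `t ~ t x` for `x` a product of two transpositions (helper522)

`exists_four`: `C_G(t) = ⟨t⟩ × ι(Alt Ω)`, `|Ω| ≥ 8`, no conjugate of `t` in `ι(Alt Ω)`, some `t ι(a)`, `a ≠ 1`, conjugate
to `t`. Then `t` is conjugate to `t ι(a)` for some `a` moving exactly four letters.

`exists_four_fin`: the same for `Spl t (An n) ι`, if `G` has no subgroup of index two.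
-/

set_option autoImplicit false

namespace Cfsg.Agent.OddHalf.D5.CleanTwo

open Equiv Equiv.Perm

variable {G : Type*} [Group G] {Ω Ω' : Type*} [Fintype Ω] [DecidableEq Ω] [Fintype Ω'] [DecidableEq Ω']

theorem alt_card (e : Ω ≃ Ω') (a : alternatingGroup Ω) :
    (e.altCongrHom a : Perm Ω').support.card = (a : Perm Ω).support.card := by
  have h : (e.altCongrHom a : Perm Ω').support = (a : Perm Ω).support.map e.toEmbedding := by
    ext x
    rw [mem_support, Finset.mem_map, Equiv.altCongrHom_apply_coe]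
    show e.permCongr (a : Perm Ω) x ≠ x ↔ _
    rw [Equiv.permCongr_apply]
    constructor
    · intro h
      refine ⟨e.symm x, ?_, e.apply_symm_apply x⟩
      rw [mem_support]
      intro h1
      apply h
      rw [h1, e.apply_symm_apply]
    · rintro ⟨y, hy, rfl⟩
      rw [mem_support] at hy
      intro h
      apply hy
      have h1 : e ((a : Perm Ω) (e.symm (e y))) = e y := h
      rw [e.symm_apply_apply] at h1
      exact e.injective h1
  rw [h, Finset.card_map]

theorem Spl.transport {t : G} {ι : alternatingGroup Ω →* G} (h : Spl t ι) (e : Ω ≃ Ω') :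
    Spl t (ι.comp e.altCongrHom.symm.toMonoidHom) where
  tt := h.tt
  inj := h.inj.comp e.altCongrHom.symm.injective
  comm a := h.comm _
  cent g hg := by
    rcases h.cent g hg with ⟨a, ha⟩ | ⟨a, ha⟩
    · left
      refine ⟨e.altCongrHom a, ?_⟩
      rw [ha]
      show _ = ι (e.altCongrHom.symm (e.altCongrHom a))
      rw [MulEquiv.symm_apply_apply]
    · right
      refine ⟨e.altCongrHom a, ?_⟩
      rw [ha]
      show _ = t * ι (e.altCongrHom.symm (e.altCongrHom a))
      rw [MulEquiv.symm_apply_apply]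
  ne a := h.ne _

/-- **Some `t x`, `x` a product of two transpositions, is conjugate to `t`.** -/
theorem exists_four (h8 : 8 ≤ Fintype.card Ω) {t : G} {ι : alternatingGroup Ω →* G} (h : Spl t ι)
    (hK : ∀ c, ¬ IsConj t (ι c)) (hB : ∃ a, a ≠ 1 ∧ IsConj t (t * ι a)) :
    ∃ a : alternatingGroup Ω, (a : Perm Ω).support.card = 4 ∧ a * a = 1 ∧ IsConj t (t * ι a) := by
  classical
  by_contra hno
  push Not at hno
  -- the minimal type
  have hex : ∃ n : ℕ, ∃ a : alternatingGroup Ω, a ≠ 1 ∧ IsConj t (t * ι a) ∧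
      (a : Perm Ω).support.card = n := by
    obtain ⟨a, h1, h2⟩ := hB
    exact ⟨_, a, h1, h2, rfl⟩
  obtain ⟨a, ha1, haD, han⟩ := Nat.find_spec hex
  have hmin' : ∀ b : alternatingGroup Ω, b ≠ 1 → (b : Perm Ω).support.card < Nat.find hex →
      ¬ IsConj t (t * ι b) := fun b hb hlt hD => Nat.find_min hex hlt ⟨b, hb, hD, rfl⟩
  set N := Nat.find hex
  have haa := h.sq_of_inD haD
  obtain ⟨k, hk⟩ := four_dvd (coe_sq haa) a.2
  rw [han] at hk
  have hk0 : k ≠ 0 := by
    rintro rfl
    rw [hk, mul_zero, Finset.card_eq_zero, support_eq_empty_iff] at han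
    exact ha1 (Subtype.ext han)
  have hk1 : k ≠ 1 := by
    rintro rfl
    exact hno a (by rw [han, hk]) haa haD
  have hle : 4 * k ≤ Fintype.card Ω := by
    rw [← hk, ← han]; exact Finset.card_le_univ _
  have hful : ∀ b : alternatingGroup Ω, b * b = 1 → (b : Perm Ω).support.card = 4 * k →
      IsConj t (t * ι b) := fun b hb hc => h.inD_iff haa hb (by rw [han, hk, hc]) haD
  -- transport to a model
  have htr : ∀ (Ω' : Type) [Fintype Ω'] [DecidableEq Ω'] (e : Ω ≃ Ω'),
      Spl t (ι.comp e.altCongrHom.symm.toMonoidHom) ∧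
      (∀ c, ¬ IsConj t ((ι.comp e.altCongrHom.symm.toMonoidHom) c)) ∧
      (∀ b : alternatingGroup Ω', b * b = 1 → b ≠ 1 → (b : Perm Ω').support.card < 4 * k →
        ¬ IsConj t (t * (ι.comp e.altCongrHom.symm.toMonoidHom) b)) ∧
      (∀ b : alternatingGroup Ω', b * b = 1 → (b : Perm Ω').support.card = 4 * k →
        IsConj t (t * (ι.comp e.altCongrHom.symm.toMonoidHom) b)) := by
    intro Ω' _ _ e
    have hc : ∀ b : alternatingGroup Ω', ((e.altCongrHom.symm b : alternatingGroup Ω) : Perm Ω).support.card =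
        (b : Perm Ω').support.card := by
      intro b
      rw [← alt_card e, MulEquiv.apply_symm_apply]
    refine ⟨h.transport e, fun c => hK _, fun b hb hb1 hlt => ?_, fun b hb hcb => ?_⟩
    · refine hmin' (e.altCongrHom.symm b) ?_ ?_
      · intro h1
        apply hb1
        rw [← e.altCongrHom.apply_symm_apply b, h1, map_one]
      · rw [hc, hk]; exact hlt
    · refine hful (e.altCongrHom.symm b) ?_ ?_
      · rw [← map_mul, hb, map_one]
      · rw [hc, hcb]
  by_cases hk3 : 3 ≤ k
  · have hcard : Fintype.card Ω = Fintype.card ((Fin k × K4) ⊕ Fin (Fintype.card Ω - 4 * k)) := by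
      have hK4 : Fintype.card K4 = 4 := by decide
      rw [Fintype.card_sum, Fintype.card_prod, Fintype.card_fin, Fintype.card_fin, hK4]
      omega
    obtain ⟨m1, m2, m3, m4⟩ := htr _ (Fintype.equivOfCardEq hcard)
    exact three m1 hk3 m2 m3 m4
  · have hk2 : k = 2 := by omega
    subst hk2
    have h4' : ∀ (Ω' : Type) [Fintype Ω'] [DecidableEq Ω'] (e : Ω ≃ Ω') (b : alternatingGroup Ω'),
        b * b = 1 → (b : Perm Ω').support.card = 4 →
        ¬ IsConj t (t * (ι.comp e.altCongrHom.symm.toMonoidHom) b) := by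
      intro Ω' _ _ e b hb hb4
      refine (htr Ω' e).2.2.1 b hb ?_ (by omega)
      rintro rfl
      simp at hb4
    by_cases h10 : Fintype.card Ω = 10
    · have hcard : Fintype.card Ω = Fintype.card (Fin 10) := by rw [h10, Fintype.card_fin]
      obtain ⟨m1, m2, -, m4⟩ := htr _ (Fintype.equivOfCardEq hcard)
      exact Ten.false_of m1 m2 (h4' _ (Fintype.equivOfCardEq hcard)) m4
    · have hcard : Fintype.card Ω = Fintype.card (Fin 8 ⊕ Fin (Fintype.card Ω - 8)) := by
        rw [Fintype.card_sum, Fintype.card_fin, Fintype.card_fin]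
        omega
      obtain ⟨m1, m2, -, m4⟩ := htr _ (Fintype.equivOfCardEq hcard)
      refine Eight.false_of ?_ m1 m2 (h4' _ (Fintype.equivOfCardEq hcard)) m4
      rw [Fintype.card_fin]
      omega

/-- The version for `Spl t (An n) ι`. -/
theorem exists_four_fin [Finite G] (hG : ∀ H : Subgroup G, H.index ≠ 2) {n : ℕ} (hn : 8 ≤ n) {t : G}
    {ι : An n →* G} (h : D5.Spl t (An n) ι) (hK : ∀ c, ¬ IsConj t (ι c)) :
    ∃ a : An n, (a : Perm (Fin n)).support.card = 4 ∧ a * a = 1 ∧ IsConj t (t * ι a) := by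
  have h' : CleanTwo.Spl t ι := ⟨h.tt, h.inj, h.comm, h.cent, h.ne⟩
  refine exists_four (by rw [Fintype.card_fin]; exact hn) h' hK ?_
  -- transfer: the number of conjugates of `t` in `t ι(Alt)` is even
  have hle : ι.range ≤ Subgroup.centralizer ({t} : Set G) := by
    rintro _ ⟨a, rfl⟩
    rw [Subgroup.mem_centralizer_singleton_iff]
    exact (h.comm a).symm
  have htn : t ∉ ι.range := by
    rintro ⟨a, ha⟩
    exact h.ne a ha
  have h2 : ι.range.relIndex (Subgroup.centralizer ({t} : Set G)) = 2 := by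
    rw [Subgroup.relIndex, Subgroup.index_eq_two_iff]
    refine ⟨⟨t, Subgroup.mem_centralizer_singleton_iff.2 rfl⟩, fun b => ?_⟩
    have hb := Subgroup.mem_centralizer_singleton_iff.1 b.2
    rw [Subgroup.mem_subgroupOf, Subgroup.mem_subgroupOf]
    show Xor' ((b : G) * t ∈ ι.range) ((b : G) ∈ ι.range)
    rcases h.cent b hb with ⟨a, ha⟩ | ⟨a, ha⟩
    · right
      refine ⟨⟨a, ha.symm⟩, fun hbt => htn ?_⟩
      have : t = (b : G)⁻¹ * ((b : G) * t) := by group
      rw [this]
      exact Subgroup.mul_mem _ (Subgroup.inv_mem _ ⟨a, ha.symm⟩) hbt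
    · left
      refine ⟨⟨a, ?_⟩, fun hbt => htn ?_⟩
      · rw [ha]
        calc ι a = (t * t) * ι a := by rw [h.tt, one_mul]
          _ = t * (t * ι a) := by group
          _ = t * (ι a * t) := by rw [h.comm]
          _ = t * ι a * t := by group
      · have : t = (b : G) * (ι a)⁻¹ := by rw [ha]; group
        rw [this]
        exact Subgroup.mul_mem _ hbt (Subgroup.inv_mem _ ⟨a, rfl⟩)
  obtain ⟨x, hx1, hx2, hx3, hx4⟩ := TForm.exists_conj hG h.tt hle h2 htn
  rcases h.cent x (Subgroup.mem_centralizer_singleton_iff.1 hx1) with ⟨a, ha⟩ | ⟨a, ha⟩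
  · exact absurd ⟨a, ha.symm⟩ hx2
  · refine ⟨a, ?_, ha ▸ hx4⟩
    rintro rfl
    apply hx3
    rw [ha, map_one, mul_one]

end Cfsg.Agent.OddHalf.D5.CleanTwo
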