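import Cfsg.Agent.OddHalf.D5.DblTri

/-!
# ODD D5 (helper845): `y_r y_r^t` commutes with all `y_s`
-/

set_option autoImplicit false
set_option linter.unusedSectionVars false

namespace Cfsg.Agent.OddHalf.D5.Dbl

open Equiv

variable {α : Type*} [Fintype α] [DecidableEq α] {G : Type*} [Group G]

namespace Fam

variable {t : G} {ι : alternatingGroup α →* G} {Y : alternatingGroup α → G}

/-- one common cycle and one more common letter -/
theorem tri [Finite G] (C : Cl t ι) (F : Fam t ι Y) (v : Fin 9 ↪ α) (a b c d e f : Fin 9)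
    (hi : Function.Injective ![a, b, c, d, e, f]) {m m' : alternatingGroup (Fin 9)}
    (hm : dt a b e f = m) (hm' : dt b c e f = m') :
    (Y (emb v m) * Cl.jj ι v m) * Y (emb v m') = Y (emb v m') * (Y (emb v m) * Cl.jj ι v m) := by
  obtain ⟨π, hπ⟩ := exists_pi _ hi (by decide)
  have e0 : π 0 = a := hπ 0
  have e1 : π 1 = b := hπ 1
  have e2 : π 2 = c := hπ 2
  have e4 : π 4 = e := hπ 4
  have e5 : π 5 = f := hπ 5
  have h := F.tri0 C (π.toEmbedding.trans v)
  rw [jj_trans v π (by decide) (by decide), emb_comp_dt v π (by decide) (by decide),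
    emb_comp_dt v π (by decide) (by decide), e0, e1, e2, e4, e5, hm, hm'] at h
  exact h

/-- `y_s y_s^t`, `s = (01)(23)` -/
noncomputable def ww (ι : alternatingGroup α →* G) (Y : alternatingGroup α → G) (v : Fin 9 ↪ α) : G :=
  Y (emb v (dt 0 1 2 3)) * Cl.jj ι v (dt 0 1 2 3)

theorem ww_eq {v w : Fin 9 ↪ α} (h : ∀ i : Fin 9, i < 4 → w i = v i) : ww ι Y w = ww ι Y v := by
  have e : emb w (dt 0 1 2 3) = emb v (dt 0 1 2 3) := by
    rw [emb_dt w (by decide) (by decide), emb_dt v (by decide) (by decide), h 0 (by decide),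
      h 1 (by decide), h 2 (by decide), h 3 (by decide)]
  show Y (emb w _) * ι (emb w _) = Y (emb v _) * ι (emb v _)
  rw [e]

theorem ww1 [Finite G] (C : Cl t ι) (F : Fam t ι Y) (v : Fin 9 ↪ α) {i j : Fin 9} (hi : i < 4)
    (hj : j < 4) (hij : i ≠ j) : ww ι Y v * Y (emb v (dt i j 4 5)) = Y (emb v (dt i j 4 5)) * ww ι Y v := by
  rcases lt4 hi with rfl | rfl | rfl | rfl <;> rcases lt4 hj with rfl | rfl | rfl | rfl
  · exact absurd rfl hij
  · exact F.colc C v 2 3 0 1 4 5 (by decide) (by decide) (by decide) (rt_dt (by decide)) (by decide)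
  · exact F.spc C v 0 2 1 3 4 5 (by decide) (by decide) (by decide)
  · exact F.spc C v 0 3 1 2 4 5 (by decide) (by decide) (by decide)
  · exact F.colc C v 2 3 0 1 4 5 (by decide) (by decide) (by decide) (rt_dt (by decide)) (by decide)
  · exact absurd rfl hij
  · exact F.spc C v 1 2 0 3 4 5 (by decide) (by decide) (by decide)
  · exact F.spc C v 1 3 0 2 4 5 (by decide) (by decide) (by decide)
  · exact F.spc C v 2 0 3 1 4 5 (by decide) (by decide) (by decide)
  · exact F.spc C v 2 1 3 0 4 5 (by decide) (by decide) (by decide)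
  · exact absurd rfl hij
  · exact F.colc C v 0 1 2 3 4 5 (by decide) (by decide) (by decide) (rt_dt (by decide)) (by decide)
  · exact F.spc C v 3 0 2 1 4 5 (by decide) (by decide) (by decide)
  · exact F.spc C v 3 1 2 0 4 5 (by decide) (by decide) (by decide)
  · exact F.colc C v 0 1 2 3 4 5 (by decide) (by decide) (by decide) (rt_dt (by decide)) (by decide)
  · exact absurd rfl hij

theorem line_prod {a b c : G} (h : a * b * c = 1) (ha : a * a = 1) (hb : b * b = 1)
    (hc : c * c = 1) : b = a * c := by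
  rw [← (three_abs h ha hb hc).1, ← mul_assoc, ha, one_mul]

theorem ww2 [Finite G] (C : Cl t ι) (F : Fam t ι Y) (v : Fin 9 ↪ α) {i : Fin 9} (hi : i < 4) :
    ww ι Y v * Y (emb v (dt i 4 5 6)) = Y (emb v (dt i 4 5 6)) * ww ι Y v := by
  rcases lt4 hi with rfl | rfl | rfl | rfl
  · have l' := line_prod (F.line C v 2 3 0 4 5 6 (by decide) rfl rfl rfl)
      (F.invol C v (rt_dt (by decide))) (F.invol C v (rt_dt (by decide)))
      (F.invol C v (rt_dt (by decide)))
    rw [l']
    have c1 : Commute (ww ι Y v) (Y (emb v (dt 2 3 0 4))) :=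
      F.tri C v 1 0 4 5 2 3 (by decide) (by decide) (by decide)
    have c2 : Commute (ww ι Y v) (Y (emb v (dt 2 3 5 6))) :=
      F.colc C v 0 1 2 3 5 6 (by decide) (by decide) rfl (rt_dt (by decide))
        (by decide)
    exact (c1.mul_right c2).eq
  · have l' := line_prod (F.line C v 2 3 1 4 5 6 (by decide) rfl rfl rfl)
      (F.invol C v (rt_dt (by decide))) (F.invol C v (rt_dt (by decide)))
      (F.invol C v (rt_dt (by decide)))
    rw [l']
    have c1 : Commute (ww ι Y v) (Y (emb v (dt 2 3 1 4))) :=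
      F.tri C v 0 1 4 5 2 3 (by decide) (by decide) (by decide)
    have c2 : Commute (ww ι Y v) (Y (emb v (dt 2 3 5 6))) :=
      F.colc C v 0 1 2 3 5 6 (by decide) (by decide) rfl (rt_dt (by decide))
        (by decide)
    exact (c1.mul_right c2).eq
  · have l' := line_prod (F.line C v 0 1 2 4 5 6 (by decide) rfl rfl rfl)
      (F.invol C v (rt_dt (by decide))) (F.invol C v (rt_dt (by decide)))
      (F.invol C v (rt_dt (by decide)))
    rw [l']
    have c1 : Commute (ww ι Y v) (Y (emb v (dt 0 1 2 4))) :=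
      F.tri C v 3 2 4 5 0 1 (by decide) (by decide) (by decide)
    have c2 : Commute (ww ι Y v) (Y (emb v (dt 0 1 5 6))) :=
      F.colc C v 2 3 0 1 5 6 (by decide) (by decide) rfl (rt_dt (by decide))
        (by decide)
    exact (c1.mul_right c2).eq
  · have l' := line_prod (F.line C v 0 1 3 4 5 6 (by decide) rfl rfl rfl)
      (F.invol C v (rt_dt (by decide))) (F.invol C v (rt_dt (by decide)))
      (F.invol C v (rt_dt (by decide)))
    rw [l']
    have c1 : Commute (ww ι Y v) (Y (emb v (dt 0 1 3 4))) :=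
      F.tri C v 2 3 4 5 0 1 (by decide) (by decide) (by decide)
    have c2 : Commute (ww ι Y v) (Y (emb v (dt 0 1 5 6))) :=
      F.colc C v 2 3 0 1 5 6 (by decide) (by decide) rfl (rt_dt (by decide))
        (by decide)
    exact (c1.mul_right c2).eq

theorem ww0 (C : Cl t ι) (F : Fam t ι Y) (v : Fin 9 ↪ α) :
    ww ι Y v * Y (emb v (dt 4 5 6 7)) = Y (emb v (dt 4 5 6 7)) * ww ι Y v := by
  have h1 : Commute (Y (emb v (dt 0 1 2 3))) (Y (emb v (dt 4 5 6 7))) :=
    F.disj C v 0 1 2 3 4 5 6 7 (by decide) rfl rfl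
  have h2 : Commute (Y (emb v (dt 4 5 6 7))) (Cl.jj ι v (dt 0 1 2 3)) :=
    F.comm9 v (rt_dt (by decide)) (by decide)
  exact (h1.mul_left h2.symm).eq

theorem not_out4 {v : Fin 9 ↪ α} {x : α} (h : ¬ Out4 v x) : ∃ i : Fin 9, i < 4 ∧ v i = x := by
  rw [Out4] at h
  push Not at h
  exact h

/-- roots with a cycle outside `{v 0, …, v 3}` -/
theorem wwT [Finite G] (C : Cl t ι) (F : Fam t ι Y) (v : Fin 9 ↪ α) {a b e f : α}
    (hd : [a, b, e, f].Nodup) (he : Out4 v e) (hf : Out4 v f) :
    ww ι Y v * Y (dt a b e f) = Y (dt a b e f) * ww ι Y v := by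
  simp only [List.nodup_cons, List.mem_cons, List.not_mem_nil, or_false, not_or,
    List.nodup_nil, and_true, not_false_eq_true] at hd
  obtain ⟨⟨hab, hae, haf⟩, ⟨hbe, hbf⟩, hef⟩ := hd
  have hne : ∀ i j : Fin 9, i ≠ j → v i ≠ v j := fun i j h => v.injective.ne h
  have n01 := hne 0 1 (by decide)
  have n02 := hne 0 2 (by decide)
  have n03 := hne 0 3 (by decide)
  have n12 := hne 1 2 (by decide)
  have n13 := hne 1 3 (by decide)
  have n23 := hne 2 3 (by decide)
  have e0 := he 0 (by decide)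
  have e1 := he 1 (by decide)
  have e2 := he 2 (by decide)
  have e3 := he 3 (by decide)
  have f0 := hf 0 (by decide)
  have f1 := hf 1 (by decide)
  have f2 := hf 2 (by decide)
  have f3 := hf 3 (by decide)
  -- one letter inside, one outside
  have key : ∀ i : Fin 9, i < 4 → ∀ b : α, Out4 v b → b ≠ e → b ≠ f →
      ww ι Y v * Y (dt (v i) b e f) = Y (dt (v i) b e f) * ww ι Y v := by
    intro i hi b hb hbe hbf
    have b0 := hb 0 (by decide)
    have b1 := hb 1 (by decide)
    have b2 := hb 2 (by decide)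
    have b3 := hb 3 (by decide)
    obtain ⟨w, hw⟩ := exists_emb_list C.h9 ![v 0, v 1, v 2, v 3, b, e, f]
      (show [v 0, v 1, v 2, v 3, b, e, f].Nodup by
        simp only [List.nodup_cons, List.mem_cons, List.not_mem_nil, or_false, not_or,
          List.nodup_nil, and_true, not_false_eq_true]
        exact ⟨⟨n01, n02, n03, b0, e0, f0⟩, ⟨n12, n13, b1, e1, f1⟩, ⟨n23, b2, e2, f2⟩,
          ⟨b3, e3, f3⟩, ⟨hbe, hbf⟩, hef⟩) (by decide)
    have h0 : w 0 = v 0 := hw 0
    have h1 : w 1 = v 1 := hw 1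
    have h2 : w 2 = v 2 := hw 2
    have h3 : w 3 = v 3 := hw 3
    have h4 : w 4 = b := hw 4
    have h5 : w 5 = e := hw 5
    have h6 : w 6 = f := hw 6
    have hwv : ∀ i : Fin 9, i < 4 → w i = v i := by
      intro i hi
      rcases lt4 hi with rfl | rfl | rfl | rfl
      · exact h0
      · exact h1
      · exact h2
      · exact h3
    have h := F.ww2 C w hi
    rw [emb_dt w (by rintro rfl; exact absurd hi (by decide)) (by decide), hwv i hi, h4, h5, h6,
      ww_eq hwv] at h
    exact h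
  by_cases ha : Out4 v a
  · by_cases hb : Out4 v b
    · obtain ⟨w, hw⟩ := exists_emb_list C.h9 ![v 0, v 1, v 2, v 3, a, b, e, f]
        (show [v 0, v 1, v 2, v 3, a, b, e, f].Nodup by
          simp only [List.nodup_cons, List.mem_cons, List.not_mem_nil, or_false, not_or,
            List.nodup_nil, and_true, not_false_eq_true]
          exact ⟨⟨n01, n02, n03, ha 0 (by decide), hb 0 (by decide), e0, f0⟩,
            ⟨n12, n13, ha 1 (by decide), hb 1 (by decide), e1, f1⟩,
            ⟨n23, ha 2 (by decide), hb 2 (by decide), e2, f2⟩,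
            ⟨ha 3 (by decide), hb 3 (by decide), e3, f3⟩, ⟨hab, hae, haf⟩, ⟨hbe, hbf⟩, hef⟩)
        (by decide)
      have h0 : w 0 = v 0 := hw 0
      have h1 : w 1 = v 1 := hw 1
      have h2 : w 2 = v 2 := hw 2
      have h3 : w 3 = v 3 := hw 3
      have h4 : w 4 = a := hw 4
      have h5 : w 5 = b := hw 5
      have h6 : w 6 = e := hw 6
      have h7 : w 7 = f := hw 7
      have h := F.ww0 C w
      rw [emb_dt w (by decide) (by decide), h4, h5, h6, h7, ww_eq (v := v) (w := w) (by
        intro i hi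
        rcases lt4 hi with rfl | rfl | rfl | rfl
        · exact h0
        · exact h1
        · exact h2
        · exact h3)] at h
      exact h
    · obtain ⟨j, hj, rfl⟩ := not_out4 hb
      rw [dt_swap_left]
      exact key j hj a ha hae haf
  · obtain ⟨i, hi, rfl⟩ := not_out4 ha
    by_cases hb : Out4 v b
    · exact key i hi b hb hbe hbf
    · obtain ⟨j, hj, rfl⟩ := not_out4 hb
      obtain ⟨w, hw⟩ := exists_emb_list C.h9 ![v 0, v 1, v 2, v 3, e, f]
        (show [v 0, v 1, v 2, v 3, e, f].Nodup by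
          simp only [List.nodup_cons, List.mem_cons, List.not_mem_nil, or_false, not_or,
            List.nodup_nil, and_true, not_false_eq_true]
          exact ⟨⟨n01, n02, n03, e0, f0⟩, ⟨n12, n13, e1, f1⟩, ⟨n23, e2, f2⟩, ⟨e3, f3⟩, hef⟩)
        (by decide)
      have h0 : w 0 = v 0 := hw 0
      have h1 : w 1 = v 1 := hw 1
      have h2 : w 2 = v 2 := hw 2
      have h3 : w 3 = v 3 := hw 3
      have h4 : w 4 = e := hw 4
      have h5 : w 5 = f := hw 5
      have hwv : ∀ i : Fin 9, i < 4 → w i = v i := by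
        intro i hi
        rcases lt4 hi with rfl | rfl | rfl | rfl
        · exact h0
        · exact h1
        · exact h2
        · exact h3
      have hij : i ≠ j := fun e => hab (by rw [e])
      have h := F.ww1 C w hi hj hij
      rw [emb_dt w hij (by decide), hwv i hi, hwv j hj, h4, h5, ww_eq hwv] at h
      exact h

/-- **`y_s y_s^t` commutes with all `y_r`** -/
theorem wwY [Finite G] (C : Cl t ι) (F : Fam t ι Y) (v w : Fin 9 ↪ α) :
    ww ι Y v * Y (emb w (dt 0 1 2 3)) = Y (emb w (dt 0 1 2 3)) * ww ι Y v := by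
  have hne : ∀ i j : Fin 9, i ≠ j → w i ≠ w j := fun i j h => w.injective.ne h
  have n01 := hne 0 1 (by decide)
  have n02 := hne 0 2 (by decide)
  have n03 := hne 0 3 (by decide)
  have n12 := hne 1 2 (by decide)
  have n13 := hne 1 3 (by decide)
  have n23 := hne 2 3 (by decide)
  by_cases hall : Out4 v (w 2) ∧ Out4 v (w 3)
  · rw [emb_dt w (by decide) (by decide)]
    exact F.wwT C v (nodup4 n01 n02 n03 n12 n13 n23) hall.1 hall.2
  -- fresh letters
  have hfr : ∃ p q : α, Out4 v p ∧ Out4 v q ∧ p ≠ w 0 ∧ p ≠ w 1 ∧ p ≠ w 2 ∧ p ≠ w 3 ∧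
      q ≠ w 0 ∧ q ≠ w 1 ∧ q ≠ w 2 ∧ q ≠ w 3 ∧ p ≠ q := by
    rw [not_and_or] at hall
    rcases hall with h | h
    · obtain ⟨i, hi, e⟩ := not_out4 h
      obtain ⟨p, q, hp, hq, hpq⟩ := two_fresh C.h9 [v 0, v 1, v 2, v 3, w 0, w 1, w 3] (by simp)
      simp only [List.mem_cons, List.not_mem_nil, or_false, not_or] at hp hq
      have op : Out4 v p := by
        intro j hj
        rcases lt4 hj with rfl | rfl | rfl | rfl
        · exact Ne.symm hp.1
        · exact Ne.symm hp.2.1
        · exact Ne.symm hp.2.2.1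
        · exact Ne.symm hp.2.2.2.1
      have oq : Out4 v q := by
        intro j hj
        rcases lt4 hj with rfl | rfl | rfl | rfl
        · exact Ne.symm hq.1
        · exact Ne.symm hq.2.1
        · exact Ne.symm hq.2.2.1
        · exact Ne.symm hq.2.2.2.1
      refine ⟨p, q, op, oq, hp.2.2.2.2.1, hp.2.2.2.2.2.1, ?_, hp.2.2.2.2.2.2, hq.2.2.2.2.1,
        hq.2.2.2.2.2.1, ?_, hq.2.2.2.2.2.2, hpq⟩
      · rw [← e]; exact (op i hi).symm
      · rw [← e]; exact (oq i hi).symm
    · obtain ⟨i, hi, e⟩ := not_out4 h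
      obtain ⟨p, q, hp, hq, hpq⟩ := two_fresh C.h9 [v 0, v 1, v 2, v 3, w 0, w 1, w 2] (by simp)
      simp only [List.mem_cons, List.not_mem_nil, or_false, not_or] at hp hq
      have op : Out4 v p := by
        intro j hj
        rcases lt4 hj with rfl | rfl | rfl | rfl
        · exact Ne.symm hp.1
        · exact Ne.symm hp.2.1
        · exact Ne.symm hp.2.2.1
        · exact Ne.symm hp.2.2.2.1
      have oq : Out4 v q := by
        intro j hj
        rcases lt4 hj with rfl | rfl | rfl | rfl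
        · exact Ne.symm hq.1
        · exact Ne.symm hq.2.1
        · exact Ne.symm hq.2.2.1
        · exact Ne.symm hq.2.2.2.1
      refine ⟨p, q, op, oq, hp.2.2.2.2.1, hp.2.2.2.2.2.1, hp.2.2.2.2.2.2, ?_, hq.2.2.2.2.1,
        hq.2.2.2.2.2.1, hq.2.2.2.2.2.2, ?_, hpq⟩
      · rw [← e]; exact (op i hi).symm
      · rw [← e]; exact (oq i hi).symm
  obtain ⟨p, q, op, oq, p0, p1, p2, p3, q0, q1, q2, q3, hpq⟩ := hfr
  obtain ⟨u, hu⟩ := exists_emb_list C.h9 ![w 0, w 1, p, q, w 2, w 3]
    (show [w 0, w 1, p, q, w 2, w 3].Nodup by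
      simp only [List.nodup_cons, List.mem_cons, List.not_mem_nil, or_false, not_or,
        List.nodup_nil, and_true, not_false_eq_true]
      exact ⟨⟨n01, p0.symm, q0.symm, n02, n03⟩, ⟨p1.symm, q1.symm, n12, n13⟩, ⟨hpq, p2, p3⟩,
        ⟨q2, q3⟩, n23⟩) (by decide)
  have u0 : u 0 = w 0 := hu 0
  have u1 : u 1 = w 1 := hu 1
  have u2 : u 2 = p := hu 2
  have u3 : u 3 = q := hu 3
  have u4 : u 4 = w 2 := hu 4
  have u5 : u 5 = w 3 := hu 5
  have l := (three_abs (F.line C u 0 1 2 3 4 5 (by decide) rfl rfl rfl)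
      (F.invol C u (rt_dt (by decide))) (F.invol C u (rt_dt (by decide)))
      (F.invol C u (rt_dt (by decide)))).1
  rw [emb_dt u (by decide) (by decide), emb_dt u (by decide) (by decide),
    emb_dt u (by decide) (by decide), u0, u1, u2, u3, u4, u5] at l
  rw [emb_dt w (by decide) (by decide), ← l]
  have c1 : Commute (ww ι Y v) (Y (dt (w 0) (w 1) p q)) :=
    F.wwT C v (nodup4 n01 p0.symm q0.symm p1.symm q1.symm hpq) op oq
  have c2 : Commute (ww ι Y v) (Y (dt p q (w 2) (w 3))) := by
    rw [dt_symm (nodup4 hpq p2 p3 q2 q3 n23)]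
    exact F.wwT C v (nodup4 n23 p2.symm q2.symm p3.symm q3.symm hpq) op oq
  exact (c1.mul_right c2).eq

end Fam

end Cfsg.Agent.OddHalf.D5.Dbl
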