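import Cfsg.Agent.OddHalf.D5.DblPerm

/-!
# ODD D5, `K = Alt(α)`, `|α| ≥ 9`: double centralisers in `Alt(α)` (helper845)
-/

set_option autoImplicit false
set_option linter.unusedSectionVars false

namespace Cfsg.Agent.OddHalf.D5.Dbl

open Equiv

variable {α : Type*} [Fintype α] [DecidableEq α]

theorem sw_comm {a b x y : α} (h1 : a ≠ x) (h2 : a ≠ y) (h3 : b ≠ x) (h4 : b ≠ y) :
    Commute (swap a b) (swap x y) := by
  by_cases hab : a = b
  · subst hab; rw [swap_self]; exact Commute.one_left _
  by_cases hxy : x = y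
  · subst hxy; rw [swap_self]; exact Commute.one_right _
  apply Perm.Disjoint.commute
  intro z
  by_cases hz : z = a ∨ z = b
  · right
    rcases hz with rfl | rfl
    · exact swap_apply_of_ne_of_ne h1 h2
    · exact swap_apply_of_ne_of_ne h3 h4
  · left
    rw [not_or] at hz
    exact swap_apply_of_ne_of_ne hz.1 hz.2

theorem dt_comm {a b c d x y z w : α} (h1 : Commute (swap a b) (swap x y))
    (h2 : Commute (swap a b) (swap z w)) (h3 : Commute (swap c d) (swap x y))
    (h4 : Commute (swap c d) (swap z w)) :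
    dt a b c d * dt x y z w = dt x y z w * dt a b c d := by
  by_cases hab : a ≠ b ∧ c ≠ d
  · by_cases hxy : x ≠ y ∧ z ≠ w
    · apply Subtype.ext
      show (dt a b c d : Perm α) * (dt x y z w : Perm α) = (dt x y z w : Perm α) * (dt a b c d : Perm α)
      rw [dt_coe hab.1 hab.2, dt_coe hxy.1 hxy.2]
      exact (h1.mul_right h2).mul_left (h3.mul_right h4)
    · rw [show dt x y z w = 1 by rw [dt, dif_neg hxy], mul_one, one_mul]
  · rw [show dt a b c d = 1 by rw [dt, dif_neg hab], mul_one, one_mul]

/-- `[a, b, x, y].Nodup` from the six inequalities -/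
theorem nodup4 {a b x y : α} (h1 : a ≠ b) (h2 : a ≠ x) (h3 : a ≠ y) (h4 : b ≠ x) (h5 : b ≠ y)
    (h6 : x ≠ y) : [a, b, x, y].Nodup := by
  simp [h1, h2, h3, h4, h5, h6]

/-- letters outside the first six -/
def Out (v : Fin 9 ↪ α) (x : α) : Prop := ∀ i : Fin 9, i < 6 → v i ≠ x

theorem out_v (v : Fin 9 ↪ α) (i : Fin 9) (hi : 6 ≤ i) : Out v (v i) := by
  intro j hj
  apply v.injective.ne
  rintro rfl
  exact absurd hi (not_le.2 hj)

theorem two_more (v : Fin 9 ↪ α) (x : α) : ∃ y y' : α, y ≠ y' ∧ x ≠ y ∧ x ≠ y' ∧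
    Out v y ∧ Out v y' := by
  have hne : ∀ i j : Fin 9, i ≠ j → v i ≠ v j := fun i j h => v.injective.ne h
  by_cases h6 : x = v 6
  · exact ⟨v 7, v 8, hne _ _ (by decide), h6 ▸ hne _ _ (by decide), h6 ▸ hne _ _ (by decide),
      out_v v 7 (by decide), out_v v 8 (by decide)⟩
  by_cases h7 : x = v 7
  · exact ⟨v 6, v 8, hne _ _ (by decide), h7 ▸ hne _ _ (by decide), h7 ▸ hne _ _ (by decide),
      out_v v 6 (by decide), out_v v 8 (by decide)⟩
  · exact ⟨v 6, v 7, hne _ _ (by decide), h6, h7, out_v v 6 (by decide), out_v v 7 (by decide)⟩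

/-- if `k` commutes with all `(a b)(x y)`, `x, y` outside the first six letters, it fixes these -/
theorem fix_out (v : Fin 9 ↪ α) {k : alternatingGroup α} {a b : α} (hab : a ≠ b)
    (ha : ∀ x, Out v x → a ≠ x) (hb : ∀ x, Out v x → b ≠ x)
    (h : ∀ x y, Out v x → Out v y → x ≠ y → dt a b x y * k = k * dt a b x y) {x : α}
    (hx : Out v x) : (k : Perm α) x = x := by
  obtain ⟨y, y', hyy, hxy, hxy', hy, hy'⟩ := two_more v x
  have A : ∀ p q, Out v p → Out v q → p ≠ q → ∀ z, (((k : Perm α) z = a ∨ (k : Perm α) z = b ∨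
      (k : Perm α) z = p ∨ (k : Perm α) z = q) ↔ (z = a ∨ z = b ∨ z = p ∨ z = q)) :=
    fun p q hp hq hpq z => mem_iff_of_comm (nodup4 hab (ha p hp) (ha q hq) (hb p hp) (hb q hq) hpq)
      (h p q hp hq hpq) z
  have h1 := (A x y hx hy hxy x).2 (Or.inr (Or.inr (Or.inl rfl)))
  have h2 := (A x y' hx hy' hxy' x).2 (Or.inr (Or.inr (Or.inl rfl)))
  have h3 := (A y y' hy hy' hyy x).not.2 (by
    rintro (e | e | e | e)
    · exact ha x hx e.symm
    · exact hb x hx e.symm
    · exact hxy e
    · exact hxy' e)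
  simp only [not_or] at h3
  rcases h1 with e | e | e | e
  · exact absurd e h3.1
  · exact absurd e h3.2.1
  · exact e
  · rcases h2 with f | f | f | f
    · exact absurd f h3.1
    · exact absurd f h3.2.1
    · exact f
    · exact absurd f h3.2.2.2

theorem map_out (v : Fin 9 ↪ α) {k : alternatingGroup α} (hf : ∀ x, Out v x → (k : Perm α) x = x)
    {z : α} (hz : ¬ Out v z) : ¬ Out v ((k : Perm α) z) := by
  intro h
  have h1 := hf _ h
  have h2 := (k : Perm α).injective h1
  exact hz (h2 ▸ h)

/-- ... and preserves `{a, b}` -/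
theorem pair_out (v : Fin 9 ↪ α) {k : alternatingGroup α} {a b : α} (hab : a ≠ b)
    (ha : ∀ x, Out v x → a ≠ x) (hb : ∀ x, Out v x → b ≠ x)
    (h : ∀ x y, Out v x → Out v y → x ≠ y → dt a b x y * k = k * dt a b x y) {z : α}
    (hz : z = a ∨ z = b) : (k : Perm α) z = a ∨ (k : Perm α) z = b := by
  have hf : ∀ x, Out v x → (k : Perm α) x = x := fun x hx => fix_out v hab ha hb h hx
  have h6 := out_v v 6 (by decide)
  have h7 := out_v v 7 (by decide)
  have h67 : v 6 ≠ v 7 := v.injective.ne (by decide)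
  have hz' : ¬ Out v z := by
    rcases hz with rfl | rfl
    · exact fun h => ha _ h rfl
    · exact fun h => hb _ h rfl
  have h1 := map_out v hf hz'
  have h2 := (mem_iff_of_comm (nodup4 hab (ha _ h6) (ha _ h7) (hb _ h6) (hb _ h7) h67)
      (h _ _ h6 h7 h67) z).2 (by
      rcases hz with rfl | rfl
      · exact Or.inl rfl
      · exact Or.inr (Or.inl rfl))
  rcases h2 with e | e | e | e
  · exact Or.inl e
  · exact Or.inr e
  · exact absurd (e ▸ h6) h1
  · exact absurd (e ▸ h7) h1

theorem lt6 {i : Fin 9} (hi : i < 6) : i = 0 ∨ i = 1 ∨ i = 2 ∨ i = 3 ∨ i = 4 ∨ i = 5 := by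
  revert i; decide

/-- an even permutation fixing the outer letters and `v 0 … v 3` is trivial -/
theorem eq_one_of_out (v : Fin 9 ↪ α) {k : alternatingGroup α}
    (hf : ∀ x, Out v x → (k : Perm α) x = x) (h0 : (k : Perm α) (v 0) = v 0)
    (h1 : (k : Perm α) (v 1) = v 1) (h2 : (k : Perm α) (v 2) = v 2) (h3 : (k : Perm α) (v 3) = v 3) :
    k = 1 := by
  apply eq_one_of_fix (v 4) (v 5)
  intro x hx4 hx5
  by_cases hx : Out v x
  · exact hf x hx
  rw [Out] at hx
  push Not at hx
  obtain ⟨i, hi, rfl⟩ := hx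
  rcases lt6 hi with rfl | rfl | rfl | rfl | rfl | rfl
  · exact h0
  · exact h1
  · exact h2
  · exact h3
  · exact absurd rfl hx4
  · exact absurd rfl hx5

/-- the elements `(v i v j)(x y)` commute with `(v p v q)(v r v s)` for disjoint or equal pairs -/
theorem comm_out (v : Fin 9 ↪ α) {i j p q r s : Fin 9} (h1 : (i = p ∧ j = q) ∨
    (i ≠ p ∧ i ≠ q ∧ j ≠ p ∧ j ≠ q)) (h2 : (i = r ∧ j = s) ∨
    (i ≠ r ∧ i ≠ s ∧ j ≠ r ∧ j ≠ s)) (hp : p < 6) (hq : q < 6) (hr : r < 6) (hs : s < 6) (hpq : p ≠ q)
    (hrs : r ≠ s) {x y : α} (hx : Out v x) (hy : Out v y) :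
    dt (v i) (v j) x y * emb v (dt p q r s) = emb v (dt p q r s) * dt (v i) (v j) x y := by
  have hne : ∀ i j : Fin 9, i ≠ j → v i ≠ v j := fun i j h => v.injective.ne h
  rw [emb_dt v hpq hrs]
  apply dt_comm
  · rcases h1 with ⟨rfl, rfl⟩ | ⟨e1, e2, e3, e4⟩
    · exact Commute.refl _
    · exact sw_comm (hne _ _ e1) (hne _ _ e2) (hne _ _ e3) (hne _ _ e4)
  · rcases h2 with ⟨rfl, rfl⟩ | ⟨e1, e2, e3, e4⟩
    · exact Commute.refl _
    · exact sw_comm (hne _ _ e1) (hne _ _ e2) (hne _ _ e3) (hne _ _ e4)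
  · exact sw_comm (hx _ hp).symm (hx _ hq).symm (hy _ hp).symm (hy _ hq).symm
  · exact sw_comm (hx _ hr).symm (hx _ hs).symm (hy _ hr).symm (hy _ hs).symm

theorem ne_out (v : Fin 9 ↪ α) {i : Fin 9} (hi : i < 6) : ∀ x, Out v x → v i ≠ x :=
  fun _ hx => hx i hi

/-- **C3**: the double centraliser of a line `⟨(01)(23), (23)(45)⟩` -/
theorem cent_line (v : Fin 9 ↪ α) (k : alternatingGroup α)
    (h : ∀ l : alternatingGroup α, l * emb v (dt 0 1 2 3) = emb v (dt 0 1 2 3) * l →
      l * emb v (dt 2 3 4 5) = emb v (dt 2 3 4 5) * l → l * k = k * l) :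
    k = 1 ∨ k = emb v (dt 0 1 2 3) ∨ k = emb v (dt 2 3 4 5) ∨ k = emb v (dt 0 1 4 5) := by
  have hne : ∀ i j : Fin 9, i ≠ j → v i ≠ v j := fun i j h => v.injective.ne h
  have A0 : ∀ x y, Out v x → Out v y → x ≠ y → dt (v 0) (v 1) x y * k = k * dt (v 0) (v 1) x y :=
    fun x y hx hy _ => h _ (comm_out v (by decide) (by decide) (by decide) (by decide) (by decide)
      (by decide) (by decide) (by decide) hx hy) (comm_out v (by decide) (by decide) (by decide)
      (by decide) (by decide) (by decide) (by decide) (by decide) hx hy)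
  have A2 : ∀ x y, Out v x → Out v y → x ≠ y → dt (v 2) (v 3) x y * k = k * dt (v 2) (v 3) x y :=
    fun x y hx hy _ => h _ (comm_out v (by decide) (by decide) (by decide) (by decide) (by decide)
      (by decide) (by decide) (by decide) hx hy) (comm_out v (by decide) (by decide) (by decide)
      (by decide) (by decide) (by decide) (by decide) (by decide) hx hy)
  have F : ∀ x, Out v x → (k : Perm α) x = x := fun x hx =>
    fix_out v (hne 0 1 (by decide)) (ne_out v (by decide)) (ne_out v (by decide)) A0 hx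
  have B0 : ∀ z, (z = v 0 ∨ z = v 1) → ((k : Perm α) z = v 0 ∨ (k : Perm α) z = v 1) :=
    fun z hz => pair_out v (hne 0 1 (by decide)) (ne_out v (by decide)) (ne_out v (by decide)) A0 hz
  have B2 : ∀ z, (z = v 2 ∨ z = v 3) → ((k : Perm α) z = v 2 ∨ (k : Perm α) z = v 3) :=
    fun z hz => pair_out v (hne 2 3 (by decide)) (ne_out v (by decide)) (ne_out v (by decide)) A2 hz
  have fin : ∀ m : alternatingGroup (Fin 9), (∀ i : Fin 9, 6 ≤ i → (m : Perm (Fin 9)) i = i) →
      (emb v m * k : Perm α) (v 0) = v 0 → (emb v m * k : Perm α) (v 2) = v 2 →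
      ((emb v m * k : Perm α) (v 1) = v 1) → ((emb v m * k : Perm α) (v 3) = v 3) →
      emb v m * k = 1 := by
    intro m hm h0 h2 h1 h3
    apply eq_one_of_out v _ h0 h1 h2 h3
    intro x hx
    show (emb v m : Perm α) ((k : Perm α) x) = x
    rw [F x hx]
    by_cases hr : x ∈ Set.range v
    · obtain ⟨i, rfl⟩ := hr
      rw [emb_apply, hm]
      by_contra hc
      exact hx i (not_le.1 hc) rfl
    · exact emb_notMem v _ hr
  have h01 : (k : Perm α) (v 0) = v 0 ∧ (k : Perm α) (v 1) = v 1 ∨
      (k : Perm α) (v 0) = v 1 ∧ (k : Perm α) (v 1) = v 0 := by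
    rcases B0 _ (Or.inl rfl) with e | e <;> rcases B0 _ (Or.inr rfl) with f | f
    · exact absurd ((k : Perm α).injective (e.trans f.symm)) (hne _ _ (by decide))
    · exact Or.inl ⟨e, f⟩
    · exact Or.inr ⟨e, f⟩
    · exact absurd ((k : Perm α).injective (e.trans f.symm)) (hne _ _ (by decide))
  have h23 : (k : Perm α) (v 2) = v 2 ∧ (k : Perm α) (v 3) = v 3 ∨
      (k : Perm α) (v 2) = v 3 ∧ (k : Perm α) (v 3) = v 2 := by
    rcases B2 _ (Or.inl rfl) with e | e <;> rcases B2 _ (Or.inr rfl) with f | f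
    · exact absurd ((k : Perm α).injective (e.trans f.symm)) (hne _ _ (by decide))
    · exact Or.inl ⟨e, f⟩
    · exact Or.inr ⟨e, f⟩
    · exact absurd ((k : Perm α).injective (e.trans f.symm)) (hne _ _ (by decide))
  have inv : ∀ m : alternatingGroup (Fin 9), m * m = 1 → emb v m * k = 1 → k = emb v m := by
    intro m hm e
    have h1 : emb v m * emb v m = 1 := by rw [← map_mul, hm, map_one]
    have h2 : emb v m = (emb v m)⁻¹ := (mul_eq_one_iff_eq_inv.1 h1)
    rw [h2]
    exact (mul_eq_one_iff_inv_eq.1 e).symm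
  rcases h01 with ⟨e0, e1⟩ | ⟨e0, e1⟩ <;> rcases h23 with ⟨e2, e3⟩ | ⟨e2, e3⟩
  · left
    have := fin 1 (by decide) (by rw [map_one]; exact e0) (by rw [map_one]; exact e2)
      (by rw [map_one]; exact e1) (by rw [map_one]; exact e3)
    rwa [map_one, one_mul] at this
  · right; right; left
    apply inv _ (by decide)
    apply fin _ (by decide)
    · show (emb v _ : Perm α) ((k : Perm α) _) = _
      rw [e0, emb_apply]; rfl
    · show (emb v _ : Perm α) ((k : Perm α) _) = _
      rw [e2, emb_apply]; rfl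
    · show (emb v _ : Perm α) ((k : Perm α) _) = _
      rw [e1, emb_apply]; rfl
    · show (emb v _ : Perm α) ((k : Perm α) _) = _
      rw [e3, emb_apply]; rfl
  · right; right; right
    apply inv _ (by decide)
    apply fin _ (by decide)
    · show (emb v _ : Perm α) ((k : Perm α) _) = _
      rw [e0, emb_apply]; rfl
    · show (emb v _ : Perm α) ((k : Perm α) _) = _
      rw [e2, emb_apply]; rfl
    · show (emb v _ : Perm α) ((k : Perm α) _) = _
      rw [e1, emb_apply]; rfl
    · show (emb v _ : Perm α) ((k : Perm α) _) = _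
      rw [e3, emb_apply]; rfl
  · right; left
    apply inv _ (by decide)
    apply fin _ (by decide)
    · show (emb v _ : Perm α) ((k : Perm α) _) = _
      rw [e0, emb_apply]; rfl
    · show (emb v _ : Perm α) ((k : Perm α) _) = _
      rw [e2, emb_apply]; rfl
    · show (emb v _ : Perm α) ((k : Perm α) _) = _
      rw [e1, emb_apply]; rfl
    · show (emb v _ : Perm α) ((k : Perm α) _) = _
      rw [e3, emb_apply]; rfl


theorem inv_of_sq (v : Fin 9 ↪ α) {k : alternatingGroup α} {m : alternatingGroup (Fin 9)}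
    (hm : m * m = 1) (e : emb v m * k = 1) : k = emb v m := by
  have h1 : emb v m * emb v m = 1 := by rw [← map_mul, hm, map_one]
  have h2 : emb v m = (emb v m)⁻¹ := mul_eq_one_iff_eq_inv.1 h1
  rw [h2]
  exact (mul_eq_one_iff_inv_eq.1 e).symm

theorem mul_emb_out (v : Fin 9 ↪ α) {k : alternatingGroup α} (hk : ∀ x, Out v x → (k : Perm α) x = x)
    {m : alternatingGroup (Fin 9)} (hm : ∀ i : Fin 9, 6 ≤ i → (m : Perm (Fin 9)) i = i) {x : α}
    (hx : Out v x) : (emb v m * k : Perm α) x = x := by
  show (emb v m : Perm α) ((k : Perm α) x) = x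
  rw [hk x hx]
  by_cases hr : x ∈ Set.range v
  · obtain ⟨i, rfl⟩ := hr
    rw [emb_apply, hm]
    by_contra hc
    exact hx i (not_le.1 hc) rfl
  · exact emb_notMem v _ hr

/-- **C4**: special pairs -/
theorem cent_special (v : Fin 9 ↪ α) (k : alternatingGroup α)
    (h : ∀ l : alternatingGroup α, l * emb v (dt 0 1 4 5) = emb v (dt 0 1 4 5) * l →
      l * emb v (dt 0 2 1 3) = emb v (dt 0 2 1 3) * l → l * k = k * l)
    (hr : k * emb v (dt 0 1 4 5) = emb v (dt 0 1 4 5) * k)
    (hs : k * emb v (dt 0 2 1 3) = emb v (dt 0 2 1 3) * k) :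
    k = 1 ∨ k = emb v (dt 0 1 2 3) := by
  have hne : ∀ i j : Fin 9, i ≠ j → v i ≠ v j := fun i j h => v.injective.ne h
  have A4 : ∀ x y, Out v x → Out v y → x ≠ y → dt (v 4) (v 5) x y * k = k * dt (v 4) (v 5) x y :=
    fun x y hx hy _ => h _ (comm_out v (by decide) (by decide) (by decide) (by decide) (by decide)
      (by decide) (by decide) (by decide) hx hy) (comm_out v (by decide) (by decide) (by decide)
      (by decide) (by decide) (by decide) (by decide) (by decide) hx hy)
  have F : ∀ x, Out v x → (k : Perm α) x = x := fun x hx =>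
    fix_out v (hne 4 5 (by decide)) (ne_out v (by decide)) (ne_out v (by decide)) A4 hx
  have hq : emb v (dt 0 1 2 3) * k = k * emb v (dt 0 1 2 3) := by
    apply h
    · rw [← map_mul, ← map_mul]; exact congrArg _ (by decide)
    · rw [← map_mul, ← map_mul]; exact congrArg _ (by decide)
  have nd : ∀ i j p q : Fin 9, [i, j, p, q].Nodup → [v i, v j, v p, v q].Nodup := by
    intro i j p q hd
    have : [v i, v j, v p, v q] = [i, j, p, q].map v := rfl
    rw [this]
    exact hd.map v.injective
  rw [emb_dt v (by decide) (by decide)] at hr hs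
  have h1 := (mem_iff_of_comm (nd 0 1 4 5 (by decide)) hr.symm (v 0)).2 (Or.inl rfl)
  have h2 := (mem_iff_of_comm (nd 0 2 1 3 (by decide)) hs.symm (v 0)).2 (Or.inl rfl)
  have h0 : (k : Perm α) (v 0) = v 0 ∨ (k : Perm α) (v 0) = v 1 := by
    rcases h1 with e | e | e | e
    · exact Or.inl e
    · exact Or.inr e
    · rcases h2 with f | f | f | f
      · exact Or.inl f
      · exact absurd (e.symm.trans f) (hne _ _ (by decide))
      · exact Or.inr f
      · exact absurd (e.symm.trans f) (hne _ _ (by decide))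
    · rcases h2 with f | f | f | f
      · exact Or.inl f
      · exact absurd (e.symm.trans f) (hne _ _ (by decide))
      · exact Or.inr f
      · exact absurd (e.symm.trans f) (hne _ _ (by decide))
  rw [← emb_dt v (by decide) (by decide)] at hr hs
  -- the action on the other letters
  have step : ∀ (k' : alternatingGroup α), k' * emb v (dt 0 2 1 3) = emb v (dt 0 2 1 3) * k' →
      emb v (dt 0 1 2 3) * k' = k' * emb v (dt 0 1 2 3) →
      (∀ x, Out v x → (k' : Perm α) x = x) → (k' : Perm α) (v 0) = v 0 → k' = 1 := by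
    intro k' hs' hq' F' e0
    have e2 : (k' : Perm α) (v 2) = v 2 := by
      have := apply_comm hs'.symm (v 0)
      rw [e0, emb_apply] at this
      exact this
    have e1 : (k' : Perm α) (v 1) = v 1 := by
      have := apply_comm hq' (v 0)
      rw [e0, emb_apply] at this
      exact this
    have e3 : (k' : Perm α) (v 3) = v 3 := by
      have := apply_comm hq' (v 2)
      rw [e2, emb_apply] at this
      exact this
    exact eq_one_of_out v F' e0 e1 e2 e3
  rcases h0 with e | e
  · exact Or.inl (step k hs hq F e)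
  · right
    apply inv_of_sq v (by decide)
    apply step
    · have e1 : (dt 0 1 2 3 : alternatingGroup (Fin 9)) * dt 0 2 1 3 = dt 0 2 1 3 * dt 0 1 2 3 := by
        decide
      rw [mul_assoc, hs, ← mul_assoc, ← mul_assoc, ← map_mul, ← map_mul, e1]
    · rw [mul_assoc, hq]
    · intro x hx
      exact mul_emb_out v F (by decide) hx
    · show (emb v _ : Perm α) ((k : Perm α) _) = _
      rw [e, emb_apply]; rfl

/-- **C2**: disjoint pairs -/
theorem cent_disj (v : Fin 9 ↪ α) (k : alternatingGroup α)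
    (h : ∀ l : alternatingGroup α, l * emb v (dt 0 1 2 3) = emb v (dt 0 1 2 3) * l →
      l * emb v (dt 4 5 6 7) = emb v (dt 4 5 6 7) * l → l * k = k * l) :
    k = 1 ∨ k = emb v (dt 0 1 2 3) ∨ k = emb v (dt 4 5 6 7) ∨
      k = emb v (dt 0 1 2 3 * dt 4 5 6 7) := by
  have hne : ∀ i j : Fin 9, i ≠ j → v i ≠ v j := fun i j h => v.injective.ne h
  have nd : ∀ i j p q : Fin 9, [i, j, p, q].Nodup → [v i, v j, v p, v q].Nodup := by
    intro i j p q hd
    have : [v i, v j, v p, v q] = [i, j, p, q].map v := rfl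
    rw [this]
    exact hd.map v.injective
  have hm : ∀ m : alternatingGroup (Fin 9), m * dt 0 1 2 3 = dt 0 1 2 3 * m →
      m * dt 4 5 6 7 = dt 4 5 6 7 * m → emb v m * k = k * emb v m := by
    intro m h1 h2
    apply h
    · rw [← map_mul, h1, map_mul]
    · rw [← map_mul, h2, map_mul]
  have c1 := hm (dt 0 1 2 3) (by decide) (by decide)
  have c2 := hm (dt 0 2 1 3) (by decide) (by decide)
  have c3 := hm (dt 4 5 6 7) (by decide) (by decide)
  have c4 := hm (dt 4 6 5 7) (by decide) (by decide)
  have c5 := hm (dt 0 1 4 5) (by decide) (by decide)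
  -- `v 0 ↦ v 0, v 1` and `v 4 ↦ v 4, v 5`
  have h0 : (k : Perm α) (v 0) = v 0 ∨ (k : Perm α) (v 0) = v 1 := by
    have h1 := (mem_iff_of_comm (k := k) (nd 0 1 2 3 (by decide))
      (by rw [← emb_dt v (by decide) (by decide)]; exact c1) (v 0)).2 (Or.inl rfl)
    have h2 := (mem_iff_of_comm (k := k) (nd 0 1 4 5 (by decide))
      (by rw [← emb_dt v (by decide) (by decide)]; exact c5) (v 0)).2 (Or.inl rfl)
    rcases h2 with f | f | f | f
    · exact Or.inl f
    · exact Or.inr f
    · rcases h1 with e | e | e | e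
      · exact Or.inl e
      · exact Or.inr e
      · exact absurd (e.symm.trans f) (hne _ _ (by decide))
      · exact absurd (e.symm.trans f) (hne _ _ (by decide))
    · rcases h1 with e | e | e | e
      · exact Or.inl e
      · exact Or.inr e
      · exact absurd (e.symm.trans f) (hne _ _ (by decide))
      · exact absurd (e.symm.trans f) (hne _ _ (by decide))
  have h4 : (k : Perm α) (v 4) = v 4 ∨ (k : Perm α) (v 4) = v 5 := by
    have h1 := (mem_iff_of_comm (k := k) (nd 4 5 6 7 (by decide))
      (by rw [← emb_dt v (by decide) (by decide)]; exact c3) (v 4)).2 (Or.inl rfl)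
    have h2 := (mem_iff_of_comm (k := k) (nd 0 1 4 5 (by decide))
      (by rw [← emb_dt v (by decide) (by decide)]; exact c5) (v 4)).2 (Or.inr (Or.inr (Or.inl rfl)))
    rcases h1 with f | f | f | f
    · exact Or.inl f
    · exact Or.inr f
    · rcases h2 with e | e | e | e
      · exact absurd (e.symm.trans f) (hne _ _ (by decide))
      · exact absurd (e.symm.trans f) (hne _ _ (by decide))
      · exact Or.inl e
      · exact Or.inr e
    · rcases h2 with e | e | e | e
      · exact absurd (e.symm.trans f) (hne _ _ (by decide))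
      · exact absurd (e.symm.trans f) (hne _ _ (by decide))
      · exact Or.inl e
      · exact Or.inr e
  -- finishing
  have fin : ∀ k' : alternatingGroup α, (∀ m : alternatingGroup (Fin 9),
      (m = dt 0 1 2 3 ∨ m = dt 0 2 1 3 ∨ m = dt 4 5 6 7 ∨ m = dt 4 6 5 7) →
      emb v m * k' = k' * emb v m) → (∀ x y, (∀ i : Fin 9, i < 8 → v i ≠ x) →
      (∀ i : Fin 9, i < 8 → v i ≠ y) → dt (v 0) (v 1) x y * k' = k' * dt (v 0) (v 1) x y) →
      (k' : Perm α) (v 0) = v 0 → (k' : Perm α) (v 4) = v 4 → k' = 1 := by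
    intro k' hc ho e0 e4
    have e1 : (k' : Perm α) (v 1) = v 1 := by
      have := apply_comm (hc _ (Or.inl rfl)) (v 0)
      rw [e0, emb_apply] at this
      exact this
    have e2 : (k' : Perm α) (v 2) = v 2 := by
      have := apply_comm (hc _ (Or.inr (Or.inl rfl))) (v 0)
      rw [e0, emb_apply] at this
      exact this
    have e3 : (k' : Perm α) (v 3) = v 3 := by
      have := apply_comm (hc _ (Or.inl rfl)) (v 2)
      rw [e2, emb_apply] at this
      exact this
    have e5 : (k' : Perm α) (v 5) = v 5 := by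
      have := apply_comm (hc _ (Or.inr (Or.inr (Or.inl rfl)))) (v 4)
      rw [e4, emb_apply] at this
      exact this
    have e6 : (k' : Perm α) (v 6) = v 6 := by
      have := apply_comm (hc _ (Or.inr (Or.inr (Or.inr rfl)))) (v 4)
      rw [e4, emb_apply] at this
      exact this
    have e7 : (k' : Perm α) (v 7) = v 7 := by
      have := apply_comm (hc _ (Or.inr (Or.inr (Or.inl rfl)))) (v 6)
      rw [e6, emb_apply] at this
      exact this
    have E : ∀ i : Fin 9, i < 8 → (k' : Perm α) (v i) = v i := by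
      intro i hi
      have : i = 0 ∨ i = 1 ∨ i = 2 ∨ i = 3 ∨ i = 4 ∨ i = 5 ∨ i = 6 ∨ i = 7 := by
        revert i; decide
      rcases this with rfl | rfl | rfl | rfl | rfl | rfl | rfl | rfl <;> assumption
    by_contra hk1
    have hx : ∃ x, (k' : Perm α) x ≠ x := by
      by_contra hc'
      push Not at hc'
      exact hk1 (Subtype.ext (Equiv.ext hc'))
    obtain ⟨x, hx⟩ := hx
    have hxo : ∀ i : Fin 9, i < 8 → v i ≠ x := by
      rintro i hi rfl
      exact hx (E i hi)
    have hyo : ∀ i : Fin 9, i < 8 → v i ≠ (k' : Perm α) x := by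
      intro i hi e
      have := E i hi
      rw [e] at this
      exact hx ((k' : Perm α).injective this)
    apply hk1
    apply eq_one_of_fix x ((k' : Perm α) x)
    intro z hz1 hz2
    by_cases hz : ∀ i : Fin 9, i < 8 → v i ≠ z
    · exfalso
      have h1 := (mem_iff_of_comm (nodup4 (hne 0 1 (by decide)) (hxo 0 (by decide))
        (hz 0 (by decide)) (hxo 1 (by decide)) (hz 1 (by decide)) (Ne.symm hz1))
        (ho x z hxo hz) x).2 (Or.inr (Or.inr (Or.inl rfl)))
      rcases h1 with e | e | e | e
      · exact hyo 0 (by decide) e.symm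
      · exact hyo 1 (by decide) e.symm
      · exact hx e
      · exact hz2 e.symm
    · push Not at hz
      obtain ⟨i, hi, rfl⟩ := hz
      exact E i hi
  have ho : ∀ x y, (∀ i : Fin 9, i < 8 → v i ≠ x) →
      (∀ i : Fin 9, i < 8 → v i ≠ y) → dt (v 0) (v 1) x y * k = k * dt (v 0) (v 1) x y := by
    intro x y hx hy
    apply h
    · rw [emb_dt v (by decide) (by decide)]
      apply dt_comm (Commute.refl _) (sw_comm (hne _ _ (by decide)) (hne _ _ (by decide))
        (hne _ _ (by decide)) (hne _ _ (by decide)))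
      · exact sw_comm (hx 0 (by decide)).symm (hx 1 (by decide)).symm (hy 0 (by decide)).symm
          (hy 1 (by decide)).symm
      · exact sw_comm (hx 2 (by decide)).symm (hx 3 (by decide)).symm (hy 2 (by decide)).symm
          (hy 3 (by decide)).symm
    · rw [emb_dt v (by decide) (by decide)]
      apply dt_comm (sw_comm (hne _ _ (by decide)) (hne _ _ (by decide))
        (hne _ _ (by decide)) (hne _ _ (by decide))) (sw_comm (hne _ _ (by decide)) (hne _ _ (by decide))
        (hne _ _ (by decide)) (hne _ _ (by decide)))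
      · exact sw_comm (hx 4 (by decide)).symm (hx 5 (by decide)).symm (hy 4 (by decide)).symm
          (hy 5 (by decide)).symm
      · exact sw_comm (hx 6 (by decide)).symm (hx 7 (by decide)).symm (hy 6 (by decide)).symm
          (hy 7 (by decide)).symm
  have hv : ∀ m : alternatingGroup (Fin 9), (m = 1 ∨ m = dt 0 1 2 3 ∨ m = dt 4 5 6 7 ∨
      m = dt 0 1 2 3 * dt 4 5 6 7) → (emb v m * k : Perm α) (v 0) = v 0 →
      (emb v m * k : Perm α) (v 4) = v 4 → k = emb v m := by
    intro m hm1 e0 e4
    have hmm : m * m = 1 := by rcases hm1 with rfl | rfl | rfl | rfl <;> decide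
    apply inv_of_sq v hmm
    apply fin _ _ _ e0 e4
    · intro m' hm'
      have h1 : emb v m' * k = k * emb v m' := by
        rcases hm' with rfl | rfl | rfl | rfl <;> assumption
      have h2 : emb v m' * emb v m = emb v m * emb v m' := by
        rw [← map_mul, ← map_mul]
        congr 1
        rcases hm' with rfl | rfl | rfl | rfl <;> rcases hm1 with rfl | rfl | rfl | rfl <;> decide
      rw [← mul_assoc, h2, mul_assoc, h1, mul_assoc]
    · intro x y hx hy
      have h1 := ho x y hx hy
      have h2 : dt (v 0) (v 1) x y * emb v m = emb v m * dt (v 0) (v 1) x y := by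
        have a1 : dt (v 0) (v 1) x y * emb v (dt 0 1 2 3) = emb v (dt 0 1 2 3) * dt (v 0) (v 1) x y := by
          rw [emb_dt v (by decide) (by decide)]
          apply dt_comm (Commute.refl _) (sw_comm (hne _ _ (by decide)) (hne _ _ (by decide))
            (hne _ _ (by decide)) (hne _ _ (by decide)))
          · exact sw_comm (hx 0 (by decide)).symm (hx 1 (by decide)).symm (hy 0 (by decide)).symm
              (hy 1 (by decide)).symm
          · exact sw_comm (hx 2 (by decide)).symm (hx 3 (by decide)).symm (hy 2 (by decide)).symm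
              (hy 3 (by decide)).symm
        have a2 : dt (v 0) (v 1) x y * emb v (dt 4 5 6 7) = emb v (dt 4 5 6 7) * dt (v 0) (v 1) x y := by
          rw [emb_dt v (by decide) (by decide)]
          apply dt_comm (sw_comm (hne _ _ (by decide)) (hne _ _ (by decide))
            (hne _ _ (by decide)) (hne _ _ (by decide))) (sw_comm (hne _ _ (by decide))
            (hne _ _ (by decide)) (hne _ _ (by decide)) (hne _ _ (by decide)))
          · exact sw_comm (hx 4 (by decide)).symm (hx 5 (by decide)).symm (hy 4 (by decide)).symm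
              (hy 5 (by decide)).symm
          · exact sw_comm (hx 6 (by decide)).symm (hx 7 (by decide)).symm (hy 6 (by decide)).symm
              (hy 7 (by decide)).symm
        rcases hm1 with rfl | rfl | rfl | rfl
        · rw [map_one (emb v), mul_one, one_mul]
        · exact a1
        · exact a2
        · rw [map_mul, ← mul_assoc, a1, mul_assoc, a2, mul_assoc]
      rw [← mul_assoc, h2, mul_assoc, h1, mul_assoc]
  rcases h0 with e0 | e0 <;> rcases h4 with e4 | e4
  · left
    have := hv 1 (Or.inl rfl) (by rw [map_one]; exact e0) (by rw [map_one]; exact e4)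
    rwa [map_one] at this
  · right; right; left
    apply hv _ (Or.inr (Or.inr (Or.inl rfl)))
    · show (emb v _ : Perm α) ((k : Perm α) _) = _
      rw [e0, emb_apply]; rfl
    · show (emb v _ : Perm α) ((k : Perm α) _) = _
      rw [e4, emb_apply]; rfl
  · right; left
    apply hv _ (Or.inr (Or.inl rfl))
    · show (emb v _ : Perm α) ((k : Perm α) _) = _
      rw [e0, emb_apply]; rfl
    · show (emb v _ : Perm α) ((k : Perm α) _) = _
      rw [e4, emb_apply]; rfl
  · right; right; right
    apply hv _ (Or.inr (Or.inr (Or.inr rfl)))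
    · show (emb v _ : Perm α) ((k : Perm α) _) = _
      rw [e0, emb_apply]; rfl
    · show (emb v _ : Perm α) ((k : Perm α) _) = _
      rw [e4, emb_apply]; rfl

end Cfsg.Agent.OddHalf.D5.Dbl
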