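import Cfsg.Agent.OddHalf.D5.DblCent

/-!
# ODD D5, `K = Alt(α)`, `|α| ≥ 9`: 3-cycles, `C(L_B)`, generation (helper845)
-/

set_option autoImplicit false
set_option linter.unusedSectionVars false

namespace Cfsg.Agent.OddHalf.D5.Dbl

open Equiv

variable {α : Type*} [Fintype α] [DecidableEq α]

theorem tc_apply {a b c : α} (h1 : a ≠ b) (h2 : b ≠ c) (h3 : a ≠ c) :
    (tc a b c : Perm α) a = b ∧ (tc a b c : Perm α) b = c ∧ (tc a b c : Perm α) c = a := by
  rw [tc_coe h1 h2]
  refine ⟨?_, ?_, ?_⟩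
  · rw [Perm.mul_apply, swap_apply_of_ne_of_ne h1 h3, swap_apply_left]
  · rw [Perm.mul_apply, swap_apply_left, swap_apply_of_ne_of_ne h3.symm h2.symm]
  · rw [Perm.mul_apply, swap_apply_right, swap_apply_right]

theorem tc_apply_of_ne {a b c x : α} (h1 : a ≠ b) (h2 : b ≠ c) (ha : x ≠ a) (hb : x ≠ b)
    (hc : x ≠ c) : (tc a b c : Perm α) x = x := by
  rw [tc_coe h1 h2, Perm.mul_apply, swap_apply_of_ne_of_ne hb hc, swap_apply_of_ne_of_ne ha hb]

theorem tc_cube {a b c : α} (h1 : a ≠ b) (h2 : b ≠ c) (h3 : a ≠ c) :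
    (tc a b c) * tc a b c * tc a b c = 1 := by
  obtain ⟨e1, e2, e3⟩ := tc_apply h1 h2 h3
  apply Subtype.ext
  apply Equiv.ext
  intro x
  show (tc a b c : Perm α) ((tc a b c : Perm α) ((tc a b c : Perm α) x)) = x
  by_cases hxa : x = a
  · rw [hxa, e1, e2, e3]
  by_cases hxb : x = b
  · rw [hxb, e2, e3, e1]
  by_cases hxc : x = c
  · rw [hxc, e3, e1, e2]
  have := tc_apply_of_ne h1 h2 hxa hxb hxc
  rw [this, this, this]

theorem moved_tc {a b c x : α} (h1 : a ≠ b) (h2 : b ≠ c) (h3 : a ≠ c) :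
    (tc a b c : Perm α) x ≠ x ↔ (x = a ∨ x = b ∨ x = c) := by
  obtain ⟨e1, e2, e3⟩ := tc_apply h1 h2 h3
  constructor
  · intro h
    by_contra hc
    simp only [not_or] at hc
    exact h (tc_apply_of_ne h1 h2 hc.1 hc.2.1 hc.2.2)
  · rintro (rfl | rfl | rfl)
    · rw [e1]; exact h1.symm
    · rw [e2]; exact h2.symm
    · rw [e3]; exact h3

/-- letters outside the first four -/
def Out4 (v : Fin 9 ↪ α) (x : α) : Prop := ∀ i : Fin 9, i < 4 → v i ≠ x

theorem out4_v (v : Fin 9 ↪ α) (i : Fin 9) (hi : 4 ≤ i) : Out4 v (v i) := by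
  intro j hj
  apply v.injective.ne
  rintro rfl
  exact absurd hi (not_le.2 hj)

/-- four letters outside the first four, different from `x` -/
theorem four_more (v : Fin 9 ↪ α) (x : α) : ∃ y z w w' : α, [y, z, w, w'].Nodup ∧
    x ≠ y ∧ x ≠ z ∧ x ≠ w ∧ x ≠ w' ∧ Out4 v y ∧ Out4 v z ∧ Out4 v w ∧ Out4 v w' := by
  have hne : ∀ i j : Fin 9, i ≠ j → v i ≠ v j := fun i j h => v.injective.ne h
  have o := out4_v v
  have nd : ∀ i j p q : Fin 9, [i, j, p, q].Nodup → [v i, v j, v p, v q].Nodup := by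
    intro i j p q hd
    have : [v i, v j, v p, v q] = [i, j, p, q].map v := rfl
    rw [this]
    exact hd.map v.injective
  have key : ∀ i j p q : Fin 9, [i, j, p, q].Nodup → (4 ≤ i ∧ 4 ≤ j ∧ 4 ≤ p ∧ 4 ≤ q) →
      (x ≠ v i ∧ x ≠ v j ∧ x ≠ v p ∧ x ≠ v q) → ∃ y z w w' : α, [y, z, w, w'].Nodup ∧
    x ≠ y ∧ x ≠ z ∧ x ≠ w ∧ x ≠ w' ∧ Out4 v y ∧ Out4 v z ∧ Out4 v w ∧ Out4 v w' := by
    intro i j p q h1 h2 h3
    exact ⟨v i, v j, v p, v q, nd _ _ _ _ h1, h3.1, h3.2.1, h3.2.2.1, h3.2.2.2, o _ h2.1, o _ h2.2.1,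
      o _ h2.2.2.1, o _ h2.2.2.2⟩
  by_cases h4 : x = v 4
  · exact key 5 6 7 8 (by decide) (by decide) (by rw [h4]; exact ⟨hne _ _ (by decide),
      hne _ _ (by decide), hne _ _ (by decide), hne _ _ (by decide)⟩)
  by_cases h5 : x = v 5
  · exact key 4 6 7 8 (by decide) (by decide) (by rw [h5]; exact ⟨hne _ _ (by decide),
      hne _ _ (by decide), hne _ _ (by decide), hne _ _ (by decide)⟩)
  by_cases h6 : x = v 6
  · exact key 4 5 7 8 (by decide) (by decide) (by rw [h6]; exact ⟨hne _ _ (by decide),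
      hne _ _ (by decide), hne _ _ (by decide), hne _ _ (by decide)⟩)
  by_cases h7 : x = v 7
  · exact key 4 5 6 8 (by decide) (by decide) (by rw [h7]; exact ⟨hne _ _ (by decide),
      hne _ _ (by decide), hne _ _ (by decide), hne _ _ (by decide)⟩)
  · exact key 4 5 6 7 (by decide) (by decide) ⟨h4, h5, h6, h7⟩

/-- if `k` commutes with all 3-cycles outside the first four letters, it fixes `x` as soon as the
3-cycles `(x y z)` with `y, z` outside commute with `k` -/
theorem fix_of_tc (v : Fin 9 ↪ α) {k : alternatingGroup α} {x : α}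
    (h : ∀ y z, Out4 v y → Out4 v z → x ≠ y → x ≠ z → y ≠ z → tc x y z * k = k * tc x y z) :
    (k : Perm α) x = x := by
  obtain ⟨y, z, w, w', hd, hxy, hxz, hxw, hxw', hy, hz, hw, hw'⟩ := four_more v x
  simp only [List.nodup_cons, List.mem_cons, List.not_mem_nil, or_false, not_or,
    List.nodup_nil, and_true, not_false_eq_true] at hd
  obtain ⟨⟨hyz, hyw, hyw'⟩, ⟨hzw, hzw'⟩, hww'⟩ := hd
  have A : ∀ p q, Out4 v p → Out4 v q → x ≠ p → x ≠ q → p ≠ q →
      ((k : Perm α) x = x ∨ (k : Perm α) x = p ∨ (k : Perm α) x = q) := by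
    intro p q hp hq h1 h2 h3
    have h' := congrArg Subtype.val (h p q hp hq h1 h2 h3)
    rw [← moved_tc h1 h3 h2]
    exact (moved_iff h' x).2 ((moved_tc h1 h3 h2).2 (Or.inl rfl))
  rcases A y z hy hz hxy hxz hyz with e | e | e
  · exact e
  · rcases A w w' hw hw' hxw hxw' hww' with f | f | f
    · exact f
    · exact absurd (e.symm.trans f) hyw
    · exact absurd (e.symm.trans f) hyw'
  · rcases A w w' hw hw' hxw hxw' hww' with f | f | f
    · exact f
    · exact absurd (e.symm.trans f) hzw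
    · exact absurd (e.symm.trans f) hzw'

theorem lt4 {i : Fin 9} (hi : i < 4) : i = 0 ∨ i = 1 ∨ i = 2 ∨ i = 3 := by
  revert i; decide

theorem lt3 {i : Fin 9} (hi : i < 3) : i = 0 ∨ i = 1 ∨ i = 2 := by
  revert i; decide

/-- an even permutation fixing `x ∉ {v 0 … v 3}` and `v 0, v 1` is trivial -/
theorem eq_one_of_out4 (v : Fin 9 ↪ α) {k : alternatingGroup α}
    (hf : ∀ x, Out4 v x → (k : Perm α) x = x) (h0 : (k : Perm α) (v 0) = v 0)
    (h1 : (k : Perm α) (v 1) = v 1) : k = 1 := by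
  apply eq_one_of_fix (v 2) (v 3)
  intro x hx2 hx3
  by_cases hx : Out4 v x
  · exact hf x hx
  rw [Out4] at hx
  push Not at hx
  obtain ⟨i, hi, rfl⟩ := hx
  rcases lt4 hi with rfl | rfl | rfl | rfl
  · exact h0
  · exact h1
  · exact absurd rfl hx2
  · exact absurd rfl hx3

theorem mul_emb_out4 (v : Fin 9 ↪ α) {k : alternatingGroup α} (hk : ∀ x, Out4 v x → (k : Perm α) x = x)
    {m : alternatingGroup (Fin 9)} (hm : ∀ i : Fin 9, 4 ≤ i → (m : Perm (Fin 9)) i = i) {x : α}
    (hx : Out4 v x) : (emb v m * k : Perm α) x = x := by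
  show (emb v m : Perm α) ((k : Perm α) x) = x
  rw [hk x hx]
  by_cases hr : x ∈ Set.range v
  · obtain ⟨i, rfl⟩ := hr
    rw [emb_apply, hm]
    by_contra hc
    exact hx i (not_le.1 hc) rfl
  · exact emb_notMem v _ hr

/-- where a permutation commuting with `(01)(23)` can move `v 0` -/
theorem four_cases (v : Fin 9 ↪ α) {k : alternatingGroup α}
    (hr : emb v (dt 0 1 2 3) * k = k * emb v (dt 0 1 2 3)) :
    ∃ m : alternatingGroup (Fin 9), (m = 1 ∨ m = dt 0 1 2 3 ∨ m = dt 0 2 1 3 ∨ m = dt 0 3 1 2) ∧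
      (emb v m * k : Perm α) (v 0) = v 0 ∧ (emb v m * k : Perm α) (v 1) = v 1 := by
  have hne : ∀ i j : Fin 9, i ≠ j → v i ≠ v j := fun i j h => v.injective.ne h
  have h1 := (mem_iff_of_comm (k := k) (a := v 0) (b := v 1) (c := v 2) (d := v 3)
    (nodup4 (hne _ _ (by decide)) (hne _ _ (by decide)) (hne _ _ (by decide)) (hne _ _ (by decide))
      (hne _ _ (by decide)) (hne _ _ (by decide)))
    (by rw [← emb_dt v (by decide) (by decide)]; exact hr) (v 0)).2 (Or.inl rfl)
  have key : ∀ m : alternatingGroup (Fin 9), m * dt 0 1 2 3 = dt 0 1 2 3 * m →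
      (emb v m * k : Perm α) (v 0) = v 0 → (emb v m * k : Perm α) (v 1) = v 1 := by
    intro m hm e0
    have h2 : emb v (dt 0 1 2 3) * (emb v m * k) = (emb v m * k) * emb v (dt 0 1 2 3) := by
      rw [← mul_assoc, ← map_mul, ← hm, map_mul, mul_assoc, hr, mul_assoc]
    have := apply_comm h2 (v 0)
    rw [emb_apply] at this
    have e : ((dt 0 1 2 3 : alternatingGroup (Fin 9)) : Perm (Fin 9)) 0 = 1 := by decide
    rw [e] at this
    rw [show (emb v m * k : Perm α) (v 1) = ((emb v m * k : alternatingGroup α) : Perm α) (v 1) from rfl,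
      this]
    rw [show ((emb v m * k : alternatingGroup α) : Perm α) (v 0) = v 0 from e0, emb_apply, e]
  rcases h1 with e | e | e | e
  · refine ⟨1, Or.inl rfl, ?_, ?_⟩
    · rw [map_one]; exact e
    · apply key 1 (by decide); rw [map_one]; exact e
  · have : (emb v (dt 0 1 2 3) * k : Perm α) (v 0) = v 0 := by
      show (emb v _ : Perm α) ((k : Perm α) _) = _
      rw [e, emb_apply]; rfl
    exact ⟨_, Or.inr (Or.inl rfl), this, key _ (by decide) this⟩
  · have : (emb v (dt 0 2 1 3) * k : Perm α) (v 0) = v 0 := by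
      show (emb v _ : Perm α) ((k : Perm α) _) = _
      rw [e, emb_apply]; rfl
    exact ⟨_, Or.inr (Or.inr (Or.inl rfl)), this, key _ (by decide) this⟩
  · have : (emb v (dt 0 3 1 2) * k : Perm α) (v 0) = v 0 := by
      show (emb v _ : Perm α) ((k : Perm α) _) = _
      rw [e, emb_apply]; rfl
    exact ⟨_, Or.inr (Or.inr (Or.inr rfl)), this, key _ (by decide) this⟩

/-- **C6**: `C(L_B) ∩ C(r) = V_B` -/
theorem cent_four (v : Fin 9 ↪ α) (k : alternatingGroup α)
    (h : ∀ l : alternatingGroup α, l * l * l = 1 → (∀ i : Fin 9, i < 4 → (l : Perm α) (v i) = v i) →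
      l * k = k * l) (hr : emb v (dt 0 1 2 3) * k = k * emb v (dt 0 1 2 3)) :
    k = 1 ∨ k = emb v (dt 0 1 2 3) ∨ k = emb v (dt 0 2 1 3) ∨ k = emb v (dt 0 3 1 2) := by
  have F : ∀ x, Out4 v x → (k : Perm α) x = x := by
    intro x hx
    apply fix_of_tc v
    intro y z hy hz hxy hxz hyz
    apply h _ (tc_cube hxy hyz hxz)
    intro i hi
    exact tc_apply_of_ne hxy hyz (hx i hi) (hy i hi) (hz i hi)
  obtain ⟨m, hm, e0, e1⟩ := four_cases v hr
  have hmm : m * m = 1 := by rcases hm with rfl | rfl | rfl | rfl <;> decide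
  have hmo : ∀ i : Fin 9, 4 ≤ i → (m : Perm (Fin 9)) i = i := by
    rcases hm with rfl | rfl | rfl | rfl <;> decide
  have h1 : emb v m * k = 1 := eq_one_of_out4 v (fun x hx => mul_emb_out4 v F hmo hx) e0 e1
  have h2 := inv_of_sq v hmm h1
  rcases hm with rfl | rfl | rfl | rfl
  · left; rw [h2, map_one]
  · exact Or.inr (Or.inl h2)
  · exact Or.inr (Or.inr (Or.inl h2))
  · exact Or.inr (Or.inr (Or.inr h2))

/-- **C5**: `C(Alt(Ω ∖ {0,1,2}))` consists of elements of order 1 or 3 -/
theorem cent_three (v : Fin 9 ↪ α) (k : alternatingGroup α)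
    (h : ∀ l : alternatingGroup α, (∀ i : Fin 9, i < 3 → (l : Perm α) (v i) = v i) →
      l * k = k * l) : k * k * k = 1 := by
  have hne : ∀ i j : Fin 9, i ≠ j → v i ≠ v j := fun i j h => v.injective.ne h
  have F : ∀ x, (∀ i : Fin 9, i < 3 → v i ≠ x) → (k : Perm α) x = x := by
    intro x hx
    apply fix_of_tc v
    intro y z hy hz hxy hxz hyz
    apply h
    intro i hi
    have hi4 : i < 4 := lt_trans hi (by decide)
    exact tc_apply_of_ne hxy hyz (hx i hi) (hy i hi4) (hz i hi4)
  have M : ∀ i : Fin 9, i < 3 → ((k : Perm α) (v i) = v 0 ∨ (k : Perm α) (v i) = v 1 ∨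
      (k : Perm α) (v i) = v 2) := by
    intro i hi
    by_contra hc
    simp only [not_or] at hc
    have h1 : ∀ j : Fin 9, j < 3 → v j ≠ (k : Perm α) (v i) := by
      intro j hj
      have : j = 0 ∨ j = 1 ∨ j = 2 := by revert j; decide
      rcases this with rfl | rfl | rfl
      · exact Ne.symm hc.1
      · exact Ne.symm hc.2.1
      · exact Ne.symm hc.2.2
    have h2 := (k : Perm α).injective (F _ h1)
    exact h1 i hi h2.symm
  have inj := (k : Perm α).injective
  have fin : (k : Perm α) (v 0) = v 0 → k = 1 := by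
    intro e
    apply eq_one_of_fix (v 1) (v 2)
    intro x h1 h2
    by_cases hx : ∀ i : Fin 9, i < 3 → v i ≠ x
    · exact F x hx
    push Not at hx
    obtain ⟨i, hi, rfl⟩ := hx
    rcases lt3 hi with rfl | rfl | rfl
    · exact e
    · exact absurd rfl h1
    · exact absurd rfl h2
  have fin' : ∀ i j l : Fin 9, i < 3 → j < 3 → l < 3 → i ≠ j → i ≠ l → j ≠ l →
      (k : Perm α) (v l) = v l → (k : Perm α) (v i) = v j → False := by
    intro i j l hi hj hl hij hil hjl e1 e2
    have : k = 1 := by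
      apply eq_one_of_fix (v i) (v j)
      intro x h1 h2
      by_cases hx : ∀ i : Fin 9, i < 3 → v i ≠ x
      · exact F x hx
      push Not at hx
      obtain ⟨p, hp, rfl⟩ := hx
      have : p = i ∨ p = j ∨ p = l := by
        clear e1 e2 h1 h2
        revert i j l p; decide
      rcases this with rfl | rfl | rfl
      · exact absurd rfl h1
      · exact absurd rfl h2
      · exact e1
    rw [this] at e2
    exact hne i j hij e2
  have cyc : ∀ i j : Fin 9, i < 3 → j < 3 → 0 ≠ i → 0 ≠ j → i ≠ j → (k : Perm α) (v 0) = v i →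
      k * k * k = 1 := by
    intro i j hi hj h0i h0j hij e0
    -- `k` is the 3-cycle `0 → i → j → 0`
    have ej : (k : Perm α) (v i) = v j := by
      have hall : ∀ x : Fin 9, x < 3 → x = 0 ∨ x = i ∨ x = j := by
        clear e0 fin fin'
        revert i j; decide
      have h1 : ∃ x : Fin 9, x < 3 ∧ (k : Perm α) (v i) = v x := by
        rcases M i hi with e | e | e
        · exact ⟨0, by decide, e⟩
        · exact ⟨1, by decide, e⟩
        · exact ⟨2, by decide, e⟩
      obtain ⟨x, hx, e⟩ := h1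
      rcases hall x hx with rfl | rfl | rfl
      · -- then `j` is fixed
        exfalso
        have h2 : ∃ y : Fin 9, y < 3 ∧ (k : Perm α) (v j) = v y := by
          rcases M j hj with e | e | e
          · exact ⟨0, by decide, e⟩
          · exact ⟨1, by decide, e⟩
          · exact ⟨2, by decide, e⟩
        obtain ⟨y, hy, f⟩ := h2
        rcases hall y hy with rfl | rfl | rfl
        · exact hne _ _ hij (inj (e.trans f.symm))
        · exact hne _ _ h0j (inj (e0.trans f.symm))
        · exact fin' 0 i y (by decide) hi hj h0i h0j hij f e0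
      · exact absurd (inj (e0.trans e.symm)) (hne _ _ h0i)
      · exact e
    have e2 : (k : Perm α) (v j) = v 0 := by
      have h2 : ∃ y : Fin 9, y < 3 ∧ (k : Perm α) (v j) = v y := by
        rcases M j hj with e | e | e
        · exact ⟨0, by decide, e⟩
        · exact ⟨1, by decide, e⟩
        · exact ⟨2, by decide, e⟩
      obtain ⟨y, hy, f⟩ := h2
      have hall : y = 0 ∨ y = i ∨ y = j := by
        clear e0 ej fin fin' f
        revert i j y; decide
      rcases hall with rfl | rfl | rfl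
      · exact f
      · exact absurd (inj (e0.trans f.symm)) (hne _ _ h0j)
      · exact absurd (inj (ej.trans f.symm)) (hne _ _ hij)
    apply Subtype.ext
    apply Equiv.ext
    intro x
    show (k : Perm α) ((k : Perm α) ((k : Perm α) x)) = x
    by_cases hx : ∀ i : Fin 9, i < 3 → v i ≠ x
    · rw [F x hx, F x hx, F x hx]
    push Not at hx
    obtain ⟨p, hp, rfl⟩ := hx
    have : p = 0 ∨ p = i ∨ p = j := by
      clear e0 ej e2 fin fin'
      revert i j p; decide
    rcases this with rfl | rfl | rfl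
    · rw [e0, ej, e2]
    · rw [ej, e2, e0]
    · rw [e2, e0, ej]
  rcases M 0 (by decide) with e | e | e
  · rw [fin e, mul_one, mul_one]
  · exact cyc 1 2 (by decide) (by decide) (by decide) (by decide) (by decide) e
  · exact cyc 2 1 (by decide) (by decide) (by decide) (by decide) (by decide) e

/-- **generation of `C_K(r)`** -/
theorem mem_of_comm (v : Fin 9 ↪ α) (H : Subgroup (alternatingGroup α))
    (h1 : emb v (dt 0 1 2 3) ∈ H) (h2 : emb v (dt 0 2 1 3) ∈ H) (h3 : emb v (dt 2 3 4 5) ∈ H)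
    (hL : ∀ l : alternatingGroup α, (∀ i : Fin 9, i < 4 → (l : Perm α) (v i) = v i) → l ∈ H)
    (k : alternatingGroup α) (hr : emb v (dt 0 1 2 3) * k = k * emb v (dt 0 1 2 3)) : k ∈ H := by
  have hne : ∀ i j : Fin 9, i ≠ j → v i ≠ v j := fun i j h => v.injective.ne h
  obtain ⟨m, hm, e0, e1⟩ := four_cases v hr
  have hmH : emb v m ∈ H := by
    rcases hm with rfl | rfl | rfl | rfl
    · rw [map_one]; exact H.one_mem
    · exact h1
    · exact h2
    · have : (dt 0 3 1 2 : alternatingGroup (Fin 9)) = dt 0 1 2 3 * dt 0 2 1 3 := by decide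
      rw [this, map_mul]
      exact H.mul_mem h1 h2
  have hmc : m * dt 0 1 2 3 = dt 0 1 2 3 * m := by rcases hm with rfl | rfl | rfl | rfl <;> decide
  have hc : emb v (dt 0 1 2 3) * (emb v m * k) = (emb v m * k) * emb v (dt 0 1 2 3) := by
    rw [← mul_assoc, ← map_mul, ← hmc, map_mul, mul_assoc, hr, mul_assoc]
  suffices hs : emb v m * k ∈ H by
    have := H.mul_mem (H.inv_mem hmH) hs
    rwa [inv_mul_cancel_left] at this
  have f0 : ((emb v m * k : alternatingGroup α) : Perm α) (v 0) = v 0 := e0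
  have f1 : ((emb v m * k : alternatingGroup α) : Perm α) (v 1) = v 1 := e1
  generalize emb v m * k = k' at hc f0 f1 ⊢
  have h4 := (mem_iff_of_comm (k := k') (a := v 0) (b := v 1) (c := v 2) (d := v 3)
    (nodup4 (hne _ _ (by decide)) (hne _ _ (by decide)) (hne _ _ (by decide)) (hne _ _ (by decide))
      (hne _ _ (by decide)) (hne _ _ (by decide)))
    (by rw [← emb_dt v (by decide) (by decide)]; exact hc) (v 2)).2 (Or.inr (Or.inr (Or.inl rfl)))
  have f23 : (k' : Perm α) (v 3) = (emb v (dt 0 1 2 3) : Perm α) ((k' : Perm α) (v 2)) := by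
    have := apply_comm hc (v 2)
    rw [emb_apply] at this
    exact this
  have L4 : ∀ l : alternatingGroup α, (l : Perm α) (v 0) = v 0 → (l : Perm α) (v 1) = v 1 →
      (l : Perm α) (v 2) = v 2 → (l : Perm α) (v 3) = v 3 → l ∈ H := by
    intro l e0 e1 e2 e3
    apply hL
    intro i hi
    have : i = 0 ∨ i = 1 ∨ i = 2 ∨ i = 3 := by revert i; decide
    rcases this with rfl | rfl | rfl | rfl <;> assumption
  rcases h4 with e | e | e | e
  · exact absurd ((k' : Perm α).injective (e.trans f0.symm)) (hne _ _ (by decide))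
  · exact absurd ((k' : Perm α).injective (e.trans f1.symm)) (hne _ _ (by decide))
  · apply L4 _ f0 f1 e
    rw [f23, e, emb_apply]; rfl
  · have f3 : (k' : Perm α) (v 3) = v 2 := by rw [f23, e, emb_apply]; rfl
    have : emb v (dt 2 3 4 5) * k' ∈ H := by
      apply L4
      · show (emb v _ : Perm α) ((k' : Perm α) _) = _
        rw [f0, emb_apply]; rfl
      · show (emb v _ : Perm α) ((k' : Perm α) _) = _
        rw [f1, emb_apply]; rfl
      · show (emb v _ : Perm α) ((k' : Perm α) _) = _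
        rw [e, emb_apply]; rfl
      · show (emb v _ : Perm α) ((k' : Perm α) _) = _
        rw [f3, emb_apply]; rfl
    have := H.mul_mem (H.inv_mem h3) this
    rwa [inv_mul_cancel_left] at this

/-- even permutations fixing the letters outside `p` are products of 3-cycles -/
theorem mem_of_fix (p : α → Prop) [DecidablePred p] (H : Subgroup (alternatingGroup α))
    (hH : ∀ l : alternatingGroup α, l * l * l = 1 → (∀ x, ¬ p x → (l : Perm α) x = x) → l ∈ H)
    (k : alternatingGroup α) (hk : ∀ x, ¬ p x → (k : Perm α) x = x) : k ∈ H := by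
  have hk' : ∀ x, p ((k : Perm α) x) ↔ p x := by
    intro x
    constructor
    · intro h1
      by_contra h2
      rw [hk x h2] at h1
      exact h2 h1
    · intro h1
      by_contra h2
      have := (k : Perm α).injective (hk _ h2)
      rw [this] at h2
      exact h2 h1
  set k0 : Perm {x // p x} := (k : Perm α).subtypePerm hk' with hk0
  have e0 : Perm.ofSubtype k0 = (k : Perm α) := by
    apply Perm.ofSubtype_subtypePerm
    intro x hx
    by_contra h
    exact hx (hk x h)
  have hs : Perm.sign k0 = 1 := by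
    rw [← Perm.sign_ofSubtype, e0]
    exact k.2
  have h1 : k0 ∈ Subgroup.closure {σ : Perm {x // p x} | σ.IsThreeCycle} := by
    rw [Perm.closure_three_cycles_eq_alternating]
    exact hs
  have h2 : ∀ σ ∈ Subgroup.closure {σ : Perm {x // p x} | σ.IsThreeCycle},
      ∃ l : alternatingGroup α, (l : Perm α) = Perm.ofSubtype σ ∧ l ∈ H := by
    intro σ hσ
    induction hσ using Subgroup.closure_induction with
    | mem σ hσ =>
      refine ⟨⟨Perm.ofSubtype σ, ?_⟩, rfl, ?_⟩
      · rw [Perm.mem_alternatingGroup, Perm.sign_ofSubtype]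
        exact Perm.IsThreeCycle.sign hσ
      · apply hH
        · apply Subtype.ext
          show Perm.ofSubtype σ * Perm.ofSubtype σ * Perm.ofSubtype σ = 1
          rw [← map_mul, ← map_mul]
          have : σ ^ 3 = 1 := by
            have := Perm.IsThreeCycle.orderOf hσ
            rw [← this]; exact pow_orderOf_eq_one σ
          rw [show σ * σ * σ = σ ^ 3 by rw [pow_succ, pow_two], this, map_one]
        · intro x hx
          exact Perm.ofSubtype_apply_of_not_mem σ hx
    | one => exact ⟨1, by rw [map_one]; rfl, H.one_mem⟩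
    | mul a b _ _ ha hb =>
      obtain ⟨l, e, hl⟩ := ha
      obtain ⟨l', e', hl'⟩ := hb
      exact ⟨l * l', by rw [map_mul, ← e, ← e']; rfl, H.mul_mem hl hl'⟩
    | inv a _ ha =>
      obtain ⟨l, e, hl⟩ := ha
      exact ⟨l⁻¹, by rw [map_inv, ← e]; rfl, H.inv_mem hl⟩
  obtain ⟨l, e, hl⟩ := h2 k0 h1
  have : l = k := Subtype.ext (e.trans e0)
  rwa [this] at hl

end Cfsg.Agent.OddHalf.D5.Dbl
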