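import Cfsg.Agent.OddHalf.D5.DblStart

/-!
# ODD D5 (helper845): the clean case, `n ≥ 9`, pattern `2 ∈ B`

`C_G(t) = ⟨t⟩ × Alt(α)`, `|α| ≥ 9`, `t` not conjugate into `Alt(α)`, `t ~ t r` for a double
transposition `r`: then `t` is outside a subgroup of index 2.  No simplicity, no `K`-groups.
-/

set_option autoImplicit false
set_option linter.unusedSectionVars false

namespace Cfsg.Agent.OddHalf.D5.Dbl

open Equiv

variable {α : Type*} [Fintype α] [DecidableEq α] {G : Type*} [Group G]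

theorem inv_pt {a : alternatingGroup α} (h : a * a = 1) (x : α) :
    (a : Perm α) ((a : Perm α) x) = x :=
  congrArg (fun f : alternatingGroup α => (f : Perm α) x) h

theorem exists_emb_dt (hn : 9 ≤ Fintype.card α) {a b c d : α} (hd : [a, b, c, d].Nodup) :
    ∃ v : Fin 9 ↪ α, dt a b c d = emb v (dt 0 1 2 3) := by
  obtain ⟨v, hv⟩ := exists_emb_list hn ![a, b, c, d] hd (by decide)
  have h0 : v 0 = a := hv 0
  have h1 : v 1 = b := hv 1
  have h2 : v 2 = c := hv 2
  have h3 : v 3 = d := hv 3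
  exact ⟨v, by rw [emb_dt v (by decide) (by decide), h0, h1, h2, h3]⟩

theorem root_emb (hn : 9 ≤ Fintype.card α) {a : alternatingGroup α}
    (h4 : (a : Perm α).support.card = 4) (ha : a * a = 1) :
    ∃ v : Fin 9 ↪ α, a = emb v (dt 0 1 2 3) := by
  have hu := inv_pt ha
  have h1 : a ≠ 1 := by
    rintro rfl
    rw [OneMemClass.coe_one, Perm.support_one, Finset.card_empty] at h4
    exact absurd h4 (by decide)
  obtain ⟨x, y, hx, hy, yx, yux⟩ := inv_split h1
  obtain ⟨n1, n2, n3, n4, n5, n6⟩ := inv_four hu hx hy yx yux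
  have hsub : ({x, (a : Perm α) x, y, (a : Perm α) y} : Finset α) ⊆ (a : Perm α).support := by
    intro z hz
    simp only [Finset.mem_insert, Finset.mem_singleton] at hz
    rw [Perm.mem_support]
    rcases hz with rfl | rfl | rfl | rfl
    · exact hx
    · rw [hu]; exact hx.symm
    · exact hy
    · rw [hu]; exact hy.symm
  have hcard : ({x, (a : Perm α) x, y, (a : Perm α) y} : Finset α).card = 4 := by
    rw [Finset.card_insert_of_notMem, Finset.card_insert_of_notMem, Finset.card_insert_of_notMem,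
      Finset.card_singleton]
    · simp only [Finset.mem_singleton]; exact n6
    · simp only [Finset.mem_insert, Finset.mem_singleton, not_or]; exact ⟨n4, n5⟩
    · simp only [Finset.mem_insert, Finset.mem_singleton, not_or]; exact ⟨n1, n2, n3⟩
  have heq := Finset.eq_of_subset_of_card_le hsub (by rw [h4, hcard])
  have hdt := eq_dt hu hx hy yx yux (by
    intro z z1 z2 z3 z4
    by_contra hz
    have : z ∈ (a : Perm α).support := Perm.mem_support.2 hz
    rw [← heq] at this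
    simp only [Finset.mem_insert, Finset.mem_singleton] at this
    tauto)
  obtain ⟨v, hv⟩ := exists_emb_dt hn (nodup4 n1 n2 n3 n4 n5 n6)
  exact ⟨v, hdt.trans hv⟩

/-- `(ι r)^{g⁻¹}` is an involution of `ι(Alt(α))` -/
theorem Cl.back {t : G} {ι : alternatingGroup α →* G} (C : Cl t ι) {a : alternatingGroup α}
    (ha : a * a = 1) {g : G} (hg : cj t g = t * ι a) :
    ∃ b : alternatingGroup α, b * b = 1 ∧ cj (ι b) g = ι a := by
  have h1 : cj (t * ι a) g⁻¹ = t := by rw [← hg, cj_cancel]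
  have hia : ι a * ι a = 1 := by rw [← map_mul, ha, map_one]
  have h2 : cj (ι a) g⁻¹ * t = t * cj (ι a) g⁻¹ := by
    nth_rw 1 [← h1]
    nth_rw 2 [← h1]
    rw [← cj_mul, ← cj_mul]
    congr 1
    rw [← mul_assoc, ← C.comm]
  have h3 : cj (ι a) g⁻¹ * t = cj t g⁻¹ := by
    nth_rw 1 [← h1]
    rw [← cj_mul]
    congr 1
    rw [← mul_assoc, ← C.comm, mul_assoc, hia, mul_one]
  obtain ⟨b, hb | hb⟩ := C.cent _ h2
  · refine ⟨b, ?_, ?_⟩
    · apply C.inj
      rw [map_mul, map_one, ← hb, ← cj_mul, hia, one_cj]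
    · rw [← hb, cj_cancel']
  · exfalso
    apply C.hK b
    have h4 : ι b = cj t g⁻¹ := by
      rw [← h3, hb, mul_assoc, ← C.comm, ← mul_assoc, C.tt, one_mul]
    rw [h4]
    exact isConj_cj t g⁻¹

/-- the involution `b` is a double transposition -/
theorem Cl.back_root {t : G} {ι : alternatingGroup α →* G} (C : Cl t ι) (v : Fin 9 ↪ α) {g : G}
    (hg : cj t g = t * ι (emb v (dt 0 1 2 3))) {b : alternatingGroup α} (hb : b * b = 1)
    (hbg : cj (ι b) g = ι (emb v (dt 0 1 2 3))) : ∃ w : Fin 9 ↪ α, b = emb w (dt 0 1 2 3) := by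
  have hu := inv_pt hb
  have rr : emb v (dt 0 1 2 3) * emb v (dt 0 1 2 3) = 1 := by
    rw [← map_mul, show (dt 0 1 2 3 * dt 0 1 2 3 : alternatingGroup (Fin 9)) = 1 by decide, map_one]
  have r0 : (emb v (dt 0 1 2 3) : Perm α) (v 0) = v 1 := by
    rw [emb_apply]; exact congrArg v (by decide)
  have hv01 : v 1 ≠ v 0 := v.injective.ne (by decide)
  have hb1 : b ≠ 1 := by
    rintro rfl
    rw [map_one, one_cj] at hbg
    have h1 : emb v (dt 0 1 2 3) = 1 := C.inj (by rw [← hbg, map_one])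
    rw [h1] at r0
    exact hv01 r0.symm
  obtain ⟨x, y, hx, hy, yx, yux⟩ := inv_split hb1
  obtain ⟨n1, n2, n3, n4, n5, n6⟩ := inv_four hu hx hy yx yux
  by_cases hz : ∀ z, z ≠ x → z ≠ (b : Perm α) x → z ≠ y → z ≠ (b : Perm α) y → (b : Perm α) z = z
  · have hdt := eq_dt hu hx hy yx yux hz
    obtain ⟨w, hw⟩ := exists_emb_dt C.h9 (nodup4 n1 n2 n3 n4 n5 n6)
    exact ⟨w, hdt.trans hw⟩
  exfalso
  push Not at hz
  obtain ⟨z, zx, zux, zy, zuy, hz⟩ := hz
  -- the subgroup `S` of all `l` with `(ι l)^g ∈ ι(L_B)`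
  let S : Subgroup (alternatingGroup α) :=
    { carrier := {l | ∃ l' : alternatingGroup α, cj (ι l) g = ι l' ∧
        ∀ i : Fin 9, i < 4 → (l' : Perm α) (v i) = v i}
      mul_mem' := by
        rintro a b ⟨a', ha, ha'⟩ ⟨b', hb, hb'⟩
        refine ⟨a' * b', by rw [map_mul, cj_mul, ha, hb, map_mul], ?_⟩
        intro i hi
        show (a' : Perm α) ((b' : Perm α) (v i)) = v i
        rw [hb' i hi, ha' i hi]
      one_mem' := ⟨1, by rw [map_one, one_cj], fun i _ => rfl⟩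
      inv_mem' := by
        rintro a ⟨a', ha, ha'⟩
        refine ⟨a'⁻¹, by rw [map_inv, cj_inv, ha, map_inv], ?_⟩
        intro i hi
        show ((a' : Perm α)⁻¹) (v i) = v i
        rw [Perm.inv_eq_iff_eq]
        exact (ha' i hi).symm }
  have hS : b ∈ S := by
    apply mem_three C.h9 hu _ hx hy hz yx yux zx zux zy zuy
    intro l hl h3
    -- `(ι l)^g` commutes with `r` and `t`
    have c1 : Commute (cj (ι l) g) (ι (emb v (dt 0 1 2 3))) := by
      show _ * _ = _ * _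
      rw [← hbg, ← cj_mul, ← cj_mul, ← map_mul, ← map_mul, hl]
    have c2 : Commute (cj (ι l) g) (t * ι (emb v (dt 0 1 2 3))) := by
      show _ * _ = _ * _
      rw [← hg, ← cj_mul, ← cj_mul, C.comm]
    have c3 : cj (ι l) g * t = t * cj (ι l) g := by
      have e : t = t * ι (emb v (dt 0 1 2 3)) * ι (emb v (dt 0 1 2 3)) := by
        rw [mul_assoc, ← map_mul, rr, map_one, mul_one]
      rw [e]
      exact (c2.mul_right c1).eq
    have c4 : cj (ι l) g * cj (ι l) g * cj (ι l) g = 1 := by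
      rw [← cj_mul, ← cj_mul, ← map_mul, ← map_mul, h3, map_one, one_cj]
    obtain ⟨l', hl', hl3⟩ := C.cube_mem c3 c4
    refine ⟨l', hl', fix_of_cube v hl3 ?_⟩
    apply C.inj
    rw [map_mul, map_mul, ← hl']
    exact c1.eq.symm
  obtain ⟨l', hl', hf⟩ := hS
  rw [hbg] at hl'
  have e := C.inj hl'
  rw [← e] at hf
  have := hf 0 (by decide)
  rw [r0] at this
  exact hv01 this

/-- the start -/
theorem Cl.start {t : G} {ι : alternatingGroup α →* G} (C : Cl t ι) (v : Fin 9 ↪ α)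
    (h : IsConj t (t * ι (emb v (dt 0 1 2 3)))) :
    ∃ y0 : G, cj t y0 = t * jj ι v (dt 0 1 2 3) ∧
      cj (jj ι v (dt 0 1 2 3)) y0 = jj ι v (dt 0 1 2 3) := by
  obtain ⟨c, hc⟩ := isConj_iff.1 h
  have hg : cj t c⁻¹ = t * ι (emb v (dt 0 1 2 3)) := by rw [cj, inv_inv, hc]
  have rr : emb v (dt 0 1 2 3) * emb v (dt 0 1 2 3) = 1 := by
    rw [← map_mul, show (dt 0 1 2 3 * dt 0 1 2 3 : alternatingGroup (Fin 9)) = 1 by decide, map_one]
  generalize c⁻¹ = g at hg
  obtain ⟨b, hb, hbg⟩ := C.back rr hg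
  obtain ⟨w, rfl⟩ := C.back_root v hg hb hbg
  obtain ⟨k, hk⟩ := trans_seven v w
  have h1 : cj (emb w (dt 0 1 2 3)) k = emb v (dt 0 1 2 3) :=
    cj_emb hk (by decide) (by decide) (by decide) (by decide) (by decide) (by decide)
  have h2 : cj (emb v (dt 0 1 2 3)) k⁻¹ = emb w (dt 0 1 2 3) := by rw [← h1, cj_cancel]
  refine ⟨ι k⁻¹ * g, ?_, ?_⟩
  · rw [cj_comp, cj_eq (C.comm _), hg]
    rfl
  · show cj (ι (emb v (dt 0 1 2 3))) (ι k⁻¹ * g) = ι (emb v (dt 0 1 2 3))
    rw [cj_comp, ← map_cj, h2, hbg]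

/-- **the clean case, `n ≥ 9`, pattern `2 ∈ B`** -/
theorem clean [Finite G] (h9 : 9 ≤ Fintype.card α) {t : G} {ι : alternatingGroup α →* G}
    (tt : t * t = 1) (inj : Function.Injective ι) (comm : ∀ a, t * ι a = ι a * t)
    (cent : ∀ g, g * t = t * g → ∃ a, g = ι a ∨ g = t * ι a) (ne : ∀ a, ι a ≠ t)
    (hK : ∀ a, ¬ IsConj t (ι a))
    (hB : ∃ a : alternatingGroup α, (a : Perm α).support.card = 4 ∧ a * a = 1 ∧
      IsConj t (t * ι a)) : ∃ m : G →* ℤˣ, m t = -1 := by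
  have C : Cl t ι := ⟨h9, tt, inj, comm, cent, ne, hK⟩
  obtain ⟨a, ha4, haa, hac⟩ := hB
  obtain ⟨v, rfl⟩ := root_emb h9 ha4 haa
  obtain ⟨y0, h1, h2⟩ := C.start v hac
  obtain ⟨y1, e1, e2, e3, e4⟩ := C.exists_y1 v h1 h2
  have hP : Cl.PV ι v y1 := by
    refine ⟨e2, ?_⟩
    have c1 : Commute y1 (Cl.jj ι v (dt 0 1 2 3)) := (cj_self_iff.1 e3).symm
    have c2 : Commute y1 (Cl.jj ι v (dt 0 2 1 3)) := (cj_self_iff.1 e4).symm
    rintro m (rfl | rfl | rfl | rfl)
    · rw [map_one, mul_one, one_mul]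
    · exact c1.eq
    · exact c2.eq
    · have e : Cl.jj ι v (dt 0 3 1 2) = Cl.jj ι v (dt 0 1 2 3) * Cl.jj ι v (dt 0 2 1 3) := by
        rw [← map_mul]; exact congrArg _ (by decide)
      rw [e]
      exact (c1.mul_right c2).eq
  obtain ⟨y, y1', y2', y3'⟩ := C.exists_y v e1 hP
  obtain ⟨Y, F⟩ := exists_fam C v y1' y2' y3'
  exact F.final C

end Cfsg.Agent.OddHalf.D5.Dbl
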