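import Cfsg.Agent.OddHalf.D5.DblInd

/-!
# ODD D5 (helper845): `δ = 0`
-/

set_option autoImplicit false
set_option linter.unusedSectionVars false

namespace Cfsg.Agent.OddHalf.D5.Dbl

open Equiv

/-- an involution whose centraliser has the form `⟨t⟩ × (exponent 3)` -/
theorem exists_odd_kernel {X : Type*} [Group X] [Finite X] {t : X} (tt : t * t = 1) (t1 : t ≠ 1)
    (hc : ∀ g : X, g * t = t * g → g * g * g = 1 ∨ (t * g) * (t * g) * (t * g) = 1) :
    ∃ N : Subgroup X, ¬ 2 ∣ Nat.card N ∧ (∀ x, x * x ∈ N) ∧ (∀ x, x * x * x = 1 → x ∈ N) := by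
  have : Fact (Nat.Prime 2) := ⟨Nat.prime_two⟩
  have ot : orderOf t = 2 := orderOf_eq_prime (by rw [pow_two, tt]) t1
  have hp : IsPGroup 2 (Subgroup.zpowers t) :=
    IsPGroup.of_card (n := 1) (by rw [Nat.card_zpowers, ot, pow_one])
  obtain ⟨P, hP⟩ := hp.exists_le_sylow
  have htP : t ∈ (P : Subgroup X) := hP (Subgroup.mem_zpowers t)
  -- a 2-element of order dividing 3 is trivial
  have key : ∀ g ∈ (P : Subgroup X), g * g * g = 1 → g = 1 := by
    intro g hg h3
    obtain ⟨k, hk⟩ := P.isPGroup'.exists_card_eq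
    have h1 : orderOf g ∣ 3 := orderOf_dvd_of_pow_eq_one (by rw [pow_succ, pow_two, h3])
    have h2 : orderOf g ∣ 2 ^ k := by
      rw [← hk, ← Subgroup.orderOf_mk g hg]
      exact orderOf_dvd_natCard _
    have h4 : Nat.Coprime 3 (2 ^ k) := Nat.Coprime.pow_right _ (by decide)
    have h5 : orderOf g ∣ 1 := by
      have := Nat.dvd_gcd h1 h2
      rwa [Nat.Coprime.gcd_eq_one h4] at this
    exact orderOf_eq_one_iff.1 (Nat.dvd_one.1 h5)
  have key2 : ∀ g ∈ (P : Subgroup X), g * t = t * g → g = 1 ∨ g = t := by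
    intro g hg hgt
    rcases hc g hgt with h | h
    · exact Or.inl (key g hg h)
    · right
      have h1 := key _ (mul_mem htP hg) h
      rw [mul_eq_one_iff_inv_eq] at h1
      rw [← h1, inv_eq_iff_mul_eq_one, tt]
  -- the centre
  have hnt : Nontrivial (P : Subgroup X) := ⟨⟨⟨t, htP⟩, 1, fun h => t1 (congrArg Subtype.val h)⟩⟩
  have hZ : Nontrivial (Subgroup.center (P : Subgroup X)) := P.isPGroup'.center_nontrivial
  obtain ⟨z, hz⟩ := exists_ne (1 : Subgroup.center (P : Subgroup X))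
  have hz1 : ((z : (P : Subgroup X)) : X) ≠ 1 := by
    intro h
    exact hz (Subtype.ext (Subtype.ext h))
  have hzc : ∀ g ∈ (P : Subgroup X), g * ((z : (P : Subgroup X)) : X) = ((z : (P : Subgroup X)) : X) * g := by
    intro g hg
    have := Subgroup.mem_center_iff.1 z.2 ⟨g, hg⟩
    exact congrArg Subtype.val this
  have hzt : ((z : (P : Subgroup X)) : X) = t := by
    rcases key2 _ z.1.2 (hzc t htP).symm with h | h
    · exact absurd h hz1
    · exact h
  rw [hzt] at hzc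
  have hall : ∀ g ∈ (P : Subgroup X), g = 1 ∨ g = t := fun g hg => key2 g hg (hzc g hg)
  have hsq : ∀ g : (P : Subgroup X), g * g = 1 := by
    intro g
    apply Subtype.ext
    rcases hall g.1 g.2 with h | h
    · show g.1 * g.1 = 1
      rw [h, one_mul]
    · show g.1 * g.1 = 1
      rw [h, tt]
  have hcyc : IsCyclic (P : Subgroup X) := by
    refine ⟨⟨⟨t, htP⟩, ?_⟩⟩
    intro g
    rcases hall g.1 g.2 with h | h
    · rw [show g = 1 from Subtype.ext h]
      exact (Subgroup.zpowers (⟨t, htP⟩ : (P : Subgroup X))).one_mem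
    · rw [show g = ⟨t, htP⟩ from Subtype.ext h]; exact Subgroup.mem_zpowers _
  have hmin : (Nat.card X).minFac = 2 := by
    rw [Nat.minFac_eq_two_iff, ← ot]
    exact orderOf_dvd_natCard t
  have hle := hcyc.normalizer_le_centralizer hmin
  refine ⟨(MonoidHom.transferSylow P hle).ker, MonoidHom.not_dvd_card_ker_transferSylow P hle, ?_, ?_⟩
  · intro x
    rw [MonoidHom.mem_ker, map_mul]
    exact hsq _
  · intro x hx
    have h1 : MonoidHom.transferSylow P hle (x * x * x) = 1 := by rw [hx, map_one]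
    rw [map_mul, map_mul, hsq, one_mul] at h1
    exact h1

/-- `h` of odd order commutes with what `h²` commutes with -/
theorem comm_of_sq {G : Type*} [Group G] {h A : G} (ho : ¬ 2 ∣ orderOf h)
    (hA : A * (h * h) = (h * h) * A) : A * h = h * A := by
  obtain ⟨k, hk⟩ : ∃ k, orderOf h = 2 * k + 1 := by
    refine ⟨orderOf h / 2, by omega⟩
  have h1 : h = (h * h) ^ (k + 1) := by
    rw [← pow_two, ← pow_mul]
    have : 2 * (k + 1) = orderOf h + 1 := by omega
    rw [this, pow_succ, pow_orderOf_eq_one, one_mul]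
  have h2 : Commute A (h * h) := hA
  have h3 := (h2.pow_right (k + 1)).eq
  rwa [← h1] at h3

section Abs

variable {G : Type*} [Group G]

/-- commuting involutions -/
structure Ab4 (A B a b : G) : Prop where
  AA : A * A = 1
  BB : B * B = 1
  aa : a * a = 1
  bb : b * b = 1
  AB : B * A = A * B
  Aa : a * A = A * a
  Ab : b * A = A * b
  Ba : a * B = B * a
  Bb : b * B = B * b
  ab : b * a = a * b

theorem asc {x y z : G} (h : x * y = y * x) : x * (y * z) = y * (x * z) := by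
  rw [← mul_assoc, h, mul_assoc]

theorem sqc {x z : G} (h : x * x = 1) : x * (x * z) = z := by
  rw [← mul_assoc, h, one_mul]

theorem delta_abs {A B a b x y ρ : G} (W : Ab4 A B a b)
    (A1 : cj A x = A) (a1 : cj a x = a) (B1 : cj B x = B * a) (b1 : cj b x = b * a * A)
    (B2 : cj B y = B) (b2 : cj b y = b) (A2 : cj A y = A * b) (a2 : cj a y = a * b * B)
    (A3 : cj A ρ = B) (B3 : cj B ρ = A * B) (a3 : cj a ρ = b) :
    cj A (x * y * x * y * ρ) = A * B * b ∧ cj B (x * y * x * y * ρ) = B ∧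
      cj b (x * y * x * y * ρ) = b := by
  obtain ⟨AA, BB, aa, bb, AB, Aa, Ab, Ba, Bb, ab⟩ := W
  have s1 : cj A (x * y * x * y) = B * a := by
    simp only [cj_comp, A1, cj_mul, a1, B1, b1, B2, b2, A2, a2]
    simp only [mul_assoc, AA, BB, aa, bb, AB, Aa, Ab, Ba, Bb, ab, asc AB, asc Aa, asc Ab, asc Ba,
      asc Bb, asc ab, sqc AA, sqc BB, sqc aa, sqc bb, mul_one, one_mul]
  have s2 : cj B (x * y * x * y) = A := by
    simp only [cj_comp, A1, cj_mul, a1, B1, b1, B2, b2, A2, a2]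
    simp only [mul_assoc, AA, BB, aa, bb, AB, Aa, Ab, Ba, Bb, ab, asc AB, asc Aa, asc Ab, asc Ba,
      asc Bb, asc ab, sqc AA, sqc BB, sqc aa, sqc bb, mul_one, one_mul]
  have s3 : cj b (x * y * x * y) = a := by
    simp only [cj_comp, A1, cj_mul, a1, B1, b1, B2, b2, A2, a2]
    simp only [mul_assoc, AA, BB, aa, bb, AB, Aa, Ab, Ba, Bb, ab, asc AB, asc Aa, asc Ab, asc Ba,
      asc Bb, asc ab, sqc AA, sqc BB, sqc aa, sqc bb, mul_one, one_mul]
  refine ⟨?_, ?_, ?_⟩
  · rw [cj_comp, s1, cj_mul, B3, a3]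
  · rw [cj_comp, s2, A3]
  · rw [cj_comp, s3, a3]

theorem delta_false {t A B a b x y ρ : G} (W : Ab4 A B a b)
    (A1 : cj A x = A) (a1 : cj a x = a) (B1 : cj B x = B * a) (b1 : cj b x = b * a * A)
    (B2 : cj B y = B) (b2 : cj b y = b) (A2 : cj A y = A * b) (a2 : cj a y = a * b * B)
    (A3 : cj A ρ = B) (B3 : cj B ρ = A * B) (a3 : cj a ρ = b)
    (ho : ¬ 2 ∣ orderOf (x * y * x * y * ρ)) (tb : cj t b = t * B) (tB : t * B = B * t)
    (B1 : B ≠ 1) : False := by
  obtain ⟨e1, e2, e3⟩ := delta_abs W A1 a1 ‹_› b1 B2 b2 A2 a2 A3 B3 a3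
  obtain ⟨AA, BB, aa, bb, AB, Aa, Ab, Ba, Bb, ab⟩ := W
  generalize x * y * x * y * ρ = h at *
  have h1 : cj A (h * h) = A := by
    rw [cj_comp, e1, cj_mul, cj_mul, e1, e2, e3]
    simp only [mul_assoc, AA, BB, aa, bb, AB, Aa, Ab, Ba, Bb, ab, asc AB, asc Aa, asc Ab, asc Ba,
      asc Bb, asc ab, sqc AA, sqc BB, sqc aa, sqc bb, mul_one, one_mul]
  have h2 := comm_of_sq ho (cj_self_iff.1 h1)
  have h3 : A * B * b = A := e1.symm.trans (cj_eq h2)
  rw [mul_assoc, mul_eq_left] at h3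
  have h4 : b = B := by
    have := congrArg (fun z => B * z) h3
    simp only [sqc BB, mul_one] at this
    exact this
  rw [h4, cj_eq tB] at tb
  exact B1 (mul_eq_left.1 tb.symm)

end Abs

variable {α : Type*} [Fintype α] [DecidableEq α] {G : Type*} [Group G]

/-- permutations of the first letters commute with permutations fixing these -/
theorem comm_fix3 (v : Fin 9 ↪ α) {l : alternatingGroup α}
    (hl : ∀ i : Fin 9, i < 3 → (l : Perm α) (v i) = v i) {m : alternatingGroup (Fin 9)}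
    (hm : ∀ i : Fin 9, 3 ≤ i → (m : Perm (Fin 9)) i = i) : emb v m * l = l * emb v m := by
  apply Subtype.ext
  apply Equiv.ext
  intro x
  show (emb v m : Perm α) ((l : Perm α) x) = (l : Perm α) ((emb v m : Perm α) x)
  have hfix : ∀ x, (∀ i : Fin 9, i < 3 → v i ≠ x) → (emb v m : Perm α) x = x := by
    intro x hx
    by_cases hr : x ∈ Set.range v
    · obtain ⟨i, rfl⟩ := hr
      rw [emb_apply, hm]
      by_contra hc
      exact hx i (not_le.1 hc) rfl
    · exact emb_notMem v _ hr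
  by_cases hx : ∀ i : Fin 9, i < 3 → v i ≠ x
  · rw [hfix x hx, hfix]
    intro i hi e
    rw [← hl i hi] at e
    exact hx i hi ((l : Perm α).injective e)
  · push Not at hx
    obtain ⟨i, hi, rfl⟩ := hx
    have : (m : Perm (Fin 9)) i < 3 := by
      by_contra hc
      have h1 := hm _ (not_lt.1 hc)
      have h2 := (m : Perm (Fin 9)).injective h1
      rw [h2] at hc
      exact hc hi
    rw [hl i hi, emb_apply, hl _ this]

/-- the centraliser of `L₃` -/
def XC (ι : alternatingGroup α →* G) (v : Fin 9 ↪ α) : Subgroup G :=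
  Subgroup.centralizer (ι '' {k | ∀ i : Fin 9, i < 3 → (k : Perm α) (v i) = v i})

theorem mem_XC {ι : alternatingGroup α →* G} {v : Fin 9 ↪ α} {g : G} :
    g ∈ XC ι v ↔ ∀ k : alternatingGroup α, (∀ i : Fin 9, i < 3 → (k : Perm α) (v i) = v i) →
      g * ι k = ι k * g := by
  rw [XC, Subgroup.mem_centralizer_iff]
  constructor
  · intro h k hk
    exact (h _ ⟨k, hk, rfl⟩).symm
  · rintro h _ ⟨k, hk, rfl⟩
    exact (h k hk).symm

theorem Cl.odd_XC [Finite G] {t : G} {ι : alternatingGroup α →* G} (C : Cl t ι) (v : Fin 9 ↪ α)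
    {g h : G} (hg : g ∈ XC ι v) (hh : h ∈ XC ι v) (h3 : h * h * h = 1) :
    ¬ 2 ∣ orderOf (g * g * h) := by
  have htX : t ∈ XC ι v := mem_XC.2 (fun k _ => C.comm k)
  obtain ⟨N, hN, h1, h2⟩ := exists_odd_kernel (X := XC ι v) (t := ⟨t, htX⟩)
    (Subtype.ext C.tt) (by
      intro h
      have h1 : t = 1 := congrArg Subtype.val h
      exact C.ne 1 (by rw [map_one, h1])) (by
      rintro ⟨x, hx⟩ hxt
      have hxt' : x * t = t * x := congrArg Subtype.val hxt
      obtain ⟨a, ha, hb⟩ := C.cent_key hxt'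
      have h3 : a * a * a = 1 := by
        apply cent_three v a
        intro l hl
        exact hb l ((mem_XC.1 hx l hl).symm)
      rcases ha with ha | ha
      · left
        apply Subtype.ext
        show x * x * x = 1
        rw [ha, ← map_mul, ← map_mul, h3, map_one]
      · right
        apply Subtype.ext
        show (t * x) * (t * x) * (t * x) = 1
        have e : t * x = ι a := by rw [ha, ← mul_assoc, C.tt, one_mul]
        rw [e, ← map_mul, ← map_mul, h3, map_one])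
  have hm : (⟨g, hg⟩ * ⟨g, hg⟩ * ⟨h, hh⟩ : XC ι v) ∈ N :=
    mul_mem (h1 _) (h2 _ (Subtype.ext h3))
  intro h2'
  apply hN
  have e : orderOf (g * g * h) = orderOf (⟨g, hg⟩ * ⟨g, hg⟩ * ⟨h, hh⟩ : XC ι v) :=
    (Subgroup.orderOf_coe (⟨g, hg⟩ * ⟨g, hg⟩ * ⟨h, hh⟩ : XC ι v))
  rw [e, ← Subgroup.orderOf_mk _ hm] at h2'
  exact h2'.trans (orderOf_dvd_natCard _)

namespace Fam

variable {t : G} {ι : alternatingGroup α →* G} {Y : alternatingGroup α → G}

theorem b_abs {a s' b x A : G} (h : x * s' * x * s' * a = A) (hx : x * x = 1) (hs : s' * s' = 1)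
    (ha : a * a = 1) (hb : a * s' = b) (as : a * s' = s' * a) (xa : a * x = x * a)
    (Aa : A * a = a * A) (Ab : A * s' = s' * A) : cj b x = b * a * A := by
  have ix : x⁻¹ = x := inv_eq_of_mul_eq_one_left hx
  have h1 : x * s' * x = A * a * s' := by
    have h2 : x * s' * x = (x * s' * x * s' * a) * (a * s') := by
      calc x * s' * x = x * s' * x * (s' * s') := by rw [hs, mul_one]
        _ = x * s' * x * s' * (a * a) * s' := by rw [ha]; group
        _ = (x * s' * x * s' * a) * (a * s') := by group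
    rw [h2, h]; group
  rw [← hb, cj_mul, cj_eq xa, cj, ix, h1]
  simp only [mul_assoc, Aa.symm, asc Aa.symm, Ab.symm, asc Ab.symm, as.symm, asc as.symm, ha,
    sqc ha, mul_one]

theorem spcj (C : Cl t ι) (F : Fam t ι Y) [Finite G] (v : Fin 9 ↪ α)
    (h : Y (emb v (dt 0 1 4 5)) * Y (emb v (dt 0 2 1 3)) * Y (emb v (dt 0 1 4 5)) *
        Y (emb v (dt 0 2 1 3)) * Y (emb v (dt 0 1 2 3)) = Cl.jj ι v (dt 0 1 2 3)) : False := by
  have Rx : Rt (dt 0 1 4 5) := rt_dt (by decide)
  have Ry : Rt (dt 1 2 4 5) := rt_dt (by decide)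
  have Rs : Rt (dt 0 2 1 3) := rt_dt (by decide)
  have Ra : Rt (dt 0 1 2 3) := rt_dt (by decide)
  have Rb : Rt (dt 0 3 1 2) := rt_dt (by decide)
  have S := F.spR C v
  have ix := F.invol C v Rx
  have iy := F.invol C v Ry
  have is := F.invol C v Rs
  have ia := F.invol C v Ra
  have ib := F.invol C v Rb
  have hv := three_abs (F.vbl v 0 1 2 3 (by decide) rfl rfl rfl) ia is ib
  have xa : Y (emb v (dt 0 1 2 3)) * Y (emb v (dt 0 1 4 5)) =
      Y (emb v (dt 0 1 4 5)) * Y (emb v (dt 0 1 2 3)) := cj_self_iff.1 S.Z1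
  -- conjugation by the three-cycle
  have hn := congrArg (fun z => cj z (Cl.jj ι v (tc 0 2 1))) h
  simp only [cj_mul] at hn
  rw [F.eq9 v Rx (m' := dt 1 2 4 5) _ (by decide), F.eq9 v Rs (m' := dt 0 1 2 3) _ (by decide),
    F.eq9 v Ra (m' := dt 0 3 1 2) _ (by decide), ← map_cj,
    show cj (dt 0 1 2 3) (tc 0 2 1) = (dt 0 3 1 2 : alternatingGroup (Fin 9)) by decide] at hn
  have hs1 := congrArg (fun z => cj z (Cl.jj ι v (tc 0 2 1))) S.S1
  simp only [cj_mul] at hs1
  rw [cj_cj, F.eq9 v Rx (m' := dt 1 2 4 5) _ (by decide), F.eq9 v Ra (m' := dt 0 3 1 2) _ (by decide),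
    ← map_cj, show cj (dt 0 2 1 3) (tc 0 2 1) = (dt 0 1 2 3 : alternatingGroup (Fin 9)) by decide]
    at hs1
  have hB : Cl.jj ι v (dt 0 3 1 2) = Cl.jj ι v (dt 0 1 2 3) * Cl.jj ι v (dt 0 2 1 3) := by
    rw [← map_mul]; exact congrArg _ (by decide)
  have Aa := F.comm9 v Ra (n := dt 0 1 2 3) (by decide)
  have Ab := F.comm9 v Rb (n := dt 0 1 2 3) (by decide)
  have Ba := F.comm9 v Ra (n := dt 0 3 1 2) (by decide)
  have Bb := F.comm9 v Rb (n := dt 0 3 1 2) (by decide)
  have As := F.comm9 v Rs (n := dt 0 1 2 3) (by decide)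
  have ab : Y (emb v (dt 0 3 1 2)) * Y (emb v (dt 0 1 2 3)) =
      Y (emb v (dt 0 1 2 3)) * Y (emb v (dt 0 3 1 2)) := by
    rw [← hv.1, mul_assoc, hv.2.2.2, hv.1]
  have sq : ∀ m : alternatingGroup (Fin 9), m * m = 1 → Cl.jj ι v m * Cl.jj ι v m = 1 := by
    intro m hm
    rw [← map_mul, hm, map_one]
  have W : Ab4 (Cl.jj ι v (dt 0 1 2 3)) (Cl.jj ι v (dt 0 3 1 2)) (Y (emb v (dt 0 1 2 3)))
      (Y (emb v (dt 0 3 1 2))) :=
    { AA := sq _ (by decide)
      BB := sq _ (by decide)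
      aa := ia
      bb := ib
      AB := by rw [← map_mul, ← map_mul]; exact congrArg _ (by decide)
      Aa := Aa
      Ab := Ab
      Ba := Ba
      Bb := Bb
      ab := ab }
  have iy' : (Y (emb v (dt 1 2 4 5)))⁻¹ = Y (emb v (dt 1 2 4 5)) := inv_eq_of_mul_eq_one_left iy
  refine delta_false (t := t) (ρ := Cl.jj ι v (tc 0 2 1)) W S.Q1 S.Z1 ?_
    (b_abs h ix is ia hv.1 hv.2.2.1 xa Aa.symm As.symm)
    (cj_eq (F.comm9 v Ry (by decide)).symm) (cj_eq (F.col C v 0 3 1 2 4 5 (by decide) rfl rfl))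
    hs1 ?_ ?_ ?_ (F.eq9 v Ra _ (by decide)) ?_ (F.mv_rt v Rb) (C.comm _) ?_
  · rw [hB, cj_mul, S.Q1, S.S1, ← mul_assoc]
  · rw [cj, iy']
    generalize Y (emb v (dt 1 2 4 5)) = y at *
    generalize Y (emb v (dt 0 1 2 3)) = a at *
    generalize Y (emb v (dt 0 3 1 2)) = b at *
    generalize Cl.jj ι v (dt 0 3 1 2) = B at *
    have h1 : y * a * y = (y * a * y * a * b) * (b * a) := by
      calc y * a * y = y * a * y * (a * a) := by rw [ia, mul_one]
        _ = y * a * y * a * (b * b) * a := by rw [ib]; group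
        _ = (y * a * y * a * b) * (b * a) := by group
    rw [h1, hn, ab]
    calc B * (a * b) = (B * a) * b := by group
      _ = a * (B * b) := by rw [← Ba]; group
      _ = a * b * B := by rw [← Bb]; group
  · rw [← map_cj]; exact congrArg _ (by decide)
  · rw [← map_cj, ← map_mul]; exact congrArg _ (by decide)
  · have hg : Y (emb v (dt 0 1 4 5)) * Y (emb v (dt 1 2 4 5)) ∈ XC ι v := by
      rw [mem_XC]
      intro k hk
      exact F.ind_comm C v (i := 0) (j := 1) (l := 2) (m := 4) (n := 5) (by decide)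
        (hk 0 (by decide)) (hk 1 (by decide)) (hk 2 (by decide))
    have hh : Cl.jj ι v (tc 0 2 1) ∈ XC ι v := by
      rw [mem_XC]
      intro k hk
      show ι _ * ι k = ι k * ι _
      rw [← map_mul, ← map_mul, comm_fix3 v hk (by decide)]
    have h3 : Cl.jj ι v (tc 0 2 1) * Cl.jj ι v (tc 0 2 1) * Cl.jj ι v (tc 0 2 1) = 1 := by
      rw [← map_mul, ← map_mul, show tc 0 2 1 * tc 0 2 1 * tc 0 2 1 =
        (1 : alternatingGroup (Fin 9)) by decide, map_one]
    have := C.odd_XC v hg hh h3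
    rwa [← mul_assoc] at this
  · intro h1
    have h2 : Cl.jj ι v (dt 0 3 1 2) = Cl.jj ι v 1 := by rw [h1, map_one]
    exact absurd (C.jj_inj v h2) (by decide)

/-- **δ = 0** -/
theorem delta (C : Cl t ι) (F : Fam t ι Y) [Finite G] (v : Fin 9 ↪ α) :
    Y (emb v (dt 0 1 4 5)) * Y (emb v (dt 0 2 1 3)) * Y (emb v (dt 0 1 4 5)) *
        Y (emb v (dt 0 2 1 3)) * Y (emb v (dt 0 1 2 3)) = 1 := by
  obtain ⟨m, hm, e⟩ := F.special C v
  rcases hm with rfl | rfl
  · rw [e, map_one]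
  · exact (F.spcj C v e).elim

end Fam

end Cfsg.Agent.OddHalf.D5.Dbl
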