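import Cfsg.Agent.OddHalf.D5.DblAll
import Cfsg.Agent.OddHalf.D5.CleanEnd

/-!
# ODD D5 (helper845): `K₁ = ⟨y_r⟩` commutes with `K₁^t`
-/

set_option autoImplicit false
set_option linter.unusedSectionVars false

namespace Cfsg.Agent.OddHalf.D5.Dbl

open Equiv

variable {α : Type*} [Fintype α] [DecidableEq α] {G : Type*} [Group G]

/-- the group generated by the `y_r` -/
def K1 (Y : alternatingGroup α → G) : Subgroup G :=
  Subgroup.closure {g | ∃ w : Fin 9 ↪ α, g = Y (emb w (dt 0 1 2 3))}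

namespace Fam

variable {t : G} {ι : alternatingGroup α →* G} {Y : alternatingGroup α → G}

theorem mem_K1 (Y : alternatingGroup α → G) (w : Fin 9 ↪ α) : Y (emb w (dt 0 1 2 3)) ∈ K1 Y :=
  Subgroup.subset_closure ⟨w, rfl⟩

theorem conj_t (C : Cl t ι) (F : Fam t ι Y) (w : Fin 9 ↪ α) :
    t * Y (emb w (dt 0 1 2 3)) * t = ww ι Y w := by
  have h := F.mv_rt w (m := dt 0 1 2 3) (rt_dt (by decide))
  rw [cj_eq_iff] at h
  have h2 : t * Cl.jj ι w (dt 0 1 2 3) = Cl.jj ι w (dt 0 1 2 3) * t := C.comm _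
  rw [h, ww, h2]
  calc Y (emb w (dt 0 1 2 3)) * (Cl.jj ι w (dt 0 1 2 3) * t) * t =
        Y (emb w (dt 0 1 2 3)) * Cl.jj ι w (dt 0 1 2 3) * (t * t) := by group
    _ = _ := by rw [C.tt, mul_one]

theorem tmul (C : Cl t ι) (x y : G) : t * (x * y) * t = (t * x * t) * (t * y * t) := by
  calc t * (x * y) * t = t * x * 1 * y * t := by group
    _ = t * x * (t * t) * y * t := by rw [C.tt]
    _ = (t * x * t) * (t * y * t) := by group

theorem tinv (C : Cl t ι) (x : G) : t * x⁻¹ * t = (t * x * t)⁻¹ := by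
  have it : t⁻¹ = t := inv_eq_of_mul_eq_one_left C.tt
  simp only [mul_inv_rev, it, mul_assoc]

theorem K1_comm [Finite G] (C : Cl t ι) (F : Fam t ι Y) : ∀ x ∈ K1 Y, ∀ y ∈ K1 Y,
    x * (t * y * t) = (t * y * t) * x := by
  intro x hx y hy
  have h1 : ∀ v, K1 Y ≤ Subgroup.centralizer {ww ι Y v} := by
    intro v
    rw [K1, Subgroup.closure_le]
    rintro _ ⟨w, rfl⟩
    exact Subgroup.mem_centralizer_singleton_iff.2 (F.wwY C v w).symm
  have h2 : ∀ v, x * ww ι Y v = ww ι Y v * x := fun v =>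
    Subgroup.mem_centralizer_singleton_iff.1 (h1 v hx)
  refine Subgroup.closure_induction (p := fun y _ => x * (t * y * t) = (t * y * t) * x)
    ?_ ?_ ?_ ?_ hy
  · rintro _ ⟨w, rfl⟩
    rw [F.conj_t C]
    exact h2 w
  · rw [mul_one, C.tt, mul_one, one_mul]
  · intro a b _ _ ha hb
    rw [tmul C]
    exact (Commute.mul_right (a := x) ha hb).eq
  · intro a _ ha
    rw [tinv C]
    exact (Commute.inv_right (a := x) ha).eq

theorem delta_mul [Finite G] (C : Cl t ι) (F : Fam t ι Y) {x y : G} (hx : x ∈ K1 Y) (hy : y ∈ K1 Y) :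
    (x * y) * (t * (x * y) * t) = (x * (t * x * t)) * (y * (t * y * t)) := by
  rw [tmul C]
  calc x * y * (t * x * t * (t * y * t)) = x * (y * (t * x * t)) * (t * y * t) := by group
    _ = x * ((t * x * t) * y) * (t * y * t) := by rw [F.K1_comm C y hy x hx]
    _ = _ := by group

theorem delta_inv [Finite G] (C : Cl t ι) (F : Fam t ι Y) {x : G} (hx : x ∈ K1 Y) :
    x⁻¹ * (t * x⁻¹ * t) = (x * (t * x * t))⁻¹ := by
  rw [tinv C, F.K1_comm C x hx x hx, mul_inv_rev (t * x * t) x]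

theorem delta_gen (C : Cl t ι) (F : Fam t ι Y) (w : Fin 9 ↪ α) :
    Y (emb w (dt 0 1 2 3)) * (t * Y (emb w (dt 0 1 2 3)) * t) = ι (emb w (dt 0 1 2 3)) := by
  rw [F.conj_t C, ww, ← mul_assoc, F.invol C w (rt_dt (by decide)), one_mul]
  rfl

theorem K1_map [Finite G] (C : Cl t ι) (F : Fam t ι Y) : ∀ x ∈ K1 Y, ∃ a, x * (t * x * t) = ι a := by
  intro x hx
  refine Subgroup.closure_induction (p := fun x _ => ∃ a, x * (t * x * t) = ι a) ?_ ?_ ?_ ?_ hx
  · rintro _ ⟨w, rfl⟩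
    exact ⟨_, F.delta_gen C w⟩
  · exact ⟨1, by rw [mul_one, C.tt, mul_one, map_one]⟩
  · rintro x y hx hy ⟨a, ha⟩ ⟨b, hb⟩
    exact ⟨a * b, by rw [F.delta_mul C hx hy, ha, hb, map_mul]⟩
  · rintro x hx ⟨a, ha⟩
    exact ⟨a⁻¹, by rw [F.delta_inv C hx, ha, map_inv]⟩

theorem K1_onto [Finite G] (C : Cl t ι) (F : Fam t ι Y) : ∀ a, ∃ x ∈ K1 Y, x * (t * x * t) = ι a := by
  let H : Subgroup (alternatingGroup α) :=
    { carrier := {a | ∃ x ∈ K1 Y, x * (t * x * t) = ι a}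
      mul_mem' := by
        rintro a b ⟨x, hx, ha⟩ ⟨y, hy, hb⟩
        exact ⟨x * y, mul_mem hx hy, by rw [F.delta_mul C hx hy, ha, hb, map_mul]⟩
      one_mem' := ⟨1, one_mem _, by rw [mul_one, C.tt, mul_one, map_one]⟩
      inv_mem' := by
        rintro a ⟨x, hx, ha⟩
        exact ⟨x⁻¹, inv_mem hx, by rw [F.delta_inv C hx, ha, map_inv]⟩ }
  have hdt : ∀ a b c d : α, [a, b, c, d].Nodup → dt a b c d ∈ H := by
    intro a b c d hd
    obtain ⟨w, hw⟩ := exists_emb_list C.h9 ![a, b, c, d] hd (by decide)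
    have h0 : w 0 = a := hw 0
    have h1 : w 1 = b := hw 1
    have h2 : w 2 = c := hw 2
    have h3 : w 3 = d := hw 3
    rw [← h0, ← h1, ← h2, ← h3, ← emb_dt w (by decide) (by decide)]
    exact ⟨_, mem_K1 Y w, F.delta_gen C w⟩
  have htop : H = ⊤ := by
    apply eq_top_of_tc
    intro a b c h1 h2 h3
    obtain ⟨p, q, hp, hq, hpq⟩ := two_fresh C.h9 [a, b, c] (by simp)
    simp only [List.mem_cons, List.not_mem_nil, or_false, not_or] at hp hq
    have e : tc a b c = dt a b p q * dt b c p q := by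
      apply Subtype.ext
      show (tc a b c : Perm α) = (dt a b p q : Perm α) * (dt b c p q : Perm α)
      rw [tc_coe h1 h2, dt_coe h1 hpq, dt_coe h2 hpq]
      have hcm : Commute (swap p q) (swap b c) :=
        sw_comm hp.2.1 hp.2.2 hq.2.1 hq.2.2
      calc swap a b * swap b c = swap a b * (swap p q * swap p q) * swap b c := by
            rw [swap_mul_self, mul_one]
        _ = swap a b * swap p q * (swap p q * swap b c) := by group
        _ = swap a b * swap p q * (swap b c * swap p q) := by rw [hcm.eq]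
    rw [e]
    exact mul_mem (hdt _ _ _ _ (nodup4 h1 (Ne.symm hp.1) (Ne.symm hq.1) (Ne.symm hp.2.1)
      (Ne.symm hq.2.1) hpq)) (hdt _ _ _ _ (nodup4 h2 (Ne.symm hp.2.1) (Ne.symm hq.2.1)
        (Ne.symm hp.2.2) (Ne.symm hq.2.2) hpq))
  intro a
  have : a ∈ H := htop ▸ Subgroup.mem_top a
  exact this

theorem K1_norm (F : Fam t ι Y) : ∀ a, ∀ x ∈ K1 Y, ι a * x * (ι a)⁻¹ ∈ K1 Y := by
  intro a x hx
  refine Subgroup.closure_induction (p := fun x _ => ι a * x * (ι a)⁻¹ ∈ K1 Y) ?_ ?_ ?_ ?_ hx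
  · rintro _ ⟨w, rfl⟩
    have h1 : ι a * Y (emb w (dt 0 1 2 3)) * (ι a)⁻¹ = cj (Y (emb w (dt 0 1 2 3))) (ι a⁻¹) := by
      rw [cj, map_inv, inv_inv]
    have h2 : cj (emb w (dt 0 1 2 3)) a⁻¹ = emb (w.trans (a : Perm α).toEmbedding) (dt 0 1 2 3) := by
      rw [cj, inv_inv, emb_dt w (by decide) (by decide), dt_conj, emb_dt _ (by decide) (by decide)]
      rfl
    rw [h1, F.equi, h2]
    exact mem_K1 Y _
  · rw [mul_one, mul_inv_cancel]
    exact one_mem _
  · intro x y _ _ hx hy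
    have : ι a * (x * y) * (ι a)⁻¹ = (ι a * x * (ι a)⁻¹) * (ι a * y * (ι a)⁻¹) := by group
    rw [this]
    exact mul_mem hx hy
  · intro x _ hx
    have : ι a * x⁻¹ * (ι a)⁻¹ = (ι a * x * (ι a)⁻¹)⁻¹ := by group
    rw [this]
    exact inv_mem hx

theorem final [Finite G] (C : Cl t ι) (F : Fam t ι Y) : ∃ m : G →* ℤˣ, m t = -1 :=
  clean_end C (K1 Y) (F.K1_comm C) (F.K1_map C) (F.K1_onto C) F.K1_norm

end Fam

end Cfsg.Agent.OddHalf.D5.Dbl
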