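import Cfsg.Agent.OddHalf.D5.DblYb

/-!
# ODD D5 (helper845): the `K`-equivariant family `r ↦ y_r`
-/

set_option autoImplicit false
set_option linter.unusedSectionVars false

namespace Cfsg.Agent.OddHalf.D5.Dbl

open Equiv

variable {α : Type*} [Fintype α] [DecidableEq α] {G : Type*} [Group G]

/-- the family `y_r` -/
structure Fam (t : G) (ι : alternatingGroup α →* G) (Y : alternatingGroup α → G) : Prop where
  equi : ∀ (v : Fin 9 ↪ α) (k : alternatingGroup α),
    cj (Y (emb v (dt 0 1 2 3))) (ι k) = Y (cj (emb v (dt 0 1 2 3)) k)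
  mv : ∀ v : Fin 9 ↪ α, cj t (Y (emb v (dt 0 1 2 3))) = t * ι (emb v (dt 0 1 2 3))
  vb : ∀ v : Fin 9 ↪ α, Y (emb v (dt 0 1 2 3)) * Y (emb v (dt 0 2 1 3)) * Y (emb v (dt 0 3 1 2)) = 1

/-- transport of `emb` by `Alt(α)` -/
theorem cj_emb {v w : Fin 9 ↪ α} {k : alternatingGroup α}
    (hk : ∀ i : Fin 9, i < 7 → (k : Perm α) (v i) = w i) {a b c d : Fin 9} (ha : a < 7) (hb : b < 7)
    (hc : c < 7) (hd : d < 7) (h1 : a ≠ b) (h2 : c ≠ d) :
    cj (emb w (dt a b c d)) k = emb v (dt a b c d) := by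
  have e : ∀ i : Fin 9, i < 7 → ((k : Perm α)⁻¹) (w i) = v i := by
    intro i hi
    rw [← hk i hi]
    exact (k : Perm α).symm_apply_apply (v i)
  rw [emb_dt w h1 h2, emb_dt v h1 h2, cj, dt_conj', e a ha, e b hb, e c hc, e d hd]

theorem exists_fam {t : G} {ι : alternatingGroup α →* G} (C : Cl t ι) (v0 : Fin 9 ↪ α) {y : G}
    (ht : cj t y = t * Cl.jj ι v0 (dt 0 1 2 3))
    (hc : ∀ k : alternatingGroup α, emb v0 (dt 0 1 2 3) * k = k * emb v0 (dt 0 1 2 3) →
        y * ι k = ι k * y)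
    (h3 : y * cj y (Cl.jj ι v0 rh) * cj (cj y (Cl.jj ι v0 rh)) (Cl.jj ι v0 rh) = 1) :
    ∃ Y : alternatingGroup α → G, Fam t ι Y := by
  classical
  set r0 := emb v0 (dt 0 1 2 3) with hr0
  let Y : alternatingGroup α → G := fun x =>
    if h : ∃ k, x = cj r0 k then cj y (ι h.choose) else 1
  have hY : ∀ k, Y (cj r0 k) = cj y (ι k) := by
    intro k
    have h : ∃ k', cj r0 k = cj r0 k' := ⟨k, rfl⟩
    have h1 : Y (cj r0 k) = cj y (ι h.choose) := dif_pos h
    rw [h1]
    have h2 := h.choose_spec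
    generalize h.choose = k' at h2 ⊢
    have h4 : r0 * (k * k'⁻¹) = (k * k'⁻¹) * r0 := by
      rw [← cj_self_iff, cj_comp, h2, cj_cancel]
    have h5 := hc _ h4
    rw [← cj_self_iff, map_mul, cj_comp, map_inv] at h5
    have h6 := congrArg (fun z => cj z (ι k')) h5
    simp only [cj_cancel'] at h6
    exact h6.symm
  refine ⟨Y, ?_, ?_, ?_⟩
  · intro v k
    obtain ⟨g, hg⟩ := trans_seven v v0
    rw [← cj_emb hg (by decide) (by decide) (by decide) (by decide) (by decide) (by decide),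
      ← hr0, hY, ← cj_comp, ← cj_comp, hY, map_mul]
  · intro v
    obtain ⟨g, hg⟩ := trans_seven v v0
    rw [← cj_emb hg (by decide) (by decide) (by decide) (by decide) (by decide) (by decide),
      ← hr0, hY]
    have h1 : cj t (ι g) = t := cj_eq (C.comm g)
    have h2 : cj t (cj y (ι g)) = cj (cj t (ι g)) (cj y (ι g)) := by rw [h1]
    rw [h2, ← cj_cj, ht, cj_mul, h1, map_cj]
    rfl
  · intro v
    obtain ⟨g, hg⟩ := trans_seven v v0
    have e1 : Y (emb v (dt 0 1 2 3)) = cj y (ι g) := by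
      rw [← cj_emb hg (by decide) (by decide) (by decide) (by decide) (by decide) (by decide),
      ← hr0, hY]
    have e2 : Y (emb v (dt 0 2 1 3)) = cj (cj y (Cl.jj ι v0 rh)) (ι g) := by
      rw [← cj_emb hg (by decide) (by decide) (by decide) (by decide) (by decide) (by decide),
        show (dt 0 2 1 3 : alternatingGroup (Fin 9)) = cj (dt 0 1 2 3) rh by decide, map_cj,
        ← hr0, ← cj_comp, hY, map_mul, cj_comp]
      rfl
    have e3 : Y (emb v (dt 0 3 1 2)) = cj (cj (cj y (Cl.jj ι v0 rh)) (Cl.jj ι v0 rh)) (ι g) := by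
      rw [← cj_emb hg (by decide) (by decide) (by decide) (by decide) (by decide) (by decide),
        show (dt 0 3 1 2 : alternatingGroup (Fin 9)) = cj (cj (dt 0 1 2 3) rh) rh by decide, map_cj,
        map_cj, ← hr0, ← cj_comp, ← cj_comp, hY, map_mul, map_mul, cj_comp, cj_comp]
      rfl
    rw [e1, e2, e3, ← cj_mul, ← cj_mul, h3, one_cj]

/-- a double transposition in `A₉` -/
def Rt (m : alternatingGroup (Fin 9)) : Prop :=
  ∃ π : Perm (Fin 9), m = dt (π 0) (π 1) (π 2) (π 3)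

/-- permutations of `Fin 9` with prescribed first values -/
theorem exists_pi {m : ℕ} (x : Fin m → Fin 9) (hx : Function.Injective x) (hm : m ≤ 9) :
    ∃ π : Perm (Fin 9), ∀ i : Fin m, π (Fin.castLE hm i) = x i :=
  exists_perm_extending _ x (Fin.castLE_injective hm) hx

theorem rt_dt {a b c d : Fin 9} (h : Function.Injective ![a, b, c, d]) : Rt (dt a b c d) := by
  obtain ⟨π, hπ⟩ := exists_pi _ h (by decide)
  refine ⟨π, ?_⟩
  have h0 := hπ 0
  have h1 := hπ 1
  have h2 := hπ 2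
  have h3 := hπ 3
  have e0 : π 0 = a := h0
  have e1 : π 1 = b := h1
  have e2 : π 2 = c := h2
  have e3 : π 3 = d := h3
  rw [e0, e1, e2, e3]

theorem emb_rt (v : Fin 9 ↪ α) (π : Perm (Fin 9)) :
    emb v (dt (π 0) (π 1) (π 2) (π 3)) = emb (π.toEmbedding.trans v) (dt 0 1 2 3) :=
  (emb_comp_dt v π (by decide) (by decide)).symm

namespace Fam

variable {t : G} {ι : alternatingGroup α →* G} {Y : alternatingGroup α → G}

/-- equivariance, all of `Alt(α)` -/
theorem equi_rt (F : Fam t ι Y) (v : Fin 9 ↪ α) {m : alternatingGroup (Fin 9)} (hm : Rt m)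
    (k : alternatingGroup α) : cj (Y (emb v m)) (ι k) = Y (cj (emb v m) k) := by
  obtain ⟨π, rfl⟩ := hm
  rw [emb_rt]
  exact F.equi _ k

/-- equivariance, `A₉` -/
theorem eq9 (F : Fam t ι Y) (v : Fin 9 ↪ α) {m : alternatingGroup (Fin 9)} (hm : Rt m)
    {m' : alternatingGroup (Fin 9)} (n : alternatingGroup (Fin 9)) (h : cj m n = m') :
    cj (Y (emb v m)) (Cl.jj ι v n) = Y (emb v m') := by
  rw [← h, map_cj]
  exact F.equi_rt v hm _

theorem mv_rt (F : Fam t ι Y) (v : Fin 9 ↪ α) {m : alternatingGroup (Fin 9)} (hm : Rt m) :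
    cj t (Y (emb v m)) = t * Cl.jj ι v m := by
  obtain ⟨π, rfl⟩ := hm
  show _ = t * ι (emb v _)
  rw [emb_rt]
  exact F.mv _

/-- `y_r` centralises `C_K(r)` -/
theorem comm_rt (F : Fam t ι Y) (v : Fin 9 ↪ α) {m : alternatingGroup (Fin 9)} (hm : Rt m)
    {k : alternatingGroup α} (h : emb v m * k = k * emb v m) :
    Y (emb v m) * ι k = ι k * Y (emb v m) := by
  rw [← cj_self_iff, F.equi_rt v hm, cj_eq h]

theorem comm9 (F : Fam t ι Y) (v : Fin 9 ↪ α) {m n : alternatingGroup (Fin 9)} (hm : Rt m)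
    (h : m * n = n * m) : Y (emb v m) * Cl.jj ι v n = Cl.jj ι v n * Y (emb v m) := by
  apply F.comm_rt v hm
  rw [← map_mul, ← map_mul, h]

end Fam

end Cfsg.Agent.OddHalf.D5.Dbl
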