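import Cfsg.Agent.OddHalf.D5.DblDelta

/-!
# ODD D5 (helper845): generation of `Alt(α)` by `L₃` and the four-groups `V_{012b}`
-/

set_option autoImplicit false
set_option linter.unusedSectionVars false

namespace Cfsg.Agent.OddHalf.D5.Dbl

open Equiv

variable {α : Type*} [Fintype α] [DecidableEq α]

theorem tc_conj (k : alternatingGroup α) (a b c : α) :
    k * tc a b c * k⁻¹ = tc ((k : Perm α) a) ((k : Perm α) b) ((k : Perm α) c) := by
  by_cases h : a ≠ b ∧ b ≠ c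
  · apply Subtype.ext
    rw [tc_coe ((k : Perm α).injective.ne h.1) ((k : Perm α).injective.ne h.2), swap_apply_apply,
      swap_apply_apply]
    show (k : Perm α) * (tc a b c : Perm α) * (k : Perm α)⁻¹ = _
    rw [tc_coe h.1 h.2]
    group
  · have h' : ¬ ((k : Perm α) a ≠ (k : Perm α) b ∧ (k : Perm α) b ≠ (k : Perm α) c) := by
      rintro ⟨h1, h2⟩
      exact h ⟨fun e => h1 (by rw [e]), fun e => h2 (by rw [e])⟩
    rw [tc, dif_neg h, tc, dif_neg h', mul_one, mul_inv_cancel]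

theorem tc_rot {a b c : α} (h1 : a ≠ b) (h2 : b ≠ c) (h3 : a ≠ c) : tc a b c = tc b c a := by
  obtain ⟨e1, e2, e3⟩ := tc_apply h1 h2 h3
  obtain ⟨f1, f2, f3⟩ := tc_apply h2 h3.symm h1.symm
  apply Subtype.ext
  apply Equiv.ext
  intro x
  by_cases ha : x = a
  · subst ha; rw [e1, f3]
  by_cases hb : x = b
  · subst hb; rw [e2, f1]
  by_cases hc : x = c
  · subst hc; rw [e3, f2]
  rw [tc_apply_of_ne h1 h2 ha hb hc, tc_apply_of_ne h2 h3.symm hb hc ha]

/-- every subgroup containing all `tc a b c` is everything -/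
theorem eq_top_of_tc {H : Subgroup (alternatingGroup α)}
    (h : ∀ a b c : α, a ≠ b → b ≠ c → a ≠ c → tc a b c ∈ H) : H = ⊤ := by
  rw [eq_top_iff]
  rintro ⟨k, hk⟩ -
  have hk' := hk
  rw [← Equiv.Perm.closure_three_cycles_eq_alternating] at hk'
  have h1 : Subgroup.closure {σ : Perm α | σ.IsThreeCycle} ≤ H.map (alternatingGroup α).subtype := by
    rw [Subgroup.closure_le]
    intro σ hσ
    have hσ' : σ.IsThreeCycle := hσ
    have hne : σ.support.Nonempty := by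
      rw [← Finset.card_pos, hσ'.card_support]
      norm_num
    obtain ⟨a, ha⟩ := hne
    have hnd := hσ'.nodup_iff_mem_support.2 ha
    have he := hσ'.eq_swap_mul_swap_iff_mem_support.2 ha
    simp only [List.nodup_cons, List.mem_cons, List.not_mem_nil, or_false, not_or,
      List.nodup_nil, and_true, not_false_eq_true] at hnd
    obtain ⟨⟨n1, n2⟩, n3⟩ := hnd
    refine ⟨tc a (σ a) (σ (σ a)), h _ _ _ n1 n3 n2, ?_⟩
    show (tc a (σ a) (σ (σ a)) : Perm α) = σ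
    rw [tc_coe n1 n3]
    exact he.symm
  obtain ⟨k', hk1, hk2⟩ := h1 hk'
  have : k' = ⟨k, hk⟩ := Subtype.ext hk2
  rwa [← this]

/-- letters outside `v 0, v 1, v 2` -/
def Out3 (v : Fin 9 ↪ α) (x : α) : Prop := ∀ i : Fin 9, i < 3 → v i ≠ x

theorem tc_mem_L {v : Fin 9 ↪ α} {H : Subgroup (alternatingGroup α)}
    (hL : ∀ k : alternatingGroup α, (∀ i : Fin 9, i < 3 → (k : Perm α) (v i) = v i) → k ∈ H)
    {a b c : α} (ha : Out3 v a) (hb : Out3 v b) (hc : Out3 v c) (h1 : a ≠ b) (h2 : b ≠ c) :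
    tc a b c ∈ H := by
  apply hL
  intro i hi
  exact tc_apply_of_ne h1 h2 (ha i hi) (hb i hi) (hc i hi)

/-- fresh letters outside `v 0, v 1, v 2` and two (four) given ones -/
theorem fresh3 (hn : 9 ≤ Fintype.card α) (v : Fin 9 ↪ α) (x y : α) :
    ∃ p q : α, Out3 v p ∧ Out3 v q ∧ p ≠ x ∧ p ≠ y ∧ q ≠ x ∧ q ≠ y ∧ p ≠ q := by
  obtain ⟨p, q, hp, hq, hpq⟩ := two_fresh hn [v 0, v 1, v 2, x, y] (by simp)
  simp only [List.mem_cons, List.not_mem_nil, or_false, not_or] at hp hq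
  refine ⟨p, q, ?_, ?_, hp.2.2.2.1, hp.2.2.2.2, hq.2.2.2.1, hq.2.2.2.2, hpq⟩
  · intro i hi
    rcases lt3 hi with rfl | rfl | rfl
    · exact Ne.symm hp.1
    · exact Ne.symm hp.2.1
    · exact Ne.symm hp.2.2.1
  · intro i hi
    rcases lt3 hi with rfl | rfl | rfl
    · exact Ne.symm hq.1
    · exact Ne.symm hq.2.1
    · exact Ne.symm hq.2.2.1

/-- the generation lemma -/
theorem gen_alt (hn : 9 ≤ Fintype.card α) (v : Fin 9 ↪ α) (H : Subgroup (alternatingGroup α))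
    (hL : ∀ k : alternatingGroup α, (∀ i : Fin 9, i < 3 → (k : Perm α) (v i) = v i) → k ∈ H)
    (hV : ∀ b, Out3 v b → ∀ i : Fin 9, i < 3 → ∃ u ∈ H, (u : Perm α) b = v i ∧
      ∀ x, Out3 v x → x ≠ b → (u : Perm α) x = x) : H = ⊤ := by
  -- one letter arbitrary
  have B : ∀ a b c, Out3 v b → Out3 v c → a ≠ b → b ≠ c → a ≠ c → tc a b c ∈ H := by
    intro a b c hb hc h1 h2 h3
    by_cases ha : Out3 v a
    · exact tc_mem_L hL ha hb hc h1 h2
    · rw [Out3] at ha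
      push Not at ha
      obtain ⟨i, hi, rfl⟩ := ha
      obtain ⟨p, -, hp, -, hp1, hp2, -, -, -⟩ := fresh3 hn v b c
      obtain ⟨u, hu, hup, hux⟩ := hV p hp i hi
      have h4 := mul_mem (mul_mem hu (tc_mem_L hL hp hb hc hp1 h2)) (inv_mem hu)
      rwa [tc_conj, hup, hux b hb hp1.symm, hux c hc hp2.symm] at h4
  -- the replacement lemma
  have R : ∀ a b c, a ≠ b → b ≠ c → a ≠ c → ¬ Out3 v a →
      (∀ w, Out3 v w → w ≠ b → w ≠ c → tc w b c ∈ H) → tc a b c ∈ H := by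
    intro a b c h1 h2 h3 ha hw
    obtain ⟨p, q, hp, hq, p1, p2, q1, q2, hpq⟩ := fresh3 hn v b c
    have hap : a ≠ p := fun e => ha (e ▸ hp)
    have haq : a ≠ q := fun e => ha (e ▸ hq)
    have hu := B a p q hp hq hap hpq haq
    obtain ⟨e1, e2, e3⟩ := tc_apply hap hpq haq
    have h4 := mul_mem (mul_mem hu (hw q hq q1 q2)) (inv_mem hu)
    rwa [tc_conj, e3, tc_apply_of_ne hap hpq h1.symm p1.symm q1.symm,
      tc_apply_of_ne hap hpq h3.symm p2.symm q2.symm] at h4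
  have Cc : ∀ a b c, Out3 v c → a ≠ b → b ≠ c → a ≠ c → tc a b c ∈ H := by
    intro a b c hc h1 h2 h3
    by_cases ha : Out3 v a
    · rw [tc_rot h1 h2 h3]
      exact B b c a hc ha h2 h3.symm h1.symm
    · apply R a b c h1 h2 h3 ha
      intro w hw w1 w2
      rw [tc_rot w1 h2 w2]
      exact B b c w hc hw h2 w2.symm w1.symm
  apply eq_top_of_tc
  intro a b c h1 h2 h3
  by_cases ha : Out3 v a
  · rw [tc_rot h1 h2 h3]
    exact Cc b c a ha h2 h3.symm h1.symm
  · apply R a b c h1 h2 h3 ha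
    intro w hw w1 w2
    rw [tc_rot w1 h2 w2]
    exact Cc b c w hw h2 w2.symm w1.symm

end Cfsg.Agent.OddHalf.D5.Dbl
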