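import Cfsg.Agent.OddHalf.D5.DblSpec

/-!
# ODD D5 (helper845): `y_{(ab)(xy)} y_{(bc)(xy)}` does not depend on `{x, y}`
-/

set_option autoImplicit false
set_option linter.unusedSectionVars false

namespace Cfsg.Agent.OddHalf.D5.Dbl

open Equiv

variable {α : Type*} [Fintype α] [DecidableEq α] {G : Type*} [Group G]

/-- embeddings with prescribed first values, from a list without repetitions -/
theorem exists_emb_list (hn : 9 ≤ Fintype.card α) {m : ℕ} (x : Fin m → α)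
    (hx : (List.ofFn x).Nodup) (hm : m ≤ 9) : ∃ v : Fin 9 ↪ α, ∀ i : Fin m, v (Fin.castLE hm i) = x i :=
  exists_emb hn x (List.nodup_ofFn.1 hx) hm

/-- two letters outside a set of at most 7 letters -/
theorem two_fresh (hn : 9 ≤ Fintype.card α) (l : List α) (hl : l.length ≤ 7) :
    ∃ p q : α, p ∉ l ∧ q ∉ l ∧ p ≠ q := by
  have h1 : 1 < (Finset.univ \ l.toFinset).card := by
    have h2 := Finset.le_card_sdiff l.toFinset (Finset.univ : Finset α)
    have h3 : l.toFinset.card ≤ l.length := l.toFinset_card_le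
    rw [Finset.card_univ] at h2
    omega
  obtain ⟨p, hp, q, hq, hpq⟩ := Finset.one_lt_card.1 h1
  simp only [Finset.mem_sdiff, Finset.mem_univ, List.mem_toFinset, true_and] at hp hq
  exact ⟨p, q, hp, hq, hpq⟩

theorem dt_symm {β : Type*} [Fintype β] [DecidableEq β] {a b c d : β} (h : [a, b, c, d].Nodup) :
    dt a b c d = dt c d a b := by
  simp only [List.nodup_cons, List.mem_cons, List.not_mem_nil, or_false, not_or,
    List.nodup_nil, and_true, not_false_eq_true] at h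
  obtain ⟨⟨hab, hac, had⟩, ⟨hbc, hbd⟩, hcd⟩ := h
  apply Subtype.ext
  rw [dt_coe hab hcd, dt_coe hcd hab]
  exact (sw_comm hac had hbc hbd).eq

theorem dt_swap_left {β : Type*} [Fintype β] [DecidableEq β] (a b c d : β) :
    dt a b c d = dt b a c d := by
  rw [dt, dt]
  by_cases h : a ≠ b ∧ c ≠ d
  · rw [dif_pos h, dif_pos ⟨h.1.symm, h.2⟩]
    simp only [swap_comm a b]
  · rw [dif_neg h, dif_neg (fun h' => h ⟨h'.1.symm, h'.2⟩)]

theorem dt_swap_right {β : Type*} [Fintype β] [DecidableEq β] (a b c d : β) :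
    dt a b c d = dt a b d c := by
  rw [dt, dt]
  by_cases h : a ≠ b ∧ c ≠ d
  · rw [dif_pos h, dif_pos ⟨h.1, h.2.symm⟩]
    simp only [swap_comm c d]
  · rw [dif_neg h, dif_neg (fun h' => h ⟨h'.1, h'.2.symm⟩)]

namespace Fam

variable {t : G} {ι : alternatingGroup α →* G} {Y : alternatingGroup α → G}

theorem ind_abs {a b c d e : G} (h1 : a * e * c = 1) (h2 : b * e * d = 1) (hd : d * d = 1)
    (hc : c * c = 1) (he : e * e = 1) (ha : a * a = 1) (hb : b * b = 1) : a * b = c * d := by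
  have h3 := (three_abs h1 ha he hc).1
  have h4 := (three_abs h2 hb he hd).2.1
  have h6 : a = c * e := by rw [← h3, mul_assoc, he, mul_one]
  rw [h6, ← h4, mul_assoc, ← mul_assoc e e d, he, one_mul]

theorem ind_w (C : Cl t ι) (F : Fam t ι Y) (w : Fin 9 ↪ α) :
    Y (emb w (dt 0 1 3 4)) * Y (emb w (dt 1 2 3 4)) =
      Y (emb w (dt 0 1 5 6)) * Y (emb w (dt 1 2 5 6)) :=
  ind_abs (F.line C w 0 1 3 4 5 6 (by decide) rfl rfl rfl)
    (F.line C w 1 2 3 4 5 6 (by decide) rfl rfl rfl) (F.invol C w (rt_dt (by decide)))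
    (F.invol C w (rt_dt (by decide))) (F.invol C w (rt_dt (by decide)))
    (F.invol C w (rt_dt (by decide))) (F.invol C w (rt_dt (by decide)))

/-- first form, five plus two letters -/
theorem ind7 (C : Cl t ι) (F : Fam t ι Y) {a b c x y p q : α} (h : [a, b, c, x, y, p, q].Nodup) :
    Y (dt a b x y) * Y (dt b c x y) = Y (dt a b p q) * Y (dt b c p q) := by
  obtain ⟨w, hw⟩ := exists_emb_list C.h9 ![a, b, c, x, y, p, q] h (by decide)
  have e0 : w 0 = a := hw 0
  have e1 : w 1 = b := hw 1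
  have e2 : w 2 = c := hw 2
  have e3 : w 3 = x := hw 3
  have e4 : w 4 = y := hw 4
  have e5 : w 5 = p := hw 5
  have e6 : w 6 = q := hw 6
  have h1 := F.ind_w C w
  rw [emb_dt w (by decide) (by decide), emb_dt w (by decide) (by decide),
    emb_dt w (by decide) (by decide), emb_dt w (by decide) (by decide), e0, e1, e2, e3, e4, e5,
    e6] at h1
  exact h1

/-- **independence** -/
theorem ind (C : Cl t ι) (F : Fam t ι Y) {a b c x y x' y' : α} (h : [a, b, c, x, y].Nodup)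
    (h' : [a, b, c, x', y'].Nodup) :
    Y (dt a b x y) * Y (dt b c x y) = Y (dt a b x' y') * Y (dt b c x' y') := by
  obtain ⟨p, q, hp, hq, hpq⟩ := two_fresh C.h9 [a, b, c, x, y, x', y'] (by simp)
  simp only [List.mem_cons, List.not_mem_nil, or_false, not_or] at hp hq
  simp only [List.nodup_cons, List.mem_cons, List.not_mem_nil, or_false, not_or,
    List.nodup_nil, and_true, not_false_eq_true] at h h'
  rw [F.ind7 C (p := p) (q := q), F.ind7 C (x := x') (p := p) (q := q)]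
  · simp only [List.nodup_cons, List.mem_cons, List.not_mem_nil, or_false, not_or,
      List.nodup_nil, and_true, not_false_eq_true]
    refine ⟨⟨h'.1.1, h'.1.2.1, h'.1.2.2.1, h'.1.2.2.2, Ne.symm hp.1, Ne.symm hq.1⟩,
      ⟨h'.2.1.1, h'.2.1.2.1, h'.2.1.2.2, Ne.symm hp.2.1, Ne.symm hq.2.1⟩,
      ⟨h'.2.2.1.1, h'.2.2.1.2, Ne.symm hp.2.2.1, Ne.symm hq.2.2.1⟩,
      ⟨h'.2.2.2, Ne.symm hp.2.2.2.2.2.1, Ne.symm hq.2.2.2.2.2.1⟩,
      ⟨Ne.symm hp.2.2.2.2.2.2, Ne.symm hq.2.2.2.2.2.2⟩, hpq⟩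
  · simp only [List.nodup_cons, List.mem_cons, List.not_mem_nil, or_false, not_or,
      List.nodup_nil, and_true, not_false_eq_true]
    refine ⟨⟨h.1.1, h.1.2.1, h.1.2.2.1, h.1.2.2.2, Ne.symm hp.1, Ne.symm hq.1⟩,
      ⟨h.2.1.1, h.2.1.2.1, h.2.1.2.2, Ne.symm hp.2.1, Ne.symm hq.2.1⟩,
      ⟨h.2.2.1.1, h.2.2.1.2, Ne.symm hp.2.2.1, Ne.symm hq.2.2.1⟩,
      ⟨h.2.2.2, Ne.symm hp.2.2.2.1, Ne.symm hq.2.2.2.1⟩,
      ⟨Ne.symm hp.2.2.2.2.1, Ne.symm hq.2.2.2.2.1⟩, hpq⟩

theorem nodup5 (v : Fin 9 ↪ α) {i j k l m : Fin 9} (h : [i, j, k, l, m].Nodup) :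
    [v i, v j, v k, v l, v m].Nodup := by
  have : [v i, v j, v k, v l, v m] = [i, j, k, l, m].map v := rfl
  rw [this]
  exact h.map v.injective

/-- `y_{(ab)(xy)} y_{(bc)(xy)}` commutes with the permutations fixing `a, b, c` -/
theorem ind_comm (C : Cl t ι) (F : Fam t ι Y) (v : Fin 9 ↪ α) {i j l m n : Fin 9}
    (hd : [i, j, l, m, n].Nodup) {k : alternatingGroup α}
    (hi : (k : Perm α) (v i) = v i) (hj : (k : Perm α) (v j) = v j) (hl : (k : Perm α) (v l) = v l) :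
    (Y (emb v (dt i j m n)) * Y (emb v (dt j l m n))) * ι k =
      ι k * (Y (emb v (dt i j m n)) * Y (emb v (dt j l m n))) := by
  have hd' := hd
  simp only [List.nodup_cons, List.mem_cons, List.not_mem_nil, or_false, not_or,
    List.nodup_nil, and_true, not_false_eq_true] at hd'
  have R1 : Rt (dt i j m n) := rt_dt (List.nodup_ofFn.1 (show [i, j, m, n].Nodup by
    simp [hd'.1.1, hd'.1.2.2.1, hd'.1.2.2.2, hd'.2.1.2.1, hd'.2.1.2.2, hd'.2.2.2]))
  have R2 : Rt (dt j l m n) := rt_dt (List.nodup_ofFn.1 (show [j, l, m, n].Nodup by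
    simp [hd'.2.1.1, hd'.2.2.1.1, hd'.2.2.1.2, hd'.2.1.2.1, hd'.2.1.2.2, hd'.2.2.2]))
  rw [← cj_self_iff, cj_mul, F.equi_rt v R1, F.equi_rt v R2]
  have kf : ∀ x : α, (k : Perm α) x = x → ((k : Perm α)⁻¹) x = x := by
    intro x hx
    conv_lhs => rw [← hx]
    exact (k : Perm α).symm_apply_apply x
  rw [emb_dt v hd'.1.1 hd'.2.2.2, emb_dt v hd'.2.1.1 hd'.2.2.2, cj, cj, dt_conj', dt_conj',
    kf _ hi, kf _ hj, kf _ hl]
  apply F.ind C _ (nodup5 v hd)
  have h1 : [v i, v j, v l, ((k : Perm α)⁻¹) (v m), ((k : Perm α)⁻¹) (v n)] =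
      [v i, v j, v l, v m, v n].map (⇑((k : Perm α)⁻¹ : Perm α)) := by
    simp only [List.map_cons, List.map_nil, kf _ hi, kf _ hj, kf _ hl]
  rw [h1]
  exact (nodup5 v hd).map ((k : Perm α)⁻¹).injective

end Fam

end Cfsg.Agent.OddHalf.D5.Dbl
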