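import Mathlib

/-!
# ODD D5, `K = Alt(α)`, `|α| ≥ 9`: permutation lemmas (helper845)

Letters are addressed through embeddings `v : Fin 9 ↪ α`; `emb v : A₉ → Alt(α)`; `dt i j k l` is the double
transposition `(i j)(k l)`.
-/

set_option autoImplicit false

namespace Cfsg.Agent.OddHalf.D5.Dbl

open Equiv

/-- the double transposition `(a b)(c d)` -/
def dt {β : Type*} [Fintype β] [DecidableEq β] (a b c d : β) : alternatingGroup β :=
  if h : a ≠ b ∧ c ≠ d then ⟨swap a b * swap c d, by
    rw [Equiv.Perm.mem_alternatingGroup, Equiv.Perm.sign_mul, Equiv.Perm.sign_swap h.1,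
      Equiv.Perm.sign_swap h.2]; rfl⟩ else 1

theorem dt_coe {β : Type*} [Fintype β] [DecidableEq β] {a b c d : β} (h1 : a ≠ b) (h2 : c ≠ d) :
    (dt a b c d : Perm β) = swap a b * swap c d := by
  rw [dt, dif_pos ⟨h1, h2⟩]

/-- the 3-cycle `a → b → c → a` -/
def tc {β : Type*} [Fintype β] [DecidableEq β] (a b c : β) : alternatingGroup β :=
  if h : a ≠ b ∧ b ≠ c then ⟨swap a b * swap b c, by
    rw [Equiv.Perm.mem_alternatingGroup, Equiv.Perm.sign_mul, Equiv.Perm.sign_swap h.1,
      Equiv.Perm.sign_swap h.2]; rfl⟩ else 1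

theorem tc_coe {β : Type*} [Fintype β] [DecidableEq β] {a b c : β} (h1 : a ≠ b) (h2 : b ≠ c) :
    (tc a b c : Perm β) = swap a b * swap b c := by
  rw [tc, dif_pos ⟨h1, h2⟩]

variable {α : Type*} [Fintype α] [DecidableEq α]

theorem sign_viaEmbedding (v : Fin 9 ↪ α) (k : Perm (Fin 9)) :
    Perm.sign (k.viaEmbedding v) = Perm.sign k := by
  classical
  rw [Perm.viaEmbedding]
  convert Perm.sign_extendDomain k _

/-- `A₉ → Alt(α)` -/
noncomputable def emb (v : Fin 9 ↪ α) : alternatingGroup (Fin 9) →* alternatingGroup α where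
  toFun k := ⟨(k : Perm (Fin 9)).viaEmbedding v, by
    rw [Perm.mem_alternatingGroup, sign_viaEmbedding]; exact k.2⟩
  map_one' := Subtype.ext (map_one (Perm.viaEmbeddingHom v))
  map_mul' a b := Subtype.ext (map_mul (Perm.viaEmbeddingHom v) (a : Perm (Fin 9)) (b : Perm (Fin 9)))

theorem emb_apply (v : Fin 9 ↪ α) (k : alternatingGroup (Fin 9)) (i : Fin 9) :
    (emb v k : Perm α) (v i) = v ((k : Perm (Fin 9)) i) :=
  Perm.viaEmbedding_apply _ _ _

theorem emb_notMem (v : Fin 9 ↪ α) (k : alternatingGroup (Fin 9)) {x : α} (hx : x ∉ Set.range v) :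
    (emb v k : Perm α) x = x :=
  Perm.viaEmbedding_apply_of_notMem _ _ _ hx

theorem emb_injective (v : Fin 9 ↪ α) : Function.Injective (emb v) := by
  intro a b h
  apply Subtype.ext
  apply Equiv.ext
  intro i
  apply v.injective
  rw [← emb_apply, ← emb_apply, h]

theorem emb_dt (v : Fin 9 ↪ α) {i j k l : Fin 9} (h1 : i ≠ j) (h2 : k ≠ l) :
    emb v (dt i j k l) = dt (v i) (v j) (v k) (v l) := by
  apply Subtype.ext
  apply Equiv.ext
  intro x
  rw [dt_coe (v.injective.ne h1) (v.injective.ne h2)]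
  by_cases hx : x ∈ Set.range v
  · obtain ⟨m, rfl⟩ := hx
    rw [emb_apply, dt_coe h1 h2, Perm.mul_apply, Perm.mul_apply, v.injective.swap_apply,
      v.injective.swap_apply]
  · rw [emb_notMem v _ hx, Perm.mul_apply]
    have h : ∀ m, x ≠ v m := fun m e => hx ⟨m, e.symm⟩
    rw [swap_apply_of_ne_of_ne (h k) (h l), swap_apply_of_ne_of_ne (h i) (h j)]

/-- conjugation by permutations of the letters -/
theorem dt_conj {β : Type*} [Fintype β] [DecidableEq β] (k : alternatingGroup β) (a b c d : β) :
    k * dt a b c d * k⁻¹ = dt ((k : Perm β) a) ((k : Perm β) b) ((k : Perm β) c) ((k : Perm β) d) := by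
  by_cases h : a ≠ b ∧ c ≠ d
  · apply Subtype.ext
    rw [dt_coe ((k : Perm β).injective.ne h.1) ((k : Perm β).injective.ne h.2), swap_apply_apply,
      swap_apply_apply]
    show (k : Perm β) * (dt a b c d : Perm β) * (k : Perm β)⁻¹ = _
    rw [dt_coe h.1 h.2]
    group
  · rw [dt, dif_neg h, mul_one, mul_inv_cancel, dt, dif_neg]
    rw [(k : Perm β).injective.ne_iff, (k : Perm β).injective.ne_iff]
    exact h

theorem dt_conj' {β : Type*} [Fintype β] [DecidableEq β] (k : alternatingGroup β) (a b c d : β) :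
    k⁻¹ * dt a b c d * k = dt (((k : Perm β)⁻¹) a) ((k : Perm β)⁻¹ b) ((k : Perm β)⁻¹ c)
      ((k : Perm β)⁻¹ d) := by
  have := dt_conj k⁻¹ a b c d
  rwa [inv_inv] at this

/-- the embedding can be moved by permutations of `Fin 9` -/
theorem emb_comp_dt (v : Fin 9 ↪ α) (π : Perm (Fin 9)) {i j k l : Fin 9} (h1 : i ≠ j) (h2 : k ≠ l) :
    emb (π.toEmbedding.trans v) (dt i j k l) = emb v (dt (π i) (π j) (π k) (π l)) := by
  rw [emb_dt _ h1 h2, emb_dt _ (π.injective.ne h1) (π.injective.ne h2)]
  rfl

omit [Fintype α] [DecidableEq α] in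
theorem exists_perm_extending {m : ℕ} (x y : Fin m → α) (hx : Function.Injective x)
    (hy : Function.Injective y) : ∃ σ : Perm α, ∀ i, σ (x i) = y i :=
  Perm.exists_extending_pair x y hx hy

/-- **7-transitivity** of `Alt(α)` -/
theorem trans_seven (v w : Fin 9 ↪ α) :
    ∃ k : alternatingGroup α, ∀ i : Fin 9, i < 7 → (k : Perm α) (v i) = w i := by
  obtain ⟨σ, hσ⟩ := exists_perm_extending v w v.injective w.injective
  rcases Int.units_eq_one_or (Perm.sign σ) with h | h
  · exact ⟨⟨σ, h⟩, fun i _ => hσ i⟩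
  · refine ⟨⟨σ * swap (v 7) (v 8), ?_⟩, ?_⟩
    · rw [Perm.mem_alternatingGroup, Perm.sign_mul, h, Perm.sign_swap (v.injective.ne (by decide))]
      rfl
    · intro i hi
      show σ (swap (v 7) (v 8) (v i)) = w i
      rw [swap_apply_of_ne_of_ne, hσ]
      · exact v.injective.ne (by rintro rfl; exact absurd hi (by decide))
      · exact v.injective.ne (by rintro rfl; exact absurd hi (by decide))

/-- an embedding with prescribed first letters -/
theorem exists_emb (hn : 9 ≤ Fintype.card α) {m : ℕ} (x : Fin m → α) (hx : Function.Injective x)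
    (hm : m ≤ 9) : ∃ v : Fin 9 ↪ α, ∀ i : Fin m, v (Fin.castLE hm i) = x i := by
  have h1 : Nonempty (Fin 9 ↪ α) := by
    apply Function.Embedding.nonempty_of_card_le
    rwa [Fintype.card_fin]
  obtain ⟨v0⟩ := h1
  obtain ⟨σ, hσ⟩ := exists_perm_extending (fun i : Fin m => v0 (Fin.castLE hm i)) x
    (v0.injective.comp (Fin.castLE_injective hm)) hx
  exact ⟨v0.trans σ.toEmbedding, fun i => hσ i⟩

/-! ### Fixed points -/

/-- an even permutation moving at most two letters is trivial -/
theorem eq_one_of_fix {k : alternatingGroup α} (p q : α)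
    (h : ∀ x, x ≠ p → x ≠ q → (k : Perm α) x = x) : k = 1 := by
  by_cases hpq : p = q
  · subst hpq
    apply Subtype.ext
    apply Equiv.ext
    intro x
    show (k : Perm α) x = x
    by_cases hx : x = p
    · subst hx
      by_contra h1
      have h2 := h _ h1 h1
      exact h1 ((k : Perm α).injective h2)
    · exact h x hx hx
  have hkp : (k : Perm α) p = p ∨ (k : Perm α) p = q := by
    by_contra hc
    rw [not_or] at hc
    have h2 := h _ hc.1 hc.2
    exact hc.1 ((k : Perm α).injective h2)
  have hkq : (k : Perm α) q = p ∨ (k : Perm α) q = q := by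
    by_contra hc
    rw [not_or] at hc
    have h2 := h _ hc.1 hc.2
    exact hc.2 ((k : Perm α).injective h2)
  rcases hkp with h1 | h1
  · have h2 : (k : Perm α) q = q := by
      rcases hkq with h3 | h3
      · exact absurd ((k : Perm α).injective (h1.trans h3.symm)) hpq
      · exact h3
    apply Subtype.ext
    apply Equiv.ext
    intro x
    show (k : Perm α) x = x
    by_cases hx : x = p
    · rw [hx, h1]
    by_cases hx' : x = q
    · rw [hx', h2]
    exact h x hx hx'
  · exfalso
    have h2 : (k : Perm α) q = p := by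
      rcases hkq with h3 | h3
      · exact h3
      · exact absurd ((k : Perm α).injective (h1.trans h3.symm)) hpq
    have h3 : (k : Perm α) = swap p q := by
      apply Equiv.ext
      intro x
      by_cases hx : x = p
      · rw [hx, h1, swap_apply_left]
      by_cases hx' : x = q
      · rw [hx', h2, swap_apply_right]
      rw [h x hx hx', swap_apply_of_ne_of_ne hx hx']
    have h4 : Perm.sign (k : Perm α) = 1 := k.2
    rw [h3, Perm.sign_swap hpq] at h4
    exact absurd h4 (by decide)

omit [Fintype α] [DecidableEq α] in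
/-- commuting permutations preserve the set of moved letters -/
theorem moved_iff {k u : Perm α} (h : u * k = k * u) (x : α) : u (k x) ≠ k x ↔ u x ≠ x := by
  have h1 : u (k x) = k (u x) := by
    have := congrArg (fun f : Perm α => f x) h
    exact this
  rw [h1, k.injective.ne_iff]

theorem dt_apply_of_ne {a b c d x : α} (h1 : a ≠ b) (h2 : c ≠ d) (hx : x ≠ a ∧ x ≠ b ∧ x ≠ c ∧ x ≠ d) :
    (dt a b c d : Perm α) x = x := by
  rw [dt_coe h1 h2, Perm.mul_apply, swap_apply_of_ne_of_ne hx.2.2.1 hx.2.2.2,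
    swap_apply_of_ne_of_ne hx.1 hx.2.1]

theorem moved_dt {a b c d x : α} (hd : [a, b, c, d].Nodup) :
    (dt a b c d : Perm α) x ≠ x ↔ (x = a ∨ x = b ∨ x = c ∨ x = d) := by
  simp only [List.nodup_cons, List.mem_cons, List.not_mem_nil, or_false, not_or,
    List.nodup_nil, and_true, not_false_eq_true] at hd
  obtain ⟨⟨hab, hac, had⟩, ⟨hbc, hbd⟩, hcd⟩ := hd
  constructor
  · intro h
    by_contra hc
    simp only [not_or] at hc
    exact h (dt_apply_of_ne hab hcd hc)
  · rw [dt_coe hab hcd]
    rintro (rfl | rfl | rfl | rfl)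
    · rw [Perm.mul_apply, swap_apply_of_ne_of_ne hac had, swap_apply_left]; exact Ne.symm hab
    · rw [Perm.mul_apply, swap_apply_of_ne_of_ne hbc hbd, swap_apply_right]; exact hab
    · rw [Perm.mul_apply, swap_apply_left, swap_apply_of_ne_of_ne (Ne.symm had) (Ne.symm hbd)]
      exact Ne.symm hcd
    · rw [Perm.mul_apply, swap_apply_right, swap_apply_of_ne_of_ne (Ne.symm hac) (Ne.symm hbc)]
      exact hcd

/-- a permutation commuting with `(a b)(c d)` permutes `{a, b, c, d}` -/
theorem mem_iff_of_comm {k : alternatingGroup α} {a b c d : α} (hd : [a, b, c, d].Nodup)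
    (h : dt a b c d * k = k * dt a b c d) (x : α) :
    ((k : Perm α) x = a ∨ (k : Perm α) x = b ∨ (k : Perm α) x = c ∨ (k : Perm α) x = d) ↔
      (x = a ∨ x = b ∨ x = c ∨ x = d) := by
  have h' : (dt a b c d : Perm α) * (k : Perm α) = (k : Perm α) * (dt a b c d : Perm α) :=
    congrArg Subtype.val h
  rw [← moved_dt hd, ← moved_dt hd, moved_iff h']

/-- action of a commuting permutation -/
theorem apply_comm {k u : alternatingGroup α} (h : u * k = k * u) (x : α) :
    (k : Perm α) ((u : Perm α) x) = (u : Perm α) ((k : Perm α) x) :=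
  (congrArg (fun f : alternatingGroup α => (f : Perm α) x) h).symm

end Cfsg.Agent.OddHalf.D5.Dbl
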