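import Cfsg.Agent.OddHalf.D5.DblFam

/-!
# ODD D5 (helper845): relations between the `y_r`, part 1: squares, disjoint supports
-/

set_option autoImplicit false
set_option linter.unusedSectionVars false

namespace Cfsg.Agent.OddHalf.D5.Dbl

open Equiv

variable {α : Type*} [Fintype α] [DecidableEq α] {G : Type*} [Group G]

/-- a commutator of two `y`'s has no `t`-part -/
theorem no_t_comm {t a b y y' e : G} (ht : cj t y = t * a) (ht' : cj t y' = t * b) (hab : a ≠ b)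
    (h2 : (y * y) * y' = y' * (y * y)) (h2' : (y' * y') * y = y * (y' * y'))
    (hc : y * y' * y⁻¹ * y'⁻¹ = t * e) (he : e * y = y * e) (he' : e * y' = y' * e) : False := by
  generalize hcc : y * y' * y⁻¹ * y'⁻¹ = c at hc
  have e1 : c * y⁻¹ * c = y⁻¹ := by
    have h5 : y⁻¹ * c = y' * y⁻¹ * y'⁻¹ := by rw [← hcc]; group
    have h6 : y⁻¹ * c * (y⁻¹ * c) = y⁻¹ * y⁻¹ := by
      rw [h5]
      have h7 : y' * (y * y)⁻¹ = (y * y)⁻¹ * y' :=
        ((show Commute y' (y * y) from h2.symm).inv_right).eq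
      calc y' * y⁻¹ * y'⁻¹ * (y' * y⁻¹ * y'⁻¹) = (y' * (y * y)⁻¹) * y'⁻¹ := by group
        _ = y⁻¹ * y⁻¹ := by rw [h7]; group
    calc c * y⁻¹ * c = y * (y⁻¹ * c * (y⁻¹ * c)) := by group
      _ = y⁻¹ := by rw [h6]; group
  have e2 : c * y' * c = y' := by
    have h5 : c * y' = y * y' * y⁻¹ := by rw [← hcc]; group
    have h6 : (c * y') * (c * y') = y' * y' := by
      rw [h5]
      calc y * y' * y⁻¹ * (y * y' * y⁻¹) = (y * (y' * y')) * y⁻¹ := by group
        _ = y' * y' := by rw [← h2']; group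
    calc c * y' * c = (c * y' * (c * y')) * y'⁻¹ := by group
      _ = y' := by rw [h6]; group
  have f1 : cj c y = c⁻¹ := by
    rw [cj, eq_comm, inv_eq_iff_mul_eq_one]
    calc c * (y⁻¹ * c * y) = (c * y⁻¹ * c) * y := by group
      _ = 1 := by rw [e1]; group
  have f2 : cj c y' = c⁻¹ := by
    rw [cj]
    calc y'⁻¹ * c * y' = y'⁻¹ * (c * y' * c) * c⁻¹ := by group
      _ = c⁻¹ := by rw [e2]; group
  have f3 := f1.trans f2.symm
  rw [hc, cj_mul, cj_mul, ht, ht', cj_eq he, cj_eq he'] at f3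
  exact hab (mul_left_cancel (mul_right_cancel f3))

/-- `C_G(t)` -/
theorem Cl.cent_key {t : G} {ι : alternatingGroup α →* G} (C : Cl t ι) {x : G} (hx : x * t = t * x) :
    ∃ k, (x = ι k ∨ x = t * ι k) ∧ ∀ b, ι b * x = x * ι b → b * k = k * b := by
  obtain ⟨a, ha⟩ := C.cent x hx
  refine ⟨a, ha, fun b hb => ?_⟩
  apply C.inj
  rw [map_mul, map_mul]
  rcases ha with ha | ha
  · rw [← ha, hb]
  · rw [ha] at hb
    have : t * (ι b * ι a) = t * (ι a * ι b) := by
      calc t * (ι b * ι a) = (t * ι b) * ι a := by group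
        _ = ι b * (t * ι a) := by rw [C.comm]; group
        _ = t * ι a * ι b := hb
        _ = t * (ι a * ι b) := by group
    exact mul_left_cancel this

theorem Cl.mul_inv_t {t : G} {x y : G} (h : cj t x = cj t y) : (x * y⁻¹) * t = t * (x * y⁻¹) := by
  rw [← cj_self_iff_comm, cj_comp, h, cj_cancel]
where
  cj_self_iff_comm {x g : G} : cj x g = x ↔ g * x = x * g := by
    rw [cj_self_iff]; exact eq_comm

theorem jj_trans {ι : alternatingGroup α →* G} (v : Fin 9 ↪ α) (π : Perm (Fin 9)) {i j k l : Fin 9}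
    (h1 : i ≠ j) (h2 : k ≠ l) :
    Cl.jj ι (π.toEmbedding.trans v) (dt i j k l) = Cl.jj ι v (dt (π i) (π j) (π k) (π l)) := by
  show ι (emb _ _) = ι (emb _ _)
  rw [emb_comp_dt v π h1 h2]

namespace Fam

variable {t : G} {ι : alternatingGroup α →* G} {Y : alternatingGroup α → G}

/-- squares -/
theorem sq_cases (C : Cl t ι) (F : Fam t ι Y) (v : Fin 9 ↪ α) :
    Y (emb v (dt 0 1 2 3)) * Y (emb v (dt 0 1 2 3)) = 1 ∨
      Y (emb v (dt 0 1 2 3)) * Y (emb v (dt 0 1 2 3)) = Cl.jj ι v (dt 0 1 2 3) := by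
  have R0 : Rt (dt 0 1 2 3) := rt_dt (by decide)
  have ht := F.mv_rt v R0
  have hc : ∀ k, emb v (dt 0 1 2 3) * k = k * emb v (dt 0 1 2 3) →
      Y (emb v (dt 0 1 2 3)) * ι k = ι k * Y (emb v (dt 0 1 2 3)) := fun k => F.comm_rt v R0
  have hcr := F.comm9 v R0 (n := dt 0 1 2 3) rfl
  generalize Y (emb v (dt 0 1 2 3)) = y at ht hc hcr
  have h1 : cj t (y * y) = t := by
    rw [cj_comp, ht, cj_mul, ht, cj_eq hcr.symm, mul_assoc, ← map_mul, show
      (dt 0 1 2 3 : alternatingGroup (Fin 9)) * dt 0 1 2 3 = 1 by decide, map_one, mul_one]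
  obtain ⟨k, hk, hkc⟩ := C.cent_key (x := y * y) (cj_self_iff.1 h1).symm
  have h2 : ∀ b, emb v (dt 0 1 2 3) * b = b * emb v (dt 0 1 2 3) → b * k = k * b := by
    intro b hb
    apply hkc
    rw [← mul_assoc, ← hc b hb, mul_assoc, ← hc b hb, mul_assoc]
  have hk4 := cent_disj v k (fun l hl _ => h2 l hl.symm)
  have hk2 : k = 1 ∨ k = emb v (dt 0 1 2 3) := by
    have h3 := h2 (emb v (tc 4 5 6)) (by rw [← map_mul, ← map_mul]; exact congrArg _ (by decide))
    rcases hk4 with e | e | e | e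
    · exact Or.inl e
    · exact Or.inr e
    · rw [e, ← map_mul, ← map_mul] at h3
      exact absurd (emb_injective v h3) (by decide)
    · rw [e, ← map_mul, ← map_mul] at h3
      exact absurd (emb_injective v h3) (by decide)
  have hkr : emb v (dt 0 1 2 3) * k = k * emb v (dt 0 1 2 3) := by
    rcases hk2 with rfl | rfl
    · rw [mul_one, one_mul]
    · rfl
  rcases hk with hk | hk
  · rcases hk2 with rfl | rfl
    · left; rw [hk, map_one]
    · right; rw [hk]; rfl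
  · exfalso
    have h3 : cj (y * y) y = y * y := cj_eq (by group)
    rw [hk, cj_mul, ht, cj_eq (hc k hkr).symm] at h3
    have h4 := mul_eq_left.1 (mul_right_cancel h3)
    exact absurd (C.jj_inj v (h4.trans (map_one _).symm)) (by decide)

theorem sq_rt (C : Cl t ι) (F : Fam t ι Y) (v : Fin 9 ↪ α) {m : alternatingGroup (Fin 9)} (hm : Rt m) :
    Y (emb v m) * Y (emb v m) = 1 ∨ Y (emb v m) * Y (emb v m) = Cl.jj ι v m := by
  obtain ⟨π, rfl⟩ := hm
  have h := F.sq_cases C (π.toEmbedding.trans v)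
  rw [emb_comp_dt v π (by decide) (by decide), jj_trans v π (by decide) (by decide)] at h
  exact h

/-- the square of `y_m` commutes with everything `m` commutes with -/
theorem sq_comm (C : Cl t ι) (F : Fam t ι Y) (v : Fin 9 ↪ α) {m n : alternatingGroup (Fin 9)}
    (hm : Rt m) (hn : Rt n) (hmn : m * n = n * m) :
    (Y (emb v m) * Y (emb v m)) * Y (emb v n) = Y (emb v n) * (Y (emb v m) * Y (emb v m)) := by
  rcases F.sq_rt C v hm with e | e
  · rw [e, one_mul, mul_one]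
  · rw [e]
    exact (F.comm9 v hn hmn.symm).symm

/-- **commutators of commuting `y`'s lie in `K`** -/
theorem comm_key (C : Cl t ι) (F : Fam t ι Y) (v : Fin 9 ↪ α) {m n : alternatingGroup (Fin 9)}
    (hm : Rt m) (hn : Rt n) (hmn : m * n = n * m) (hne : m ≠ n) :
    ∃ k : alternatingGroup α, Y (emb v m) * Y (emb v n) = ι k * Y (emb v n) * Y (emb v m) ∧
      ∀ l, l * emb v m = emb v m * l → l * emb v n = emb v n * l → l * k = k * l := by
  have t0 := F.mv_rt v hm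
  have t1 := F.mv_rt v hn
  have c01 := F.comm9 v hm hmn
  have c10 := F.comm9 v hn hmn.symm
  have jmn : Cl.jj ι v n * Cl.jj ι v m = Cl.jj ι v m * Cl.jj ι v n := by
    rw [← map_mul, ← map_mul, hmn]
  have s0 := F.sq_comm C v hm hn hmn
  have s1 := F.sq_comm C v hn hm hmn.symm
  have a0 : ∀ l, l * emb v m = emb v m * l → Y (emb v m) * ι l = ι l * Y (emb v m) :=
    fun l hl => F.comm_rt v hm hl.symm
  have a1 : ∀ l, l * emb v n = emb v n * l → Y (emb v n) * ι l = ι l * Y (emb v n) :=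
    fun l hl => F.comm_rt v hn hl.symm
  have hj : Cl.jj ι v m ≠ Cl.jj ι v n := fun h => hne (C.jj_inj v h)
  generalize Y (emb v m) = y at *
  generalize Y (emb v n) = y' at *
  generalize Cl.jj ι v m = a at *
  generalize Cl.jj ι v n = b at *
  have h1 : cj t (y * y') = cj t (y' * y) := by
    rw [cj_comp, cj_comp, t0, t1, cj_mul, cj_mul, t0, t1, cj_eq c10.symm, cj_eq c01.symm, mul_assoc,
      mul_assoc, jmn]
  obtain ⟨k, hk, hkc⟩ := C.cent_key (Cl.mul_inv_t h1)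
  have hkl : ∀ l, l * emb v m = emb v m * l → l * emb v n = emb v n * l → l * k = k * l := by
    intro l h1 h2
    apply hkc
    have b0 : Commute y (ι l) := a0 l h1
    have b1 : Commute y' (ι l) := a1 l h2
    exact ((b0.mul_left b1).mul_left (b1.mul_left b0).inv_left).eq.symm
  have e1 : y * y' * (y' * y)⁻¹ = y * y' * y⁻¹ * y'⁻¹ := by group
  rw [e1] at hk
  have hmm : emb v m * emb v n = emb v n * emb v m := by rw [← map_mul, ← map_mul, hmn]
  have km : emb v m * k = k * emb v m := hkl _ rfl hmm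
  have kn : emb v n * k = k * emb v n := hkl _ hmm.symm rfl
  refine ⟨k, ?_, hkl⟩
  rcases hk with hk | hk
  · rw [← hk]; group
  · exfalso
    exact no_t_comm t0 t1 hj s0 s1 hk (a0 k km.symm).symm (a1 k kn.symm).symm

/-- `V_B`-lines, transported -/
theorem vb_pi (F : Fam t ι Y) (v : Fin 9 ↪ α) (π : Perm (Fin 9)) :
    Y (emb v (dt (π 0) (π 1) (π 2) (π 3))) * Y (emb v (dt (π 0) (π 2) (π 1) (π 3))) *
      Y (emb v (dt (π 0) (π 3) (π 1) (π 2))) = 1 := by
  have h := F.vb (π.toEmbedding.trans v)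
  rw [emb_comp_dt v π (by decide) (by decide), emb_comp_dt v π (by decide) (by decide),
    emb_comp_dt v π (by decide) (by decide)] at h
  exact h

end Fam

theorem trilin {y w1 w2 w3 a1 a2 a3 : G} (vb : w1 * w2 * w3 = 1) (r1 : y * w1 = a1 * w1 * y)
    (r2 : y * w2 = a2 * w2 * y) (r3 : y * w3 = a3 * w3 * y) (d2 : w1 * a2 = a2 * w1)
    (d3 : w1 * a3 = a3 * w1) (d4 : w2 * a3 = a3 * w2) : a1 * a2 * a3 = 1 := by
  have : y = a1 * a2 * a3 * (w1 * w2 * w3) * y := by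
    calc y = y * (w1 * w2 * w3) := by rw [vb, mul_one]
      _ = (y * w1) * w2 * w3 := by group
      _ = a1 * w1 * (y * w2) * w3 := by rw [r1]; group
      _ = a1 * (w1 * a2) * w2 * (y * w3) := by rw [r2]; group
      _ = a1 * a2 * w1 * (w2 * a3) * w3 * y := by rw [r3, d2]; group
      _ = a1 * a2 * (w1 * a3) * w2 * w3 * y := by rw [d4]; group
      _ = a1 * a2 * a3 * (w1 * w2 * w3) * y := by rw [d3]; group
  rw [vb, mul_one] at this
  exact mul_eq_right.1 this.symm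

namespace Fam

variable {t : G} {ι : alternatingGroup α →* G} {Y : alternatingGroup α → G}

/-- the permutation exchanging `0123` and `4567` -/
def sw4 : Perm (Fin 9) := swap 0 4 * swap 1 5 * swap 2 6 * swap 3 7

theorem disj_pre (C : Cl t ι) (F : Fam t ι Y) (v : Fin 9 ↪ α) :
    ∃ k : alternatingGroup (Fin 9), (k = 1 ∨ k = dt 4 5 6 7) ∧
      Y (emb v (dt 0 1 2 3)) * Y (emb v (dt 4 5 6 7)) =
      Cl.jj ι v k * Y (emb v (dt 4 5 6 7)) * Y (emb v (dt 0 1 2 3)) := by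
  have R0 : Rt (dt 0 1 2 3) := rt_dt (by decide)
  have R1 : Rt (dt 4 5 6 7) := rt_dt (by decide)
  have R2 : Rt (dt 4 6 5 7) := rt_dt (by decide)
  obtain ⟨k, hk, hkc⟩ := F.comm_key C v R0 R1 (by decide) (by decide)
  obtain ⟨k0, hk0, rfl⟩ : ∃ k0 : alternatingGroup (Fin 9), (k0 = 1 ∨ k0 = dt 0 1 2 3 ∨ k0 = dt 4 5 6 7 ∨
      k0 = dt 0 1 2 3 * dt 4 5 6 7) ∧ k = emb v k0 := by
    rcases cent_disj v k hkc with e | e | e | e
    · exact ⟨1, Or.inl rfl, by rw [map_one]; exact e⟩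
    · exact ⟨_, Or.inr (Or.inl rfl), e⟩
    · exact ⟨_, Or.inr (Or.inr (Or.inl rfl)), e⟩
    · exact ⟨_, Or.inr (Or.inr (Or.inr rfl)), e⟩
  have hrel : ∀ n m' : alternatingGroup (Fin 9), cj (dt 0 1 2 3) n = dt 0 1 2 3 →
      cj (dt 4 5 6 7) n = m' → Y (emb v (dt 0 1 2 3)) * Y (emb v m') =
        Cl.jj ι v (cj k0 n) * Y (emb v m') * Y (emb v (dt 0 1 2 3)) := by
    intro n m' h1 h2
    have h4 := congrArg (fun z => cj z (Cl.jj ι v n)) hk
    simp only [cj_mul] at h4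
    rw [F.eq9 v R0 n h1, F.eq9 v R1 n h2] at h4
    rw [h4, ← Cl.cj_jj]
    rfl
  have prod : k0 * cj k0 (tc 5 7 6) * cj k0 (tc 5 6 7) = 1 := by
    apply C.jj_inj v
    rw [map_one, map_mul, map_mul]
    exact trilin (F.vb_pi v sw4) hk (hrel (tc 5 7 6) _ (by decide) (by decide))
      (hrel (tc 5 6 7) _ (by decide) (by decide))
      (F.comm9 v R1 (by rcases hk0 with rfl | rfl | rfl | rfl <;> decide))
      (F.comm9 v R1 (by rcases hk0 with rfl | rfl | rfl | rfl <;> decide))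
      (F.comm9 v R2 (by rcases hk0 with rfl | rfl | rfl | rfl <;> decide))
  refine ⟨k0, ?_, hk⟩
  rcases hk0 with rfl | rfl | rfl | rfl
  · exact Or.inl rfl
  · exact absurd prod (by decide)
  · exact Or.inr rfl
  · exact absurd prod (by decide)

/-- **disjoint supports commute** -/
theorem disj0 (C : Cl t ι) (F : Fam t ι Y) (v : Fin 9 ↪ α) :
    Y (emb v (dt 0 1 2 3)) * Y (emb v (dt 4 5 6 7)) =
      Y (emb v (dt 4 5 6 7)) * Y (emb v (dt 0 1 2 3)) := by
  obtain ⟨k, hk, e⟩ := F.disj_pre C v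
  have h : ∃ k2 : alternatingGroup (Fin 9), (k2 = 1 ∨ k2 = dt 0 1 2 3) ∧
      Y (emb v (dt 4 5 6 7)) * Y (emb v (dt 0 1 2 3)) =
      Cl.jj ι v k2 * Y (emb v (dt 0 1 2 3)) * Y (emb v (dt 4 5 6 7)) := by
    obtain ⟨k', hk', e'⟩ := F.disj_pre C (sw4.toEmbedding.trans v)
    rw [emb_comp_dt v sw4 (by decide) (by decide), emb_comp_dt v sw4 (by decide) (by decide)] at e'
    rcases hk' with rfl | rfl
    · refine ⟨1, Or.inl rfl, ?_⟩
      rw [map_one (Cl.jj ι _)] at e' ⊢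
      exact e'
    · rw [jj_trans v sw4 (by decide) (by decide)] at e'
      exact ⟨_, Or.inr rfl, e'⟩
  obtain ⟨k2, hk2, e2⟩ := h
  have h1 : k * k2 = 1 := by
    apply C.jj_inj v
    rw [map_mul, map_one]
    rw [mul_assoc, e2, ← mul_assoc, ← mul_assoc, mul_assoc _ (Y _) (Y _)] at e
    exact mul_eq_right.1 e.symm
  have h2 : k = 1 := by
    rcases hk with rfl | rfl
    · rfl
    · rcases hk2 with rfl | rfl
      · exact absurd h1 (by decide)
      · exact absurd h1 (by decide)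
  rw [h2, map_one, one_mul] at e
  exact e

/-- letters given by a permutation of `Fin 9` -/
theorem disj_pi (C : Cl t ι) (F : Fam t ι Y) (v : Fin 9 ↪ α) (π : Perm (Fin 9)) :
    Y (emb v (dt (π 0) (π 1) (π 2) (π 3))) * Y (emb v (dt (π 4) (π 5) (π 6) (π 7))) =
      Y (emb v (dt (π 4) (π 5) (π 6) (π 7))) * Y (emb v (dt (π 0) (π 1) (π 2) (π 3))) := by
  have h := F.disj0 C (π.toEmbedding.trans v)
  rw [emb_comp_dt v π (by decide) (by decide), emb_comp_dt v π (by decide) (by decide)] at h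
  exact h

/-! ### Lines -/

/-- the four elements of the line group `⟨(01)(23), (23)(45)⟩` -/
def LN (m : alternatingGroup (Fin 9)) : Prop :=
  m = 1 ∨ m = dt 0 1 2 3 ∨ m = dt 2 3 4 5 ∨ m = dt 0 1 4 5

theorem LN_of {v : Fin 9 ↪ α} {k : alternatingGroup α}
    (h : ∀ l : alternatingGroup α, l * emb v (dt 0 1 2 3) = emb v (dt 0 1 2 3) * l →
      l * emb v (dt 2 3 4 5) = emb v (dt 2 3 4 5) * l → l * k = k * l) :
    ∃ m, LN m ∧ k = emb v m := by
  rcases cent_line v k h with e | e | e | e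
  · exact ⟨1, Or.inl rfl, by rw [map_one]; exact e⟩
  · exact ⟨_, Or.inr (Or.inl rfl), e⟩
  · exact ⟨_, Or.inr (Or.inr (Or.inl rfl)), e⟩
  · exact ⟨_, Or.inr (Or.inr (Or.inr rfl)), e⟩

/-- `[y_12, y_23] = r_13^κ` -/
theorem line_comm_pre (C : Cl t ι) (F : Fam t ι Y) (v : Fin 9 ↪ α) :
    ∃ k : alternatingGroup (Fin 9), (k = 1 ∨ k = dt 0 1 4 5) ∧
      Y (emb v (dt 0 1 2 3)) * Y (emb v (dt 2 3 4 5)) =
      Cl.jj ι v k * Y (emb v (dt 2 3 4 5)) * Y (emb v (dt 0 1 2 3)) := by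
  have R0 : Rt (dt 0 1 2 3) := rt_dt (by decide)
  have R1 : Rt (dt 2 3 4 5) := rt_dt (by decide)
  obtain ⟨k, hk, hkc⟩ := F.comm_key C v R0 R1 (by decide) (by decide)
  obtain ⟨m, hm, rfl⟩ := LN_of hkc
  have hk' : Y (emb v (dt 0 1 2 3)) * Y (emb v (dt 2 3 4 5)) =
      Cl.jj ι v m * Y (emb v (dt 2 3 4 5)) * Y (emb v (dt 0 1 2 3)) := hk
  have h4 := congrArg (fun z => cj z (Cl.jj ι v (dt 0 4 1 5))) hk'
  simp only [cj_mul] at h4
  rw [F.eq9 v R0 (m' := dt 2 3 4 5) (dt 0 4 1 5) (by decide),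
    F.eq9 v R1 (m' := dt 0 1 2 3) (dt 0 4 1 5) (by decide), Cl.cj_jj] at h4
  have h1 : m * cj m (dt 0 4 1 5) = 1 := by
    apply C.jj_inj v
    rw [map_mul, map_one]
    rw [mul_assoc, h4, ← mul_assoc, ← mul_assoc, mul_assoc _ (Y _) (Y _)] at hk'
    exact mul_eq_right.1 hk'.symm
  refine ⟨m, ?_, hk'⟩
  rcases hm with rfl | rfl | rfl | rfl
  · exact Or.inl rfl
  · exact absurd h1 (by decide)
  · exact absurd h1 (by decide)
  · exact Or.inr rfl

/-- `y_12 y_23 y_13 ∈ ⟨t⟩ × ⟨r_12, r_23⟩` -/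
theorem line_prod_pre (C : Cl t ι) (F : Fam t ι Y) (v : Fin 9 ↪ α) :
    ∃ m : alternatingGroup (Fin 9), LN m ∧
      (Y (emb v (dt 0 1 2 3)) * Y (emb v (dt 2 3 4 5)) * Y (emb v (dt 0 1 4 5)) = Cl.jj ι v m ∨
       Y (emb v (dt 0 1 2 3)) * Y (emb v (dt 2 3 4 5)) * Y (emb v (dt 0 1 4 5)) =
        t * Cl.jj ι v m) := by
  have R0 : Rt (dt 0 1 2 3) := rt_dt (by decide)
  have R1 : Rt (dt 2 3 4 5) := rt_dt (by decide)
  have R2 : Rt (dt 0 1 4 5) := rt_dt (by decide)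
  have t0 := F.mv_rt v R0
  have t1 := F.mv_rt v R1
  have t2 := F.mv_rt v R2
  have c10 := F.comm9 v R1 (n := dt 0 1 2 3) (by decide)
  have c20 := F.comm9 v R2 (n := dt 0 1 2 3) (by decide)
  have c21 := F.comm9 v R2 (n := dt 2 3 4 5) (by decide)
  have jjj : Cl.jj ι v (dt 0 1 4 5) * Cl.jj ι v (dt 2 3 4 5) * Cl.jj ι v (dt 0 1 2 3) = 1 := by
    rw [← map_mul, ← map_mul, show (dt 0 1 4 5 : alternatingGroup (Fin 9)) * dt 2 3 4 5 * dt 0 1 2 3 = 1
      by decide, map_one]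
  have a0 : ∀ l, l * emb v (dt 0 1 2 3) = emb v (dt 0 1 2 3) * l → Commute (Y (emb v (dt 0 1 2 3))) (ι l) :=
    fun l hl => F.comm_rt v R0 hl.symm
  have a1 : ∀ l, l * emb v (dt 2 3 4 5) = emb v (dt 2 3 4 5) * l → Commute (Y (emb v (dt 2 3 4 5))) (ι l) :=
    fun l hl => F.comm_rt v R1 hl.symm
  have a2 : ∀ l, l * emb v (dt 0 1 4 5) = emb v (dt 0 1 4 5) * l → Commute (Y (emb v (dt 0 1 4 5))) (ι l) :=
    fun l hl => F.comm_rt v R2 hl.symm
  have e3 : emb v (dt 0 1 4 5) = emb v (dt 0 1 2 3) * emb v (dt 2 3 4 5) := by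
    rw [← map_mul]; exact congrArg _ (by decide)
  have h1 : cj t (Y (emb v (dt 0 1 2 3)) * Y (emb v (dt 2 3 4 5)) * Y (emb v (dt 0 1 4 5))) = t := by
    rw [cj_comp, cj_comp, t0, cj_mul, t1, cj_eq c10.symm, cj_mul, cj_mul, t2, cj_eq c21.symm,
      cj_eq c20.symm, mul_assoc, mul_assoc, ← mul_assoc (Cl.jj ι v _), jjj, mul_one]
  obtain ⟨k, hk, hkc⟩ := C.cent_key (cj_self_iff.1 h1).symm
  obtain ⟨m, hm, rfl⟩ := LN_of (k := k) (v := v) (by
    intro l h2 h3
    apply hkc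
    exact (((a0 l h2).mul_left (a1 l h3)).mul_left (a2 l (by
      rw [e3, ← mul_assoc, h2, mul_assoc, h3, mul_assoc]))).eq.symm)
  exact ⟨m, hm, hk⟩

end Fam

/-- the line computation -/
theorem line_abs {y12 y23 y13 y34 f a1 a2 a3 : G} (hf : y12 * y23 * y13 = f)
    (d : y34 * y12 = y12 * y34) (h1 : y13 * y34 = a1 * y34 * y13) (h2 : y23 * y34 = a2 * y34 * y23)
    (h3 : cj f y34 = f * a3) (c1 : a1 * y34 = y34 * a1) (c2 : a2 * y34 = y34 * a2)
    (c3 : a2 * y12 = y12 * a2) (c4 : a2 * f = f * a2) (c5 : a1 * y13 = y13 * a1)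
    (c6 : a2 * y23 = y23 * a2) : a1 = a2⁻¹ * a3 := by
  have e13 : cj y13 y34 = y13 * a1 := by
    rw [cj, mul_assoc, h1, ← c5, ← mul_assoc, ← mul_assoc, mul_assoc y34⁻¹, c1]; group
  have e23 : cj y23 y34 = y23 * a2 := by
    rw [cj, mul_assoc, h2, ← c6, ← mul_assoc, ← mul_assoc, mul_assoc y34⁻¹, c2]; group
  have e12 : cj y12 y34 = y12 := cj_eq d.symm
  have e := congrArg (fun z => cj z y34) hf
  simp only [cj_mul] at e
  rw [e12, e23, e13, h3, ← hf] at e
  have c7 : a2 * y13 = y13 * a2 := by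
    have h5 : Commute a2 (y23⁻¹ * y12⁻¹ * f) :=
      (((show Commute a2 y23 from c6).inv_right).mul_right
        ((show Commute a2 y12 from c3).inv_right)).mul_right c4
    have h6 : y23⁻¹ * y12⁻¹ * f = y13 := by rw [← hf]; group
    rw [h6] at h5
    exact h5
  have h4 : y12 * (y23 * a2) * (y13 * a1) = y12 * y23 * y13 * (a2 * a1) := by
    calc y12 * (y23 * a2) * (y13 * a1) = y12 * y23 * (a2 * y13) * a1 := by group
      _ = y12 * y23 * y13 * (a2 * a1) := by rw [c7]; group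
  rw [h4] at e
  rw [← mul_left_cancel e]
  group

namespace Fam

variable {t : G} {ι : alternatingGroup α →* G} {Y : alternatingGroup α → G}

/-- permutes the pairs `1 → 1, 2 → 3, 3 → 4, 4 → 2` -/
def n1 : alternatingGroup (Fin 9) := tc 2 6 4 * tc 3 7 5

/-- permutes the pairs `1 → 2 → 3 → 4 → 1` -/
def n2 : alternatingGroup (Fin 9) := dt 0 6 1 7 * dt 6 4 7 5 * dt 4 2 5 3

theorem line_pre (C : Cl t ι) (F : Fam t ι Y) (v : Fin 9 ↪ α) :
    Y (emb v (dt 0 1 2 3)) * Y (emb v (dt 2 3 4 5)) = Y (emb v (dt 2 3 4 5)) * Y (emb v (dt 0 1 2 3)) ∧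
    ∃ m, LN m ∧ Y (emb v (dt 0 1 2 3)) * Y (emb v (dt 2 3 4 5)) * Y (emb v (dt 0 1 4 5)) =
      Cl.jj ι v m := by
  have R12 : Rt (dt 0 1 2 3) := rt_dt (by decide)
  have R23 : Rt (dt 2 3 4 5) := rt_dt (by decide)
  have R13 : Rt (dt 0 1 4 5) := rt_dt (by decide)
  have R34 : Rt (dt 4 5 6 7) := rt_dt (by decide)
  obtain ⟨k, hk, ek⟩ := F.line_comm_pre C v
  obtain ⟨m, hm, em⟩ := F.line_prod_pre C v
  have h1 : Y (emb v (dt 0 1 4 5)) * Y (emb v (dt 4 5 6 7)) =
      Cl.jj ι v (cj k n1) * Y (emb v (dt 4 5 6 7)) * Y (emb v (dt 0 1 4 5)) := by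
    have h4 := congrArg (fun z => cj z (Cl.jj ι v n1)) ek
    simp only [cj_mul] at h4
    rwa [F.eq9 v R12 (m' := dt 0 1 4 5) n1 (by decide), F.eq9 v R23 (m' := dt 4 5 6 7) n1 (by decide),
      Cl.cj_jj] at h4
  have h2 : Y (emb v (dt 2 3 4 5)) * Y (emb v (dt 4 5 6 7)) =
      Cl.jj ι v (cj k n2) * Y (emb v (dt 4 5 6 7)) * Y (emb v (dt 2 3 4 5)) := by
    have h4 := congrArg (fun z => cj z (Cl.jj ι v n2)) ek
    simp only [cj_mul] at h4
    rwa [F.eq9 v R12 (m' := dt 2 3 4 5) n2 (by decide), F.eq9 v R23 (m' := dt 4 5 6 7) n2 (by decide),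
      Cl.cj_jj] at h4
  have d : Y (emb v (dt 4 5 6 7)) * Y (emb v (dt 0 1 2 3)) =
      Y (emb v (dt 0 1 2 3)) * Y (emb v (dt 4 5 6 7)) := (F.disj0 C v).symm
  -- commutations
  have a1y34 : Cl.jj ι v (cj k n1) * Y (emb v (dt 4 5 6 7)) =
      Y (emb v (dt 4 5 6 7)) * Cl.jj ι v (cj k n1) :=
    (F.comm9 v R34 (by rcases hk with rfl | rfl <;> decide)).symm
  have a2y34 : Cl.jj ι v (cj k n2) * Y (emb v (dt 4 5 6 7)) =
      Y (emb v (dt 4 5 6 7)) * Cl.jj ι v (cj k n2) :=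
    (F.comm9 v R34 (by rcases hk with rfl | rfl <;> decide)).symm
  have a2y12 : Cl.jj ι v (cj k n2) * Y (emb v (dt 0 1 2 3)) =
      Y (emb v (dt 0 1 2 3)) * Cl.jj ι v (cj k n2) :=
    (F.comm9 v R12 (by rcases hk with rfl | rfl <;> decide)).symm
  have a1y13 : Cl.jj ι v (cj k n1) * Y (emb v (dt 0 1 4 5)) =
      Y (emb v (dt 0 1 4 5)) * Cl.jj ι v (cj k n1) :=
    (F.comm9 v R13 (by rcases hk with rfl | rfl <;> decide)).symm
  have a2y23 : Cl.jj ι v (cj k n2) * Y (emb v (dt 2 3 4 5)) =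
      Y (emb v (dt 2 3 4 5)) * Cl.jj ι v (cj k n2) :=
    (F.comm9 v R23 (by rcases hk with rfl | rfl <;> decide)).symm
  have a2m : Cl.jj ι v (cj k n2) * Cl.jj ι v m = Cl.jj ι v m * Cl.jj ι v (cj k n2) := by
    rw [← map_mul, ← map_mul]
    congr 1
    rcases hk with rfl | rfl <;> rcases hm with rfl | rfl | rfl | rfl <;> decide
  have my34 : Y (emb v (dt 4 5 6 7)) * Cl.jj ι v m = Cl.jj ι v m * Y (emb v (dt 4 5 6 7)) :=
    F.comm9 v R34 (by rcases hm with rfl | rfl | rfl | rfl <;> decide)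
  have t34 := F.mv_rt v R34
  rcases em with em | em
  · have h := line_abs (a3 := 1) em d h1 h2 (by rw [cj_eq my34.symm, mul_one]) a1y34 a2y34 a2y12
      a2m a1y13 a2y23
    have hk1 : k = 1 := by
      rw [mul_one, ← map_inv] at h
      have h' := C.jj_inj v h
      rcases hk with rfl | rfl
      · rfl
      · exact absurd h' (by decide)
    rw [hk1, map_one, one_mul] at ek
    exact ⟨ek, m, hm, em⟩
  · exfalso
    have a2f : Cl.jj ι v (cj k n2) * (t * Cl.jj ι v m) = t * Cl.jj ι v m * Cl.jj ι v (cj k n2) := by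
      rw [← mul_assoc, ← C.jj_comm, mul_assoc, a2m, mul_assoc]
    have h := line_abs (a3 := Cl.jj ι v (dt 4 5 6 7)) em d h1 h2 (by
      rw [cj_mul, t34, cj_eq my34.symm, mul_assoc, mul_assoc, ← map_mul, ← map_mul]
      congr 2
      rcases hm with rfl | rfl | rfl | rfl <;> decide) a1y34 a2y34 a2y12 a2f a1y13 a2y23
    rw [← map_inv, ← map_mul] at h
    have h' := C.jj_inj v h
    rcases hk with rfl | rfl
    · exact absurd h' (by decide)
    · exact absurd h' (by decide)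

/-- collinear `y`'s commute -/
theorem line_comm (C : Cl t ι) (F : Fam t ι Y) (v : Fin 9 ↪ α) (π : Perm (Fin 9)) :
    Y (emb v (dt (π 0) (π 1) (π 2) (π 3))) * Y (emb v (dt (π 2) (π 3) (π 4) (π 5))) =
      Y (emb v (dt (π 2) (π 3) (π 4) (π 5))) * Y (emb v (dt (π 0) (π 1) (π 2) (π 3))) := by
  have h := (F.line_pre C (π.toEmbedding.trans v)).1
  rw [emb_comp_dt v π (by decide) (by decide), emb_comp_dt v π (by decide) (by decide)] at h
  exact h

/-- **lines** -/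
theorem line0 (C : Cl t ι) (F : Fam t ι Y) (v : Fin 9 ↪ α) :
    Y (emb v (dt 0 1 2 3)) * Y (emb v (dt 2 3 4 5)) * Y (emb v (dt 0 1 4 5)) = 1 := by
  have R12 : Rt (dt 0 1 2 3) := rt_dt (by decide)
  have R23 : Rt (dt 2 3 4 5) := rt_dt (by decide)
  have R13 : Rt (dt 0 1 4 5) := rt_dt (by decide)
  obtain ⟨h12, m, hm, e⟩ := F.line_pre C v
  -- the other commutation, conjugating by elements of `A₉`
  have h23 : Y (emb v (dt 2 3 4 5)) * Y (emb v (dt 0 1 4 5)) =
      Y (emb v (dt 0 1 4 5)) * Y (emb v (dt 2 3 4 5)) := by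
    have h4 := congrArg (fun z => cj z (Cl.jj ι v (tc 0 4 2 * tc 1 5 3))) h12
    simp only [cj_mul] at h4
    rwa [F.eq9 v R12 (m' := dt 2 3 4 5) _ (by decide),
      F.eq9 v R23 (m' := dt 0 1 4 5) _ (by decide)] at h4
  have c1 : cj m (dt 0 4 1 5) = m := by
    apply C.jj_inj v
    rw [← Cl.cj_jj, ← e]
    simp only [cj_mul]
    rw [F.eq9 v R12 (m' := dt 2 3 4 5) (dt 0 4 1 5) (by decide),
      F.eq9 v R23 (m' := dt 0 1 2 3) (dt 0 4 1 5) (by decide),
      F.eq9 v R13 (m' := dt 0 1 4 5) (dt 0 4 1 5) (by decide), h12]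
  have c2 : cj m (dt 0 2 1 3) = m := by
    apply C.jj_inj v
    rw [← Cl.cj_jj, ← e]
    simp only [cj_mul]
    rw [F.eq9 v R12 (m' := dt 0 1 2 3) (dt 0 2 1 3) (by decide),
      F.eq9 v R23 (m' := dt 0 1 4 5) (dt 0 2 1 3) (by decide),
      F.eq9 v R13 (m' := dt 2 3 4 5) (dt 0 2 1 3) (by decide), mul_assoc, ← h23, ← mul_assoc]
  have hm1 : m = 1 := by
    rcases hm with rfl | rfl | rfl | rfl
    · rfl
    · exact absurd c1 (by decide)
    · exact absurd c1 (by decide)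
    · exact absurd c2 (by decide)
  rw [e, hm1, map_one]

/-- lines, transported -/
theorem line_pi (C : Cl t ι) (F : Fam t ι Y) (v : Fin 9 ↪ α) (π : Perm (Fin 9)) :
    Y (emb v (dt (π 0) (π 1) (π 2) (π 3))) * Y (emb v (dt (π 2) (π 3) (π 4) (π 5))) *
      Y (emb v (dt (π 0) (π 1) (π 4) (π 5))) = 1 := by
  have h := F.line0 C (π.toEmbedding.trans v)
  rw [emb_comp_dt v π (by decide) (by decide), emb_comp_dt v π (by decide) (by decide),
    emb_comp_dt v π (by decide) (by decide)] at h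
  exact h

end Fam

/-- the four lines in `⟨r_ij⟩` -/
theorem four_abs {a b c d e f : G} (h1 : a * b * c = 1) (h2 : a * d * e = 1) (h3 : c * f * e = 1)
    (h4 : b * f * d = 1) (cbc : b * c = c * b) (cce : e * c = c * e) (cde : d * e = e * d)
    (cbe : b * e = e * b) : c * c = d * d := by
  have e1 : b * c = d * e := by
    have h5 : a * (b * c) = a * (d * e) := by rw [← mul_assoc, h1, ← mul_assoc, h2]
    exact mul_left_cancel h5
  have e2 : e * c = d * b := by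
    have f1 : f = c⁻¹ * e⁻¹ := by
      calc f = c⁻¹ * (c * f * e) * e⁻¹ := by group
        _ = c⁻¹ * e⁻¹ := by rw [h3]; group
    have f2 : f = b⁻¹ * d⁻¹ := by
      calc f = b⁻¹ * (b * f * d) * d⁻¹ := by group
        _ = b⁻¹ * d⁻¹ := by rw [h4]; group
    have f3 := congrArg (fun z => z⁻¹) (f1.symm.trans f2)
    simpa using f3
  have e3 : c * c * (b * e) = d * d * (b * e) := by
    calc c * c * (b * e) = c * (c * b) * e := by group
      _ = c * (b * c) * e := by rw [cbc]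
      _ = (c * b) * (c * e) := by group
      _ = (b * c) * (e * c) := by rw [cbc, cce]
      _ = (d * e) * (d * b) := by rw [e1, e2]
      _ = d * (e * d) * b := by group
      _ = d * (d * e) * b := by rw [cde]
      _ = d * d * (e * b) := by group
      _ = d * d * (b * e) := by rw [cbe]
  exact mul_right_cancel e3

theorem inj_of {m k : ℕ} (hm : m ≤ 9) {x : Fin m → Fin 9} {π : Perm (Fin 9)}
    (h : ∀ i : Fin m, π (Fin.castLE hm i) = x i) (i : Fin m) (j : Fin 9) (hj : Fin.castLE hm i = j)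
    (_ : k = 0) : π j = x i := by
  rw [← hj, h]

namespace Fam

variable {t : G} {ι : alternatingGroup α →* G} {Y : alternatingGroup α → G}

/-- disjoint supports, any letters -/
theorem disj (C : Cl t ι) (F : Fam t ι Y) (v : Fin 9 ↪ α) (a b c d e f g h : Fin 9)
    (hi : Function.Injective ![a, b, c, d, e, f, g, h]) {m m' : alternatingGroup (Fin 9)}
    (hm : dt a b c d = m) (hm' : dt e f g h = m') :
    Y (emb v m) * Y (emb v m') = Y (emb v m') * Y (emb v m) := by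
  obtain ⟨π, hπ⟩ := exists_pi _ hi (by decide)
  have e0 : π 0 = a := hπ 0
  have e1 : π 1 = b := hπ 1
  have e2 : π 2 = c := hπ 2
  have e3 : π 3 = d := hπ 3
  have e4 : π 4 = e := hπ 4
  have e5 : π 5 = f := hπ 5
  have e6 : π 6 = g := hπ 6
  have e7 : π 7 = h := hπ 7
  have := F.disj_pi C v π
  rw [e0, e1, e2, e3, e4, e5, e6, e7, hm, hm'] at this
  exact this

/-- collinear `y`'s commute, any letters -/
theorem col (C : Cl t ι) (F : Fam t ι Y) (v : Fin 9 ↪ α) (a b c d e f : Fin 9)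
    (hi : Function.Injective ![a, b, c, d, e, f]) {m m' : alternatingGroup (Fin 9)}
    (hm : dt a b c d = m) (hm' : dt c d e f = m') :
    Y (emb v m) * Y (emb v m') = Y (emb v m') * Y (emb v m) := by
  obtain ⟨π, hπ⟩ := exists_pi _ hi (by decide)
  have e0 : π 0 = a := hπ 0
  have e1 : π 1 = b := hπ 1
  have e2 : π 2 = c := hπ 2
  have e3 : π 3 = d := hπ 3
  have e4 : π 4 = e := hπ 4
  have e5 : π 5 = f := hπ 5
  have := F.line_comm C v π
  rw [e0, e1, e2, e3, e4, e5, hm, hm'] at this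
  exact this

/-- lines, any letters -/
theorem line (C : Cl t ι) (F : Fam t ι Y) (v : Fin 9 ↪ α) (a b c d e f : Fin 9)
    (hi : Function.Injective ![a, b, c, d, e, f]) {m m' m'' : alternatingGroup (Fin 9)}
    (hm : dt a b c d = m) (hm' : dt c d e f = m') (hm'' : dt a b e f = m'') :
    Y (emb v m) * Y (emb v m') * Y (emb v m'') = 1 := by
  obtain ⟨π, hπ⟩ := exists_pi _ hi (by decide)
  have e0 : π 0 = a := hπ 0
  have e1 : π 1 = b := hπ 1
  have e2 : π 2 = c := hπ 2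
  have e3 : π 3 = d := hπ 3
  have e4 : π 4 = e := hπ 4
  have e5 : π 5 = f := hπ 5
  have := F.line_pi C v π
  rw [e0, e1, e2, e3, e4, e5, hm, hm', hm''] at this
  exact this

/-- `V_B`-lines, any letters -/
theorem vbl (F : Fam t ι Y) (v : Fin 9 ↪ α) (a b c d : Fin 9)
    (hi : Function.Injective ![a, b, c, d]) {m m' m'' : alternatingGroup (Fin 9)}
    (hm : dt a b c d = m) (hm' : dt a c b d = m') (hm'' : dt a d b c = m'') :
    Y (emb v m) * Y (emb v m') * Y (emb v m'') = 1 := by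
  obtain ⟨π, hπ⟩ := exists_pi _ hi (by decide)
  have e0 : π 0 = a := hπ 0
  have e1 : π 1 = b := hπ 1
  have e2 : π 2 = c := hπ 2
  have e3 : π 3 = d := hπ 3
  have := F.vb_pi v π
  rw [e0, e1, e2, e3, hm, hm', hm''] at this
  exact this

/-- **`y_r` is an involution** -/
theorem invol0 (C : Cl t ι) (F : Fam t ι Y) (v : Fin 9 ↪ α) :
    Y (emb v (dt 0 1 4 5)) * Y (emb v (dt 0 1 4 5)) = 1 := by
  have h := four_abs (F.line C v 0 1 2 3 4 5 (by decide) rfl rfl rfl)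
    (F.line C v 0 1 2 3 6 7 (by decide) rfl rfl rfl)
    (F.line C v 0 1 4 5 6 7 (by decide) rfl rfl rfl)
    (F.line C v 2 3 4 5 6 7 (by decide) rfl rfl rfl)
    (F.col C v 2 3 4 5 0 1 (by decide) rfl (by decide))
    (F.col C v 6 7 0 1 4 5 (by decide) (by decide) rfl)
    (F.col C v 2 3 6 7 0 1 (by decide) rfl (by decide))
    (F.disj C v 2 3 4 5 0 1 6 7 (by decide) rfl rfl)
  rcases F.sq_rt C v (m := dt 0 1 4 5) (rt_dt (by decide)) with e | e
  · exact e
  · exfalso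
    rcases F.sq_rt C v (m := dt 2 3 6 7) (rt_dt (by decide)) with e' | e'
    · rw [e, e', ← map_one (Cl.jj ι v)] at h
      exact absurd (C.jj_inj v h) (by decide)
    · rw [e, e'] at h
      exact absurd (C.jj_inj v h) (by decide)

theorem invol (C : Cl t ι) (F : Fam t ι Y) (v : Fin 9 ↪ α) {m : alternatingGroup (Fin 9)}
    (hm : Rt m) : Y (emb v m) * Y (emb v m) = 1 := by
  obtain ⟨π, rfl⟩ := hm
  have h := F.invol0 C ((π * (swap 4 2 * swap 5 3) : Perm (Fin 9)).toEmbedding.trans v)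
  rw [emb_comp_dt v _ (by decide) (by decide)] at h
  exact h

end Fam

end Cfsg.Agent.OddHalf.D5.Dbl
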