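import Cfsg.Agent.OddHalf.D5.DblRel

/-!
# ODD D5 (helper845): special pairs `r = (01)(45)`, `s = (02)(13)`, `q = [r, s] = (01)(23)`
-/

set_option autoImplicit false
set_option linter.unusedSectionVars false

namespace Cfsg.Agent.OddHalf.D5.Dbl

open Equiv

variable {α : Type*} [Fintype α] [DecidableEq α] {G : Type*} [Group G]

/-- rules for a special pair -/
structure SpR (t r s q yr ys yq : G) : Prop where
  T1 : cj t yr = t * r
  T2 : cj t ys = t * s
  T3 : cj t yq = t * q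
  R1 : cj r yr = r
  R2 : cj r ys = r * yq
  R3 : cj r yq = r
  S1 : cj s yr = s * yq
  S2 : cj s ys = s
  S3 : cj s yq = s
  Q1 : cj q yr = q
  Q2 : cj q ys = q
  Q3 : cj q yq = q
  Z1 : cj yq yr = yq
  Z2 : cj yq ys = yq
  ss : s * s = 1
  qq : q * q = 1
  zz : yq * yq = 1
  rsr : r * s * r = s * q
  zr : yq * r = r * yq

theorem SpR.t_eq {t r s q yr ys yq : G} (h : SpR t r s q yr ys yq) :
    cj t (yr * ys * yr * ys * yq) = t := by
  have h1 : cj t (yr * ys * yr) = t * s * q := by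
    rw [cj_comp, cj_comp, h.T1, cj_mul, h.T2, h.R2, cj_mul, cj_mul, cj_mul, h.T1, h.S1, h.R1, h.Z1]
    calc t * r * (s * yq) * (r * yq) = t * r * s * (yq * r) * yq := by group
      _ = t * (r * s * r) * (yq * yq) := by rw [h.zr]; group
      _ = t * s * q := by rw [h.rsr, h.zz]; group
  have h2 : cj t (yr * ys * yr * ys) = t * q := by
    rw [cj_comp, h1, cj_mul, cj_mul, h.T2, h.S2, h.Q2]
    calc t * s * s * q = t * (s * s) * q := by group
      _ = t * q := by rw [h.ss]; group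
  rw [cj_comp, h2, cj_mul, h.T3, h.Q3, mul_assoc, h.qq, mul_one]

theorem SpR.r_eq {t r s q yr ys yq : G} (h : SpR t r s q yr ys yq) :
    cj r (yr * ys * yr * ys * yq) = r := by
  rw [cj_comp, cj_comp, cj_comp, cj_comp, h.R1, h.R2, cj_mul, h.R1, h.Z1, cj_mul, h.R2, h.Z2,
    mul_assoc, h.zz, mul_one, h.R3]

theorem SpR.s_eq {t r s q yr ys yq : G} (h : SpR t r s q yr ys yq) :
    cj s (yr * ys * yr * ys * yq) = s := by
  rw [cj_comp, cj_comp, cj_comp, cj_comp, h.S1, cj_mul, h.S2, h.Z2, cj_mul, h.S1, h.Z1,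
    mul_assoc s, h.zz, mul_one, h.S2, h.S3]

/-- the `t`-case is impossible -/
theorem SpR.no_t {t r s q yr ys yq e : G} (h : SpR t r s q yr ys yq) (hrs : r ≠ s)
    (hrr : yr * yr = 1) (hss : ys * ys = 1) (he1 : cj e yr = e) (he2 : cj e ys = e)
    (hx : yr * ys * yr * ys * yq = t * e) : False := by
  have i1 : yr⁻¹ = yr := inv_eq_of_mul_eq_one_left hrr
  have i2 : ys⁻¹ = ys := inv_eq_of_mul_eq_one_left hss
  have ha : yr * ys * yr * ys = t * e * yq := by
    rw [← hx]
    calc yr * ys * yr * ys = yr * ys * yr * ys * (yq * yq) := by rw [h.zz, mul_one]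
      _ = yr * ys * yr * ys * yq * yq := by group
  have h1 : cj (yr * ys * yr * ys) yr = ys * yr * ys * yr := by
    rw [cj]; group
  have h2 : cj (yr * ys * yr * ys) ys = ys * yr * ys * yr := by
    rw [cj, i2]
    calc ys * (yr * ys * yr * ys) * ys = ys * yr * ys * yr * (ys * ys) := by group
      _ = ys * yr * ys * yr := by rw [hss, mul_one]
  have h3 := h1.trans h2.symm
  rw [ha, cj_mul, cj_mul, cj_mul, cj_mul, h.T1, h.T2, he1, he2, h.Z1, h.Z2] at h3
  exact hrs (mul_left_cancel (mul_right_cancel (mul_right_cancel h3)))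

namespace Fam

variable {t : G} {ι : alternatingGroup α →* G} {Y : alternatingGroup α → G}

theorem inv_eq (C : Cl t ι) (F : Fam t ι Y) (v : Fin 9 ↪ α) {m : alternatingGroup (Fin 9)}
    (hm : Rt m) : (Y (emb v m))⁻¹ = Y (emb v m) :=
  inv_eq_of_mul_eq_one_left (F.invol C v hm)

/-- three involutions with product one -/
theorem three_abs {a b c : G} (h : a * b * c = 1) (ha : a * a = 1) (hb : b * b = 1)
    (hc : c * c = 1) : a * b = c ∧ b * c = a ∧ a * b = b * a ∧ b * a = c := by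
  have ic : c⁻¹ = c := inv_eq_of_mul_eq_one_left hc
  have ia : a⁻¹ = a := inv_eq_of_mul_eq_one_left ha
  have ib : b⁻¹ = b := inv_eq_of_mul_eq_one_left hb
  have h1 : a * b = c := by rw [mul_eq_one_iff_eq_inv.1 h, ic]
  have h2 : b * c = a := by
    rw [mul_assoc] at h
    rw [← ia]; exact (inv_eq_of_mul_eq_one_right h).symm
  have h3 : b * a = c := by
    have := congrArg (fun z => z⁻¹) h1
    simpa [ia, ib, ic] using this
  exact ⟨h1, h2, h1.trans h3.symm, h3⟩

theorem conj_rule {y r y' z : G} (hy : y * y = 1) (h : cj y r = y') (hz : y' * y = z) :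
    cj r y = r * z := by
  have iy : y⁻¹ = y := inv_eq_of_mul_eq_one_left hy
  rw [cj_eq_iff] at h
  rw [cj, iy, h, mul_assoc, hz]

/-- the rules for the special pair -/
theorem spR (C : Cl t ι) (F : Fam t ι Y) (v : Fin 9 ↪ α) :
    SpR t (Cl.jj ι v (dt 0 1 4 5)) (Cl.jj ι v (dt 0 2 1 3)) (Cl.jj ι v (dt 0 1 2 3))
      (Y (emb v (dt 0 1 4 5))) (Y (emb v (dt 0 2 1 3))) (Y (emb v (dt 0 1 2 3))) := by
  have Rr : Rt (dt 0 1 4 5) := rt_dt (by decide)
  have Rs : Rt (dt 0 2 1 3) := rt_dt (by decide)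
  have Rq : Rt (dt 0 1 2 3) := rt_dt (by decide)
  have Rsq : Rt (dt 0 3 1 2) := rt_dt (by decide)
  have Rrq : Rt (dt 2 3 4 5) := rt_dt (by decide)
  have hl := three_abs (F.line C v 0 1 2 3 4 5 (by decide) rfl rfl rfl) (F.invol C v Rq)
    (F.invol C v Rrq) (F.invol C v Rr)
  have hv := three_abs (F.vbl v 0 1 2 3 (by decide) rfl rfl rfl) (F.invol C v Rq)
    (F.invol C v Rs) (F.invol C v Rsq)
  have sq : ∀ m : alternatingGroup (Fin 9), m * m = 1 → Cl.jj ι v m * Cl.jj ι v m = 1 := by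
    intro m hm
    rw [← map_mul, hm, map_one]
  exact
    { T1 := F.mv_rt v Rr
      T2 := F.mv_rt v Rs
      T3 := F.mv_rt v Rq
      R1 := cj_eq (F.comm9 v Rr (by decide)).symm
      R2 := by
        apply conj_rule (F.invol C v Rs) (F.eq9 v Rs (m' := dt 0 3 1 2) _ (by decide))
        rw [← hv.1, mul_assoc, F.invol C v Rs, mul_one]
      R3 := cj_eq (F.comm9 v Rq (by decide)).symm
      S1 := by
        apply conj_rule (F.invol C v Rr) (F.eq9 v Rr (m' := dt 2 3 4 5) _ (by decide))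
        exact hl.2.1
      S2 := cj_eq (F.comm9 v Rs (by decide)).symm
      S3 := cj_eq (F.comm9 v Rq (by decide)).symm
      Q1 := cj_eq (F.comm9 v Rr (by decide)).symm
      Q2 := cj_eq (F.comm9 v Rs (by decide)).symm
      Q3 := cj_eq (F.comm9 v Rq (by decide)).symm
      Z1 := cj_eq (F.col C v 2 3 0 1 4 5 (by decide) (by decide) rfl)
      Z2 := cj_eq hv.2.2.1
      ss := sq _ (by decide)
      qq := sq _ (by decide)
      zz := F.invol C v Rq
      rsr := by rw [← map_mul, ← map_mul, ← map_mul]; exact congrArg _ (by decide)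
      zr := F.comm9 v Rq (by decide) }

/-- **special pairs**: `(y_r y_s)² = y_q q^δ` -/
theorem special (C : Cl t ι) (F : Fam t ι Y) (v : Fin 9 ↪ α) :
    ∃ m : alternatingGroup (Fin 9), (m = 1 ∨ m = dt 0 1 2 3) ∧
      Y (emb v (dt 0 1 4 5)) * Y (emb v (dt 0 2 1 3)) * Y (emb v (dt 0 1 4 5)) *
        Y (emb v (dt 0 2 1 3)) * Y (emb v (dt 0 1 2 3)) = Cl.jj ι v m := by
  have Rr : Rt (dt 0 1 4 5) := rt_dt (by decide)
  have Rs : Rt (dt 0 2 1 3) := rt_dt (by decide)
  have Rq : Rt (dt 0 1 2 3) := rt_dt (by decide)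
  have S := F.spR C v
  obtain ⟨k, hk, hkc⟩ := C.cent_key (cj_self_iff.1 S.t_eq).symm
  have h1 : k * emb v (dt 0 1 4 5) = emb v (dt 0 1 4 5) * k :=
    (hkc _ (cj_self_iff.1 S.r_eq)).symm
  have h2 : k * emb v (dt 0 2 1 3) = emb v (dt 0 2 1 3) * k :=
    (hkc _ (cj_self_iff.1 S.s_eq)).symm
  have eq : emb v (dt 0 1 2 3) = emb v (dt 0 1 4 5) * emb v (dt 0 2 1 3) * emb v (dt 0 1 4 5) *
      emb v (dt 0 2 1 3) := by
    rw [← map_mul, ← map_mul, ← map_mul]; exact congrArg _ (by decide)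
  have h3 : ∀ l : alternatingGroup α, l * emb v (dt 0 1 4 5) = emb v (dt 0 1 4 5) * l →
      l * emb v (dt 0 2 1 3) = emb v (dt 0 2 1 3) * l → l * k = k * l := by
    intro l ha hb
    have hq : l * emb v (dt 0 1 2 3) = emb v (dt 0 1 2 3) * l := by
      rw [eq]
      have c1 : Commute l (emb v (dt 0 1 4 5)) := ha
      have c2 : Commute l (emb v (dt 0 2 1 3)) := hb
      exact (((c1.mul_right c2).mul_right c1).mul_right c2).eq
    apply hkc
    have b1 : Commute (Y (emb v (dt 0 1 4 5))) (ι l) := F.comm_rt v Rr ha.symm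
    have b2 : Commute (Y (emb v (dt 0 2 1 3))) (ι l) := F.comm_rt v Rs hb.symm
    have b3 : Commute (Y (emb v (dt 0 1 2 3))) (ι l) := F.comm_rt v Rq hq.symm
    exact ((((b1.mul_left b2).mul_left b1).mul_left b2).mul_left b3).eq.symm
  obtain ⟨m, hm, rfl⟩ : ∃ m : alternatingGroup (Fin 9), (m = 1 ∨ m = dt 0 1 2 3) ∧ k = emb v m := by
    rcases cent_special v k h3 h1 h2 with e | e
    · exact ⟨1, Or.inl rfl, by rw [map_one]; exact e⟩
    · exact ⟨_, Or.inr rfl, e⟩
  refine ⟨m, hm, ?_⟩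
  rcases hk with hk | hk
  · exact hk
  · exfalso
    apply S.no_t (e := Cl.jj ι v m) _ (F.invol C v Rr) (F.invol C v Rs) _ _ hk
    · intro h
      exact absurd (C.jj_inj v h) (by decide)
    · exact cj_eq (F.comm9 v Rr (by rcases hm with rfl | rfl <;> decide)).symm
    · exact cj_eq (F.comm9 v Rs (by rcases hm with rfl | rfl <;> decide)).symm

end Fam

end Cfsg.Agent.OddHalf.D5.Dbl
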