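import Cfsg.Agent.OddHalf.D5.DblEnd

/-!
# ODD D5 (helper845): the start `t^y = t r`, `r^y = r`
-/

set_option autoImplicit false
set_option linter.unusedSectionVars false

namespace Cfsg.Agent.OddHalf.D5.Dbl

open Equiv

variable {α : Type*} [Fintype α] [DecidableEq α] {G : Type*} [Group G]

theorem dt_apply {a b c d : α} (hab : a ≠ b) (hac : a ≠ c) (had : a ≠ d) (hbc : b ≠ c) (hbd : b ≠ d)
    (hcd : c ≠ d) : (dt a b c d : Perm α) a = b ∧ (dt a b c d : Perm α) b = a ∧
      (dt a b c d : Perm α) c = d ∧ (dt a b c d : Perm α) d = c := by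
  rw [dt_coe hab hcd]
  refine ⟨?_, ?_, ?_, ?_⟩
  · rw [Perm.mul_apply, swap_apply_of_ne_of_ne hac had, swap_apply_left]
  · rw [Perm.mul_apply, swap_apply_of_ne_of_ne hbc hbd, swap_apply_right]
  · rw [Perm.mul_apply, swap_apply_left, swap_apply_of_ne_of_ne had.symm hbd.symm]
  · rw [Perm.mul_apply, swap_apply_right, swap_apply_of_ne_of_ne hac.symm hbc.symm]

/-- four letters of two cycles of an involution -/
theorem inv_four {u : Perm α} (hu : ∀ x, u (u x) = x) {x y : α} (hx : u x ≠ x) (hy : u y ≠ y)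
    (h1 : y ≠ x) (h2 : y ≠ u x) : x ≠ u x ∧ x ≠ y ∧ x ≠ u y ∧ u x ≠ y ∧ u x ≠ u y ∧ y ≠ u y := by
  refine ⟨hx.symm, h1.symm, ?_, h2.symm, fun e => h1 (u.injective e).symm, hy.symm⟩
  intro e
  apply h2
  rw [e, hu]

theorem inv_split {u : alternatingGroup α} (h1 : u ≠ 1) :
    ∃ x y, (u : Perm α) x ≠ x ∧ (u : Perm α) y ≠ y ∧ y ≠ x ∧ y ≠ (u : Perm α) x := by
  have hx : ∃ x, (u : Perm α) x ≠ x := by
    by_contra h
    push Not at h
    exact h1 (Subtype.ext (Equiv.ext h))
  obtain ⟨x, hx⟩ := hx
  have hy : ∃ y, y ≠ x ∧ y ≠ (u : Perm α) x ∧ (u : Perm α) y ≠ y := by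
    by_contra h
    push Not at h
    exact h1 (eq_one_of_fix x ((u : Perm α) x) h)
  obtain ⟨y, h2, h3, h4⟩ := hy
  exact ⟨x, y, hx, h4, h2, h3⟩

theorem eq_dt {u : alternatingGroup α} (hu : ∀ x, (u : Perm α) ((u : Perm α) x) = x) {x y : α}
    (hx : (u : Perm α) x ≠ x) (hy : (u : Perm α) y ≠ y) (h1 : y ≠ x) (h2 : y ≠ (u : Perm α) x)
    (h : ∀ z, z ≠ x → z ≠ (u : Perm α) x → z ≠ y → z ≠ (u : Perm α) y → (u : Perm α) z = z) :
    u = dt x ((u : Perm α) x) y ((u : Perm α) y) := by
  obtain ⟨n1, n2, n3, n4, n5, n6⟩ := inv_four hu hx hy h1 h2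
  obtain ⟨a1, a2, a3, a4⟩ := dt_apply n1 n2 n3 n4 n5 n6
  apply Subtype.ext
  apply Equiv.ext
  intro z
  by_cases z1 : z = x
  · subst z1; rw [a1]
  by_cases z2 : z = (u : Perm α) x
  · rw [z2, a2, hu]
  by_cases z3 : z = y
  · subst z3; rw [a3]
  by_cases z4 : z = (u : Perm α) y
  · rw [z4, a4, hu]
  rw [h z z1 z2 z3 z4, dt_apply_of_ne n1 n6 ⟨z1, z2, z3, z4⟩]

/-- products of the cycles of an involution -/
theorem even_inv_mem {u : Perm α} (hu : ∀ x, u (u x) = x) (D : Subgroup (alternatingGroup α))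
    (hD : ∀ x y, u x ≠ x → u y ≠ y → y ≠ x → y ≠ u x → dt x (u x) y (u y) ∈ D) :
    ∀ (n : ℕ) (w : alternatingGroup α), (w : Perm α).support.card ≤ n →
      (∀ x, (w : Perm α) x = x ∨ (w : Perm α) x = u x) → w ∈ D := by
  intro n
  induction n with
  | zero =>
    intro w hw _
    have h1 : (w : Perm α) = 1 := by
      rw [← Perm.support_eq_empty_iff, ← Finset.card_eq_zero]
      omega
    rw [show w = 1 from Subtype.ext h1]
    exact D.one_mem
  | succ n ih =>
    intro w hw hwu
    by_cases hw1 : w = 1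
    · rw [hw1]; exact D.one_mem
    obtain ⟨x, y, hx, hy, h1, h2⟩ := inv_split hw1
    have ex : (w : Perm α) x = u x := (hwu x).resolve_left hx
    have ey : (w : Perm α) y = u y := (hwu y).resolve_left hy
    rw [ex] at hx h2
    rw [ey] at hy
    obtain ⟨n1, n2, n3, n4, n5, n6⟩ := inv_four hu hx hy h1 h2
    obtain ⟨a1, a2, a3, a4⟩ := dt_apply n1 n2 n3 n4 n5 n6
    -- `w` on `u x`, `u y`
    have exx : (w : Perm α) (u x) = x := by
      rcases hwu (u x) with e | e
      · exfalso
        rw [← ex] at e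
        have := (w : Perm α).injective e
        rw [ex] at this
        exact hx this
      · rw [e, hu]
    have eyy : (w : Perm α) (u y) = y := by
      rcases hwu (u y) with e | e
      · exfalso
        rw [← ey] at e
        have := (w : Perm α).injective e
        rw [ey] at this
        exact hy this
      · rw [e, hu]
    have hd := hD x y hx hy h1 h2
    have hval : ∀ z, ((dt x (u x) y (u y) * w : alternatingGroup α) : Perm α) z =
        (dt x (u x) y (u y) : Perm α) ((w : Perm α) z) := fun z => rfl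
    have v1 : ((dt x (u x) y (u y) * w : alternatingGroup α) : Perm α) x = x := by
      rw [hval, ex, a2]
    have v2 : ((dt x (u x) y (u y) * w : alternatingGroup α) : Perm α) (u x) = u x := by
      rw [hval, exx, a1]
    have v3 : ((dt x (u x) y (u y) * w : alternatingGroup α) : Perm α) y = y := by
      rw [hval, ey, a4]
    have v4 : ((dt x (u x) y (u y) * w : alternatingGroup α) : Perm α) (u y) = u y := by
      rw [hval, eyy, a3]
    have v5 : ∀ z, z ≠ x → z ≠ u x → z ≠ y → z ≠ u y →
        ((dt x (u x) y (u y) * w : alternatingGroup α) : Perm α) z = (w : Perm α) z := by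
      intro z z1 z2 z3 z4
      rw [hval]
      apply dt_apply_of_ne n1 n6
      refine ⟨?_, ?_, ?_, ?_⟩
      · intro e; rw [← exx] at e; exact z2 ((w : Perm α).injective e)
      · intro e; rw [← ex] at e; exact z1 ((w : Perm α).injective e)
      · intro e; rw [← eyy] at e; exact z4 ((w : Perm α).injective e)
      · intro e; rw [← ey] at e; exact z3 ((w : Perm α).injective e)
    have hmem : dt x (u x) y (u y) * w ∈ D := by
      apply ih
      · have hss : ((dt x (u x) y (u y) * w : alternatingGroup α) : Perm α).support ⊂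
            (w : Perm α).support := by
          rw [Finset.ssubset_iff_of_subset]
          · exact ⟨x, by rw [Perm.mem_support, ex]; exact hx, by
              rw [Perm.mem_support, not_not]; exact v1⟩
          · intro z hz
            rw [Perm.mem_support] at hz ⊢
            by_cases z1 : z = x
            · exact absurd (z1 ▸ v1) hz
            by_cases z2 : z = u x
            · exact absurd (z2 ▸ v2) hz
            by_cases z3 : z = y
            · exact absurd (z3 ▸ v3) hz
            by_cases z4 : z = u y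
            · exact absurd (z4 ▸ v4) hz
            rwa [v5 z z1 z2 z3 z4] at hz
        have := Finset.card_lt_card hss
        omega
      · intro z
        by_cases z1 : z = x
        · left; rw [z1]; exact v1
        by_cases z2 : z = u x
        · left; rw [z2]; exact v2
        by_cases z3 : z = y
        · left; rw [z3]; exact v3
        by_cases z4 : z = u y
        · left; rw [z4]; exact v4
        rw [v5 z z1 z2 z3 z4]
        exact hwu z
    have h3 := mul_mem (inv_mem hd) hmem
    rwa [inv_mul_cancel_left] at h3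

/-- the involution `(01)(23)(45)` on `Fin 9` -/
def e6 : Perm (Fin 9) := swap 0 1 * swap 2 3 * swap 4 5

theorem comm_six (w : Fin 9 ↪ α) {u : alternatingGroup α}
    (hu : ∀ i : Fin 9, i < 6 → (u : Perm α) (w i) = w (e6 i)) {m : alternatingGroup (Fin 9)}
    (hm : ∀ i : Fin 9, 6 ≤ i → (m : Perm (Fin 9)) i = i)
    (hc : ∀ i : Fin 9, (m : Perm (Fin 9)) (e6 i) = e6 ((m : Perm (Fin 9)) i)) :
    emb w m * u = u * emb w m := by
  have hout : ∀ x, Out w x → (emb w m : Perm α) x = x := by
    intro x hx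
    by_cases hr : x ∈ Set.range w
    · obtain ⟨i, rfl⟩ := hr
      rw [emb_apply, hm]
      by_contra hc
      exact hx i (not_le.1 hc) rfl
    · exact emb_notMem w _ hr
  have e6lt : ∀ i : Fin 9, i < 6 → e6 i < 6 := by decide
  have e66 : ∀ i : Fin 9, e6 (e6 i) = i := by decide
  apply Subtype.ext
  apply Equiv.ext
  intro x
  show (emb w m : Perm α) ((u : Perm α) x) = (u : Perm α) ((emb w m : Perm α) x)
  by_cases hx : Out w x
  · rw [hout x hx, hout]
    intro i hi e
    have h1 : (u : Perm α) (w (e6 i)) = w i := by rw [hu _ (e6lt i hi), e66]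
    rw [← h1] at e
    exact hx _ (e6lt i hi) ((u : Perm α).injective e)
  · rw [Out] at hx
    push Not at hx
    obtain ⟨i, hi, rfl⟩ := hx
    have hmi : (m : Perm (Fin 9)) i < 6 := by
      by_contra h
      have h1 := hm _ (not_lt.1 h)
      have h2 := (m : Perm (Fin 9)).injective h1
      rw [h2] at h
      exact h hi
    rw [hu i hi, emb_apply, emb_apply, hu _ hmi, hc]

/-- three cycles: products of two cycles are generated by elements of order 3 commuting with `u` -/
theorem dt_mem_three (hn : 9 ≤ Fintype.card α) {u : alternatingGroup α}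
    (hu : ∀ x, (u : Perm α) ((u : Perm α) x) = x) {D : Subgroup (alternatingGroup α)}
    (hD : ∀ l : alternatingGroup α, l * u = u * l → l * l * l = 1 → l ∈ D) {x y z : α}
    (hx : (u : Perm α) x ≠ x) (hy : (u : Perm α) y ≠ y) (hz : (u : Perm α) z ≠ z)
    (yx : y ≠ x) (yux : y ≠ (u : Perm α) x) (zx : z ≠ x) (zux : z ≠ (u : Perm α) x) (zy : z ≠ y)
    (zuy : z ≠ (u : Perm α) y) : dt x ((u : Perm α) x) y ((u : Perm α) y) ∈ D := by
  obtain ⟨n1, n2, n3, n4, n5, n6⟩ := inv_four hu hx hy yx yux
  obtain ⟨-, n7, n8, n9, n10, n11⟩ := inv_four hu hx hz zx zux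
  obtain ⟨-, n12, n13, n14, n15, -⟩ := inv_four hu hy hz zy zuy
  obtain ⟨w, hw⟩ := exists_emb_list hn ![x, (u : Perm α) x, y, (u : Perm α) y, z, (u : Perm α) z]
    (show [x, (u : Perm α) x, y, (u : Perm α) y, z, (u : Perm α) z].Nodup by
      simp only [List.nodup_cons, List.mem_cons, List.not_mem_nil, or_false, not_or,
        List.nodup_nil, and_true, not_false_eq_true]
      exact ⟨⟨n1, n2, n3, n7, n8⟩, ⟨n4, n5, n9, n10⟩, ⟨n6, n12, n13⟩, ⟨n14, n15⟩, n11⟩) (by decide)
  have h0 : w 0 = x := hw 0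
  have h1 : w 1 = (u : Perm α) x := hw 1
  have h2 : w 2 = y := hw 2
  have h3 : w 3 = (u : Perm α) y := hw 3
  have h4 : w 4 = z := hw 4
  have h5 : w 5 = (u : Perm α) z := hw 5
  have huw : ∀ i : Fin 9, i < 6 → (u : Perm α) (w i) = w (e6 i) := by
    intro i hi
    rcases lt6 hi with rfl | rfl | rfl | rfl | rfl | rfl
    · rw [show e6 0 = 1 by decide, h0, h1]
    · rw [show e6 1 = 0 by decide, h0, h1, hu]
    · rw [show e6 2 = 3 by decide, h2, h3]
    · rw [show e6 3 = 2 by decide, h2, h3, hu]
    · rw [show e6 4 = 5 by decide, h4, h5]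
    · rw [show e6 5 = 4 by decide, h4, h5, hu]
  have hl : ∀ m : alternatingGroup (Fin 9), (∀ i : Fin 9, 6 ≤ i → (m : Perm (Fin 9)) i = i) →
      (∀ i : Fin 9, (m : Perm (Fin 9)) (e6 i) = e6 ((m : Perm (Fin 9)) i)) → m * m * m = 1 →
      emb w m ∈ D := by
    intro m hm hc h3
    apply hD _ (comm_six w huw hm hc)
    rw [← map_mul, ← map_mul, h3, map_one]
  have g1 := hl (tc 0 2 4 * tc 1 3 5) (by decide) (by decide) (by decide)
  have g2 := hl (tc 0 3 4 * tc 1 2 5) (by decide) (by decide) (by decide)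
  have g3 := mul_mem (inv_mem g2) g1
  rw [← map_inv, ← map_mul, show (tc 0 3 4 * tc 1 2 5)⁻¹ * (tc 0 2 4 * tc 1 3 5) =
    (dt 0 1 2 3 : alternatingGroup (Fin 9)) by decide, emb_dt w (by decide) (by decide), h0, h1, h2,
    h3] at g3
  exact g3

/-- an even involution with at least three cycles is generated by elements of order 3 commuting
with it -/
theorem mem_three (hn : 9 ≤ Fintype.card α) {u : alternatingGroup α}
    (hu : ∀ x, (u : Perm α) ((u : Perm α) x) = x) {D : Subgroup (alternatingGroup α)}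
    (hD : ∀ l : alternatingGroup α, l * u = u * l → l * l * l = 1 → l ∈ D) {x y z : α}
    (hx : (u : Perm α) x ≠ x) (hy : (u : Perm α) y ≠ y) (hz : (u : Perm α) z ≠ z)
    (yx : y ≠ x) (yux : y ≠ (u : Perm α) x) (zx : z ≠ x) (zux : z ≠ (u : Perm α) x) (zy : z ≠ y)
    (zuy : z ≠ (u : Perm α) y) : u ∈ D := by
  apply even_inv_mem hu D _ _ u le_rfl (fun _ => Or.inr rfl)
  intro a b ha hb h1 h2
  -- a third cycle
  have third : ∃ c, (u : Perm α) c ≠ c ∧ c ≠ a ∧ c ≠ (u : Perm α) a ∧ c ≠ b ∧ c ≠ (u : Perm α) b := by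
    by_contra hcon
    push Not at hcon
    have cyc : ∀ c, (u : Perm α) c ≠ c → (c = a ∨ c = (u : Perm α) a) ∨ (c = b ∨ c = (u : Perm α) b) := by
      intro c hc
      by_contra hh
      push Not at hh
      exact hh.2.2 (hcon c hc hh.1.1 hh.1.2 hh.2.1)
    -- two letters in one cycle
    have same : ∀ d p q, (p = d ∨ p = (u : Perm α) d) → (q = d ∨ q = (u : Perm α) d) →
        q = p ∨ q = (u : Perm α) p := by
      intro d p q hp hq
      rcases hp with rfl | rfl <;> rcases hq with rfl | rfl
      · exact Or.inl rfl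
      · exact Or.inr rfl
      · exact Or.inr (hu _).symm
      · exact Or.inl rfl
    have c1 : ∀ d, (x = d ∨ x = (u : Perm α) d) → (y = d ∨ y = (u : Perm α) d) → False := by
      intro d h3 h4
      rcases same d x y h3 h4 with e | e
      · exact yx e
      · exact yux e
    have c2 : ∀ d, (x = d ∨ x = (u : Perm α) d) → (z = d ∨ z = (u : Perm α) d) → False := by
      intro d h3 h4
      rcases same d x z h3 h4 with e | e
      · exact zx e
      · exact zux e
    have c3 : ∀ d, (y = d ∨ y = (u : Perm α) d) → (z = d ∨ z = (u : Perm α) d) → False := by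
      intro d h3 h4
      rcases same d y z h3 h4 with e | e
      · exact zy e
      · exact zuy e
    rcases cyc x hx with h3 | h3 <;> rcases cyc y hy with h4 | h4 <;> rcases cyc z hz with h5 | h5
    · exact c1 a h3 h4
    · exact c1 a h3 h4
    · exact c2 a h3 h5
    · exact c3 b h4 h5
    · exact c3 a h4 h5
    · exact c2 b h3 h5
    · exact c1 b h3 h4
    · exact c1 b h3 h4
  obtain ⟨c, hc, ca, cua, cb, cub⟩ := third
  exact dt_mem_three hn hu hD ha hb hc h1 h2 ca cua cb cub

end Cfsg.Agent.OddHalf.D5.Dbl
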