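import Cfsg.Agent.OddHalf.D5.DblGen

/-!
# ODD D5 (helper845): `y_{(02)(45)} = y_{(01)(45)} y_{(12)(45)} y_{(01)(45)}`
-/

set_option autoImplicit false
set_option linter.unusedSectionVars false

namespace Cfsg.Agent.OddHalf.D5.Dbl

open Equiv

variable {α : Type*} [Fintype α] [DecidableEq α] {G : Type*} [Group G]

namespace Fam

variable {t : G} {ι : alternatingGroup α →* G} {Y : alternatingGroup α → G}

theorem sp0 [Finite G] (C : Cl t ι) (F : Fam t ι Y) (v : Fin 9 ↪ α) :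
    cj (Y (emb v (dt 0 2 1 3))) (Y (emb v (dt 0 1 4 5))) = Y (emb v (dt 0 3 1 2)) := by
  have h := F.delta C v
  have ix := F.invol C v (m := dt 0 1 4 5) (rt_dt (by decide))
  have is := F.invol C v (m := dt 0 2 1 3) (rt_dt (by decide))
  have ia := F.invol C v (m := dt 0 1 2 3) (rt_dt (by decide))
  have ib := F.invol C v (m := dt 0 3 1 2) (rt_dt (by decide))
  have hv := three_abs (F.vbl v 0 1 2 3 (by decide) rfl rfl rfl) ia is ib
  rw [cj, inv_eq_of_mul_eq_one_left ix, ← hv.1]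
  generalize Y (emb v (dt 0 1 4 5)) = x at *
  generalize Y (emb v (dt 0 2 1 3)) = s at *
  generalize Y (emb v (dt 0 1 2 3)) = a at *
  calc x * s * x = x * s * x * (s * s) := by rw [is, mul_one]
    _ = x * s * x * s * (a * a) * s := by rw [ia]; group
    _ = (x * s * x * s * a) * (a * s) := by group
    _ = a * s := by rw [h, one_mul]

theorem spc0 [Finite G] (C : Cl t ι) (F : Fam t ι Y) (v : Fin 9 ↪ α) :
    (Y (emb v (dt 0 2 1 3)) * Cl.jj ι v (dt 0 2 1 3)) * Y (emb v (dt 0 1 4 5)) =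
      Y (emb v (dt 0 1 4 5)) * (Y (emb v (dt 0 2 1 3)) * Cl.jj ι v (dt 0 2 1 3)) := by
  have S := F.spR C v
  have is := F.invol C v (m := dt 0 2 1 3) (rt_dt (by decide))
  have ia := F.invol C v (m := dt 0 1 2 3) (rt_dt (by decide))
  have ib := F.invol C v (m := dt 0 3 1 2) (rt_dt (by decide))
  have hv := three_abs (F.vbl v 0 1 2 3 (by decide) rfl rfl rfl) ia is ib
  have cb := F.comm9 v (m := dt 0 3 1 2) (n := dt 0 2 1 3) (rt_dt (by decide)) (by decide)
  have cs := F.comm9 v (m := dt 0 2 1 3) (n := dt 0 2 1 3) (rt_dt (by decide)) (by decide)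
  rw [← cj_self_iff, cj_mul, F.sp0 C v, S.S1, ← mul_assoc, cb, mul_assoc, cs, ← hv.1, hv.2.2.1,
    mul_assoc, ia, mul_one]

theorem sp [Finite G] (C : Cl t ι) (F : Fam t ι Y) (v : Fin 9 ↪ α) (a b c d e f : Fin 9)
    (hi : Function.Injective ![a, b, c, d, e, f]) {m m' m'' : alternatingGroup (Fin 9)}
    (hm : dt a c b d = m) (hm' : dt a b e f = m') (hm'' : dt a d b c = m'') :
    cj (Y (emb v m)) (Y (emb v m')) = Y (emb v m'') := by
  obtain ⟨π, hπ⟩ := exists_pi _ hi (by decide)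
  have e0 : π 0 = a := hπ 0
  have e1 : π 1 = b := hπ 1
  have e2 : π 2 = c := hπ 2
  have e3 : π 3 = d := hπ 3
  have e4 : π 4 = e := hπ 4
  have e5 : π 5 = f := hπ 5
  have h := F.sp0 C (π.toEmbedding.trans v)
  rw [emb_comp_dt v π (by decide) (by decide), emb_comp_dt v π (by decide) (by decide),
    emb_comp_dt v π (by decide) (by decide), e0, e1, e2, e3, e4, e5, hm, hm', hm''] at h
  exact h

theorem spc [Finite G] (C : Cl t ι) (F : Fam t ι Y) (v : Fin 9 ↪ α) (a b c d e f : Fin 9)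
    (hi : Function.Injective ![a, b, c, d, e, f]) {m m' : alternatingGroup (Fin 9)}
    (hm : dt a c b d = m) (hm' : dt a b e f = m') :
    (Y (emb v m) * Cl.jj ι v m) * Y (emb v m') = Y (emb v m') * (Y (emb v m) * Cl.jj ι v m) := by
  obtain ⟨π, hπ⟩ := exists_pi _ hi (by decide)
  have e0 : π 0 = a := hπ 0
  have e1 : π 1 = b := hπ 1
  have e2 : π 2 = c := hπ 2
  have e3 : π 3 = d := hπ 3
  have e4 : π 4 = e := hπ 4
  have e5 : π 5 = f := hπ 5
  have h := F.spc0 C (π.toEmbedding.trans v)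
  rw [jj_trans v π (by decide) (by decide), emb_comp_dt v π (by decide) (by decide),
    emb_comp_dt v π (by decide) (by decide), e0, e1, e2, e3, e4, e5, hm, hm'] at h
  exact h

/-- collinear: `y y^t` commutes -/
theorem colc (C : Cl t ι) (F : Fam t ι Y) (v : Fin 9 ↪ α) (a b c d e f : Fin 9)
    (hi : Function.Injective ![a, b, c, d, e, f]) {m m' : alternatingGroup (Fin 9)}
    (hm : dt a b c d = m) (hm' : dt c d e f = m') (hR : Rt m') (hc : m' * m = m * m') :
    (Y (emb v m) * Cl.jj ι v m) * Y (emb v m') = Y (emb v m') * (Y (emb v m) * Cl.jj ι v m) := by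
  have h1 : Commute (Y (emb v m)) (Y (emb v m')) := F.col C v a b c d e f hi hm hm'
  have h2 : Commute (Y (emb v m')) (Cl.jj ι v m) := F.comm9 v hR hc
  exact (h1.mul_left h2.symm).eq

/-- the element `z` -/
def zz (Y : alternatingGroup α → G) (a b c x y : α) : G :=
  Y (dt a b x y) * Y (dt b c x y) * (Y (dt a c x y) * Y (dt c b x y))

theorem zz_ind (C : Cl t ι) (F : Fam t ι Y) {a b c x y x' y' : α} (h : [a, b, c, x, y].Nodup)
    (h' : [a, b, c, x', y'].Nodup) : zz Y a b c x y = zz Y a b c x' y' := by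
  have pm : ∀ {x y : α}, [a, b, c, x, y].Nodup → [a, c, b, x, y].Nodup := by
    intro x y h
    simp only [List.nodup_cons, List.mem_cons, List.not_mem_nil, or_false, not_or,
      List.nodup_nil, and_true, not_false_eq_true] at h ⊢
    exact ⟨⟨h.1.2.1, h.1.1, h.1.2.2⟩, ⟨Ne.symm h.2.1.1, h.2.2.1⟩, ⟨h.2.1.2.1, h.2.1.2.2⟩, h.2.2.2⟩
  rw [zz, zz, F.ind C h h', F.ind C (pm h) (pm h')]

theorem zz_emb (v : Fin 9 ↪ α) : zz Y (v 0) (v 1) (v 2) (v 4) (v 5) =
    Y (emb v (dt 0 1 4 5)) * Y (emb v (dt 1 2 4 5)) * (Y (emb v (dt 0 2 4 5)) *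
      Y (emb v (dt 1 2 4 5))) := by
  rw [zz, ← emb_dt v (by decide) (by decide), ← emb_dt v (by decide) (by decide),
    ← emb_dt v (by decide) (by decide), ← emb_dt v (by decide) (by decide),
    show (dt 2 1 4 5 : alternatingGroup (Fin 9)) = dt 1 2 4 5 by decide]

theorem zz_emb34 (v : Fin 9 ↪ α) : zz Y (v 0) (v 1) (v 2) (v 3) (v 4) =
    Y (emb v (dt 0 1 3 4)) * Y (emb v (dt 1 2 3 4)) * (Y (emb v (dt 0 2 3 4)) *
      Y (emb v (dt 1 2 3 4))) := by
  rw [zz, ← emb_dt v (by decide) (by decide), ← emb_dt v (by decide) (by decide),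
    ← emb_dt v (by decide) (by decide), ← emb_dt v (by decide) (by decide),
    show (dt 2 1 3 4 : alternatingGroup (Fin 9)) = dt 1 2 3 4 by decide]

theorem cj4 {a x y c s1 s2 s3 : G} (h1 : cj a x = s1) (h2 : cj s1 y = s2) (h3 : cj s2 c = s3)
    (h4 : cj s3 y = a) : a * (x * y * (c * y)) = (x * y * (c * y)) * a := by
  rw [← cj_self_iff, cj_comp, cj_comp, cj_comp, h1, h2, h3, h4]

/-- `z` commutes with `V_{0123}` -/
theorem zz_V [Finite G] (C : Cl t ι) (F : Fam t ι Y) (v : Fin 9 ↪ α) {m : alternatingGroup (Fin 9)}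
    (hm : m = dt 0 1 2 3 ∨ m = dt 0 2 1 3 ∨ m = dt 0 3 1 2) :
    Cl.jj ι v m * zz Y (v 0) (v 1) (v 2) (v 4) (v 5) =
      zz Y (v 0) (v 1) (v 2) (v 4) (v 5) * Cl.jj ι v m := by
  have Rm : Rt m := by rcases hm with rfl | rfl | rfl <;> exact rt_dt (by decide)
  -- actions
  have ax := F.col C v 2 3 0 1 4 5 (by decide) (m := dt 0 1 2 3) (by decide) rfl
  have ay := F.sp C v 1 2 0 3 4 5 (by decide) (m := dt 0 1 2 3) (by decide) rfl
    (m'' := dt 0 2 1 3) (by decide)
  have ac := F.sp C v 0 2 1 3 4 5 (by decide) (m := dt 0 1 2 3) (by decide) rfl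
    (m'' := dt 0 3 1 2) (by decide)
  have sx := F.sp C v 0 1 2 3 4 5 (by decide) (m := dt 0 2 1 3) (by decide) rfl
    (m'' := dt 0 3 1 2) (by decide)
  have sy := F.sp C v 1 2 3 0 4 5 (by decide) (m := dt 0 2 1 3) (by decide) rfl
    (m'' := dt 0 1 2 3) (by decide)
  have sc := F.col C v 1 3 0 2 4 5 (by decide) (m := dt 0 2 1 3) (by decide) rfl
  have bx := F.sp C v 0 1 3 2 4 5 (by decide) (m := dt 0 3 1 2) (by decide) rfl
    (m'' := dt 0 2 1 3) (by decide)
  have by' := F.col C v 0 3 1 2 4 5 (by decide) (m := dt 0 3 1 2) (by decide) rfl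
  have bc := F.sp C v 0 2 3 1 4 5 (by decide) (m := dt 0 3 1 2) (by decide) rfl
    (m'' := dt 0 1 2 3) (by decide)
  have h1 : Commute (Y (emb v m)) (zz Y (v 0) (v 1) (v 2) (v 4) (v 5)) := by
    rw [zz_emb]
    rcases hm with rfl | rfl | rfl
    · exact cj4 (cj_eq ax) ay (cj_eq sc) sy
    · exact cj4 sx (cj_eq by') bc ay
    · exact cj4 bx sy ac (cj_eq by')
  have h2 : Commute (Y (emb v m) * Cl.jj ι v m) (zz Y (v 0) (v 1) (v 2) (v 4) (v 5)) := by
    rw [zz_emb]
    have hx : Commute (Y (emb v m) * Cl.jj ι v m) (Y (emb v (dt 0 1 4 5))) := by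
      rcases hm with rfl | rfl | rfl
      · exact F.colc C v 2 3 0 1 4 5 (by decide) (by decide) rfl (rt_dt (by decide)) (by decide)
      · exact F.spc C v 0 1 2 3 4 5 (by decide) (by decide) rfl
      · exact F.spc C v 0 1 3 2 4 5 (by decide) (by decide) rfl
    have hy : Commute (Y (emb v m) * Cl.jj ι v m) (Y (emb v (dt 1 2 4 5))) := by
      rcases hm with rfl | rfl | rfl
      · exact F.spc C v 1 2 0 3 4 5 (by decide) (by decide) rfl
      · exact F.spc C v 1 2 3 0 4 5 (by decide) (by decide) rfl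
      · exact F.colc C v 0 3 1 2 4 5 (by decide) (by decide) rfl (rt_dt (by decide)) (by decide)
    have hc : Commute (Y (emb v m) * Cl.jj ι v m) (Y (emb v (dt 0 2 4 5))) := by
      rcases hm with rfl | rfl | rfl
      · exact F.spc C v 0 2 1 3 4 5 (by decide) (by decide) rfl
      · exact F.colc C v 1 3 0 2 4 5 (by decide) (by decide) rfl (rt_dt (by decide)) (by decide)
      · exact F.spc C v 0 2 3 1 4 5 (by decide) (by decide) rfl
    exact (hx.mul_right hy).mul_right (hc.mul_right hy)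
  have h3 : Cl.jj ι v m = Y (emb v m) * (Y (emb v m) * Cl.jj ι v m) := by
    rw [← mul_assoc, F.invol C v Rm, one_mul]
  rw [h3]
  exact (h1.mul_left h2).eq

theorem zz_L (C : Cl t ι) (F : Fam t ι Y) (v : Fin 9 ↪ α) {k : alternatingGroup α}
    (hk : ∀ i : Fin 9, i < 3 → (k : Perm α) (v i) = v i) :
    ι k * zz Y (v 0) (v 1) (v 2) (v 4) (v 5) = zz Y (v 0) (v 1) (v 2) (v 4) (v 5) * ι k := by
  have h1 : Commute (Y (emb v (dt 0 1 4 5)) * Y (emb v (dt 1 2 4 5))) (ι k) :=
    F.ind_comm C v (by decide) (hk 0 (by decide)) (hk 1 (by decide)) (hk 2 (by decide))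
  have h2 : Commute (Y (emb v (dt 0 2 4 5)) * Y (emb v (dt 2 1 4 5))) (ι k) :=
    F.ind_comm C v (by decide) (hk 0 (by decide)) (hk 2 (by decide)) (hk 1 (by decide))
  rw [show (dt 2 1 4 5 : alternatingGroup (Fin 9)) = dt 1 2 4 5 by decide] at h2
  rw [zz_emb]
  exact (h1.mul_left h2).eq.symm

/-- `z` commutes with `Alt(α)` -/
theorem zz_all [Finite G] (C : Cl t ι) (F : Fam t ι Y) (v : Fin 9 ↪ α) (k : alternatingGroup α) :
    ι k * zz Y (v 0) (v 1) (v 2) (v 4) (v 5) = zz Y (v 0) (v 1) (v 2) (v 4) (v 5) * ι k := by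
  have hmem : ∀ k, k ∈ (Subgroup.centralizer {zz Y (v 0) (v 1) (v 2) (v 4) (v 5)}).comap ι ↔
      ι k * zz Y (v 0) (v 1) (v 2) (v 4) (v 5) = zz Y (v 0) (v 1) (v 2) (v 4) (v 5) * ι k := by
    intro k
    rw [Subgroup.mem_comap, Subgroup.mem_centralizer_singleton_iff]
  have htop := gen_alt C.h9 v ((Subgroup.centralizer {zz Y (v 0) (v 1) (v 2) (v 4) (v 5)}).comap ι)
    (fun k hk => (hmem k).2 (F.zz_L C v hk)) (by
    intro b hb i hi
    have hne : ∀ i j : Fin 9, i ≠ j → v i ≠ v j := fun i j h => v.injective.ne h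
    obtain ⟨w, hw⟩ := exists_emb_list C.h9 ![v 0, v 1, v 2, b]
      (show [v 0, v 1, v 2, b].Nodup from nodup4 (hne _ _ (by decide)) (hne _ _ (by decide))
        (hb 0 (by decide)) (hne _ _ (by decide)) (hb 1 (by decide)) (hb 2 (by decide))) (by decide)
    have e0 : w 0 = v 0 := hw 0
    have e1 : w 1 = v 1 := hw 1
    have e2 : w 2 = v 2 := hw 2
    have e3 : w 3 = b := hw 3
    have hz : zz Y (v 0) (v 1) (v 2) (v 4) (v 5) = zz Y (w 0) (w 1) (w 2) (w 4) (w 5) := by
      rw [← e0, ← e1, ← e2]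
      apply F.zz_ind C _ (nodup5 w (by decide))
      rw [e0, e1, e2]
      exact nodup5 v (by decide)
    have hout : ∀ x, Out3 v x → x ≠ b → ∀ m : alternatingGroup (Fin 9),
        (∀ i : Fin 9, 4 ≤ i → (m : Perm (Fin 9)) i = i) → (emb w m : Perm α) x = x := by
      intro x hx hxb m hm
      by_cases hr : x ∈ Set.range w
      · obtain ⟨j, rfl⟩ := hr
        rw [emb_apply, hm]
        by_contra hc
        rcases lt4 (not_le.1 hc) with rfl | rfl | rfl | rfl
        · exact hx 0 (by decide) e0.symm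
        · exact hx 1 (by decide) e1.symm
        · exact hx 2 (by decide) e2.symm
        · exact hxb e3
      · exact emb_notMem w _ hr
    rcases lt3 hi with rfl | rfl | rfl
    · refine ⟨emb w (dt 0 3 1 2), ?_, ?_, fun x hx hxb => hout x hx hxb _ (by decide)⟩
      · rw [hmem, hz]
        exact F.zz_V C w (Or.inr (Or.inr rfl))
      · rw [← e3, emb_apply, ← e0]
        exact congrArg w (by decide)
    · refine ⟨emb w (dt 0 2 1 3), ?_, ?_, fun x hx hxb => hout x hx hxb _ (by decide)⟩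
      · rw [hmem, hz]
        exact F.zz_V C w (Or.inr (Or.inl rfl))
      · rw [← e3, emb_apply, ← e1]
        exact congrArg w (by decide)
    · refine ⟨emb w (dt 0 1 2 3), ?_, ?_, fun x hx hxb => hout x hx hxb _ (by decide)⟩
      · rw [hmem, hz]
        exact F.zz_V C w (Or.inl rfl)
      · rw [← e3, emb_apply, ← e2]
        exact congrArg w (by decide))
  rw [← hmem, htop]
  exact Subgroup.mem_top k

/-- `z` commutes with all `y_r` -/
theorem zz_Y [Finite G] (C : Cl t ι) (F : Fam t ι Y) (v w : Fin 9 ↪ α) :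
    Y (emb w (dt 0 1 2 3)) * zz Y (v 0) (v 1) (v 2) (v 4) (v 5) =
      zz Y (v 0) (v 1) (v 2) (v 4) (v 5) * Y (emb w (dt 0 1 2 3)) := by
  have h1 : Commute (Y (emb v (dt 3 4 5 6))) (zz Y (v 0) (v 1) (v 2) (v 4) (v 5)) := by
    rw [F.zz_ind C (nodup5 v (by decide)) (nodup5 v (i := 0) (j := 1) (k := 2) (l := 3) (m := 4)
      (by decide)), zz_emb34]
    have a1 : Commute (Y (emb v (dt 3 4 5 6))) (Y (emb v (dt 0 1 3 4))) :=
      F.col C v 5 6 3 4 0 1 (by decide) (by decide) (by decide)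
    have a2 : Commute (Y (emb v (dt 3 4 5 6))) (Y (emb v (dt 1 2 3 4))) :=
      F.col C v 5 6 3 4 1 2 (by decide) (by decide) (by decide)
    have a3 : Commute (Y (emb v (dt 3 4 5 6))) (Y (emb v (dt 0 2 3 4))) :=
      F.col C v 5 6 3 4 0 2 (by decide) (by decide) (by decide)
    exact (a1.mul_right a2).mul_right (a3.mul_right a2)
  -- transport
  let π : Perm (Fin 9) := swap 0 3 * swap 1 4 * swap 2 5 * swap 3 6
  have e : emb v (dt 3 4 5 6) = emb (π.toEmbedding.trans v) (dt 0 1 2 3) := by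
    rw [emb_comp_dt v π (by decide) (by decide)]
    exact congrArg _ (by decide)
  obtain ⟨k, hk⟩ := trans_seven w (π.toEmbedding.trans v)
  have h2 : cj (Y (emb v (dt 3 4 5 6))) (ι k) = Y (emb w (dt 0 1 2 3)) := by
    rw [e, F.equi, cj_emb hk (by decide) (by decide) (by decide) (by decide) (by decide) (by decide)]
  have h3 : Commute (ι k) (zz Y (v 0) (v 1) (v 2) (v 4) (v 5)) := F.zz_all C v k
  rw [← h2, cj]
  exact ((h3.inv_left.mul_left h1).mul_left h3).eq

theorem zz_Y9 [Finite G] (C : Cl t ι) (F : Fam t ι Y) (v w : Fin 9 ↪ α)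
    {m : alternatingGroup (Fin 9)} (hm : Rt m) :
    Y (emb w m) * zz Y (v 0) (v 1) (v 2) (v 4) (v 5) =
      zz Y (v 0) (v 1) (v 2) (v 4) (v 5) * Y (emb w m) := by
  obtain ⟨π, rfl⟩ := hm
  rw [emb_rt]
  exact F.zz_Y C v _

/-- involutions `x, y, c` with central `z = x y c y`, `z` invariant under rotation -/
theorem z_abs {x y c n z : G} (hx : x * x = 1) (hy : y * y = 1) (hc : c * c = 1)
    (hz : z = x * y * (c * y)) (zx : x * z = z * x) (zy : y * z = z * y) (zc : c * z = z * c)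
    (zn : z * n = n * z) (nx : cj x n = y) (ny : cj y n = c) (nc : cj c n = x) : z = 1 := by
  have ix : x⁻¹ = x := inv_eq_of_mul_eq_one_left hx
  have iy : y⁻¹ = y := inv_eq_of_mul_eq_one_left hy
  have ic : c⁻¹ = c := inv_eq_of_mul_eq_one_left hc
  -- `z² = 1`
  have h1 : z⁻¹ = y * c * y * x := by
    rw [hz]
    simp only [mul_inv_rev, ix, iy, ic, mul_assoc]
  have h2 : x * z * x = z := by rw [zx, mul_assoc, hx, mul_one]
  have h3 : x * z * x = z⁻¹ := by
    rw [h1, hz]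
    calc x * (x * y * (c * y)) * x = (x * x) * y * c * y * x := by group
      _ = y * c * y * x := by rw [hx, one_mul]
  have h4 : z * z = 1 := by
    have h5 : z = z⁻¹ := h2.symm.trans h3
    nth_rw 2 [h5]
    exact mul_inv_cancel z
  -- rotation
  have r1 : z = y * c * (x * c) := by
    have := congrArg (fun u => cj u n) hz
    simp only [cj_mul, nx, ny, nc] at this
    rwa [cj_eq zn] at this
  have r2 : z = c * x * (y * x) := by
    have := congrArg (fun u => cj u n) r1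
    simp only [cj_mul, nx, ny, nc] at this
    rwa [cj_eq zn] at this
  -- `x y = z y c`, `y c = z c x`, `c x = z x y`
  have g1 : x * y = z * (y * c) := by
    rw [hz]
    calc x * y = x * y * c * (y * y) * c := by rw [hy, mul_one, mul_assoc (x * y), hc, mul_one]
      _ = x * y * (c * y) * (y * c) := by group
  have g2 : y * c = z * (c * x) := by
    rw [r1]
    calc y * c = y * c * x * (c * c) * x := by rw [hc, mul_one, mul_assoc (y * c), hx, mul_one]
      _ = y * c * (x * c) * (c * x) := by group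
  have g3 : c * x = z * (x * y) := by
    rw [r2]
    calc c * x = c * x * y * (x * x) * y := by rw [hx, mul_one, mul_assoc (c * x), hy, mul_one]
      _ = c * x * (y * x) * (x * y) := by group
  have h6 : x * y = z * z * z * (x * y) := by
    calc x * y = z * (y * c) := g1
      _ = z * (z * (c * x)) := by rw [← g2]
      _ = z * (z * (z * (x * y))) := by rw [← g3]
      _ = z * z * z * (x * y) := by group
  have h7 : z * z * z = 1 := (mul_eq_right.1 h6.symm)
  rw [h4, one_mul] at h7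
  exact h7

/-- **`z = 1`** -/
theorem zz_one [Finite G] (C : Cl t ι) (F : Fam t ι Y) (v : Fin 9 ↪ α) :
    Y (emb v (dt 0 1 4 5)) * Y (emb v (dt 1 2 4 5)) * (Y (emb v (dt 0 2 4 5)) *
      Y (emb v (dt 1 2 4 5))) = 1 := by
  have Rx : Rt (dt 0 1 4 5) := rt_dt (by decide)
  have Ry : Rt (dt 1 2 4 5) := rt_dt (by decide)
  have Rc : Rt (dt 0 2 4 5) := rt_dt (by decide)
  rw [← zz_emb]
  exact z_abs (F.invol C v Rx) (F.invol C v Ry) (F.invol C v Rc) (zz_emb v)
    (F.zz_Y9 C v v Rx) (F.zz_Y9 C v v Ry) (F.zz_Y9 C v v Rc) (F.zz_all C v (emb v (tc 0 2 1))).symm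
    (F.eq9 v Rx _ (by decide)) (F.eq9 v Ry _ (by decide)) (F.eq9 v Rc _ (by decide))

/-- `y_{(01)(45)} y_{(01)(45)}^t` commutes with `y_{(12)(45)}` -/
theorem tri0 [Finite G] (C : Cl t ι) (F : Fam t ι Y) (v : Fin 9 ↪ α) :
    (Y (emb v (dt 0 1 4 5)) * Cl.jj ι v (dt 0 1 4 5)) * Y (emb v (dt 1 2 4 5)) =
      Y (emb v (dt 1 2 4 5)) * (Y (emb v (dt 0 1 4 5)) * Cl.jj ι v (dt 0 1 4 5)) := by
  have Rx : Rt (dt 0 1 4 5) := rt_dt (by decide)
  have Ry : Rt (dt 1 2 4 5) := rt_dt (by decide)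
  have Rc : Rt (dt 0 2 4 5) := rt_dt (by decide)
  have ix := F.invol C v Rx
  have iy := F.invol C v Ry
  have ic := F.invol C v Rc
  have h := F.zz_one C v
  have nx : cj (Y (emb v (dt 0 1 4 5))) (Cl.jj ι v (tc 0 2 1)) = Y (emb v (dt 1 2 4 5)) :=
    F.eq9 v Rx _ (by decide)
  have ny : cj (Y (emb v (dt 1 2 4 5))) (Cl.jj ι v (tc 0 2 1)) = Y (emb v (dt 0 2 4 5)) :=
    F.eq9 v Ry _ (by decide)
  have nc : cj (Y (emb v (dt 0 2 4 5))) (Cl.jj ι v (tc 0 2 1)) = Y (emb v (dt 0 1 4 5)) :=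
    F.eq9 v Rc _ (by decide)
  have h1 : cj (Y (emb v (dt 1 2 4 5))) (Y (emb v (dt 0 1 4 5))) = Y (emb v (dt 0 2 4 5)) := by
    rw [cj, inv_eq_of_mul_eq_one_left ix]
    generalize Y (emb v (dt 0 1 4 5)) = x at *
    generalize Y (emb v (dt 1 2 4 5)) = y at *
    generalize Y (emb v (dt 0 2 4 5)) = c at *
    have h2 := congrArg (fun u => cj u (Cl.jj ι v (tc 0 2 1))) h
    simp only [cj_mul, nx, ny, nc, one_cj] at h2
    have h3 := congrArg (fun u => cj u (Cl.jj ι v (tc 0 2 1))) h2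
    simp only [cj_mul, nx, ny, nc, one_cj] at h3
    have h4 : c * (x * y * x) = 1 := by rw [← h3]; group
    rw [← inv_eq_of_mul_eq_one_right h4, inv_eq_of_mul_eq_one_left ic]
  rw [eq_comm, ← cj_self_iff, cj_comp, h1, F.eq9 v Rc (m' := dt 1 2 4 5) _ (by decide)]

end Fam

end Cfsg.Agent.OddHalf.D5.Dbl
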