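import Cfsg.Agent.OddHalf.D5.DblBase

/-!
# ODD D5 (helper845): existence of `y_r`

Input: `y0` with `t^{y0} = t r`, `r^{y0} = r`, `r = (01)(23)`.
Output: `y` centralising `C_K(r)` with `t^y = t r`, `y y^ρ y^{ρ²} = 1`.
-/

set_option autoImplicit false
set_option linter.unusedSectionVars false

namespace Cfsg.Agent.OddHalf.D5.Dbl

open Equiv

variable {α : Type*} [Fintype α] [DecidableEq α] {G : Type*} [Group G]

/-- the 3-cycle of `B` -/
def rh : alternatingGroup (Fin 9) := tc 1 3 2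

/-- centralises `T_B` -/
def PT (ι : alternatingGroup α →* G) (v : Fin 9 ↪ α) (x : G) : Prop :=
  ∀ l, LB v l → x * ι l = ι l * x

namespace Cl

variable {t : G} {ι : alternatingGroup α →* G} (C : Cl t ι) (v : Fin 9 ↪ α)

/-- `A₉ → G` -/
noncomputable def jj (ι : alternatingGroup α →* G) (v : Fin 9 ↪ α) : alternatingGroup (Fin 9) →* G :=
  ι.comp (emb v)

theorem jj_inj (C : Cl t ι) (v : Fin 9 ↪ α) : Function.Injective (jj ι v) := C.inj.comp (emb_injective v)

theorem jj_comm (C : Cl t ι) (m) : t * jj ι v m = jj ι v m * t := C.comm _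

theorem jj_ne (C : Cl t ι) (m) : jj ι v m ≠ t := C.ne _

theorem t_inv (C : Cl t ι) : t⁻¹ = t := inv_eq_of_mul_eq_one_left C.tt

theorem cj_t_jj (C : Cl t ι) (m) : cj t (jj ι v m) = t := cj_eq (C.jj_comm v m)

theorem cj_jj (m n : alternatingGroup (Fin 9)) : cj (jj ι v m) (jj ι v n) = jj ι v (cj m n) :=
  (map_cj _ _ _).symm

theorem ne_one_t (C : Cl t ι) : t ≠ 1 := fun e => C.ne 1 (by rw [map_one, e])

/-- an element of `⟨t⟩ × K` with cube 1 lies in `K` -/
theorem cube_mem (C : Cl t ι) {x : G} (hx : x * t = t * x) (h3 : x * x * x = 1) :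
    ∃ a : alternatingGroup α, x = ι a ∧ a * a * a = 1 := by
  obtain ⟨a, ha | ha⟩ := C.cent x hx
  · refine ⟨a, ha, ?_⟩
    apply C.inj
    rw [map_mul, map_mul, map_one, ← ha, h3]
  · exfalso
    apply C.ne (a * a * a)⁻¹
    have h1 : x * x * x = t * ι (a * a * a) := by
      rw [ha, map_mul, map_mul]
      have h2 : t * ι a * (t * ι a) = ι a * ι a := by
        calc t * ι a * (t * ι a) = t * (ι a * t) * ι a := by group
          _ = t * (t * ι a) * ι a := by rw [C.comm]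
          _ = (t * t) * (ι a * ι a) := by group
          _ = ι a * ι a := by rw [C.tt, one_mul]
      rw [h2]
      calc ι a * ι a * (t * ι a) = ι a * (ι a * t) * ι a := by group
        _ = ι a * (t * ι a) * ι a := by rw [C.comm]
        _ = (ι a * t) * ι a * ι a := by group
        _ = t * ι a * ι a * ι a := by rw [C.comm]
        _ = t * (ι a * ι a * ι a) := by group
    rw [h3] at h1
    rw [map_inv]
    exact (eq_inv_of_mul_eq_one_left h1.symm).symm

theorem jj_PT {m : alternatingGroup (Fin 9)} (hm : ∀ i : Fin 9, 4 ≤ i → (m : Perm (Fin 9)) i = i) :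
    PT ι v (jj ι v m) := by
  intro l hl
  show ι (emb v m) * ι l = ι l * ι (emb v m)
  rw [← map_mul, ← map_mul, comm_fix v hl.2 hm]

theorem PT_mul {x y : G} (hx : PT ι v x) (hy : PT ι v y) : PT ι v (x * y) := by
  intro l hl
  rw [mul_assoc, hy l hl, ← mul_assoc, hx l hl, mul_assoc]

theorem PT_inv {x : G} (hx : PT ι v x) : PT ι v x⁻¹ := by
  intro l hl
  exact ((show Commute x (ι l) from hx l hl).inv_left).eq

/-- `x` centralising `t`, `r` and `T_B` lies in `⟨t⟩ × V_B` -/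
theorem mem_EB (C : Cl t ι) {x : G} (hx : x * t = t * x)
    (hr : jj ι v (dt 0 1 2 3) * x = x * jj ι v (dt 0 1 2 3)) (hT : PT ι v x) :
    ∃ m, VB m ∧ (x = jj ι v m ∨ x = t * jj ι v m) := by
  have key : ∀ a : alternatingGroup α, (x = ι a ∨ x = t * ι a) → ∃ m, VB m ∧ a = emb v m := by
    intro a ha
    have h1 : ∀ b : alternatingGroup α, ι b * x = x * ι b → b * a = a * b := by
      intro b hb
      apply C.inj
      rw [map_mul, map_mul]
      rcases ha with ha | ha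
      · rw [← ha, hb]
      · rw [ha] at hb
        have : t * (ι b * ι a) = t * (ι a * ι b) := by
          calc t * (ι b * ι a) = (t * ι b) * ι a := by group
            _ = ι b * (t * ι a) := by rw [C.comm]; group
            _ = t * ι a * ι b := hb
            _ = t * (ι a * ι b) := by group
        exact mul_left_cancel this
    have h2 : emb v (dt 0 1 2 3) * a = a * emb v (dt 0 1 2 3) := h1 _ hr
    have h3 : ∀ l : alternatingGroup α, l * l * l = 1 →
        (∀ i : Fin 9, i < 4 → (l : Perm α) (v i) = v i) → l * a = a * l := fun l h3 hl => h1 l ((hT l ⟨h3, hl⟩).symm)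
    rcases cent_four v a h3 h2 with e | e | e | e
    · exact ⟨1, Or.inl rfl, by rw [map_one]; exact e⟩
    · exact ⟨_, Or.inr (Or.inl rfl), e⟩
    · exact ⟨_, Or.inr (Or.inr (Or.inl rfl)), e⟩
    · exact ⟨_, Or.inr (Or.inr (Or.inr rfl)), e⟩
  obtain ⟨a, ha⟩ := C.cent x hx
  obtain ⟨m, hm, rfl⟩ := key a ha
  exact ⟨m, hm, ha⟩

theorem VB_cj {m : alternatingGroup (Fin 9)} (hm : VB m) : VB (cj m rh) := by
  rcases hm with rfl | rfl | rfl | rfl <;> simp only [VB] <;> decide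

theorem VB_mul {m n : alternatingGroup (Fin 9)} (hm : VB m) (hn : VB n) : VB (m * n) := by
  rcases hm with rfl | rfl | rfl | rfl <;> rcases hn with rfl | rfl | rfl | rfl <;>
    simp only [VB] <;> decide

theorem VB_sq {m : alternatingGroup (Fin 9)} (hm : VB m) : m * m = 1 := by
  rcases hm with rfl | rfl | rfl | rfl <;> decide

theorem VB_comm {m n : alternatingGroup (Fin 9)} (hm : VB m) (hn : VB n) : m * n = n * m := by
  rcases hm with rfl | rfl | rfl | rfl <;> rcases hn with rfl | rfl | rfl | rfl <;> decide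

theorem VB_fix {m : alternatingGroup (Fin 9)} (hm : VB m) :
    ∀ i : Fin 9, 4 ≤ i → (m : Perm (Fin 9)) i = i := by
  rcases hm with rfl | rfl | rfl | rfl <;> decide

/-! ### Step 1 -/

/-- `y0` conjugates `T_B` into `T_B` -/
theorem claimA (C : Cl t ι) {y0 : G} (ht : cj t y0⁻¹ = t * jj ι v (dt 0 1 2 3))
    (hr : cj (jj ι v (dt 0 1 2 3)) y0⁻¹ = jj ι v (dt 0 1 2 3)) {l : alternatingGroup α}
    (hl : LB v l) : ∃ l', LB v l' ∧ cj (ι l) y0 = ι l' := by
  have hlr : jj ι v (dt 0 1 2 3) * ι l = ι l * jj ι v (dt 0 1 2 3) := jj_PT v (by decide) l hl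
  have h1 : cj (ι l) y0 * t = t * cj (ι l) y0 := by
    have : cj (ι l * (t * jj ι v (dt 0 1 2 3))) y0 = cj ((t * jj ι v (dt 0 1 2 3)) * ι l) y0 := by
      congr 1
      rw [mul_assoc, hlr, ← mul_assoc, ← mul_assoc, C.comm]
    rw [← ht, cj_mul, cj_mul, cj_cancel'] at this
    exact this
  have h2 : cj (ι l) y0 * jj ι v (dt 0 1 2 3) = jj ι v (dt 0 1 2 3) * cj (ι l) y0 := by
    have : cj (ι l * jj ι v (dt 0 1 2 3)) y0 = cj (jj ι v (dt 0 1 2 3) * ι l) y0 := by rw [hlr]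
    rw [cj_mul, cj_mul] at this
    have e : cj (jj ι v (dt 0 1 2 3)) y0 = jj ι v (dt 0 1 2 3) := by
      conv_lhs => rw [← hr]
      exact cj_cancel' _ _
    rwa [e] at this
  have h3 : cj (ι l) y0 * cj (ι l) y0 * cj (ι l) y0 = 1 := by
    rw [← cj_mul, ← cj_mul, ← map_mul, ← map_mul, hl.1, map_one, one_cj]
  obtain ⟨a, ha, ha3⟩ := C.cube_mem h1 h3
  refine ⟨a, ⟨ha3, ?_⟩, ha⟩
  apply fix_of_cube v ha3
  apply C.inj
  rw [map_mul, map_mul, ← ha]
  exact h2.symm

theorem exists_y1 (C : Cl t ι) {y0 : G} (ht : cj t y0 = t * jj ι v (dt 0 1 2 3))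
    (hr : cj (jj ι v (dt 0 1 2 3)) y0 = jj ι v (dt 0 1 2 3)) :
    ∃ y1 : G, cj t y1 = t * jj ι v (dt 0 1 2 3) ∧ PT ι v y1 ∧
      cj (jj ι v (dt 0 1 2 3)) y1 = jj ι v (dt 0 1 2 3) ∧
      cj (jj ι v (dt 0 2 1 3)) y1 = jj ι v (dt 0 2 1 3) := by
  set j := jj ι v with hj
  have jm : ∀ a b, j a * j b = j (a * b) := fun a b => (map_mul _ _ _).symm
  have jc : ∀ a b, cj (j a) (j b) = j (cj a b) := fun a b => cj_jj v a b
  have tj : ∀ a, cj t (j a) = t := fun a => C.cj_t_jj v a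
  -- inverse of y0
  have hr' : cj (j (dt 0 1 2 3)) y0⁻¹ = j (dt 0 1 2 3) := by
    conv_lhs => rw [← hr]
    exact cj_cancel _ _
  have ht' : cj t y0⁻¹ = t * j (dt 0 1 2 3) := by
    have h1 : cj (t * j (dt 0 1 2 3)) y0 = t := by
      rw [cj_mul, ht, hr, mul_assoc, jm, show (dt 0 1 2 3 : alternatingGroup (Fin 9)) * dt 0 1 2 3 = 1
        by decide, map_one, mul_one]
    conv_lhs => rw [← h1]
    exact cj_cancel _ _
  have ht'' : cj t (y0⁻¹)⁻¹ = t * j (dt 0 1 2 3) := by rw [inv_inv]; exact ht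
  have hr'' : cj (j (dt 0 1 2 3)) (y0⁻¹)⁻¹ = j (dt 0 1 2 3) := by rw [inv_inv]; exact hr
  -- PT is preserved by conjugation
  have hPT : ∀ x, PT ι v x → PT ι v (cj x y0) := by
    intro x hx l hl
    obtain ⟨l', hl', e⟩ := C.claimA v ht'' hr'' hl
    have h1 : cj (x * cj (ι l) y0⁻¹) y0 = cj (cj (ι l) y0⁻¹ * x) y0 := by
      rw [e, hx l' hl']
    rw [cj_mul, cj_mul, cj_cancel'] at h1
    exact h1
  -- all `t v` are conjugate to `t`
  have hconj : ∀ m, VB m → m ≠ 1 → IsConj t (t * j m) := by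
    have h0 : IsConj t (t * j (dt 0 1 2 3)) := ht ▸ isConj_cj t y0
    have step : ∀ m, IsConj t (t * j m) → IsConj t (t * j (cj m rh)) := by
      intro m hm
      have := isConj_cj (t * j m) (j rh)
      rw [cj_mul, tj, jc] at this
      exact hm.trans this
    intro m hm h1
    rcases hm with rfl | rfl | rfl | rfl
    · exact absurd rfl h1
    · exact h0
    · have := step _ h0
      rwa [show cj (dt 0 1 2 3) rh = (dt 0 2 1 3 : alternatingGroup (Fin 9)) by decide] at this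
    · have := step _ (step _ h0)
      rwa [show cj (cj (dt 0 1 2 3) rh) rh = (dt 0 3 1 2 : alternatingGroup (Fin 9)) by decide] at this
  -- the image of `s`
  have hs0 : cj (j (dt 0 2 1 3)) y0 = j (dt 0 2 1 3) ∨ cj (j (dt 0 2 1 3)) y0 = j (dt 0 3 1 2) := by
    have h1 : cj (j (dt 0 2 1 3)) y0 * t = t * cj (j (dt 0 2 1 3)) y0 := by
      have : cj (j (dt 0 2 1 3) * cj t y0⁻¹) y0 = cj (cj t y0⁻¹ * j (dt 0 2 1 3)) y0 := by
        congr 1
        rw [ht', mul_assoc t, jm, ← mul_assoc, ← C.jj_comm, mul_assoc, jm, show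
          (dt 0 2 1 3 : alternatingGroup (Fin 9)) * dt 0 1 2 3 = dt 0 1 2 3 * dt 0 2 1 3 by decide]
      rw [cj_mul, cj_mul, cj_cancel'] at this
      exact this
    have h2 : j (dt 0 1 2 3) * cj (j (dt 0 2 1 3)) y0 = cj (j (dt 0 2 1 3)) y0 * j (dt 0 1 2 3) := by
      have : cj (j (dt 0 1 2 3) * j (dt 0 2 1 3)) y0 = cj (j (dt 0 2 1 3) * j (dt 0 1 2 3)) y0 := by
        rw [jm, jm, show
          (dt 0 2 1 3 : alternatingGroup (Fin 9)) * dt 0 1 2 3 = dt 0 1 2 3 * dt 0 2 1 3 by decide]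
      rw [cj_mul, cj_mul, hr] at this
      exact this
    obtain ⟨m, hm, e | e⟩ := C.mem_EB v h1 h2 (hPT _ (jj_PT v (by decide)))
    · rcases hm with rfl | rfl | rfl | rfl
      · exfalso
        have h3 : cj (j (dt 0 2 1 3)) y0 = cj (j 1) y0 := by
          rw [e, map_one, one_cj]
        exact absurd (C.jj_inj v (cj_inj h3)) (by decide)
      · exfalso
        have h3 : cj (j (dt 0 2 1 3)) y0 = cj (j (dt 0 1 2 3)) y0 := by
          rw [e]; exact hr.symm
        exact absurd (C.jj_inj v (cj_inj h3)) (by decide)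
      · exact Or.inl e
      · exact Or.inr e
    · exfalso
      have h3 : IsConj t (cj (j (dt 0 2 1 3)) y0) := by
        by_cases h1 : m = 1
        · rw [e, h1, map_one, mul_one]
        · rw [e]; exact hconj m hm h1
      exact C.hK _ (h3.trans (isConj_cj _ _).symm)
  -- rho
  have hρPT : PT ι v (j rh) := jj_PT v (by decide)
  have hρ1 := hPT _ hρPT
  have e_sr : (dt 0 1 2 3 : alternatingGroup (Fin 9)) * dt 0 2 1 3 = dt 0 3 1 2 := by decide
  have e_ru : (dt 0 1 2 3 : alternatingGroup (Fin 9)) * dt 0 3 1 2 = dt 0 2 1 3 := by decide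
  have c1 : cj (dt 0 1 2 3) rh = (dt 0 2 1 3 : alternatingGroup (Fin 9)) := by decide
  have c2 : cj (dt 0 2 1 3) rh = (dt 0 3 1 2 : alternatingGroup (Fin 9)) := by decide
  have c3 : cj (dt 0 3 1 2) rh = (dt 0 1 2 3 : alternatingGroup (Fin 9)) := by decide
  have d1 : cj (dt 0 1 2 3) rh⁻¹ = (dt 0 3 1 2 : alternatingGroup (Fin 9)) := by decide
  have d2 : cj (dt 0 2 1 3) rh⁻¹ = (dt 0 1 2 3 : alternatingGroup (Fin 9)) := by decide
  have d3 : cj (dt 0 3 1 2) rh⁻¹ = (dt 0 2 1 3 : alternatingGroup (Fin 9)) := by decide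
  rcases hs0 with hs | hs
  · have hu : cj (j (dt 0 3 1 2)) y0 = j (dt 0 3 1 2) := by
      rw [← e_sr, ← jm, cj_mul, hr, hs]
    have hs' : cj (j (dt 0 2 1 3)) y0⁻¹ = j (dt 0 2 1 3) := by
      conv_lhs => rw [← hs]
      exact cj_cancel _ _
    refine ⟨j rh * (cj (j rh) y0 * j rh⁻¹) * j rh⁻¹, ?_, ?_, ?_, ?_⟩
    · have e : cj (j rh) y0 = y0⁻¹ * j rh * y0 := rfl
      rw [e]
      simp only [cj_comp, cj_mul, tj, ht', ht, jc, c1, c2, c3, d1, d2, d3, hr, hs, hu, hr']
      rw [mul_assoc, jm]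
      congr 2
      decide
    · exact PT_mul v (PT_mul v hρPT (PT_mul v hρ1 (jj_PT v (by decide)))) (jj_PT v (by decide))
    · have e : cj (j rh) y0 = y0⁻¹ * j rh * y0 := rfl
      rw [e]
      simp only [cj_comp, jc, c1, c2, c3, d1, d2, d3, hr, hs, hu, hr', hs']
    · have hu' : cj (j (dt 0 3 1 2)) y0⁻¹ = j (dt 0 3 1 2) := by
        conv_lhs => rw [← hu]
        exact cj_cancel _ _
      have e : cj (j rh) y0 = y0⁻¹ * j rh * y0 := rfl
      rw [e]
      simp only [cj_comp, jc, c1, c2, c3, d1, d2, d3, hr, hs, hu, hr', hs', hu']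
  · have hu : cj (j (dt 0 3 1 2)) y0 = j (dt 0 2 1 3) := by
      rw [← e_sr, ← jm, cj_mul, hr, hs, jm, e_ru]
    have hs' : cj (j (dt 0 2 1 3)) y0⁻¹ = j (dt 0 3 1 2) := by
      conv_lhs => rw [← hu]
      exact cj_cancel _ _
    have hu' : cj (j (dt 0 3 1 2)) y0⁻¹ = j (dt 0 2 1 3) := by
      conv_lhs => rw [← hs]
      exact cj_cancel _ _
    refine ⟨j rh⁻¹ * (cj (j rh) y0 * j rh) * j rh, ?_, ?_, ?_, ?_⟩
    · have e : cj (j rh) y0 = y0⁻¹ * j rh * y0 := rfl
      rw [e]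
      simp only [cj_comp, cj_mul, tj, ht', ht, jc, c1, c2, c3, d1, d2, d3, hr, hs, hu, hr']
      rw [mul_assoc, jm]
      congr 2
      decide
    · exact PT_mul v (PT_mul v (jj_PT v (by decide)) (PT_mul v hρ1 hρPT)) hρPT
    · have e : cj (j rh) y0 = y0⁻¹ * j rh * y0 := rfl
      rw [e]
      simp only [cj_comp, jc, c1, c2, c3, d1, d2, d3, hr, hs, hu, hr', hs', hu']
    · have e : cj (j rh) y0 = y0⁻¹ * j rh * y0 := rfl
      rw [e]
      simp only [cj_comp, jc, c1, c2, c3, d1, d2, d3, hr, hs, hu, hr', hs', hu']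

/-! ### Step 2 -/

/-- centralises `V_B` and `T_B` -/
structure PV (ι : alternatingGroup α →* G) (v : Fin 9 ↪ α) (x : G) : Prop where
  T : PT ι v x
  V : ∀ m, VB m → x * jj ι v m = jj ι v m * x

theorem PV.mul {x y : G} (hx : PV ι v x) (hy : PV ι v y) : PV ι v (x * y) :=
  ⟨PT_mul v hx.T hy.T, fun m hm => by rw [mul_assoc, hy.V m hm, ← mul_assoc, hx.V m hm, mul_assoc]⟩

theorem PV.inv {x : G} (hx : PV ι v x) : PV ι v x⁻¹ :=
  ⟨PT_inv v hx.T, fun m hm => ((show Commute x (jj ι v m) from hx.V m hm).inv_left).eq⟩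

theorem PV.cjrh {x : G} (hx : PV ι v x) : PV ι v (cj x (jj ι v rh)) := by
  constructor
  · exact PT_mul v (PT_mul v (PT_inv v (jj_PT v (by decide))) hx.T) (jj_PT v (by decide))
  · intro m hm
    have h1 : VB (cj m rh⁻¹) := by
      rcases hm with rfl | rfl | rfl | rfl <;> simp only [VB] <;> decide
    have h2 := congrArg (fun z => cj z (jj ι v rh)) (hx.V _ h1)
    simp only [cj_mul, cj_jj, cj_cancel'] at h2
    exact h2

theorem PV.jm {m : alternatingGroup (Fin 9)} (hm : VB m) : PV ι v (jj ι v m) :=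
  ⟨jj_PT v (VB_fix hm), fun n hn => by rw [← map_mul, ← map_mul, VB_comm hm hn]⟩

/-- squares -/
theorem sq_mem (C : Cl t ι) {x : G} (hx : PV ι v x) {k : alternatingGroup (Fin 9)} (hk : VB k)
    (hk1 : k ≠ 1) (ht : cj t x = t * jj ι v k) : ∃ m, VB m ∧ x * x = jj ι v m := by
  have h1 : cj t (x * x) = t := by
    rw [cj_comp, ht, cj_mul, ht, cj_eq (hx.V k hk).symm, mul_assoc, ← map_mul, VB_sq hk, map_one,
      mul_one]
  have h2 := cj_self_iff.1 h1
  obtain ⟨m, hm, e | e⟩ := C.mem_EB v h2.symm ((hx.mul v hx).V _ (Or.inr (Or.inl rfl))).symm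
    (hx.mul v hx).T
  · exact ⟨m, hm, e⟩
  · exfalso
    have h3 : cj (x * x) x = x * x := cj_eq (by group)
    rw [e, cj_mul, ht, cj_eq (hx.V m hm).symm] at h3
    have h4 : jj ι v k = 1 := by
      have := mul_right_cancel h3
      exact mul_eq_left.1 this
    exact hk1 (C.jj_inj v (h4.trans (map_one _).symm))

end Cl

end Cfsg.Agent.OddHalf.D5.Dbl
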