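import Cfsg.Agent.OddHalf.D5.DblY

/-!
# ODD D5 (helper845): existence of `y_r`, second step
-/

set_option autoImplicit false
set_option linter.unusedSectionVars false

namespace Cfsg.Agent.OddHalf.D5.Dbl

open Equiv

theorem cj_cj {G : Type*} [Group G] (x y g : G) : cj (cj x y) g = cj (cj x g) (cj y g) := by
  simp only [cj]; group

variable {α : Type*} [Fintype α] [DecidableEq α] {G : Type*} [Group G]

namespace Cl

variable {t : G} {ι : alternatingGroup α →* G} (C : Cl t ι) (v : Fin 9 ↪ α)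

/-- product of three conjugates with a `t` -/
theorem no_t (C : Cl t ι) {w w' w'' : G} {k r1 r2 r3 : alternatingGroup (Fin 9)}
    (h : w * w' * w'' = 1) (hc : w' * w'' = w'' * w')
    (hw : ∀ m, VB m → w * jj ι v m = jj ι v m * w) (hw' : ∀ m, VB m → w' * jj ι v m = jj ι v m * w')
    (hw'' : ∀ m, VB m → w'' * jj ι v m = jj ι v m * w'') (k1 : VB r1) (k2 : VB r2) (k3 : VB r3)
    (hk : VB k) (ht'' : cj t w'' = t * jj ι v k)
    (e : w * (t * jj ι v r1) * (w'' * (t * jj ι v r2)) * (w' * (t * jj ι v r3)) = 1) : False := by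
  have e1 : t * w'' = w'' * (t * jj ι v k) := cj_eq_iff.1 ht''
  have tc : ∀ m, jj ι v m * t = t * jj ι v m := fun m => (C.jj_comm v m).symm
  apply C.jj_ne v (k * r1 * r2 * r3)⁻¹
  have h1 : w * (t * jj ι v r1) * (w'' * (t * jj ι v r2)) * (w' * (t * jj ι v r3)) =
      t * jj ι v (k * r1 * r2 * r3) := by
    calc w * (t * jj ι v r1) * (w'' * (t * jj ι v r2)) * (w' * (t * jj ι v r3))
        = w * t * (jj ι v r1 * w'') * t * jj ι v r2 * w' * t * jj ι v r3 := by group
      _ = w * t * (w'' * jj ι v r1) * t * jj ι v r2 * w' * t * jj ι v r3 := by rw [hw'' _ k1]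
      _ = w * (t * w'') * (jj ι v r1 * t) * jj ι v r2 * w' * t * jj ι v r3 := by group
      _ = w * (w'' * (t * jj ι v k)) * (t * jj ι v r1) * jj ι v r2 * w' * t * jj ι v r3 := by
          rw [e1, tc]
      _ = w * w'' * (t * (jj ι v k * t)) * jj ι v r1 * jj ι v r2 * w' * t * jj ι v r3 := by group
      _ = w * w'' * jj ι v k * jj ι v r1 * (jj ι v r2 * w') * t * jj ι v r3 := by
          rw [tc, ← mul_assoc t t, C.tt, one_mul]; group
      _ = w * w'' * jj ι v k * jj ι v r1 * (w' * jj ι v r2) * t * jj ι v r3 := by rw [hw' _ k2]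
      _ = w * w'' * jj ι v k * (jj ι v r1 * w') * jj ι v r2 * t * jj ι v r3 := by group
      _ = w * w'' * jj ι v k * (w' * jj ι v r1) * jj ι v r2 * t * jj ι v r3 := by rw [hw' _ k1]
      _ = w * w'' * (jj ι v k * w') * jj ι v r1 * jj ι v r2 * t * jj ι v r3 := by group
      _ = w * w'' * (w' * jj ι v k) * jj ι v r1 * jj ι v r2 * t * jj ι v r3 := by rw [hw' _ hk]
      _ = w * (w'' * w') * (jj ι v k * jj ι v r1 * jj ι v r2 * t) * jj ι v r3 := by group
      _ = w * (w' * w'') * (jj ι v (k * r1 * r2) * t) * jj ι v r3 := by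
          rw [hc, map_mul, map_mul]
      _ = (w * w' * w'') * (t * (jj ι v (k * r1 * r2) * jj ι v r3)) := by rw [tc]; group
      _ = t * jj ι v (k * r1 * r2 * r3) := by rw [h, one_mul, ← map_mul]
  rw [e] at h1
  rw [map_inv]
  exact (eq_inv_of_mul_eq_one_left h1.symm).symm

theorem exists_y (C : Cl t ι) {y1 : G} (ht : cj t y1 = t * jj ι v (dt 0 1 2 3)) (hP : PV ι v y1) :
    ∃ y : G, cj t y = t * jj ι v (dt 0 1 2 3) ∧
      (∀ k : alternatingGroup α, emb v (dt 0 1 2 3) * k = k * emb v (dt 0 1 2 3) →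
        y * ι k = ι k * y) ∧
      y * cj y (jj ι v rh) * cj (cj y (jj ι v rh)) (jj ι v rh) = 1 := by
  set j := jj ι v with hj
  have jm : ∀ a b, j a * j b = j (a * b) := fun a b => (map_mul _ _ _).symm
  have jc : ∀ a b, cj (j a) (j b) = j (cj a b) := fun a b => cj_jj v a b
  have tj : ∀ a, cj t (j a) = t := fun a => C.cj_t_jj v a
  have c1 : cj (dt 0 1 2 3) rh = (dt 0 2 1 3 : alternatingGroup (Fin 9)) := by decide
  have c2 : cj (dt 0 2 1 3) rh = (dt 0 3 1 2 : alternatingGroup (Fin 9)) := by decide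
  have c3 : cj (dt 0 3 1 2) rh = (dt 0 1 2 3 : alternatingGroup (Fin 9)) := by decide
  have Vr : VB (dt 0 1 2 3) := Or.inr (Or.inl rfl)
  have Vs : VB (dt 0 2 1 3) := Or.inr (Or.inr (Or.inl rfl))
  have Vu : VB (dt 0 3 1 2) := Or.inr (Or.inr (Or.inr rfl))
  have rot : ∀ x m, cj t x = t * j m → cj t (cj x (j rh)) = t * j (cj m rh) := by
    intro x m h
    have h1 : cj t (cj x (j rh)) = cj (cj t (j rh)) (cj x (j rh)) := by rw [tj]
    rw [h1, ← cj_cj, h, cj_mul, tj, jc]
  have r3 : ∀ x, cj (cj (cj x (j rh)) (j rh)) (j rh) = x := by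
    intro x
    rw [← cj_comp, ← cj_comp, jm, jm, show rh * (rh * rh) = (1 : alternatingGroup (Fin 9))
      by decide, map_one, cj_one]
  -- the three conjugates
  set a1 := cj y1 (j rh) with ha1
  set a2 := cj a1 (j rh) with ha2
  have ha0 : cj a2 (j rh) = y1 := r3 y1
  have P1 : PV ι v a1 := hP.cjrh v
  have P2 : PV ι v a2 := P1.cjrh v
  have t1 : cj t a1 = t * j (dt 0 2 1 3) := by rw [ha1, rot _ _ ht, c1]
  have t2 : cj t a2 = t * j (dt 0 3 1 2) := by rw [ha2, rot _ _ t1, c2]
  have inv_t : ∀ x m, VB m → PV ι v x → cj t x = t * j m → cj t x⁻¹ = t * j m := by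
    intro x m hm hx h
    have h1 : cj (t * j m) x = t := by
      rw [cj_mul, h, cj_eq (hx.V m hm).symm, mul_assoc, jm, VB_sq hm, map_one, mul_one]
    conv_lhs => rw [← h1]
    exact cj_cancel _ _
  have mul_t : ∀ x y m n, VB m → PV ι v y → cj t x = t * j m → cj t y = t * j n →
      cj t (x * y) = t * j (n * m) := by
    intro x y m n hm hy h1 h2
    rw [cj_comp, h1, cj_mul, h2, cj_eq (hy.V m hm).symm, mul_assoc, jm]
  set w := a1⁻¹ * a2 with hw
  set w' := a2⁻¹ * y1 with hw'
  set w'' := y1⁻¹ * a1 with hw''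
  have Pw : PV ι v w := (P1.inv v).mul v P2
  have Pw' : PV ι v w' := (P2.inv v).mul v hP
  have Pw'' : PV ι v w'' := (hP.inv v).mul v P1
  have cw : cj w (j rh) = w' := by rw [hw, cj_mul, cj_inv, ← ha2, ha0]
  have cw' : cj w' (j rh) = w'' := by rw [hw', cj_mul, cj_inv, ha0, ← ha1]
  have cw'' : cj w'' (j rh) = w := by rw [hw'', cj_mul, cj_inv, ← ha1, ← ha2]
  have tw : cj t w = t * j (dt 0 1 2 3) := by
    rw [hw, mul_t _ _ _ _ Vs P2 (inv_t _ _ Vs P1 t1) t2]
    congr 2
    decide
  have tw' : cj t w' = t * j (dt 0 2 1 3) := by rw [← cw, rot _ _ tw, c1]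
  have tw'' : cj t w'' = t * j (dt 0 3 1 2) := by rw [← cw', rot _ _ tw', c2]
  have www : w * w' * w'' = 1 := by rw [hw, hw', hw'']; group
  clear_value w w' w''
  -- squares
  obtain ⟨m1, hm1, e1⟩ := C.sq_mem v Pw Vr (by decide) tw
  obtain ⟨m2, hm2, e2⟩ := C.sq_mem v Pw' Vs (by decide) tw'
  obtain ⟨m3, hm3, e3⟩ := C.sq_mem v (Pw.mul v Pw') (k := dt 0 2 1 3 * dt 0 1 2 3)
    (VB_mul Vs Vr) (by decide) (mul_t _ _ _ _ Vr Pw' tw tw')
  -- `w' w = w w' e`
  have comm1 : w' * w = w * w' * j (m1 * m3 * m2) := by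
    have h1 : w⁻¹ = w * j m1 := by
      rw [inv_eq_iff_mul_eq_one, ← mul_assoc, e1, jm, VB_sq hm1, map_one]
    have h2 : w'⁻¹ = j m2 * w' := by
      rw [inv_eq_iff_mul_eq_one, ← Pw'.V m2 hm2, ← mul_assoc, e2, jm, VB_sq hm2, map_one]
    calc w' * w = w⁻¹ * (w * w' * (w * w')) * w'⁻¹ := by group
      _ = w * j m1 * j m3 * (j m2 * w') := by rw [e3, h1, h2]
      _ = w * (j (m1 * m3 * m2) * w') := by rw [← jm, ← jm]; group
      _ = w * (w' * j (m1 * m3 * m2)) := by rw [Pw'.V _ (VB_mul (VB_mul hm1 hm3) hm2)]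
      _ = w * w' * j (m1 * m3 * m2) := by group
  have hmm := VB_mul (VB_mul hm1 hm3) hm2
  generalize m1 * m3 * m2 = e at comm1 hmm
  have comm2 : w'' * w' = w' * w'' * j (cj e rh) := by
    have := congrArg (fun z => cj z (j rh)) comm1
    simp only [cj_mul, cw, cw', jc] at this
    exact this
  have he : e = cj e rh := by
    have h1 : w'' = w'⁻¹ * w⁻¹ := by
      rw [← mul_inv_rev]; exact (eq_inv_of_mul_eq_one_right www)
    rw [h1] at comm2
    have h2 : w'⁻¹ * w⁻¹ * w' = w⁻¹ * j (cj e rh) := by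
      rw [comm2]; group
    have h3 : w' * w = w * w' * j (cj e rh) := by
      calc w' * w = (w * w') * (w'⁻¹ * w⁻¹ * w') * w := by group
        _ = (w * w') * (w⁻¹ * j (cj e rh)) * w := by rw [h2]
        _ = (w * w') * w⁻¹ * (j (cj e rh) * w) := by group
        _ = (w * w') * w⁻¹ * (w * j (cj e rh)) := by rw [Pw.V _ (VB_cj hmm)]
        _ = w * w' * j (cj e rh) := by group
    rw [comm1] at h3
    exact C.jj_inj v (mul_left_cancel h3)
  have he1 : e = 1 := by
    rcases hmm with rfl | rfl | rfl | rfl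
    · rfl
    · exact absurd he (by decide)
    · exact absurd he (by decide)
    · exact absurd he (by decide)
  subst he1
  rw [map_one, mul_one] at comm1
  rw [one_cj, map_one, mul_one] at comm2
  -- the action of `σ`
  set sg : alternatingGroup (Fin 9) := dt 2 3 4 5 with hsg
  have sgLB : ∀ l, LB v l → LB v (emb v sg * l * (emb v sg)⁻¹) := by
    intro l hl
    refine ⟨?_, ?_⟩
    · calc emb v sg * l * (emb v sg)⁻¹ * (emb v sg * l * (emb v sg)⁻¹) *
          (emb v sg * l * (emb v sg)⁻¹) = emb v sg * (l * l * l) * (emb v sg)⁻¹ := by group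
        _ = 1 := by rw [hl.1]; group
    · intro i hi
      rw [← map_inv]
      show (emb v sg : Perm α) ((l : Perm α) ((emb v sg⁻¹ : Perm α) (v i))) = v i
      rw [emb_apply, hl.2 _ ((show ∀ i : Fin 9, i < 4 → ((sg⁻¹ : alternatingGroup (Fin 9)) :
        Perm (Fin 9)) i < 4 by decide) i hi), emb_apply]
      congr 1
      exact (show ∀ i : Fin 9, (sg : Perm (Fin 9)) (((sg⁻¹ : alternatingGroup (Fin 9)) :
        Perm (Fin 9)) i) = i by decide) i
  have sgPV : ∀ x, PV ι v x → PV ι v (cj x (j sg)) := by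
    intro x hx
    constructor
    · intro l hl
      have h1 := hx.T _ (sgLB l hl)
      have h2 : ι (emb v sg * l * (emb v sg)⁻¹) = cj (ι l) (j sg)⁻¹ := by
        rw [map_mul, map_mul, map_inv, cj, inv_inv]; rfl
      rw [h2] at h1
      have h3 := congrArg (fun z => cj z (j sg)) h1
      simp only [cj_mul, cj_cancel'] at h3
      exact h3
    · intro m hm
      have h1 : VB (cj m sg⁻¹) := by
        rcases hm with rfl | rfl | rfl | rfl <;> simp only [VB] <;> decide
      have h2 := congrArg (fun z => cj z (j sg)) (hx.V _ h1)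
      have h3 : cj (j (cj m sg⁻¹)) (j sg) = j m := by rw [jc, cj_cancel']
      simp only [cj_mul] at h2
      rw [← hj, h3] at h2
      exact h2
  have sgt : ∀ x m, cj t x = t * j m → cj t (cj x (j sg)) = t * j (cj m sg) := by
    intro x m h
    have h1 : cj t (cj x (j sg)) = cj (cj t (j sg)) (cj x (j sg)) := by rw [tj]
    rw [h1, ← cj_cj, h, cj_mul, tj, jc]
  have tws : cj t (cj w (j sg)) = t * j (dt 0 1 2 3) := by
    rw [sgt _ _ tw]
    congr 2
    decide
  have Pws := sgPV w Pw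
  -- `d`
  obtain ⟨k, hk, hd⟩ : ∃ k, VB k ∧ cj w (j sg) = w * j k := by
    have h1 : cj t (w⁻¹ * cj w (j sg)) = t := by
      rw [mul_t _ _ _ _ Vr Pws (inv_t _ _ Vr Pw tw) tws, show
        (dt 0 1 2 3 : alternatingGroup (Fin 9)) * dt 0 1 2 3 = 1 by decide, map_one, mul_one]
    have Pd : PV ι v (w⁻¹ * cj w (j sg)) := (Pw.inv v).mul v Pws
    obtain ⟨k, hk, e | e⟩ := C.mem_EB v (cj_self_iff.1 h1).symm (Pd.V _ Vr).symm Pd.T
    · exact ⟨k, hk, by rw [← hj] at e; rw [← e]; group⟩
    · exfalso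
      have hd : cj w (j sg) = w * (t * j k) := by rw [← hj] at e; rw [← e]; group
      have h2 : cj w' (j sg) = w'' * (t * j (cj k rh⁻¹)) := by
        have h3 : cj w' (j sg) = cj (cj w (j sg)) (j rh⁻¹) := by
          rw [← cw, ← cj_comp, ← cj_comp, jm, jm, show rh * sg = sg * rh⁻¹ by decide]
        have h4 : cj w (j rh⁻¹) = w'' := by
          rw [← cw'', map_inv]; exact cj_cancel _ _
        rw [h3, hd, cj_mul, cj_mul, h4, tj, jc]
      have h5 : cj w'' (j sg) = w' * (t * j (cj k rh)) := by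
        have h3 : cj w'' (j sg) = cj (cj w (j sg)) (j rh) := by
          have h4 : w'' = cj w (j rh⁻¹) := by
            rw [← cw'', map_inv]; exact (cj_cancel _ _).symm
          rw [h4, ← cj_comp, ← cj_comp, jm, jm, show rh⁻¹ * sg = sg * rh by decide]
        rw [h3, hd, cj_mul, cj_mul, cw, tj, jc]
      have h6 : w * (t * j k) * (w'' * (t * j (cj k rh⁻¹))) * (w' * (t * j (cj k rh))) = 1 := by
        rw [← hd, ← h2, ← h5, ← cj_mul, ← cj_mul, www, one_cj]
      have k2 : VB (cj k rh⁻¹) := by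
        rcases hk with rfl | rfl | rfl | rfl <;> simp only [VB] <;> decide
      exact C.no_t v www comm2.symm Pw.V Pw'.V Pw''.V hk k2 (VB_cj hk) Vu tw'' h6
  have hk1 : k = 1 ∨ k = dt 0 1 2 3 := by
    have h1 : cj (cj w (j sg)) (j sg) = w := by
      rw [← cj_comp, jm, show sg * sg = 1 by decide, map_one, cj_one]
    rw [hd, cj_mul, hd, jc, mul_assoc, jm] at h1
    have h2 : k * cj k sg = 1 := C.jj_inj v ((mul_eq_left.1 h1).trans (map_one _).symm)
    rcases hk with rfl | rfl | rfl | rfl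
    · exact Or.inl rfl
    · exact Or.inr rfl
    · exact absurd h2 (by decide)
    · exact absurd h2 (by decide)
  -- the final element
  have fin : ∀ m, VB m → cj (w * j m) (j sg) = w * j m →
      ∃ y : G, cj t y = t * j (dt 0 1 2 3) ∧
      (∀ k : alternatingGroup α, emb v (dt 0 1 2 3) * k = k * emb v (dt 0 1 2 3) →
        y * ι k = ι k * y) ∧
      y * cj y (j rh) * cj (cj y (j rh)) (j rh) = 1 := by
    intro m hm h
    have Py : PV ι v (w * j m) := Pw.mul v (PV.jm v hm)
    refine ⟨w * j m, ?_, ?_, ?_⟩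
    · rw [cj_comp, tw, cj_mul, tj, jc]
      congr 2
      rcases hm with rfl | rfl | rfl | rfl <;> decide
    · intro k hk
      have hmem : ∀ k : alternatingGroup α, k ∈ (Subgroup.centralizer {w * j m}).comap ι ↔
          (w * j m) * ι k = ι k * (w * j m) := by
        intro k
        rw [Subgroup.mem_comap, Subgroup.mem_centralizer_singleton_iff]
        exact eq_comm
      rw [← hmem]
      apply mem_of_comm v _ _ _ _ _ k hk
      · rw [hmem]; exact Py.V _ Vr
      · rw [hmem]; exact Py.V _ Vs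
      · rw [hmem]; exact cj_self_iff.1 h
      · intro l hl
        classical
        apply mem_of_fix (fun x => ∀ i : Fin 9, i < 4 → v i ≠ x)
        · intro l h3 hf
          rw [hmem]
          apply Py.T l
          refine ⟨h3, fun i hi => hf _ ?_⟩
          push Not
          exact ⟨i, hi, rfl⟩
        · intro x hx
          push Not at hx
          obtain ⟨i, hi, rfl⟩ := hx
          exact hl i hi
    · rw [cj_mul, cj_mul, cw, cw', jc, jc]
      calc w * j m * (w' * j (cj m rh)) * (w'' * j (cj (cj m rh) rh))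
          = w * (j m * w') * j (cj m rh) * w'' * j (cj (cj m rh) rh) := by group
        _ = w * (w' * j m) * j (cj m rh) * w'' * j (cj (cj m rh) rh) := by rw [Pw'.V _ hm]
        _ = w * w' * j m * (j (cj m rh) * w'') * j (cj (cj m rh) rh) := by group
        _ = w * w' * j m * (w'' * j (cj m rh)) * j (cj (cj m rh) rh) := by
            rw [Pw''.V _ (VB_cj hm)]
        _ = w * w' * (j m * w'') * j (cj m rh) * j (cj (cj m rh) rh) := by group
        _ = w * w' * (w'' * j m) * j (cj m rh) * j (cj (cj m rh) rh) := by rw [Pw''.V _ hm]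
        _ = (w * w' * w'') * j (m * cj m rh * cj (cj m rh) rh) := by rw [← jm, ← jm]; group
        _ = 1 := by
            rw [www, one_mul, show m * cj m rh * cj (cj m rh) rh = 1 by
              rcases hm with rfl | rfl | rfl | rfl <;> decide, map_one]
  rcases hk1 with rfl | rfl
  · apply fin 1 (Or.inl rfl)
    rw [map_one, mul_one, hd, map_one, mul_one]
  · apply fin (dt 0 2 1 3) Vs
    rw [cj_mul, hd, jc, mul_assoc, jm, show
      (dt 0 1 2 3 : alternatingGroup (Fin 9)) * cj (dt 0 2 1 3) sg = dt 0 2 1 3 by decide]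

end Cl

end Cfsg.Agent.OddHalf.D5.Dbl
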