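import Cfsg.Agent.OddHalf.D5.Defs

/-!
# ODD D5: `t` has no conjugate in `K`, `n ≥ 6`

Every involution `k` of `A_n`, `n ≥ 6`, lies in the commutator subgroup of `C_{A_n}(k)`, and
`t ∉ ⁅C_G(t), C_G(t)⁆ ≤ K`.
-/

set_option autoImplicit false

namespace Cfsg.Agent.OddHalf.D5

open Subgroup Equiv

/-! ### permutations -/

section perm

variable {n : ℕ}

/-- the centralizer of `k` in `A_n` -/
def CA (k : Perm (Fin n)) : Subgroup (Perm (Fin n)) := centralizer ({k} : Set (Perm (Fin n))) ⊓ An n

theorem mem_CA {k x : Perm (Fin n)} : x ∈ CA k ↔ x * k = k * x ∧ Perm.sign x = 1 := by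
  rw [CA, mem_inf, mem_centralizer_singleton_iff, Perm.mem_alternatingGroup]

/-- `(ab)(cd)` is a commutator in `C_{A_n}(k)` -/
theorem pair_mem {k : Perm (Fin n)} (hk : k * k = 1) {a b c d e f : Fin n} (hab : k a = b) (hcd : k c = d)
    (ab : a ≠ b) (cd : c ≠ d) (ac : a ≠ c) (ad : a ≠ d) (ef : e ≠ f) (ea : e ≠ a) (eb : e ≠ b) (ec : e ≠ c)
    (ed : e ≠ d) (fa : f ≠ a) (fb : f ≠ b) (fc : f ≠ c) (fd : f ≠ d)
    (hef : (k e = f ∧ k f = e) ∨ (k e = e ∧ k f = f)) :
    swap a b * swap c d ∈ ⁅CA k, CA k⁆ := by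
  have hba : k b = a := by rw [← hab, ← Perm.mul_apply, hk, Perm.one_apply]
  have hdc : k d = c := by rw [← hcd, ← Perm.mul_apply, hk, Perm.one_apply]
  have bc : b ≠ c := by
    rintro rfl
    rw [hba] at hcd
    exact ad hcd
  have bd : b ≠ d := by
    rintro rfl
    rw [hba] at hdc
    exact ac hdc
  have h1 : swap a b * k = k * swap a b := by
    rw [mul_swap_eq_swap_mul, hab, hba, swap_comm b a]
  have h2 : swap e f * k = k * swap e f := by
    rw [mul_swap_eq_swap_mul]
    rcases hef with ⟨h, h'⟩ | ⟨h, h'⟩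
    · rw [h, h', swap_comm f e]
    · rw [h, h']
  have h3 : swap a c * swap b d * k = k * (swap a c * swap b d) := by
    have e1 : k * swap a c = swap b d * k := by rw [mul_swap_eq_swap_mul, hab, hcd]
    have e2 : k * swap b d = swap a c * k := by rw [mul_swap_eq_swap_mul, hba, hdc]
    have e3 : swap b d * swap a c = swap a c * swap b d :=
      (Perm.disjoint_swap_swap (by simp; tauto)).commute.eq
    rw [← mul_assoc k, e1, mul_assoc (swap b d), e2, ← mul_assoc, e3]
  have hx : swap a b * swap e f ∈ CA k := by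
    rw [mem_CA]
    refine ⟨?_, ?_⟩
    · rw [mul_assoc, h2, ← mul_assoc, h1, mul_assoc]
    · rw [Perm.sign_mul, Perm.sign_swap ab, Perm.sign_swap ef]; decide
  have hy : swap a c * swap b d ∈ CA k := by
    rw [mem_CA]
    refine ⟨h3, ?_⟩
    rw [Perm.sign_mul, Perm.sign_swap ac, Perm.sign_swap bd]; decide
  have hc := commutator_mem_commutator hx hy
  rw [commutatorElement_def] at hc
  have e1 : swap a b * swap e f * (swap a c * swap b d) * (swap a b * swap e f)⁻¹ * (swap a c * swap b d)⁻¹ =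
      swap a b * swap c d := by
    have hya : (swap a c * swap b d) a = c := by
      rw [Perm.mul_apply, swap_apply_of_ne_of_ne ab ad, swap_apply_left]
    have hyb : (swap a c * swap b d) b = d := by
      rw [Perm.mul_apply, swap_apply_left, swap_apply_of_ne_of_ne (Ne.symm ad) (Ne.symm cd)]
    have hye : (swap a c * swap b d) e = e := by
      rw [Perm.mul_apply, swap_apply_of_ne_of_ne eb ed, swap_apply_of_ne_of_ne ea ec]
    have hyf : (swap a c * swap b d) f = f := by
      rw [Perm.mul_apply, swap_apply_of_ne_of_ne fb fd, swap_apply_of_ne_of_ne fa fc]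
    set y := swap a c * swap b d with hy'
    have h4 : y * (swap a b * swap e f)⁻¹ * y⁻¹ = swap e f * swap c d := by
      have e2 : y * swap e f = swap e f * y := by rw [mul_swap_eq_swap_mul, hye, hyf]
      have e3 : y * swap a b = swap c d * y := by rw [mul_swap_eq_swap_mul, hya, hyb]
      rw [mul_inv_rev, swap_inv, swap_inv, ← mul_assoc, e2, mul_assoc (swap e f), e3, mul_assoc,
        mul_assoc (swap c d), mul_inv_cancel, mul_one]
    calc swap a b * swap e f * y * (swap a b * swap e f)⁻¹ * y⁻¹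
        = swap a b * swap e f * (y * (swap a b * swap e f)⁻¹ * y⁻¹) := by group
      _ = swap a b * (swap e f * swap e f) * swap c d := by rw [h4]; group
      _ = swap a b * swap c d := by rw [swap_mul_self, mul_one]
  rwa [e1] at hc

theorem exists_ef (hn : 6 ≤ n) {k : Perm (Fin n)} (hk : k * k = 1) {a b c d : Fin n} (hab : k a = b)
    (hcd : k c = d) : ∃ e f : Fin n, e ≠ f ∧ e ≠ a ∧ e ≠ b ∧ e ≠ c ∧ e ≠ d ∧ f ≠ a ∧ f ≠ b ∧ f ≠ c ∧ f ≠ d ∧
      ((k e = f ∧ k f = e) ∨ (k e = e ∧ k f = f)) := by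
  classical
  have hex : ∀ S : Finset (Fin n), S.card < n → ∃ g, g ∉ S := by
    intro S h
    by_contra hcon
    push Not at hcon
    have : S = Finset.univ := Finset.eq_univ_of_forall hcon
    rw [this, Finset.card_univ, Fintype.card_fin] at h
    exact lt_irrefl _ h
  have hkk : ∀ x, k (k x) = x := fun x => by rw [← Perm.mul_apply, hk, Perm.one_apply]
  have hba : k b = a := by rw [← hab, hkk]
  have hdc : k d = c := by rw [← hcd, hkk]
  have key : ∀ e : Fin n, e ≠ a → e ≠ b → e ≠ c → e ≠ d → k e ≠ a ∧ k e ≠ b ∧ k e ≠ c ∧ k e ≠ d := by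
    intro e ea eb ec ed
    refine ⟨?_, ?_, ?_, ?_⟩
    · intro h; apply eb; rw [← hkk e, h, hab]
    · intro h; apply ea; rw [← hkk e, h, hba]
    · intro h; apply ed; rw [← hkk e, h, hcd]
    · intro h; apply ec; rw [← hkk e, h, hdc]
  obtain ⟨e, he⟩ := hex {a, b, c, d} (lt_of_le_of_lt Finset.card_le_four (by omega))
  simp only [Finset.mem_insert, Finset.mem_singleton, not_or] at he
  obtain ⟨ea, eb, ec, ed⟩ := he
  by_cases h1 : k e = e
  · obtain ⟨f, hf⟩ := hex {a, b, c, d, e} (lt_of_le_of_lt Finset.card_le_five (by omega))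
    simp only [Finset.mem_insert, Finset.mem_singleton, not_or] at hf
    obtain ⟨fa, fb, fc, fd, fe⟩ := hf
    by_cases h2 : k f = f
    · exact ⟨e, f, Ne.symm fe, ea, eb, ec, ed, fa, fb, fc, fd, Or.inr ⟨h1, h2⟩⟩
    · obtain ⟨h3, h4, h5, h6⟩ := key f fa fb fc fd
      exact ⟨f, k f, Ne.symm h2, fa, fb, fc, fd, h3, h4, h5, h6, Or.inl ⟨rfl, hkk f⟩⟩
  · obtain ⟨h3, h4, h5, h6⟩ := key e ea eb ec ed
    exact ⟨e, k e, Ne.symm h1, ea, eb, ec, ed, h3, h4, h5, h6, Or.inl ⟨rfl, hkk e⟩⟩

/-- the parts of `k` -/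
theorem part_mem (hn : 6 ≤ n) {k : Perm (Fin n)} (hk : k * k = 1) (m : ℕ) : ∀ h : Perm (Fin n),
    h.support.card ≤ m → (∀ x, h x = x ∨ h x = k x) → Perm.sign h = 1 → h ∈ ⁅CA k, CA k⁆ := by
  classical
  have hkk : ∀ x, k (k x) = x := fun x => by rw [← Perm.mul_apply, hk, Perm.one_apply]
  -- removing a transposition
  have step : ∀ h : Perm (Fin n), (∀ x, h x = x ∨ h x = k x) → ∀ a, h a ≠ a →
      (∀ x, (swap a (k a) * h) x = x ∨ (swap a (k a) * h) x = k x) ∧
      (swap a (k a) * h).support ⊆ h.support ∧ a ∉ (swap a (k a) * h).support ∧ k a ≠ a ∧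
      (∀ x, (swap a (k a) * h) x ≠ x → x ≠ a ∧ x ≠ k a) := by
    intro h hh a ha
    have h1 : h a = k a := (hh a).resolve_left ha
    have h2 : k a ≠ a := by rw [← h1]; exact ha
    have h3 : h (k a) = a := by
      rcases hh (k a) with h4 | h4
      · exfalso
        apply h2
        exact (h.injective (h1.trans h4.symm)).symm
      · rw [h4, hkk]
    have hx : ∀ x, (swap a (k a) * h) x = if x = a ∨ x = k a then x else h x := by
      intro x
      rw [Perm.mul_apply]
      by_cases hxa : x = a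
      · rw [if_pos (Or.inl hxa), hxa, h1, swap_apply_right]
      by_cases hxb : x = k a
      · rw [if_pos (Or.inr hxb), hxb, h3, swap_apply_left]
      rw [if_neg (by tauto)]
      apply swap_apply_of_ne_of_ne
      · intro h4; apply hxb; exact h.injective (h4.trans h3.symm)
      · intro h4; apply hxa; exact h.injective (h4.trans h1.symm)
    refine ⟨?_, ?_, ?_, h2, ?_⟩
    · intro x
      rw [hx]
      split_ifs with h4
      · exact Or.inl rfl
      · exact hh x
    · intro x hx'
      rw [Perm.mem_support, hx] at hx'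
      rw [Perm.mem_support]
      split_ifs at hx' with h4
      · exact absurd rfl hx'
      · exact hx'
    · rw [Perm.mem_support, hx, if_pos (Or.inl rfl)]; exact fun h => h rfl
    · intro x hx'
      rw [hx] at hx'
      split_ifs at hx' with h4
      · exact absurd rfl hx'
      · exact ⟨fun h => h4 (Or.inl h), fun h => h4 (Or.inr h)⟩
  induction m with
  | zero =>
    intro h hc _ _
    have : h = 1 := by
      rw [← Perm.card_support_eq_zero]; omega
    rw [this]; exact one_mem _
  | succ m ih =>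
    intro h hc hh hs
    by_cases h1 : h = 1
    · rw [h1]; exact one_mem _
    obtain ⟨a, ha⟩ : ∃ a, h a ≠ a := by
      by_contra hcon
      push Not at hcon
      exact h1 (Perm.ext hcon)
    obtain ⟨s1, s2, s3, s4, s5⟩ := step h hh a ha
    have hs' : Perm.sign (swap a (k a) * h) = -1 := by
      rw [Perm.sign_mul, Perm.sign_swap (Ne.symm s4), hs, mul_one]
    obtain ⟨c, hc'⟩ : ∃ c, (swap a (k a) * h) c ≠ c := by
      by_contra hcon
      push Not at hcon
      have : swap a (k a) * h = 1 := Perm.ext hcon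
      rw [this, Perm.sign_one] at hs'
      exact absurd hs' (by decide)
    obtain ⟨r1, r2, r3, r4, r5⟩ := step _ s1 c hc'
    obtain ⟨ca, cb⟩ := s5 c hc'
    set h' := swap c (k c) * (swap a (k a) * h) with hh'
    have hmem := ih h' (by
      have h4 : h'.support ⊆ h.support.erase a := by
        intro x hx
        rw [Finset.mem_erase]
        have h5 := r2 hx
        refine ⟨?_, s2 h5⟩
        rintro rfl
        exact s3 h5
      have h5 := Finset.card_le_card h4
      rw [Finset.card_erase_of_mem (Perm.mem_support.2 ha)] at h5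
      omega) r1 (by rw [Perm.sign_mul, hs', Perm.sign_swap (Ne.symm r4)]; decide)
    obtain ⟨e, f, h6, h7, h8, h9, h10, h11, h12, h13, h14, h15⟩ := exists_ef hn hk (a := a) (c := c) rfl rfl
    have h16 := pair_mem hk (a := a) (c := c) rfl rfl (Ne.symm s4) (Ne.symm r4) (Ne.symm ca)
      (by intro h17; apply cb; rw [h17, hkk]) h6 h7 h8 h9 h10 h11 h12 h13 h14 h15
    have h17 : h = swap a (k a) * swap c (k c) * h' := by
      rw [hh', ← mul_assoc, mul_assoc (swap a (k a)), swap_mul_self, mul_one, ← mul_assoc, swap_mul_self, one_mul]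
    rw [h17]
    exact mul_mem h16 hmem

/-- **every involution of `A_n`, `n ≥ 6`, is in the commutator subgroup of its centralizer** -/
theorem mem_commutator_CA (hn : 6 ≤ n) {k : Perm (Fin n)} (hk : k * k = 1) (hs : Perm.sign k = 1) :
    k ∈ ⁅CA k, CA k⁆ :=
  part_mem hn hk _ k le_rfl (fun _ => Or.inr rfl) hs

end perm

/-! ### groups -/

variable {G : Type*} [Group G]

namespace Gen

variable {n : ℕ} {t : G} {φ : centralizer ({t} : Set G) →* Perm (Fin n)} {K : Subgroup G}

theorem even_comm (h : Gen t φ K) {u x : centralizer ({t} : Set G)} (hu : φ u ∈ An n) :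
    (x : G) * u * (x : G)⁻¹ * (u : G)⁻¹ ∈ K := by
  have hx := mem_centralizer_singleton_iff.1 x.2
  rcases h.mem u hu with h1 | h1
  · exact K.mul_mem (h.norm _ hx _ h1) (K.inv_mem h1)
  · have h2 : (x : G) * u * (x : G)⁻¹ * (u : G)⁻¹ =
        ((x : G) * (t * u) * (x : G)⁻¹) * (t * u)⁻¹ := by
      calc (x : G) * u * (x : G)⁻¹ * (u : G)⁻¹ = x * t * (t⁻¹ * u) * (x : G)⁻¹ * (u : G)⁻¹ := by group
        _ = t * (x * (t⁻¹ * u) * (x : G)⁻¹) * (u : G)⁻¹ := by rw [hx]; group
        _ = t * (x * (t⁻¹ * t⁻¹) * (t * u) * (x : G)⁻¹) * (u : G)⁻¹ := by group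
        _ = t * (x * (t * u) * (x : G)⁻¹) * (u : G)⁻¹ := by
          rw [inv_eq_of_mul_eq_one_left h.tt, h.tt, mul_one]
        _ = (x * (t * u) * (x : G)⁻¹) * (t * (u : G)⁻¹) := by
          have h3 : t * ((x : G) * (t * u) * (x : G)⁻¹) = (x : G) * (t * u) * (x : G)⁻¹ * t := by
            have h4 : Commute t (x : G) := hx.symm
            have h5 : Commute t (u : G) := (mem_centralizer_singleton_iff.1 u.2).symm
            exact ((h4.mul_right ((Commute.refl t).mul_right h5)).mul_right h4.inv_right).eq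
          rw [h3]; group
        _ = ((x : G) * (t * u) * (x : G)⁻¹) * (t * u)⁻¹ := by
          have h5 : Commute t (u : G)⁻¹ := (mem_centralizer_singleton_iff.1 (u⁻¹).2).symm
          rw [h5.eq, mul_inv_rev, inv_eq_of_mul_eq_one_left h.tt]
    rw [h2]
    exact K.mul_mem (h.norm _ hx _ h1) (K.inv_mem h1)

/-- `C_G(t)/K` is abelian -/
theorem comm_mem (h : Gen t φ K) (x y : centralizer ({t} : Set G)) :
    (x : G) * y * (x : G)⁻¹ * (y : G)⁻¹ ∈ K := by
  by_cases hy : φ y ∈ An n
  · exact h.even_comm hy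
  by_cases hx : φ x ∈ An n
  · have h1 := h.even_comm (u := x) (x := y) hx
    have h2 := K.inv_mem h1
    have h3 : ((y : G) * x * (y : G)⁻¹ * (x : G)⁻¹)⁻¹ = (x : G) * y * (x : G)⁻¹ * (y : G)⁻¹ := by group
    rwa [h3] at h2
  · have h1 : φ (y * x⁻¹) ∈ An n := by
      rw [not_mem_iff] at hx hy
      rw [map_mul, map_inv, Perm.mem_alternatingGroup, Perm.sign_mul, Perm.sign_inv, hx, hy]; decide
    have h2 := h.even_comm (x := x) h1
    have h3 : (x : G) * ((y * x⁻¹ : centralizer ({t} : Set G)) : G) * (x : G)⁻¹ *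
        (((y * x⁻¹ : centralizer ({t} : Set G)) : G))⁻¹ = (x : G) * y * (x : G)⁻¹ * (y : G)⁻¹ := by
      show (x : G) * (y * (x : G)⁻¹) * (x : G)⁻¹ * (y * (x : G)⁻¹)⁻¹ = _
      group
    rwa [h3] at h2

theorem commutator_le_K (h : Gen t φ K) :
    ⁅centralizer ({t} : Set G), centralizer ({t} : Set G)⁆ ≤ K := by
  rw [commutator_le]
  intro x hx y hy
  exact h.comm_mem ⟨x, hx⟩ ⟨y, hy⟩

/-- **`t` has no conjugate in `K`** -/
theorem disj (h : Gen t φ K) (hn : 6 ≤ n) (g : G) : g * t * g⁻¹ ∉ K := by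
  intro hk
  set k := g * t * g⁻¹ with hkdef
  -- the centralizer of `k` in `K`
  have hkk : k * k = 1 := by
    calc k * k = g * (t * t) * g⁻¹ := by rw [hkdef]; group
      _ = 1 := by rw [h.tt]; group
  set κ : centralizer ({t} : Set G) := ⟨k, h.le hk⟩ with hκ
  have hκκ : φ κ * φ κ = 1 := by
    rw [← map_mul]
    have : κ * κ = 1 := Subtype.ext hkk
    rw [this, map_one]
  have h1 := mem_commutator_CA hn hκκ (Perm.mem_alternatingGroup.1 (h.even κ hk))
  -- lift
  set X : Subgroup G := K ⊓ centralizer ({k} : Set G) with hX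
  have hXle : X ≤ centralizer ({t} : Set G) := inf_le_left.trans h.le
  have h2 : (CA (φ κ)) ≤ (X.subgroupOf (centralizer ({t} : Set G))).map φ := by
    intro σ hσ
    obtain ⟨h3, h4⟩ := mem_CA.1 hσ
    obtain ⟨x, hx, hxσ⟩ := h.surj σ (Perm.mem_alternatingGroup.2 h4)
    refine ⟨x, ?_, hxσ⟩
    show (x : G) ∈ X
    refine ⟨hx, mem_centralizer_singleton_iff.2 ?_⟩
    have h5 : φ (x * κ) = φ (κ * x) := by rw [map_mul, map_mul, hxσ, h3]
    exact congrArg Subtype.val (h.inj (x := x * κ) (y := κ * x) (K.mul_mem hx hk) (K.mul_mem hk hx) h5)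
  have h3 : φ κ ∈ (⁅X.subgroupOf (centralizer ({t} : Set G)), X.subgroupOf (centralizer ({t} : Set G))⁆).map φ := by
    rw [map_commutator]
    exact commutator_mono h2 h2 h1
  obtain ⟨y, hy, hyκ⟩ := h3
  have h4 : (y : G) ∈ ⁅X, X⁆ := by
    have h5 : (⁅X.subgroupOf (centralizer ({t} : Set G)), X.subgroupOf (centralizer ({t} : Set G))⁆).map
        (centralizer ({t} : Set G)).subtype ≤ ⁅X, X⁆ := by
      rw [map_commutator]
      apply commutator_mono <;> exact Subgroup.map_subgroupOf_eq_of_le hXle |>.le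
    exact h5 ⟨y, hy, rfl⟩
  have h5 : y = κ := by
    apply h.inj _ hk hyκ
    exact (commutator_le_self X h4).1
  have h6 : k ∈ ⁅X, X⁆ := by rw [h5] at h4; exact h4
  have h7 : k ∈ ⁅centralizer ({k} : Set G), centralizer ({k} : Set G)⁆ :=
    commutator_mono inf_le_right inf_le_right h6
  -- conjugate back
  have h8 : centralizer ({k} : Set G) = (centralizer ({t} : Set G)).map (MulAut.conj g).toMonoidHom := by
    ext x
    rw [mem_centralizer_singleton_iff, Subgroup.mem_map]
    constructor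
    · intro hx
      refine ⟨g⁻¹ * x * g, ?_, ?_⟩
      · rw [mem_centralizer_singleton_iff]
        calc g⁻¹ * x * g * t = g⁻¹ * (x * k) * g := by rw [hkdef]; group
          _ = g⁻¹ * (k * x) * g := by rw [hx]
          _ = t * (g⁻¹ * x * g) := by rw [hkdef]; group
      · show g * (g⁻¹ * x * g) * g⁻¹ = x
        group
    · rintro ⟨y, hy, rfl⟩
      show g * y * g⁻¹ * k = k * (g * y * g⁻¹)
      have hyt := mem_centralizer_singleton_iff.1 hy
      calc g * y * g⁻¹ * k = g * (y * t) * g⁻¹ := by rw [hkdef]; group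
        _ = g * (t * y) * g⁻¹ := by rw [hyt]
        _ = k * (g * y * g⁻¹) := by rw [hkdef]; group
  rw [h8, ← map_commutator] at h7
  obtain ⟨y, hy, hyk⟩ := h7
  have hyk' : g * y * g⁻¹ = k := hyk
  have h9 : y = t := by
    have := congrArg (fun x => g⁻¹ * x * g) hyk'
    simp only [hkdef] at this
    calc y = g⁻¹ * (g * y * g⁻¹) * g := by group
      _ = g⁻¹ * (g * t * g⁻¹) * g := this
      _ = t := by group
  rw [h9] at hy
  exact h.notMem (h.commutator_le_K hy)

end Gen

end Cfsg.Agent.OddHalf.D5
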