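import Cfsg.Agent.OddHalf.D5.EightMatB

/-!
# Affine action on `⟨t⟩ × V`, `V = 2⁴ < SL₄(2)`: the seven bad swaps (helper401)

`Hyp t φ`: `C_G(t) = ⟨t⟩ × φ(SL₄(2))`.  `Aff g L τ`: `g` acts on `V` as the matrix `L` and `t^g = t τ`.
If `w` swaps `t` and `t z` and is one of seven maps on `V`, then a word `w k w k' w` centralises `t` and acts on
`V` as no element of `SL₄(2)` can.
-/

set_option autoImplicit false

namespace Cfsg.Agent.OddHalf.D5.EightAff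

open Matrix EightMat EightMatB

variable {G : Type*} [Group G]

/-- `C_G(t) = ⟨t⟩ × φ(SL₄(2))` -/
structure Hyp (t : G) (φ : S4 →* G) : Prop where
  tt : t * t = 1
  inj : Function.Injective φ
  comm : ∀ a, t * φ a = φ a * t
  cent : ∀ g, g * t = t * g → (∃ a, g = φ a) ∨ ∃ a, g = t * φ a
  ne : ∀ a, φ a ≠ t

theorem comm_id {H : Type*} [Group H] (a b : H) : a * b = a * b * a⁻¹ * b⁻¹ * (b * a) := by group

namespace Hyp

variable {t : G} {φ : S4 →* G}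

theorem tne (h : Hyp t φ) (a b : S4) : φ a ≠ t * φ b := by
  intro e
  apply h.ne (a * b⁻¹)
  rw [map_mul, map_inv, e, mul_assoc, mul_inv_cancel, mul_one]

theorem t1 (h : Hyp t φ) : t ≠ 1 := fun e => h.ne 1 (by rw [map_one, e])

theorem comm' (h : Hyp t φ) (a : S4) : φ a * t = t * φ a := (h.comm a).symm

/-- a commutator in `C(t)` lies in `K` -/
theorem comm_mem (h : Hyp t φ) {u v k : G} (hu : u * t = t * u) (hv : v * t = t * v) (e : u * v = k * (v * u)) :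
    ∃ a, k = φ a := by
  have key : ∀ a b : S4, φ a * φ b = φ (a * b * a⁻¹ * b⁻¹) * (φ b * φ a) := by
    intro a b
    rw [← map_mul, ← map_mul φ b a, ← map_mul, ← comm_id]
  have fin : ∀ a b : S4, u * v = φ (a * b * a⁻¹ * b⁻¹) * (v * u) → ∃ a, k = φ a := by
    intro a b h1
    rw [e] at h1
    exact ⟨_, mul_right_cancel h1⟩
  rcases h.cent u hu with ⟨a, rfl⟩ | ⟨a, rfl⟩ <;> rcases h.cent v hv with ⟨b, rfl⟩ | ⟨b, rfl⟩
  · exact fin a b (key a b)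
  · apply fin a b
    calc φ a * (t * φ b) = t * (φ a * φ b) := by rw [← mul_assoc, h.comm', mul_assoc]
      _ = t * (φ (a * b * a⁻¹ * b⁻¹) * (φ b * φ a)) := by rw [key a b]
      _ = φ (a * b * a⁻¹ * b⁻¹) * (t * φ b * φ a) := by rw [← mul_assoc, h.comm]; group
  · apply fin a b
    calc t * φ a * φ b = t * (φ a * φ b) := by group
      _ = t * (φ (a * b * a⁻¹ * b⁻¹) * (φ b * φ a)) := by rw [key a b]
      _ = φ (a * b * a⁻¹ * b⁻¹) * ((t * φ b) * φ a) := by rw [← mul_assoc, h.comm]; group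
      _ = φ (a * b * a⁻¹ * b⁻¹) * (φ b * (t * φ a)) := by rw [h.comm b, mul_assoc (φ b)]
  · apply fin a b
    calc t * φ a * (t * φ b) = t * (φ a * t) * φ b := by group
      _ = t * (t * φ a) * φ b := by rw [h.comm' a]
      _ = (t * t) * (φ a * φ b) := by group
      _ = (t * t) * (φ (a * b * a⁻¹ * b⁻¹) * (φ b * φ a)) := by rw [key a b]
      _ = t * (t * φ (a * b * a⁻¹ * b⁻¹)) * (φ b * φ a) := by group
      _ = t * (φ (a * b * a⁻¹ * b⁻¹) * t) * (φ b * φ a) := by rw [h.comm]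
      _ = (t * φ (a * b * a⁻¹ * b⁻¹)) * (t * φ b) * φ a := by group
      _ = (φ (a * b * a⁻¹ * b⁻¹) * t) * (φ b * t) * φ a := by rw [h.comm, h.comm b]
      _ = φ (a * b * a⁻¹ * b⁻¹) * ((t * φ b) * (t * φ a)) := by group

/-- commutators in their centraliser are not conjugate to `t` -/
theorem not_conj (h : Hyp t φ) {k u v : S4} (huv : u * v = k * (v * u)) (hu : u * k = k * u) (hv : v * k = k * v)
    {g : G} (hg : g * t * g⁻¹ = φ k) : False := by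
  have ht : t = g⁻¹ * φ k * g := by rw [← hg]; group
  have hc : ∀ u : S4, u * k = k * u → (g⁻¹ * φ u * g) * t = t * (g⁻¹ * φ u * g) := by
    intro u hu
    rw [ht]
    calc g⁻¹ * φ u * g * (g⁻¹ * φ k * g) = g⁻¹ * (φ u * φ k) * g := by group
      _ = g⁻¹ * (φ k * φ u) * g := by rw [← map_mul, hu, map_mul]
      _ = g⁻¹ * φ k * g * (g⁻¹ * φ u * g) := by group
  obtain ⟨a, ha⟩ := h.comm_mem (k := t) (hc u hu) (hc v hv) (by
    rw [ht]
    calc g⁻¹ * φ u * g * (g⁻¹ * φ v * g) = g⁻¹ * (φ u * φ v) * g := by group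
      _ = g⁻¹ * (φ k * (φ v * φ u)) * g := by rw [← map_mul, huv, map_mul, map_mul]
      _ = g⁻¹ * φ k * g * (g⁻¹ * φ v * g * (g⁻¹ * φ u * g)) := by group)
  exact h.ne a ha.symm

end Hyp

/-! ### The affine action -/

/-- `g` or `1` -/
def pz (g : S4) (x : ZMod 2) : S4 := if x = 0 then 1 else g

/-- the elements of `V` -/
def vv (b : Fin 4 → ZMod 2) : S4 :=
  pz (tv 0 2) (b 0) * pz (tv 0 3) (b 1) * pz (tv 1 2) (b 2) * pz (tv 1 3) (b 3)

theorem vv_add : ∀ b c : Fin 4 → ZMod 2, vv (b + c) = vv b * vv c := by decide +kernel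

theorem vv_zero : vv 0 = 1 := by decide +kernel

/-- the affine action on `tV` -/
structure Aff (t : G) (φ : S4 →* G) (g : G) (L : Matrix (Fin 4) (Fin 4) (ZMod 2)) (τ : Fin 4 → ZMod 2) : Prop where
  v : ∀ b, g * φ (vv b) * g⁻¹ = φ (vv (L *ᵥ b))
  t : g * t * g⁻¹ = t * φ (vv τ)

variable {t : G} {φ : S4 →* G}

theorem Aff.mul {g h : G} {L M : Matrix (Fin 4) (Fin 4) (ZMod 2)} {τ σ : Fin 4 → ZMod 2}
    (hg : Aff t φ g L τ) (hh : Aff t φ h M σ) : Aff t φ (g * h) (L * M) (τ + L *ᵥ σ) where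
  v := by
    intro b
    calc g * h * φ (vv b) * (g * h)⁻¹ = g * (h * φ (vv b) * h⁻¹) * g⁻¹ := by group
      _ = φ (vv ((L * M) *ᵥ b)) := by rw [hh.v, hg.v, Matrix.mulVec_mulVec]
  t := by
    calc g * h * t * (g * h)⁻¹ = g * (h * t * h⁻¹) * g⁻¹ := by group
      _ = g * (t * φ (vv σ)) * g⁻¹ := by rw [hh.t]
      _ = (g * t * g⁻¹) * (g * φ (vv σ) * g⁻¹) := by group
      _ = t * φ (vv (τ + L *ᵥ σ)) := by rw [hg.t, hg.v, vv_add, map_mul]; group

theorem Aff.of_K (h : Hyp t φ) {k : S4} {L : Matrix (Fin 4) (Fin 4) (ZMod 2)}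
    (hk : ∀ b, k * vv b = vv (L *ᵥ b) * k) : Aff t φ (φ k) L 0 where
  v := by
    intro b
    rw [← map_mul, hk, map_mul]; group
  t := by
    rw [vv_zero, map_one, mul_one, h.comm']; group

/-- `w` on `V` -/
theorem Aff.of_w {w : G} {fa fs fb : S4} {L : Matrix (Fin 4) (Fin 4) (ZMod 2)}
    (ht : w * t * w⁻¹ = t * φ (tv 0 3)) (hz : w * φ (tv 0 3) * w⁻¹ = φ (tv 0 3))
    (ha : w * φ (tv 0 2) * w⁻¹ = φ fa) (hs : w * φ (tv 1 2) * w⁻¹ = φ fs) (hb : w * φ (tv 1 3) * w⁻¹ = φ fb)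
    (hL : ∀ b : Fin 4 → ZMod 2, pz fa (b 0) * pz (tv 0 3) (b 1) * pz fs (b 2) * pz fb (b 3) = vv (L *ᵥ b)) :
    Aff t φ w L ![0, 1, 0, 0] where
  v := by
    intro b
    have hp : ∀ (x y : S4) (c : ZMod 2), w * φ x * w⁻¹ = φ y → w * φ (pz x c) * w⁻¹ = φ (pz y c) := by
      intro x y c hxy
      unfold pz
      split_ifs
      · rw [map_one]; group
      · exact hxy
    calc w * φ (vv b) * w⁻¹ = (w * φ (pz (tv 0 2) (b 0)) * w⁻¹) * (w * φ (pz (tv 0 3) (b 1)) * w⁻¹) *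
          (w * φ (pz (tv 1 2) (b 2)) * w⁻¹) * (w * φ (pz (tv 1 3) (b 3)) * w⁻¹) := by
            unfold vv
            rw [map_mul, map_mul, map_mul]; group
      _ = φ (vv (L *ᵥ b)) := by
            rw [hp _ _ _ ha, hp _ _ _ hz, hp _ _ _ hs, hp _ _ _ hb, ← map_mul, ← map_mul, ← map_mul, hL]
  t := by
    rw [ht]
    have : vv ![0, 1, 0, 0] = tv 0 3 := by decide +kernel
    rw [this]

/-- an element fixing `t` preserves `CP` -/
theorem Aff.false (h : Hyp t φ) {g : G} {L : Matrix (Fin 4) (Fin 4) (ZMod 2)} {τ : Fin 4 → ZMod 2}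
    (hg : Aff t φ g L τ) (hτ : τ = 0) {b c : Fin 4 → ZMod 2} (h1 : CP (vv b) (vv c))
    (h2 : ¬ CP (vv (L *ᵥ b)) (vv (L *ᵥ c))) : False := by
  have hgt : g * t = t * g := by
    have := hg.t
    rw [hτ, vv_zero, map_one, mul_one, mul_inv_eq_iff_eq_mul] at this
    exact this
  have key : ∀ k : S4, (∀ b, φ k * φ (vv b) * (φ k)⁻¹ = φ (vv (L *ᵥ b))) → False := by
    intro k hk
    apply h2
    have hk' : ∀ b, k * vv b = vv (L *ᵥ b) * k := by
      intro b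
      apply h.inj
      rw [map_mul, map_mul, ← hk b]; group
    exact CP_conj h1 (hk' b) (hk' c)
  rcases h.cent g hgt with ⟨k, rfl⟩ | ⟨k, rfl⟩
  · exact key k hg.v
  · apply key k
    intro b
    rw [← hg.v b]
    have e := h.comm (k * vv b * k⁻¹)
    rw [map_mul, map_mul, map_inv] at e
    calc φ k * φ (vv b) * (φ k)⁻¹ = (t * t⁻¹) * (φ k * φ (vv b) * (φ k)⁻¹) := by group
      _ = t * (φ k * φ (vv b) * (φ k)⁻¹) * t⁻¹ := by rw [e]; group
      _ = t * φ k * φ (vv b) * (t * φ k)⁻¹ := by group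

/-- the word argument -/
theorem word (h : Hyp t φ) {w : G} {L K1 K2 : Matrix (Fin 4) (Fin 4) (ZMod 2)} {k1 k2 : S4}
    (hw : Aff t φ w L ![0, 1, 0, 0]) (hk1 : ∀ b, k1 * vv b = vv (K1 *ᵥ b) * k1)
    (hk2 : ∀ b, k2 * vv b = vv (K2 *ᵥ b) * k2)
    (h0 : ![0, 1, 0, 0] + L *ᵥ ((0 : Fin 4 → ZMod 2) + K1 *ᵥ (![0, 1, 0, 0] + L *ᵥ (0 + K2 *ᵥ ![0, 1, 0, 0]))) = 0)
    {b c : Fin 4 → ZMod 2} (h1 : CP (vv b) (vv c))
    (h2 : ¬ CP (vv ((L * (K1 * (L * (K2 * L)))) *ᵥ b)) (vv ((L * (K1 * (L * (K2 * L)))) *ᵥ c))) : False :=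
  (hw.mul ((Aff.of_K h hk1).mul (hw.mul ((Aff.of_K h hk2).mul hw)))).false h h0 h1 h2

end Cfsg.Agent.OddHalf.D5.EightAff
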