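import Mathlib
import Cfsg.Agent.OddHalf.D5.EightDefs

/-!
# ODD D5, `n = 8`: the swap interface (helper647)

`z0 = (01)(23)(45)(67)`; `Swp t A ι y` : the involution `y` maps `t` to `t z0` and centralises `ι(C_A(z0))`.
-/

set_option autoImplicit false

namespace Cfsg.Agent.OddHalf.D5.Eight

open Subgroup Equiv

/-- `(01)(23)(45)(67)` -/
def z0 : Perm (Fin 8) := ⟨![1, 0, 3, 2, 5, 4, 7, 6], ![1, 0, 3, 2, 5, 4, 7, 6], by decide, by decide⟩

theorem z0_mem : z0 ∈ A8 := by
  rw [Equiv.Perm.mem_alternatingGroup]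
  decide

theorem z0_sq : z0 * z0 = 1 := by
  decide

variable {G : Type*} [Group G]

/-- The swap. -/
structure Swp (t : G) (A : Subgroup (Perm (Fin 8))) (ι : A →* G) (y : G) : Prop where
  yy : y * y = 1
  yt : ∀ h : A, (h : Perm (Fin 8)) = z0 → y * t * y = t * ι h
  yc : ∀ h : A, (h : Perm (Fin 8)) * z0 = z0 * h → y * ι h = ι h * y

end Cfsg.Agent.OddHalf.D5.Eight
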