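import Mathlib
import Cfsg.Agent.OddHalf.D5.EightDefs2

/-!
# ODD D5, `n = 8`: facts on `C(z₀) ≤ S₈`, `z₀ = (01)(23)(45)(67)` (helper647)

An element of `C(z₀)` is determined by its values at `0, 2, 4, 6`; the facts are nested `decide`.
-/

set_option autoImplicit false

namespace Cfsg.Agent.OddHalf.D5.Eight

open Subgroup Equiv

/-- `z0` as a function -/
def zf : Fin 8 → Fin 8 := ![1, 0, 3, 2, 5, 4, 7, 6]

/-- the map with values `a, b, c, d` at `0, 2, 4, 6`, commuting with `zf` -/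
def mk (a b c d : Fin 8) : Fin 8 → Fin 8 := ![a, zf a, b, zf b, c, zf c, d, zf d]

/-- a property of all elements of `C(z0)`, as functions -/
def All (P : (Fin 8 → Fin 8) → Prop) : Prop :=
  ∀ a b : Fin 8, (b ≠ a ∧ b ≠ zf a) → ∀ c : Fin 8, (c ≠ a ∧ c ≠ zf a ∧ c ≠ b ∧ c ≠ zf b) →
    ∀ d : Fin 8, (d ≠ a ∧ d ≠ zf a ∧ d ≠ b ∧ d ≠ zf b ∧ d ≠ c ∧ d ≠ zf c) → P (mk a b c d)

instance (P : (Fin 8 → Fin 8) → Prop) [DecidablePred P] : Decidable (All P) := by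
  unfold All; infer_instance

/-- `(0 2 4)(1 3 5)` -/
def rho : Perm (Fin 8) := ⟨![2, 3, 4, 5, 0, 1, 6, 7], ![4, 5, 0, 1, 2, 3, 6, 7], by decide, by decide⟩
/-- `(6 7)` -/
def e6 : Perm (Fin 8) := ⟨![0, 1, 2, 3, 4, 5, 7, 6], ![0, 1, 2, 3, 4, 5, 7, 6], by decide, by decide⟩
/-- `(4 6)(5 7)` -/
def s1 : Perm (Fin 8) := ⟨![0, 1, 2, 3, 6, 7, 4, 5], ![0, 1, 2, 3, 6, 7, 4, 5], by decide, by decide⟩
/-- `(0 1)(2 3)` -/
def va : Perm (Fin 8) := ⟨![1, 0, 3, 2, 4, 5, 6, 7], ![1, 0, 3, 2, 4, 5, 6, 7], by decide, by decide⟩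
/-- `(0 2)(1 3)` -/
def vb : Perm (Fin 8) := ⟨![2, 3, 0, 1, 4, 5, 6, 7], ![2, 3, 0, 1, 4, 5, 6, 7], by decide, by decide⟩
/-- `(0 3)(1 2)` -/
def vc : Perm (Fin 8) := ⟨![3, 2, 1, 0, 4, 5, 6, 7], ![3, 2, 1, 0, 4, 5, 6, 7], by decide, by decide⟩
/-- `(4 5)(6 7)` -/
def va' : Perm (Fin 8) := ⟨![0, 1, 2, 3, 5, 4, 7, 6], ![0, 1, 2, 3, 5, 4, 7, 6], by decide, by decide⟩
/-- `(4 7)(5 6)` -/
def vc' : Perm (Fin 8) := ⟨![0, 1, 2, 3, 7, 6, 5, 4], ![0, 1, 2, 3, 7, 6, 5, 4], by decide, by decide⟩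
/-- `(0 4)(1 5)(2 6)(3 7)` -/
def sw : Perm (Fin 8) := ⟨![4, 5, 6, 7, 0, 1, 2, 3], ![4, 5, 6, 7, 0, 1, 2, 3], by decide, by decide⟩

/-- `rho` as a function -/
def rhof : Fin 8 → Fin 8 := ![2, 3, 4, 5, 0, 1, 6, 7]
/-- `e6` as a function -/
def e6f : Fin 8 → Fin 8 := ![0, 1, 2, 3, 4, 5, 7, 6]
/-- `s1` as a function -/
def s1f : Fin 8 → Fin 8 := ![0, 1, 2, 3, 6, 7, 4, 5]
/-- `vb` as a function -/
def vbf : Fin 8 → Fin 8 := ![2, 3, 0, 1, 4, 5, 6, 7]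
/-- `sw` as a function -/
def swf : Fin 8 → Fin 8 := ![4, 5, 6, 7, 0, 1, 2, 3]

theorem comm_apply {p : Perm (Fin 8)} (hp : p * z0 = z0 * p) (i : Fin 8) : p (zf i) = zf (p i) :=
  congrArg (fun q : Perm (Fin 8) => q i) hp

theorem eq_mk {p : Perm (Fin 8)} (hp : p * z0 = z0 * p) :
    (p : Fin 8 → Fin 8) = mk (p 0) (p 2) (p 4) (p 6) := by
  funext i
  fin_cases i
  · rfl
  · exact comm_apply hp 0
  · rfl
  · exact comm_apply hp 2
  · rfl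
  · exact comm_apply hp 4
  · rfl
  · exact comm_apply hp 6

/-- induction over `C(z0)` -/
theorem All.apply {P : (Fin 8 → Fin 8) → Prop} (h : All P) {p : Perm (Fin 8)} (hp : p * z0 = z0 * p) :
    P p := by
  rw [eq_mk hp]
  have h0 := fun i => comm_apply hp i
  refine h _ _ ⟨?_, ?_⟩ _ ⟨?_, ?_, ?_, ?_⟩ _ ⟨?_, ?_, ?_, ?_, ?_, ?_⟩ <;>
    first
    | exact fun e => absurd (p.injective e) (by decide)
    | (rw [← h0]; exact fun e => absurd (p.injective e) (by decide))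

theorem comm_iff (p q : Perm (Fin 8)) : p * q = q * p ↔ ∀ i, p (q i) = q (p i) := by
  constructor
  · exact fun h i => congrArg (fun q : Perm (Fin 8) => q i) h
  · exact fun h => Equiv.ext h

theorem commz_iff (p q : Perm (Fin 8)) : p * q = z0 * (q * p) ↔ ∀ i, p (q i) = zf (q (p i)) := by
  constructor
  · exact fun h i => congrArg (fun q : Perm (Fin 8) => q i) h
  · exact fun h => Equiv.ext h

theorem mk_inj : All (fun m => ∀ i j, m i = m j → i = j) := by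
  decide +kernel

/-- the element of `C(z0)` with given values -/
noncomputable def toP (a b c d : Fin 8) (h1 : b ≠ a ∧ b ≠ zf a) (h2 : c ≠ a ∧ c ≠ zf a ∧ c ≠ b ∧ c ≠ zf b)
    (h3 : d ≠ a ∧ d ≠ zf a ∧ d ≠ b ∧ d ≠ zf b ∧ d ≠ c ∧ d ≠ zf c) : Perm (Fin 8) :=
  Equiv.ofBijective (mk a b c d)
    (Finite.injective_iff_bijective.1 fun i j => mk_inj a b h1 c h2 d h3 i j)

theorem coe_toP (a b c d : Fin 8) (h1 : b ≠ a ∧ b ≠ zf a) (h2 : c ≠ a ∧ c ≠ zf a ∧ c ≠ b ∧ c ≠ zf b)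
    (h3 : d ≠ a ∧ d ≠ zf a ∧ d ≠ b ∧ d ≠ zf b ∧ d ≠ c ∧ d ≠ zf c) :
    (toP a b c d h1 h2 h3 : Fin 8 → Fin 8) = mk a b c d := rfl

theorem zf_zf : ∀ i, zf (zf i) = i := by decide

theorem mk_comm (a b c d : Fin 8) : ∀ i, mk a b c d (zf i) = zf (mk a b c d i) := by
  intro i
  fin_cases i
  · exact (rfl : zf a = zf a)
  · exact (zf_zf a).symm
  · exact (rfl : zf b = zf b)
  · exact (zf_zf b).symm
  · exact (rfl : zf c = zf c)
  · exact (zf_zf c).symm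
  · exact (rfl : zf d = zf d)
  · exact (zf_zf d).symm

theorem coe_z0 (i : Fin 8) : z0 i = zf i := rfl

theorem toP_comm (a b c d : Fin 8) (h1 : b ≠ a ∧ b ≠ zf a) (h2 : c ≠ a ∧ c ≠ zf a ∧ c ≠ b ∧ c ≠ zf b)
    (h3 : d ≠ a ∧ d ≠ zf a ∧ d ≠ b ∧ d ≠ zf b ∧ d ≠ c ∧ d ≠ zf c) :
    toP a b c d h1 h2 h3 * z0 = z0 * toP a b c d h1 h2 h3 := by
  rw [comm_iff]
  intro i
  rw [coe_z0, coe_z0, coe_toP]
  exact mk_comm a b c d i

/-! ## elements of order three -/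

theorem f1_aux : All (fun r => (∀ i, r (r (r i)) = i) → (∃ i, r i ≠ i) → ∃ i k, r k = k ∧
    (r i ≠ i ∧ r i ≠ zf i) ∧ (r (r i) ≠ i ∧ r (r i) ≠ zf i ∧ r (r i) ≠ r i ∧ r (r i) ≠ zf (r i)) ∧
    (k ≠ i ∧ k ≠ zf i ∧ k ≠ r i ∧ k ≠ zf (r i) ∧ k ≠ r (r i) ∧ k ≠ zf (r (r i)))) := by
  decide +kernel

/-- elements of order three of `C(z0)` are conjugate -/
theorem exists_conj_rho {r : Perm (Fin 8)} (hr : r * z0 = z0 * r) (h3 : r * r * r = 1) (h1 : r ≠ 1) :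
    ∃ c : Perm (Fin 8), c * z0 = z0 * c ∧ c * r * c⁻¹ = rho := by
  have h3' : ∀ i, r (r (r i)) = i := fun i => congrArg (fun q : Perm (Fin 8) => q i) h3
  obtain ⟨i, k, hk, ha, hb, hc⟩ := f1_aux.apply hr h3' (by
    by_contra hn
    push Not at hn
    exact h1 (Equiv.ext hn))
  refine ⟨(toP i (r i) (r (r i)) k ha hb hc)⁻¹, ?_, ?_⟩
  · have := toP_comm i (r i) (r (r i)) k ha hb hc
    rw [inv_mul_eq_iff_eq_mul, ← mul_assoc, this, mul_assoc, mul_inv_cancel, mul_one]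
  · rw [inv_inv, mul_assoc, inv_mul_eq_iff_eq_mul]
    apply Equiv.ext
    intro j
    change r (mk i (r i) (r (r i)) k j) = mk i (r i) (r (r i)) k (rhof j)
    have hz := fun j => comm_apply hr j
    fin_cases j
    · rfl
    · exact hz i
    · rfl
    · exact hz (r i)
    · exact h3' i
    · exact (hz (r (r i))).trans (congrArg zf (h3' i))
    · exact hk
    · exact (hz k).trans (congrArg zf hk)

/-! ## the three generators -/

theorem cent_rho_aux : All (fun p => (∀ i, p (p i) = i) → (∀ i, p (rhof i) = rhof (p i)) →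
    (∀ i, p i = i) ∨ (∀ i, p i = zf i) ∨ (∀ i, p i = e6f i) ∨ (∀ i, p i = e6f (zf i))) := by
  decide +kernel

theorem cent_rho {p : Perm (Fin 8)} (hp : p * z0 = z0 * p) (h2 : p * p = 1) (hr : p * rho = rho * p) :
    p = 1 ∨ p = z0 ∨ p = e6 ∨ p = e6 * z0 := by
  rcases cent_rho_aux.apply hp (fun i => congrArg (fun q : Perm (Fin 8) => q i) h2)
    ((comm_iff _ _).1 hr) with h | h | h | h
  · exact Or.inl (Equiv.ext h)
  · exact Or.inr (Or.inl (Equiv.ext h))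
  · exact Or.inr (Or.inr (Or.inl (Equiv.ext h)))
  · exact Or.inr (Or.inr (Or.inr (Equiv.ext h)))

theorem f2_aux : All (fun x => (∀ i, x (x i) = i) →
    (∀ i, rhof (x (rhof (x (rhof (x (rhof (x i))))))) = i) → (∃ i, e6f (x (e6f (x i))) ≠ i) →
    (∃ i, e6f (x (e6f (x i))) ≠ zf i) →
    ((∀ i, x i = s1f i) ∨ (∀ i, x i = s1f (zf i)) ∨
     (∀ i, x i = e6f (s1f (e6f i))) ∨ (∀ i, x i = e6f (s1f (e6f (zf i)))) ∨
     (∀ i, x (rhof i) = rhof (s1f i)) ∨ (∀ i, x (rhof i) = rhof (s1f (zf i))) ∨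
     (∀ i, x (rhof i) = rhof (e6f (s1f (e6f i)))) ∨ (∀ i, x (rhof i) = rhof (e6f (s1f (e6f (zf i))))) ∨
     (∀ i, rhof (x i) = s1f (rhof i)) ∨ (∀ i, rhof (x i) = s1f (zf (rhof i))) ∨
     (∀ i, rhof (x i) = e6f (s1f (e6f (rhof i)))) ∨ (∀ i, rhof (x i) = e6f (s1f (e6f (zf (rhof i))))))) := by
  decide +kernel

/-- `x ∈ C(z0)` satisfying some relations of `s1` is `s1` or `s1 z0`, up to conjugation in `C(rho, e6)` -/
theorem f2 {x : Perm (Fin 8)} (hx : x * z0 = z0 * x) (h2 : x * x = 1)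
    (h4 : rho * x * (rho * x) * (rho * x) * (rho * x) = 1) (he : e6 * x * (e6 * x) ≠ 1)
    (hz : e6 * x * (e6 * x) ≠ z0) :
    ∃ c : Perm (Fin 8), c * z0 = z0 * c ∧ c * rho = rho * c ∧ c * e6 = e6 * c ∧
      (c * x * c⁻¹ = s1 ∨ c * x * c⁻¹ = s1 * z0) := by
  have key := f2_aux.apply hx (fun i => congrArg (fun q : Perm (Fin 8) => q i) h2)
    (fun i => congrArg (fun q : Perm (Fin 8) => q i) h4)
    (by
      by_contra hn
      push Not at hn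
      exact he (Equiv.ext hn))
    (by
      by_contra hn
      push Not at hn
      exact hz (Equiv.ext hn))
  have c1 : e6 * z0 = z0 * e6 := by decide
  have c2 : e6 * rho = rho * e6 := by decide
  have c3 : rho * z0 = z0 * rho := by decide
  have e2 : e6 * e6 = 1 := by decide
  have zz : z0 * z0 = 1 := z0_sq
  have ei : e6⁻¹ = e6 := by decide
  rcases key with h | h | h | h | h | h | h | h | h | h | h | h
  · exact ⟨1, by simp, by simp, by simp, Or.inl (by rw [one_mul, inv_one, mul_one]; exact Equiv.ext h)⟩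
  · exact ⟨1, by simp, by simp, by simp, Or.inr (by rw [one_mul, inv_one, mul_one]; exact Equiv.ext h)⟩
  · refine ⟨e6, c1, c2, rfl, Or.inl ?_⟩
    have : x = e6 * (s1 * e6) := Equiv.ext h
    rw [this]; decide
  · refine ⟨e6, c1, c2, rfl, Or.inr ?_⟩
    have : x = e6 * (s1 * (e6 * z0)) := Equiv.ext h
    rw [this]; decide
  · refine ⟨rho⁻¹, by decide, by decide, by decide, Or.inl ?_⟩
    have : x * rho = rho * s1 := Equiv.ext h
    rw [inv_inv, mul_assoc, this, inv_mul_cancel_left]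
  · refine ⟨rho⁻¹, by decide, by decide, by decide, Or.inr ?_⟩
    have : x * rho = rho * (s1 * z0) := Equiv.ext h
    rw [inv_inv, mul_assoc, this, inv_mul_cancel_left]
  · refine ⟨e6 * rho⁻¹, by decide, by decide, by decide, Or.inl ?_⟩
    have : x * rho = rho * (e6 * (s1 * e6)) := Equiv.ext h
    have h' : e6 * rho⁻¹ * x * (e6 * rho⁻¹)⁻¹ = e6 * rho⁻¹ * (x * rho) * e6⁻¹ := by group
    rw [h', this]; decide
  · refine ⟨e6 * rho⁻¹, by decide, by decide, by decide, Or.inr ?_⟩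
    have : x * rho = rho * (e6 * (s1 * (e6 * z0))) := Equiv.ext h
    have h' : e6 * rho⁻¹ * x * (e6 * rho⁻¹)⁻¹ = e6 * rho⁻¹ * (x * rho) * e6⁻¹ := by group
    rw [h', this]; decide
  · refine ⟨rho, c3, rfl, c2.symm, Or.inl ?_⟩
    have : rho * x = s1 * rho := Equiv.ext h
    rw [this, mul_inv_cancel_right]
  · refine ⟨rho, c3, rfl, c2.symm, Or.inr ?_⟩
    have : rho * x = s1 * (z0 * rho) := Equiv.ext h
    rw [this, ← mul_assoc, mul_inv_cancel_right]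
  · refine ⟨e6 * rho, by decide, by decide, by decide, Or.inl ?_⟩
    have : rho * x = e6 * (s1 * (e6 * rho)) := Equiv.ext h
    have h' : e6 * rho * x * (e6 * rho)⁻¹ = e6 * (rho * x) * rho⁻¹ * e6⁻¹ := by group
    rw [h', this]; decide
  · refine ⟨e6 * rho, by decide, by decide, by decide, Or.inr ?_⟩
    have : rho * x = e6 * (s1 * (e6 * (z0 * rho))) := Equiv.ext h
    have h' : e6 * rho * x * (e6 * rho)⁻¹ = e6 * (rho * x) * rho⁻¹ * e6⁻¹ := by group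
    rw [h', this]; decide

theorem f3_aux : All (fun p => ((∀ i, p (s1f i) = s1f (p i)) ∨ (∀ i, p (s1f i) = zf (s1f (p i)))) →
    ((∀ i, p (rhof i) = rhof (p i)) ∨ (∀ i, p (rhof i) = zf (rhof (p i)))) →
    (∀ i, p i = i) ∨ (∀ i, p i = zf i)) := by
  decide +kernel

theorem f3 {p : Perm (Fin 8)} (hp : p * z0 = z0 * p) (h1 : p * s1 = s1 * p ∨ p * s1 = z0 * (s1 * p))
    (h2 : p * rho = rho * p ∨ p * rho = z0 * (rho * p)) : p = 1 ∨ p = z0 := by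
  rw [comm_iff, commz_iff] at h1 h2
  rcases f3_aux.apply hp h1 h2 with h | h
  · exact Or.inl (Equiv.ext h)
  · exact Or.inr (Equiv.ext h)

theorem f4_aux : All (fun p => ((∀ i, p (e6f i) = e6f (p i)) ∨ (∀ i, p (e6f i) = zf (e6f (p i)))) →
    ((∀ i, p (vbf i) = vbf (p i)) ∨ (∀ i, p (vbf i) = zf (vbf (p i)))) →
    ((∀ i, p (swf i) = swf (p i)) ∨ (∀ i, p (swf i) = zf (swf (p i)))) →
    (∀ i, p i = i) ∨ (∀ i, p i = zf i) ∨ (∀ i, p i = va i) ∨ (∀ i, p i = va' i)) := by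
  decide +kernel

/-- second centre of the Sylow 2-subgroup -/
theorem f4 {p : Perm (Fin 8)} (hp : p * z0 = z0 * p) (h1 : p * e6 = e6 * p ∨ p * e6 = z0 * (e6 * p))
    (h2 : p * vb = vb * p ∨ p * vb = z0 * (vb * p)) (h3 : p * sw = sw * p ∨ p * sw = z0 * (sw * p)) :
    p = 1 ∨ p = z0 ∨ p = va ∨ p = va' := by
  rw [comm_iff, commz_iff] at h1 h2 h3
  rcases f4_aux.apply hp h1 h2 h3 with h | h | h | h
  · exact Or.inl (Equiv.ext h)
  · exact Or.inr (Or.inl (Equiv.ext h))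
  · exact Or.inr (Or.inr (Or.inl (Equiv.ext h)))
  · exact Or.inr (Or.inr (Or.inr (Equiv.ext h)))

/-! ## generation of `C(z0)` -/

theorem gen_cz (S : Subgroup (Perm (Fin 8))) (hr : rho ∈ S) (he : e6 ∈ S) (hs : s1 ∈ S)
    {p : Perm (Fin 8)} (hp : p * z0 = z0 * p) : p ∈ S := by
  -- flips
  have h4 : s1 * e6 * s1 ∈ S := S.mul_mem (S.mul_mem hs he) hs
  have h0 : rho * (s1 * e6 * s1) * rho⁻¹ ∈ S := S.mul_mem (S.mul_mem hr h4) (S.inv_mem hr)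
  have h2 : rho * (rho * (s1 * e6 * s1) * rho⁻¹) * rho⁻¹ ∈ S := S.mul_mem (S.mul_mem hr h0) (S.inv_mem hr)
  have h26 : s1 * (rho⁻¹ * s1 * rho) * s1 ∈ S :=
    S.mul_mem (S.mul_mem hs (S.mul_mem (S.mul_mem (S.inv_mem hr) hs) hr)) hs
  have t0 : ∀ v : Fin 8, ∃ s ∈ S, s * z0 = z0 * s ∧ s v = 0 := by
    intro v
    fin_cases v
    · exact ⟨1, S.one_mem, by decide, by decide⟩
    · exact ⟨_, h0, by decide, by decide⟩
    · exact ⟨_, S.inv_mem hr, by decide, by decide⟩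
    · exact ⟨_, S.mul_mem h0 (S.inv_mem hr), by decide, by decide⟩
    · exact ⟨_, hr, by decide, by decide⟩
    · exact ⟨_, S.mul_mem h0 hr, by decide, by decide⟩
    · exact ⟨_, S.mul_mem hr hs, by decide, by decide⟩
    · exact ⟨_, S.mul_mem h0 (S.mul_mem hr hs), by decide, by decide⟩
  have t2 : ∀ v : Fin 8, v ≠ 0 → v ≠ 1 → ∃ s ∈ S, s * z0 = z0 * s ∧ s 0 = 0 ∧ s v = 2 := by
    intro v h0' h1'
    fin_cases v
    · exact absurd rfl h0'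
    · exact absurd rfl h1'
    · exact ⟨1, S.one_mem, by decide, by decide, by decide⟩
    · exact ⟨_, h2, by decide, by decide, by decide⟩
    · exact ⟨_, h26, by decide, by decide, by decide⟩
    · exact ⟨_, S.mul_mem h2 h26, by decide, by decide, by decide⟩
    · exact ⟨_, S.mul_mem h26 hs, by decide, by decide, by decide⟩
    · exact ⟨_, S.mul_mem (S.mul_mem h26 hs) he, by decide, by decide, by decide⟩
  have t4 : ∀ v : Fin 8, v ≠ 0 → v ≠ 1 → v ≠ 2 → v ≠ 3 →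
      ∃ s ∈ S, s * z0 = z0 * s ∧ s 0 = 0 ∧ s 2 = 2 ∧ s v = 4 := by
    intro v h0' h1' h2' h3'
    fin_cases v
    · exact absurd rfl h0'
    · exact absurd rfl h1'
    · exact absurd rfl h2'
    · exact absurd rfl h3'
    · exact ⟨1, S.one_mem, by decide, by decide, by decide, by decide⟩
    · exact ⟨_, h4, by decide, by decide, by decide, by decide⟩
    · exact ⟨_, hs, by decide, by decide, by decide, by decide⟩
    · exact ⟨_, S.mul_mem hs he, by decide, by decide, by decide, by decide⟩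
  have mulz : ∀ {a b : Perm (Fin 8)}, a * z0 = z0 * a → b * z0 = z0 * b → a * b * z0 = z0 * (a * b) := by
    intro a b ha hb
    rw [mul_assoc, hb, ← mul_assoc, ha, mul_assoc]
  have inj : ∀ (q : Perm (Fin 8)) {i j : Fin 8}, q i = j → ∀ k, k ≠ i → q k ≠ j := by
    intro q i j hij k hk e
    exact hk (q.injective (e.trans hij.symm))
  have z1 : ∀ {q : Perm (Fin 8)}, q * z0 = z0 * q → ∀ {i : Fin 8}, q i = i → q (zf i) = zf i := by
    intro q hq i hi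
    rw [comm_apply hq, hi]
  obtain ⟨s, hsS, hsz, hs0⟩ := t0 (p 0)
  have hq := mulz hsz hp
  set q := s * p with hqd
  have q0 : q 0 = 0 := hs0
  have q1 : q 1 = 1 := z1 hq q0
  obtain ⟨s', hsS', hsz', hs0', hs2'⟩ := t2 (q 2) (inj q q0 2 (by decide)) (inj q q1 2 (by decide))
  have hq' := mulz hsz' hq
  set q' := s' * q with hqd'
  have q0' : q' 0 = 0 := (congrArg s' q0).trans hs0'
  have q1' : q' 1 = 1 := z1 hq' q0'
  have q2' : q' 2 = 2 := hs2'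
  have q3' : q' 3 = 3 := z1 hq' q2'
  obtain ⟨s'', hsS'', hsz'', hs0'', hs2'', hs4''⟩ := t4 (q' 4) (inj q' q0' 4 (by decide))
    (inj q' q1' 4 (by decide)) (inj q' q2' 4 (by decide)) (inj q' q3' 4 (by decide))
  have hq'' := mulz hsz'' hq'
  set q'' := s'' * q' with hqd''
  have q0'' : q'' 0 = 0 := (congrArg s'' q0').trans hs0''
  have q2'' : q'' 2 = 2 := (congrArg s'' q2').trans hs2''
  have q4'' : q'' 4 = 4 := hs4''
  have q6'' : q'' 6 = 6 ∨ q'' 6 = 7 := by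
    have n0 := inj q'' q0'' 6 (by decide)
    have n1 := inj q'' (z1 hq'' q0'') 6 (by decide)
    have n2 := inj q'' q2'' 6 (by decide)
    have n3 := inj q'' (z1 hq'' q2'') 6 (by decide)
    have n4 := inj q'' q4'' 6 (by decide)
    have n5 := inj q'' (z1 hq'' q4'') 6 (by decide)
    have : ∀ v : Fin 8, v ≠ 0 → v ≠ zf 0 → v ≠ 2 → v ≠ zf 2 → v ≠ 4 → v ≠ zf 4 → v = 6 ∨ v = 7 := by
      decide
    exact this _ n0 n1 n2 n3 n4 n5
  have fin : q'' ∈ S := by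
    rcases q6'' with h6 | h6
    · have : q'' = 1 := by
        apply DFunLike.coe_injective
        rw [eq_mk hq'', q0'', q2'', q4'', h6]
        decide
      rw [this]; exact S.one_mem
    · have : q'' = e6 := by
        apply DFunLike.coe_injective
        rw [eq_mk hq'', q0'', q2'', q4'', h6]
        decide
      rw [this]; exact he
  have h5 : q' ∈ S := (S.mul_mem_cancel_left hsS'').1 fin
  have h6 : q ∈ S := (S.mul_mem_cancel_left hsS').1 h5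
  exact (S.mul_mem_cancel_left hsS).1 h6

/-! ## five-cycles -/

/-- `(0 1 2 3 4)` -/
def c5 : Perm (Fin 8) := ⟨![1, 2, 3, 4, 0, 5, 6, 7], ![4, 0, 1, 2, 3, 5, 6, 7], by decide, by decide⟩

/-- `c5` as a function -/
def c5f : Fin 8 → Fin 8 := ![1, 2, 3, 4, 0, 5, 6, 7]
/-- `c5⁻¹` as a function -/
def c5g : Fin 8 → Fin 8 := ![4, 0, 1, 2, 3, 5, 6, 7]

/-- `B` commuting with `B^{c5}` and `B^{c5²}` commutes with `c5` -/
def Five (B : Fin 8 → Fin 8) : Prop :=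
  (∀ i, B (c5f (B (c5g i))) = c5f (B (c5g (B i)))) →
  (∀ i, B (c5f (c5f (B (c5g (c5g i))))) = c5f (c5f (B (c5g (c5g (B i)))))) → ∀ i, c5f (B i) = B (c5f i)

instance (B : Fin 8 → Fin 8) : Decidable (Five B) := by
  unfold Five; infer_instance

set_option maxRecDepth 100000 in
set_option synthInstance.maxHeartbeats 0 in
set_option synthInstance.maxSize 100000 in
set_option maxHeartbeats 4000000 in
theorem five_aux :
    ∀ b0 : Fin 8, 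
    ∀ b1 : Fin 8, (b1 ≠ b0 ∧ (b0 = 1 ↔ b1 = 0)) →
    ∀ b2 : Fin 8, (b2 ≠ b0 ∧ (b0 = 2 ↔ b2 = 0) ∧ b2 ≠ b1 ∧ (b1 = 2 ↔ b2 = 1)) →
    ∀ b3 : Fin 8, (b3 ≠ b0 ∧ (b0 = 3 ↔ b3 = 0) ∧ b3 ≠ b1 ∧ (b1 = 3 ↔ b3 = 1) ∧ b3 ≠ b2 ∧ (b2 = 3 ↔ b3 = 2)) →
    ∀ b4 : Fin 8, (b4 ≠ b0 ∧ (b0 = 4 ↔ b4 = 0) ∧ b4 ≠ b1 ∧ (b1 = 4 ↔ b4 = 1) ∧ b4 ≠ b2 ∧ (b2 = 4 ↔ b4 = 2) ∧ b4 ≠ b3 ∧ (b3 = 4 ↔ b4 = 3)) →
    ∀ b5 : Fin 8, (b5 ≠ b0 ∧ (b0 = 5 ↔ b5 = 0) ∧ b5 ≠ b1 ∧ (b1 = 5 ↔ b5 = 1) ∧ b5 ≠ b2 ∧ (b2 = 5 ↔ b5 = 2) ∧ b5 ≠ b3 ∧ (b3 = 5 ↔ b5 = 3) ∧ b5 ≠ b4 ∧ (b4 = 5 ↔ b5 = 4)) →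
    ∀ b6 : Fin 8, (b6 ≠ b0 ∧ (b0 = 6 ↔ b6 = 0) ∧ b6 ≠ b1 ∧ (b1 = 6 ↔ b6 = 1) ∧ b6 ≠ b2 ∧ (b2 = 6 ↔ b6 = 2) ∧ b6 ≠ b3 ∧ (b3 = 6 ↔ b6 = 3) ∧ b6 ≠ b4 ∧ (b4 = 6 ↔ b6 = 4) ∧ b6 ≠ b5 ∧ (b5 = 6 ↔ b6 = 5)) →
    ∀ b7 : Fin 8, (b7 ≠ b0 ∧ (b0 = 7 ↔ b7 = 0) ∧ b7 ≠ b1 ∧ (b1 = 7 ↔ b7 = 1) ∧ b7 ≠ b2 ∧ (b2 = 7 ↔ b7 = 2) ∧ b7 ≠ b3 ∧ (b3 = 7 ↔ b7 = 3) ∧ b7 ≠ b4 ∧ (b4 = 7 ↔ b7 = 4) ∧ b7 ≠ b5 ∧ (b5 = 7 ↔ b7 = 5) ∧ b7 ≠ b6 ∧ (b6 = 7 ↔ b7 = 6)) →
    Five (![b0, b1, b2, b3, b4, b5, b6, b7]) := by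
  decide +kernel

end Cfsg.Agent.OddHalf.D5.Eight
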