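import Mathlib
import Cfsg.Agent.OddHalf.D5.EightPerm

/-!
# ODD D5, `n = 8`: the Sylow 2-subgroup `P₁` of `S₈`, five-cycles (helper647)
-/

set_option autoImplicit false

namespace Cfsg.Agent.OddHalf.D5.Eight

open Subgroup Equiv

/-- In a finite group, a subgroup conjugated into itself is conjugated onto itself. -/
theorem conj_onto {G : Type*} [Group G] [Finite G] (T : Subgroup G) {g : G}
    (h : ∀ x ∈ T, g⁻¹ * x * g ∈ T) : ∀ x ∈ T, g * x * g⁻¹ ∈ T := by
  intro x hx
  let f : T → T := fun y => ⟨g⁻¹ * y * g, h y y.2⟩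
  have hf : Function.Injective f := by
    intro a b e
    have : g⁻¹ * (a : G) * g = g⁻¹ * b * g := congrArg Subtype.val e
    exact Subtype.ext (mul_left_cancel (mul_right_cancel this))
  obtain ⟨y, hy⟩ := Finite.surjective_of_injective hf ⟨x, hx⟩
  have hy' : g⁻¹ * (y : G) * g = x := congrArg Subtype.val hy
  rw [← hy']
  have : g * (g⁻¹ * (y : G) * g) * g⁻¹ = y := by group
  rw [this]
  exact y.2

theorem va_mul : va * va' = z0 := by decide
theorem va_sq : va * va = 1 := by decide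
theorem va'_sq : va' * va' = 1 := by decide

/-- `P₁ ∈ Syl₂(S₈)` : the elements of `C(z0)` fixing `{va, va'}` -/
def P1 : Subgroup (Perm (Fin 8)) where
  carrier := {p | p * z0 = z0 * p ∧ (p * va = va * p ∨ p * va = va' * p)}
  one_mem' := ⟨by simp, Or.inl (by simp)⟩
  mul_mem' := by
    have h' : ∀ p : Perm (Fin 8), p * z0 = z0 * p → p * va = va' * p → p * va' = va * p := by
      intro p hp h
      have e : va' = z0 * va := by decide
      have e' : va = z0 * va' := by decide
      calc p * va' = p * (z0 * va) := by rw [← e]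
        _ = z0 * (p * va) := by rw [← mul_assoc, hp, mul_assoc]
        _ = z0 * va' * p := by rw [h, mul_assoc]
        _ = va * p := by rw [← e']
    rintro p q ⟨hp, hp'⟩ ⟨hq, hq'⟩
    refine ⟨by rw [mul_assoc, hq, ← mul_assoc, hp, mul_assoc], ?_⟩
    rcases hq' with hq' | hq' <;> rcases hp' with hp' | hp'
    · left; rw [mul_assoc, hq', ← mul_assoc, hp', mul_assoc]
    · right; rw [mul_assoc, hq', ← mul_assoc, hp', mul_assoc]
    · right
      have e : va' = z0 * va := by decide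
      have : p * va' = va' * p := by
        calc p * va' = p * (z0 * va) := by rw [← e]
          _ = z0 * (p * va) := by rw [← mul_assoc, hp, mul_assoc]
          _ = va' * p := by rw [hp', ← mul_assoc, ← e]
      rw [mul_assoc, hq', ← mul_assoc, this, mul_assoc]
    · left; rw [mul_assoc, hq', ← mul_assoc, h' p hp hp', mul_assoc]
  inv_mem' := by
    rintro p ⟨hp, hp'⟩
    refine ⟨by rw [inv_mul_eq_iff_eq_mul, ← mul_assoc, hp, mul_inv_cancel_right], ?_⟩
    rcases hp' with hp' | hp'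
    · left; rw [inv_mul_eq_iff_eq_mul, ← mul_assoc, hp', mul_inv_cancel_right]
    · right
      have e : va' = z0 * va := by decide
      have e' : va = z0 * va' := by decide
      have h1 : p * va' = va * p := by
        calc p * va' = p * (z0 * va) := by rw [← e]
          _ = z0 * (p * va) := by rw [← mul_assoc, hp, mul_assoc]
          _ = z0 * va' * p := by rw [hp', mul_assoc]
          _ = va * p := by rw [← e']
      rw [inv_mul_eq_iff_eq_mul, ← mul_assoc, h1, mul_inv_cancel_right]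

theorem mem_P1 {p : Perm (Fin 8)} : p ∈ P1 ↔ p * z0 = z0 * p ∧ (p * va = va * p ∨ p * va = va' * p) := Iff.rfl

theorem e6_mem : e6 ∈ P1 := ⟨by decide, by decide⟩
theorem vb_mem : vb ∈ P1 := ⟨by decide, by decide⟩
theorem sw_mem : sw ∈ P1 := ⟨by decide, by decide⟩
theorem z0_mem_P1 : z0 ∈ P1 := ⟨by decide, by decide⟩
theorem va_mem : va ∈ P1 := ⟨by decide, by decide⟩

/-- `u = (02)(13)(46)(57)` -/
def pu : Perm (Fin 8) := vb * s1
/-- `v = (01)(45)` -/
def pv : Perm (Fin 8) := sw * e6 * sw * (s1 * e6 * s1)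

theorem pu_mem : pu ∈ P1 := ⟨by decide, by decide⟩
theorem pv_mem : (vb * (sw * e6 * sw) * vb) * (s1 * e6 * s1) ∈ P1 := ⟨by decide, by decide⟩

/-- `z0` is a commutator in `P₁` -/
theorem z0_comm : ∃ u ∈ P1, ∃ v ∈ P1, z0 = u * v * u⁻¹ * v⁻¹ :=
  ⟨pu, pu_mem, (vb * (sw * e6 * sw) * vb) * (s1 * e6 * s1), pv_mem, by decide⟩

/-- second centre -/
theorem second_center {p : Perm (Fin 8)} (h : ∀ q ∈ P1, p * q = q * p ∨ p * q = z0 * (q * p)) :
    p = 1 ∨ p = z0 ∨ p = va ∨ p = va' := by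
  have hz : p * z0 = z0 * p := by
    rcases h z0 z0_mem_P1 with h | h
    · exact h
    · exfalso
      rw [← mul_assoc, z0_sq, one_mul] at h
      have : z0 = 1 := by
        have h' : p * z0 = p * 1 := by rw [h, mul_one]
        exact mul_left_cancel h'
      exact absurd this (by decide)
  exact f4 hz (h _ e6_mem) (h _ vb_mem) (h _ sw_mem)

theorem center_P1 {c : Perm (Fin 8)} (h : ∀ p ∈ P1, c * p = p * c) : c = 1 ∨ c = z0 := by
  rcases second_center (fun q hq => Or.inl (h q hq)) with h1 | h1 | h1 | h1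
  · exact Or.inl h1
  · exact Or.inr h1
  · have := h _ sw_mem
    rw [h1] at this
    exact absurd this (by decide)
  · have := h _ sw_mem
    rw [h1] at this
    exact absurd this (by decide)

/-- commutation of `va` with `P₁` modulo `z0` -/
theorem va_comm {p : Perm (Fin 8)} (hp : p ∈ P1) : va * p = p * va ∨ va * p = z0 * (p * va) := by
  rcases hp.2 with h | h
  · exact Or.inl h.symm
  · right
    rw [h, ← mul_assoc]
    have : va = z0 * va' := by decide
    rw [← this]

/-- `P₁` is self-normalising -/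
theorem norm_P1 {a : Perm (Fin 8)} (h : ∀ p ∈ P1, a⁻¹ * p * a ∈ P1) : a ∈ P1 := by
  have h' := conj_onto P1 h
  have hz : a⁻¹ * z0 * a = z0 := by
    have hc : a⁻¹ * z0 * a = 1 ∨ a⁻¹ * z0 * a = z0 := by
      apply center_P1
      intro p hp
      have h1 := (h' p hp).1
      calc a⁻¹ * z0 * a * p = a⁻¹ * (z0 * (a * p * a⁻¹)) * a := by group
        _ = a⁻¹ * (a * p * a⁻¹ * z0) * a := by rw [h1]
        _ = p * (a⁻¹ * z0 * a) := by group
    rcases hc with hc | hc
    · exfalso
      have : z0 = 1 := by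
        calc z0 = a * (a⁻¹ * z0 * a) * a⁻¹ := by group
          _ = 1 := by rw [hc]; group
      exact absurd this (by decide)
    · exact hc
  have hz' : a * z0 = z0 * a := by
    calc a * z0 = a * (a⁻¹ * z0 * a) := by rw [hz]
      _ = z0 * a := by group
  have hv : a⁻¹ * va * a = 1 ∨ a⁻¹ * va * a = z0 ∨ a⁻¹ * va * a = va ∨ a⁻¹ * va * a = va' := by
    apply second_center
    intro p hp
    rcases va_comm (h' p hp) with h1 | h1
    · left
      calc a⁻¹ * va * a * p = a⁻¹ * (va * (a * p * a⁻¹)) * a := by group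
        _ = a⁻¹ * (a * p * a⁻¹ * va) * a := by rw [h1]
        _ = p * (a⁻¹ * va * a) := by group
    · right
      calc a⁻¹ * va * a * p = a⁻¹ * (va * (a * p * a⁻¹)) * a := by group
        _ = a⁻¹ * (z0 * (a * p * a⁻¹ * va)) * a := by rw [h1]
        _ = (a⁻¹ * z0 * a) * (p * (a⁻¹ * va * a)) := by group
        _ = z0 * (p * (a⁻¹ * va * a)) := by rw [hz]
  have back : ∀ {x : Perm (Fin 8)}, a⁻¹ * va * a = x → va = a * x * a⁻¹ := by
    intro x hx
    rw [← hx]; group
  rcases hv with hv | hv | hv | hv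
  · exfalso
    have := back hv
    rw [mul_one, mul_inv_cancel] at this
    exact absurd this (by decide)
  · exfalso
    have := back hv
    rw [hz', mul_inv_cancel_right] at this
    exact absurd this (by decide)
  · refine ⟨hz', Or.inl ?_⟩
    have h1 : a * (a⁻¹ * va * a) = a * va := by rw [hv]
    rw [← h1]; group
  · refine ⟨hz', Or.inr ?_⟩
    have h1 : va * a = a * va' := by rw [← hv]; group
    have e : va = z0 * va' := by decide
    have e' : z0 * va = va' := by decide
    calc a * va = a * (z0 * va') := by rw [← e]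
      _ = z0 * (a * va') := by rw [← mul_assoc, hz', mul_assoc]
      _ = va' * a := by rw [← h1, ← mul_assoc, e']

theorem pow8_aux : All (fun p => ((∀ i, p (va i) = va (p i)) ∨ (∀ i, p (va i) = va' (p i))) →
    ∀ i, p (p (p (p (p (p (p (p i))))))) = i) := by
  decide +kernel

theorem pow8 {p : Perm (Fin 8)} (hp : p ∈ P1) : p ^ 8 = 1 := by
  apply Equiv.ext
  intro i
  refine pow8_aux.apply hp.1 ?_ i
  rcases hp.2 with h | h
  · exact Or.inl fun i => congrArg (fun q : Perm (Fin 8) => q i) h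
  · exact Or.inr fun i => congrArg (fun q : Perm (Fin 8) => q i) h

/-! ## five-cycles -/

theorem five_of_c5 {B : Perm (Fin 8)} (hB : B * B = 1) (h1 : B * (c5 * B * c5⁻¹) = c5 * B * c5⁻¹ * B)
    (h2 : B * (c5 * c5 * B * (c5 * c5)⁻¹) = c5 * c5 * B * (c5 * c5)⁻¹ * B) : c5 * B = B * c5 := by
  have hBB : ∀ i, B (B i) = i := fun i => congrArg (fun q : Perm (Fin 8) => q i) hB
  have ne : ∀ {i j : Fin 8}, i ≠ j → B i ≠ B j := fun h e => h (B.injective e)
  have sy : ∀ i j : Fin 8, (B i = j ↔ B j = i) := by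
    intro i j
    constructor
    · intro h; rw [← h, hBB]
    · intro h; rw [← h, hBB]
  have hB' : (B : Fin 8 → Fin 8) = ![B 0, B 1, B 2, B 3, B 4, B 5, B 6, B 7] := by
    funext i
    fin_cases i <;> rfl
  have h := five_aux (B 0) (B 1) ⟨ne (by decide), sy _ _⟩
    (B 2) ⟨ne (by decide), sy _ _, ne (by decide), sy _ _⟩
    (B 3) ⟨ne (by decide), sy _ _, ne (by decide), sy _ _, ne (by decide), sy _ _⟩
    (B 4) ⟨ne (by decide), sy _ _, ne (by decide), sy _ _, ne (by decide), sy _ _, ne (by decide), sy _ _⟩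
    (B 5) ⟨ne (by decide), sy _ _, ne (by decide), sy _ _, ne (by decide), sy _ _, ne (by decide), sy _ _,
      ne (by decide), sy _ _⟩
    (B 6) ⟨ne (by decide), sy _ _, ne (by decide), sy _ _, ne (by decide), sy _ _, ne (by decide), sy _ _,
      ne (by decide), sy _ _, ne (by decide), sy _ _⟩
    (B 7) ⟨ne (by decide), sy _ _, ne (by decide), sy _ _, ne (by decide), sy _ _, ne (by decide), sy _ _,
      ne (by decide), sy _ _, ne (by decide), sy _ _, ne (by decide), sy _ _⟩
  rw [← hB'] at h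
  apply Equiv.ext
  exact h (fun i => congrArg (fun q : Perm (Fin 8) => q i) h1)
    (fun i => congrArg (fun q : Perm (Fin 8) => q i) h2)

/-- an element of order five of `S₈` is conjugate to `c5` -/
theorem conj_c5 {F : Perm (Fin 8)} (h5 : F ^ 5 = 1) (h1 : F ≠ 1) : ∃ g : Perm (Fin 8), g * F * g⁻¹ = c5 := by
  have hp : Fact (Nat.Prime 5) := ⟨by norm_num⟩
  have ho : orderOf F = 5 := orderOf_eq_prime h5 h1
  obtain ⟨k, hk⟩ := Equiv.Perm.cycleType_prime_order (σ := F) (by rw [ho]; norm_num)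
  have hs := Equiv.Perm.sum_cycleType F
  rw [hk, ho, Multiset.sum_replicate, smul_eq_mul] at hs
  have hle : F.support.card ≤ 8 := by
    have := Finset.card_le_univ F.support
    simpa using this
  have hk0 : k = 0 := by omega
  have hF : F.cycleType = {5} := by
    rw [hk, ho, hk0]; rfl
  have hc : c5.cycleType = {5} := by
    have h5' : c5 ^ 5 = 1 := by decide
    have h1' : c5 ≠ 1 := by decide
    have ho' : orderOf c5 = 5 := orderOf_eq_prime h5' h1'
    obtain ⟨k', hk'⟩ := Equiv.Perm.cycleType_prime_order (σ := c5) (by rw [ho']; norm_num)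
    have hs' := Equiv.Perm.sum_cycleType c5
    rw [hk', ho', Multiset.sum_replicate, smul_eq_mul] at hs'
    have hle' : c5.support.card ≤ 8 := by
      have := Finset.card_le_univ c5.support
      simpa using this
    have hk0' : k' = 0 := by omega
    rw [hk', ho', hk0']; rfl
  obtain ⟨g, hg⟩ := isConj_iff.1 (Equiv.Perm.isConj_iff_cycleType_eq.2 (hF.trans hc.symm))
  exact ⟨g, hg⟩

/-- the five-cycle lemma -/
theorem five_lemma {F B : Perm (Fin 8)} (hB : B * B = 1) (h1 : B * (F * B * F⁻¹) = F * B * F⁻¹ * B)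
    (h2 : B * (F * F * B * (F * F)⁻¹) = F * F * B * (F * F)⁻¹ * B) (h5 : F ^ 5 * B = B * F ^ 5) :
    F * B = B * F := by
  -- the case `F ^ 5 = 1`
  have key : ∀ {F B : Perm (Fin 8)}, B * B = 1 → B * (F * B * F⁻¹) = F * B * F⁻¹ * B →
      B * (F * F * B * (F * F)⁻¹) = F * F * B * (F * F)⁻¹ * B → F ^ 5 = 1 → F * B = B * F := by
    intro F B hB h1 h2 h5
    by_cases hF : F = 1
    · rw [hF, one_mul, mul_one]
    obtain ⟨g, hg⟩ := conj_c5 h5 hF
    have e1 : ∀ x y : Perm (Fin 8), g * (x * y) * g⁻¹ = (g * x * g⁻¹) * (g * y * g⁻¹) := by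
      intro x y; group
    have e2 : ∀ x : Perm (Fin 8), g * x⁻¹ * g⁻¹ = (g * x * g⁻¹)⁻¹ := by
      intro x; group
    have c1 := congrArg (fun x => g * x * g⁻¹) hB
    have c2 := congrArg (fun x => g * x * g⁻¹) h1
    have c3 := congrArg (fun x => g * x * g⁻¹) h2
    simp only [e1, e2, hg] at c1 c2 c3
    rw [mul_one, mul_inv_cancel] at c1
    have c4 := five_of_c5 c1 c2 c3
    have c5' : g * (F * B) * g⁻¹ = g * (B * F) * g⁻¹ := by
      rw [e1, e1, hg]; exact c4
    exact mul_left_cancel (mul_right_cancel c5')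
  have hm : ∀ m : ℕ, (F ^ 5) ^ m * B = B * (F ^ 5) ^ m := by
    intro m
    exact ((show Commute (F ^ 5) B from h5).pow_left m).eq
  -- `F' = F ^ 32256 = F ^ (5 * 6451) * F`
  have e0 : F ^ 32256 = (F ^ 5) ^ 6451 * F := by rw [← pow_mul, ← pow_succ]
  have c0 : ∀ x : Perm (Fin 8), ((F ^ 5) ^ 6451 * F) * B * ((F ^ 5) ^ 6451 * F)⁻¹ = F * B * F⁻¹ := by
    intro _
    have hc := hm 6451
    have hF : (F ^ 5) ^ 6451 * F = F * (F ^ 5) ^ 6451 := by
      rw [← pow_mul, ← pow_succ, ← pow_succ']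
    calc ((F ^ 5) ^ 6451 * F) * B * ((F ^ 5) ^ 6451 * F)⁻¹
        = (F * (F ^ 5) ^ 6451) * B * (F * (F ^ 5) ^ 6451)⁻¹ := by rw [hF]
      _ = F * ((F ^ 5) ^ 6451 * B) * (F * (F ^ 5) ^ 6451)⁻¹ := by rw [mul_assoc F]
      _ = F * (B * (F ^ 5) ^ 6451) * (F * (F ^ 5) ^ 6451)⁻¹ := by rw [hc]
      _ = F * B * F⁻¹ := by
          rw [mul_inv_rev]
          calc F * (B * (F ^ 5) ^ 6451) * (((F ^ 5) ^ 6451)⁻¹ * F⁻¹)
              = F * B * ((F ^ 5) ^ 6451 * ((F ^ 5) ^ 6451)⁻¹) * F⁻¹ := by simp only [mul_assoc]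
            _ = F * B * F⁻¹ := by rw [mul_inv_cancel, mul_one]
  have e3 : F ^ 32256 * B * (F ^ 32256)⁻¹ = F * B * F⁻¹ := by rw [e0]; exact c0 1
  have e4 : F ^ 32256 * F ^ 32256 * B * (F ^ 32256 * F ^ 32256)⁻¹ = F * F * B * (F * F)⁻¹ := by
    calc F ^ 32256 * F ^ 32256 * B * (F ^ 32256 * F ^ 32256)⁻¹
        = F ^ 32256 * (F ^ 32256 * B * (F ^ 32256)⁻¹) * (F ^ 32256)⁻¹ := by group
      _ = F ^ 32256 * (F * B * F⁻¹) * (F ^ 32256)⁻¹ := by rw [e3]
      _ = F * (F ^ 32256 * B * (F ^ 32256)⁻¹) * F⁻¹ := by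
          have : F ^ 32256 * F = F * F ^ 32256 := by rw [← pow_succ, ← pow_succ']
          have h' : F⁻¹ * (F ^ 32256)⁻¹ = (F ^ 32256)⁻¹ * F⁻¹ := by
            rw [← mul_inv_rev, ← mul_inv_rev, this]
          calc F ^ 32256 * (F * B * F⁻¹) * (F ^ 32256)⁻¹ =
              (F ^ 32256 * F) * B * (F⁻¹ * (F ^ 32256)⁻¹) := by group
            _ = (F * F ^ 32256) * B * ((F ^ 32256)⁻¹ * F⁻¹) := by rw [this, h']
            _ = F * (F ^ 32256 * B * (F ^ 32256)⁻¹) * F⁻¹ := by group
      _ = F * (F * B * F⁻¹) * F⁻¹ := by rw [e3]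
      _ = F * F * B * (F * F)⁻¹ := by group
  have h40 : F ^ 40320 = 1 := by
    have : Nat.card (Perm (Fin 8)) = 40320 := by
      rw [Nat.card_eq_fintype_card, Fintype.card_perm, Fintype.card_fin]; rfl
    rw [← this]
    exact pow_card_eq_one'
  have h5' : (F ^ 32256) ^ 5 = 1 := by
    rw [← pow_mul, show 32256 * 5 = 40320 * 4 from rfl, pow_mul, h40, one_pow]
  have := key hB (F := F ^ 32256) (by rw [e3]; exact h1) (by rw [e4]; exact h2) h5'
  have e5 : F * B * F⁻¹ = B := by
    rw [← e3, this, mul_inv_cancel_right]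
  calc F * B = F * B * F⁻¹ * F := by group
    _ = B * F := by rw [e5]

end Cfsg.Agent.OddHalf.D5.Eight
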