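import Mathlib
import Cfsg.Agent.OddHalf.D5.EightP1

/-!
# ODD D5, `n = 8`: the swap in the case `C_G(t) = ⟨t⟩ × S₈` (helper647)
-/

set_option autoImplicit false

namespace Cfsg.Agent.OddHalf.D5.Eight

open Subgroup Equiv Cfsg.Agent.StdSpSix

variable {G : Type*} [Group G]

/-- `C_G(t) = ⟨t⟩ × j(S₈)` -/
structure SS (t : G) (j : Perm (Fin 8) →* G) : Prop where
  tt : t * t = 1
  inj : Function.Injective j
  comm : ∀ a, t * j a = j a * t
  cent : ∀ g, g * t = t * g → (∃ a, g = j a) ∨ ∃ a, g = t * j a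
  ne : ∀ a, j a ≠ t

/-- `g` has image `a` -/
def R (t : G) (j : Perm (Fin 8) →* G) (g : G) (a : Perm (Fin 8)) : Prop := g = j a ∨ g = t * j a

namespace SS

variable {t : G} {j : Perm (Fin 8) →* G}

theorem R_mul (h : SS t j) {g g' : G} {a a' : Perm (Fin 8)} (hg : R t j g a) (hg' : R t j g' a') :
    R t j (g * g') (a * a') := by
  rcases hg with rfl | rfl <;> rcases hg' with rfl | rfl
  · left; rw [map_mul]
  · right; rw [map_mul, ← mul_assoc, ← h.comm, mul_assoc]
  · right; rw [map_mul, mul_assoc]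
  · left
    rw [map_mul]
    calc t * j a * (t * j a') = t * (j a * t) * j a' := by group
      _ = t * (t * j a) * j a' := by rw [h.comm]
      _ = (t * t) * (j a * j a') := by group
      _ = j a * j a' := by rw [h.tt, one_mul]

theorem R_one : R t j 1 1 := Or.inl (map_one j).symm

theorem R_j (a : Perm (Fin 8)) : R t j (j a) a := Or.inl rfl

theorem t_ne (h : SS t j) (a b : Perm (Fin 8)) : j a ≠ t * j b := by
  intro e
  apply h.ne (a * b⁻¹)
  rw [map_mul, map_inv, e, mul_inv_cancel_right]

theorem R_uniq (h : SS t j) {g : G} {a a' : Perm (Fin 8)} (hg : R t j g a) (hg' : R t j g a') : a = a' := by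
  rcases hg with rfl | rfl <;> rcases hg' with hg' | hg'
  · exact h.inj hg'
  · exact absurd hg' (h.t_ne _ _)
  · exact absurd hg'.symm (h.t_ne _ _)
  · exact h.inj (mul_left_cancel hg')

theorem tinv (h : SS t j) : t⁻¹ = t := inv_eq_of_mul_eq_one_left h.tt

theorem R_inv (h : SS t j) {g : G} {a : Perm (Fin 8)} (hg : R t j g a) : R t j g⁻¹ a⁻¹ := by
  rcases hg with rfl | rfl
  · left; rw [map_inv]
  · right; rw [mul_inv_rev, h.tinv, map_inv, ← map_inv, h.comm]

theorem R_comm (h : SS t j) {g : G} {a : Perm (Fin 8)} (hg : R t j g a) : g * t = t * g := by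
  rcases hg with rfl | rfl
  · exact (h.comm a).symm
  · rw [mul_assoc, ← h.comm]

theorem exists_R (h : SS t j) {g : G} (hg : g * t = t * g) : ∃ a, R t j g a := by
  rcases h.cent g hg with ⟨a, ha⟩ | ⟨a, ha⟩
  · exact ⟨a, Or.inl ha⟩
  · exact ⟨a, Or.inr ha⟩

/-- an element commuting with `j b` has image commuting with `b` -/
theorem R_commute (h : SS t j) {g : G} {a b : Perm (Fin 8)} (hg : R t j g a) (hb : g * j b = j b * g) :
    a * b = b * a := by
  refine h.R_uniq (h.R_mul hg (R_j b)) ?_
  rw [hb]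
  exact h.R_mul (R_j b) hg

theorem jz (_h : SS t j) : j z0 * j z0 = 1 := by rw [← map_mul, z0_sq, map_one]

theorem jz_ne (h : SS t j) : j z0 ≠ 1 := by
  intro e
  have : z0 = 1 := h.inj (e.trans (map_one j).symm)
  exact absurd this (by decide)

theorem t_ne_tz (h : SS t j) : t ≠ t * j z0 := by
  intro e
  exact h.jz_ne (mul_eq_left.1 e.symm)

end SS

/-- `w` swaps `t` and `t z` and commutes with `z` -/
structure Sw (t : G) (j : Perm (Fin 8) →* G) (w : G) : Prop where
  wt : w * t = t * j z0 * w
  wz : w * j z0 = j z0 * w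

namespace Sw

variable {t : G} {j : Perm (Fin 8) →* G} {w : G}

theorem wtz (s : Sw t j w) (h : SS t j) : w * (t * j z0) = t * w := by
  rw [← mul_assoc, s.wt, mul_assoc, s.wz, ← mul_assoc, mul_assoc t, h.jz, mul_one]

/-- conjugation by `w` on `C(t) ∩ C(z)` -/
theorem conj (s : Sw t j w) (h : SS t j) {g : G} (hg : g * t = t * g) (hz : g * j z0 = j z0 * g) :
    (w * g * w⁻¹) * t = t * (w * g * w⁻¹) ∧ (w * g * w⁻¹) * j z0 = j z0 * (w * g * w⁻¹) := by
  have e1 : w⁻¹ * t = (t * j z0) * w⁻¹ := by
    rw [inv_mul_eq_iff_eq_mul, ← mul_assoc, s.wtz h, mul_inv_cancel_right]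
  have e2 : w⁻¹ * j z0 = j z0 * w⁻¹ := by
    rw [inv_mul_eq_iff_eq_mul, ← mul_assoc, s.wz, mul_inv_cancel_right]
  constructor
  · calc w * g * w⁻¹ * t = w * (g * (t * j z0)) * w⁻¹ := by
          rw [mul_assoc (w * g), e1]; simp only [mul_assoc]
      _ = w * (t * j z0 * g) * w⁻¹ := by
          have e : g * (t * j z0) = t * j z0 * g := by rw [← mul_assoc, hg, mul_assoc, hz, ← mul_assoc]
          rw [e]
      _ = w * (t * j z0) * g * w⁻¹ := by simp only [mul_assoc]
      _ = t * (w * g * w⁻¹) := by rw [s.wtz h]; simp only [mul_assoc]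
  · calc w * g * w⁻¹ * j z0 = w * (g * j z0) * w⁻¹ := by
          rw [mul_assoc (w * g), e2]; simp only [mul_assoc]
      _ = w * (j z0 * g) * w⁻¹ := by rw [hz]
      _ = (w * j z0) * g * w⁻¹ := by simp only [mul_assoc]
      _ = j z0 * (w * g * w⁻¹) := by rw [s.wz]; simp only [mul_assoc]

theorem exists_R (s : Sw t j w) (h : SS t j) {a : Perm (Fin 8)} (ha : a * z0 = z0 * a) :
    ∃ b, b * z0 = z0 * b ∧ R t j (w * j a * w⁻¹) b := by
  have h1 := s.conj h (h.comm a).symm (g := j a) (by rw [← map_mul, ha, map_mul])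
  obtain ⟨b, hb⟩ := h.exists_R h1.1
  exact ⟨b, h.R_commute hb h1.2, hb⟩

/-- `α` is injective modulo `z` -/
theorem inj_mod (s : Sw t j w) (h : SS t j) {a b : Perm (Fin 8)} (hR : R t j (w * j a * w⁻¹) b)
    (hb : b = 1 ∨ b = z0) : a = 1 ∨ a = z0 := by
  have key : ∀ x : G, w * j a * w⁻¹ = x → w * j a = x * w := by
    intro x hx
    rw [← hx]; group
  have hwt : ∀ x : G, w * j a = w * x → j a = x := fun x hx => mul_left_cancel hx
  rcases hb with rfl | rfl
  · rcases hR with e | e
    · left
      apply h.inj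
      rw [map_one] at e ⊢
      apply hwt
      rw [key _ e, one_mul, mul_one]
    · exfalso
      rw [map_one, mul_one] at e
      have : j a = t * j z0 := hwt _ (by rw [key _ e, s.wtz h])
      exact h.t_ne _ _ this
  · rcases hR with e | e
    · right
      exact h.inj (hwt _ (by rw [key _ e, s.wz]))
    · exfalso
      have : j a = t := hwt _ (by rw [key _ e, ← s.wt])
      exact h.ne _ this

/-- multiply by an element of `j(C(z0))` -/
theorem mul (s : Sw t j w) (h : SS t j) {c : Perm (Fin 8)} (hc : c * z0 = z0 * c) : Sw t j (j c * w) where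
  wt := by
    calc j c * w * t = j c * (w * t) := by group
      _ = j c * t * j z0 * w := by rw [s.wt]; group
      _ = t * (j c * j z0) * w := by rw [← h.comm]; group
      _ = t * (j z0 * j c) * w := by rw [← map_mul, hc, map_mul]
      _ = t * j z0 * (j c * w) := by group
  wz := by
    rw [mul_assoc, s.wz, ← mul_assoc, ← map_mul, hc, map_mul, mul_assoc]

theorem mul_conj (h : SS t j) {c a b : Perm (Fin 8)} (hR : R t j (w * j a * w⁻¹) b) :
    R t j (j c * w * j a * (j c * w)⁻¹) (c * b * c⁻¹) := by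
  have : j c * w * j a * (j c * w)⁻¹ = j c * (w * j a * w⁻¹) * j c⁻¹ := by
    rw [map_inv]; group
  rw [this]
  exact h.R_mul (h.R_mul (SS.R_j c) hR) (SS.R_j c⁻¹)

/-- first adjustment: `w` commutes with `rho` -/
theorem adj_rho (s : Sw t j w) (h : SS t j) : ∃ w', Sw t j w' ∧ w' * j rho = j rho * w' := by
  have hrz : rho * z0 = z0 * rho := by decide
  obtain ⟨r, hrc, hr⟩ := s.exists_R h hrz
  have h3 : r * r * r = 1 := by
    refine h.R_uniq (h.R_mul (h.R_mul hr hr) hr) ?_
    have : w * j rho * w⁻¹ * (w * j rho * w⁻¹) * (w * j rho * w⁻¹) = 1 := by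
      have e : rho * rho * rho = 1 := by decide
      calc w * j rho * w⁻¹ * (w * j rho * w⁻¹) * (w * j rho * w⁻¹)
          = w * (j rho * j rho * j rho) * w⁻¹ := by group
        _ = 1 := by rw [← map_mul, ← map_mul, e, map_one]; group
    rw [this]
    exact SS.R_one
  have h1 : r ≠ 1 := by
    intro e
    rcases s.inj_mod h hr (Or.inl e) with e' | e'
    · exact absurd e' (by decide)
    · exact absurd e' (by decide)
  obtain ⟨c, hc, hcr⟩ := exists_conj_rho hrc h3 h1
  refine ⟨j c * w, s.mul h hc, ?_⟩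
  have hR := mul_conj h (c := c) hr
  rw [hcr] at hR
  have key : j c * w * j rho * (j c * w)⁻¹ = j rho := by
    rcases hR with e | e
    · exact e
    · exfalso
      have h6 : (j c * w * j rho * (j c * w)⁻¹) * (j c * w * j rho * (j c * w)⁻¹) *
          (j c * w * j rho * (j c * w)⁻¹) = 1 := by
        have e : rho * rho * rho = 1 := by decide
        calc (j c * w * j rho * (j c * w)⁻¹) * (j c * w * j rho * (j c * w)⁻¹) *
          (j c * w * j rho * (j c * w)⁻¹) = (j c * w) * (j rho * j rho * j rho) * (j c * w)⁻¹ := by group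
          _ = 1 := by rw [← map_mul, ← map_mul, e, map_one]; group
      rw [e] at h6
      have e7 : t * j rho * (t * j rho) * (t * j rho) = t := by
        have e : rho * rho * rho = 1 := by decide
        calc t * j rho * (t * j rho) * (t * j rho) = t * (j rho * t) * (j rho * t) * j rho := by group
          _ = t * (t * j rho) * (t * j rho) * j rho := by rw [← h.comm]
          _ = (t * t) * (j rho * t) * (j rho * j rho) := by group
          _ = t * (j rho * j rho * j rho) := by rw [h.tt, ← h.comm]; group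
          _ = t := by rw [← map_mul, ← map_mul, e, map_one, mul_one]
      rw [e7] at h6
      exact h.ne 1 ((map_one j).trans h6.symm)
  calc j c * w * j rho = j c * w * j rho * (j c * w)⁻¹ * (j c * w) := by group
    _ = j rho * (j c * w) := by rw [key]

/-- second adjustment: `w` acts on `rho, e6, s1` as expected, modulo `t` -/
theorem adj (s : Sw t j w) (h : SS t j) (hr : w * j rho = j rho * w) :
    ∃ w', Sw t j w' ∧ w' * j rho = j rho * w' ∧
      (R t j (w' * j e6 * w'⁻¹) e6 ∨ R t j (w' * j e6 * w'⁻¹) (e6 * z0)) ∧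
      (R t j (w' * j s1 * w'⁻¹) s1 ∨ R t j (w' * j s1 * w'⁻¹) (s1 * z0)) := by
  have hez : e6 * z0 = z0 * e6 := by decide
  have hsz : s1 * z0 = z0 * s1 := by decide
  obtain ⟨E, hEc, hE⟩ := s.exists_R h hez
  obtain ⟨x, hxc, hx⟩ := s.exists_R h hsz
  have hRho : R t j (w * j rho * w⁻¹) rho := by
    left; rw [hr, mul_inv_cancel_right]
  -- `E`
  have hE2 : E * E = 1 := by
    refine h.R_uniq (h.R_mul hE hE) ?_
    have : w * j e6 * w⁻¹ * (w * j e6 * w⁻¹) = 1 := by
      have e : e6 * e6 = 1 := by decide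
      calc w * j e6 * w⁻¹ * (w * j e6 * w⁻¹) = w * (j e6 * j e6) * w⁻¹ := by group
        _ = 1 := by rw [← map_mul, e, map_one]; group
    rw [this]; exact SS.R_one
  have hEr : E * rho = rho * E := by
    apply h.R_commute hE
    have e : e6 * rho = rho * e6 := by decide
    have hr' : w⁻¹ * j rho = j rho * w⁻¹ := by
      rw [inv_mul_eq_iff_eq_mul, ← mul_assoc, hr, mul_inv_cancel_right]
    calc w * j e6 * w⁻¹ * j rho = w * j e6 * (w⁻¹ * j rho) := by group
      _ = w * (j e6 * j rho) * w⁻¹ := by rw [hr']; group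
      _ = (w * j rho) * j e6 * w⁻¹ := by rw [← map_mul, e, map_mul]; group
      _ = j rho * (w * j e6 * w⁻¹) := by rw [hr]; group
  have hEE : E = e6 ∨ E = e6 * z0 := by
    have hn : ¬ (E = 1 ∨ E = z0) := by
      intro hc
      rcases s.inj_mod h hE hc with e | e
      · exact absurd e (by decide)
      · exact absurd e (by decide)
    rcases cent_rho hEc hE2 hEr with e | e | e | e
    · exact absurd (Or.inl e) hn
    · exact absurd (Or.inr e) hn
    · exact Or.inl e
    · exact Or.inr e
  -- `x`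
  have hx2 : x * x = 1 := by
    refine h.R_uniq (h.R_mul hx hx) ?_
    have : w * j s1 * w⁻¹ * (w * j s1 * w⁻¹) = 1 := by
      have e : s1 * s1 = 1 := by decide
      calc w * j s1 * w⁻¹ * (w * j s1 * w⁻¹) = w * (j s1 * j s1) * w⁻¹ := by group
        _ = 1 := by rw [← map_mul, e, map_one]; group
    rw [this]; exact SS.R_one
  have hx4 : rho * x * (rho * x) * (rho * x) * (rho * x) = 1 := by
    have h1 := h.R_mul hRho hx
    refine h.R_uniq (h.R_mul (h.R_mul (h.R_mul h1 h1) h1) h1) ?_
    have e : rho * s1 * (rho * s1) * (rho * s1) * (rho * s1) = 1 := by decide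
    have : w * j rho * w⁻¹ * (w * j s1 * w⁻¹) * (w * j rho * w⁻¹ * (w * j s1 * w⁻¹)) *
        (w * j rho * w⁻¹ * (w * j s1 * w⁻¹)) * (w * j rho * w⁻¹ * (w * j s1 * w⁻¹)) = 1 := by
      calc _ = w * (j rho * j s1 * (j rho * j s1) * (j rho * j s1) * (j rho * j s1)) * w⁻¹ := by group
        _ = 1 := by
          simp only [← map_mul]
          rw [e, map_one]; group
    rw [this]; exact SS.R_one
  have hex : ¬ (e6 * x * (e6 * x) = 1 ∨ e6 * x * (e6 * x) = z0) := by
    intro hc
    have hEx : E * x * (E * x) = e6 * x * (e6 * x) := by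
      rcases hEE with e | e
      · rw [e]
      · rw [e]
        calc e6 * z0 * x * (e6 * z0 * x) = e6 * (z0 * x) * (e6 * z0) * x := by group
          _ = e6 * x * (z0 * (e6 * z0)) * x := by rw [← hxc]; group
          _ = e6 * x * (z0 * (z0 * e6)) * x := by rw [hez]
          _ = e6 * x * (z0 * z0) * e6 * x := by group
          _ = e6 * x * (e6 * x) := by rw [z0_sq]; group
    rw [← hEx] at hc
    have h1 := h.R_mul hE hx
    have h2 := h.R_mul h1 h1
    have e3 : w * j e6 * w⁻¹ * (w * j s1 * w⁻¹) * (w * j e6 * w⁻¹ * (w * j s1 * w⁻¹)) =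
        w * j (e6 * s1 * (e6 * s1)) * w⁻¹ := by
      simp only [map_mul]; group
    rw [e3] at h2
    rcases s.inj_mod h h2 hc with e | e
    · exact absurd e (by decide)
    · exact absurd e (by decide)
  obtain ⟨c, hc, hcr, hce, hcx⟩ := f2 hxc hx2 hx4 (fun e => hex (Or.inl e)) (fun e => hex (Or.inr e))
  refine ⟨j c * w, s.mul h hc, ?_, ?_, ?_⟩
  · rw [mul_assoc, hr, ← mul_assoc, ← map_mul, hcr, map_mul, mul_assoc]
  · have h1 := mul_conj h (c := c) hE
    rcases hEE with e | e
    · left
      rw [e, hce, mul_inv_cancel_right] at h1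
      exact h1
    · right
      have e1 : c * (e6 * z0) * c⁻¹ = e6 * z0 := by
        rw [← mul_assoc, hce, mul_assoc e6, hc, ← mul_assoc, mul_inv_cancel_right]
      rw [e, e1] at h1
      exact h1
  · have h1 := mul_conj h (c := c) hx
    rcases hcx with e | e
    · left; rw [e] at h1; exact h1
    · right; rw [e] at h1; exact h1

end Sw

/-- the pre-swap: an involution `y` with prescribed action, `β ∈ {1, z0}` -/
structure Pre (t : G) (j : Perm (Fin 8) →* G) (y : G) (be bs : Perm (Fin 8)) : Prop where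
  yy : y * y = 1
  yt : y * t * y = t * j z0
  yr : y * j rho * y = j rho
  ye : y * j e6 * y = j (e6 * be)
  ys : y * j s1 * y = j (s1 * bs)

namespace Sw

variable {t : G} {j : Perm (Fin 8) →* G} {w : G}

/-- third step: the involution -/
theorem invol (s : Sw t j w) (h : SS t j) (hr : w * j rho = j rho * w)
    (he : R t j (w * j e6 * w⁻¹) e6 ∨ R t j (w * j e6 * w⁻¹) (e6 * z0))
    (hs : R t j (w * j s1 * w⁻¹) s1 ∨ R t j (w * j s1 * w⁻¹) (s1 * z0)) :
    ∃ y be bs, (be = 1 ∨ be = z0) ∧ (bs = 1 ∨ bs = z0) ∧ Pre t j y be bs := by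
  -- `w²` has image in `{1, z0}`
  have hwwt : (w * w) * t = t * (w * w) := by
    calc (w * w) * t = w * (w * t) := by group
      _ = (w * (t * j z0)) * w := by rw [s.wt]; group
      _ = t * (w * w) := by rw [s.wtz h]; group
  have hwwz : (w * w) * j z0 = j z0 * (w * w) := by
    rw [mul_assoc, s.wz, ← mul_assoc, s.wz, mul_assoc]
  obtain ⟨a, ha⟩ := h.exists_R hwwt
  have haz : a * z0 = z0 * a := h.R_commute ha hwwz
  have har : a * rho = rho * a := h.R_commute ha (by rw [mul_assoc, hr, ← mul_assoc, hr, mul_assoc])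
  have hszc : s1 * z0 = z0 * s1 := by decide
  -- images of conjugates
  have conjz : w * j z0 * w⁻¹ = j z0 := by rw [s.wz, mul_inv_cancel_right]
  have conjt : w * t * w⁻¹ = t * j z0 := by rw [s.wt, mul_inv_cancel_right]
  have conjR : ∀ {g : G} {b c : Perm (Fin 8)}, R t j g b → R t j (w * j b * w⁻¹) c →
      R t j (w * g * w⁻¹) c ∨ R t j (w * g * w⁻¹) (z0 * c) := by
    intro g b c hg hc
    rcases hg with rfl | rfl
    · exact Or.inl hc
    · right
      have : w * (t * j b) * w⁻¹ = (w * t * w⁻¹) * (w * j b * w⁻¹) := by group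
      rw [this, conjt]
      have h1 : R t j (t * j z0) z0 := Or.inr rfl
      exact h.R_mul h1 hc
  have mulzR : ∀ {b c : Perm (Fin 8)}, R t j (w * j b * w⁻¹) c →
      R t j (w * j (b * z0) * w⁻¹) (c * z0) := by
    intro b c hc
    have : w * j (b * z0) * w⁻¹ = (w * j b * w⁻¹) * (w * j z0 * w⁻¹) := by rw [map_mul]; group
    rw [this, conjz]
    exact h.R_mul hc (SS.R_j z0)
  have hss : R t j (w * (w * j s1 * w⁻¹) * w⁻¹) s1 ∨ R t j (w * (w * j s1 * w⁻¹) * w⁻¹) (z0 * s1) := by
    rcases hs with hs | hs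
    · exact conjR hs hs
    · have h1 := mulzR hs
      rw [mul_assoc s1, z0_sq, mul_one] at h1
      exact conjR hs h1
  have has : a * s1 = s1 * a ∨ a * s1 = z0 * (s1 * a) := by
    have e : w * (w * j s1 * w⁻¹) * w⁻¹ = (w * w) * j s1 * (w * w)⁻¹ := by group
    have h1 : R t j ((w * w) * j s1 * (w * w)⁻¹) (a * s1 * a⁻¹) :=
      h.R_mul (h.R_mul ha (SS.R_j s1)) (h.R_inv ha)
    rw [e] at hss
    rcases hss with hss | hss
    · left
      have := h.R_uniq h1 hss
      calc a * s1 = a * s1 * a⁻¹ * a := by group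
        _ = s1 * a := by rw [this]
    · right
      have := h.R_uniq h1 hss
      calc a * s1 = a * s1 * a⁻¹ * a := by group
        _ = z0 * (s1 * a) := by rw [this, mul_assoc]
  have ha1 : a = 1 ∨ a = z0 := f3 haz has (Or.inl har)
  -- `w²` commutes with `w`, so it is not in `t⟨z⟩`
  have hww : w * w = 1 ∨ w * w = j z0 := by
    have hc : w * (w * w) * w⁻¹ = w * w := by group
    rcases ha with ha | ha
    · rcases ha1 with e | e
      · left; rw [ha, e, map_one]
      · right; rw [ha, e]
    · exfalso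
      rcases ha1 with e | e
      · rw [ha, e, map_one, mul_one, conjt] at hc
        exact h.t_ne_tz hc.symm
      · rw [ha, e] at hc
        have : w * (t * j z0) * w⁻¹ = t := by rw [s.wtz h, mul_inv_cancel_right]
        rw [this] at hc
        exact h.t_ne_tz hc
  -- the involution
  have hy : ∃ y, y * y = 1 ∧ y * t * y = t * j z0 ∧ y * j rho * y = j rho ∧
      (R t j (y * j e6 * y) e6 ∨ R t j (y * j e6 * y) (e6 * z0)) ∧
      (R t j (y * j s1 * y) s1 ∨ R t j (y * j s1 * y) (s1 * z0)) := by
    rcases hww with hw | hw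
    · have hi : w⁻¹ = w := inv_eq_of_mul_eq_one_left hw
      rw [hi] at he hs conjt
      refine ⟨w, hw, conjt, ?_, he, hs⟩
      rw [hr, mul_assoc, hw, mul_one]
    · have hyy : (t * w) * (t * w) = 1 := by
        calc (t * w) * (t * w) = t * (w * t) * w := by group
          _ = t * t * j z0 * (w * w) := by rw [s.wt]; group
          _ = 1 := by rw [h.tt, one_mul, hw, h.jz]
      have hi : (t * w)⁻¹ = t * w := inv_eq_of_mul_eq_one_left hyy
      have hcj : ∀ {g : G} {b : Perm (Fin 8)}, R t j (w * g * w⁻¹) b → R t j (t * w * g * (t * w)) b := by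
        intro g b hb
        have e : t * w * g * (t * w) = t * (w * g * w⁻¹) * t := by
          calc t * w * g * (t * w) = t * w * g * (t * w)⁻¹ := by rw [hi]
            _ = t * (w * g * w⁻¹) * t⁻¹ := by group
            _ = t * (w * g * w⁻¹) * t := by rw [h.tinv]
        rw [e, mul_assoc, h.R_comm hb, ← mul_assoc, h.tt, one_mul]
        exact hb
      refine ⟨t * w, hyy, ?_, ?_, ?_, ?_⟩
      · calc t * w * t * (t * w) = t * w * (t * t) * w := by group
          _ = t * (w * w) := by rw [h.tt]; group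
          _ = t * j z0 := by rw [hw]
      · calc t * w * j rho * (t * w) = t * (w * j rho) * t * w := by group
          _ = (t * j rho) * (w * t) * w := by rw [hr]; group
          _ = (j rho * t) * (t * j z0 * w) * w := by rw [s.wt, h.comm]
          _ = j rho * (t * t) * j z0 * (w * w) := by group
          _ = j rho * (j z0 * j z0) := by rw [h.tt, hw]; group
          _ = j rho := by rw [h.jz, mul_one]
      · exact he.imp hcj hcj
      · exact hs.imp hcj hcj
  obtain ⟨y, hyy, hyt, hyr, hye, hys⟩ := hy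
  have hyz : y * j z0 * y = j z0 := by
    have h1 : y * (t * j z0) * y = t := by
      rw [← hyt]
      calc y * (y * t * y) * y = (y * y) * t * (y * y) := by group
        _ = t := by rw [hyy]; group
    have h2 : y * (t * j z0) * y = (y * t * y) * (y * j z0 * y) := by
      calc y * (t * j z0) * y = y * t * 1 * j z0 * y := by group
        _ = y * t * (y * y) * j z0 * y := by rw [hyy]
        _ = (y * t * y) * (y * j z0 * y) := by group
    rw [h2, hyt, mul_assoc] at h1
    have h3 : j z0 * (y * j z0 * y) = 1 := mul_eq_left.1 h1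
    have h4 : y * j z0 * y = (j z0)⁻¹ := eq_inv_of_mul_eq_one_right h3
    rw [h4]
    exact inv_eq_of_mul_eq_one_left h.jz
  -- no factor `t`
  have strict : ∀ {b c : Perm (Fin 8)}, (c = 1 ∨ c = z0) → R t j (y * j b * y) (b * c) →
      y * j b * y = j (b * c) := by
    intro b c hc hR
    rcases hR with e | e
    · exact e
    · exfalso
      have hcc : c * c = 1 := by
        rcases hc with rfl | rfl
        · rw [one_mul]
        · exact z0_sq
      have hyc : y * j c * y = j c := by
        rcases hc with rfl | rfl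
        · rw [map_one, mul_one, hyy]
        · exact hyz
      have h1 : y * (t * j (b * c)) * y = j b := by
        rw [← e]
        calc y * (y * j b * y) * y = (y * y) * j b * (y * y) := by group
          _ = j b := by rw [hyy]; group
      have h2 : y * (t * j (b * c)) * y = (y * t * y) * (y * j b * y) * (y * j c * y) := by
        rw [map_mul]
        calc y * (t * (j b * j c)) * y = y * t * 1 * j b * 1 * j c * y := by group
          _ = y * t * (y * y) * j b * (y * y) * j c * y := by rw [hyy]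
          _ = (y * t * y) * (y * j b * y) * (y * j c * y) := by group
      rw [h2, hyt, e, hyc] at h1
      have h3 : t * j z0 * (t * j (b * c)) * j c = j z0 * j b := by
        calc t * j z0 * (t * j (b * c)) * j c = t * (j z0 * t) * (j (b * c) * j c) := by group
          _ = t * (t * j z0) * (j (b * c) * j c) := by rw [h.comm]
          _ = (t * t) * j z0 * (j (b * c) * j c) := by group
          _ = j z0 * j b := by
            rw [h.tt, one_mul, ← map_mul j (b * c) c, mul_assoc b, hcc, mul_one]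
      rw [h3] at h1
      exact h.jz_ne (mul_eq_right.1 h1)
  have fin : ∀ {b : Perm (Fin 8)}, (R t j (y * j b * y) b ∨ R t j (y * j b * y) (b * z0)) →
      ∃ c, (c = 1 ∨ c = z0) ∧ y * j b * y = j (b * c) := by
    intro b hb
    rcases hb with hb | hb
    · exact ⟨1, Or.inl rfl, strict (Or.inl rfl) (by rw [mul_one]; exact hb)⟩
    · exact ⟨z0, Or.inr rfl, strict (Or.inr rfl) hb⟩
  obtain ⟨be, hbe, hbe'⟩ := fin hye
  obtain ⟨bs, hbs, hbs'⟩ := fin hys
  exact ⟨y, be, bs, hbe, hbs, ⟨hyy, hyt, hyr, hbe', hbs'⟩⟩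

/-- the three steps -/
theorem pre (s : Sw t j w) (h : SS t j) :
    ∃ y be bs, (be = 1 ∨ be = z0) ∧ (bs = 1 ∨ bs = z0) ∧ Pre t j y be bs := by
  obtain ⟨w1, s1', hr1⟩ := s.adj_rho h
  obtain ⟨w2, s2, hr2, he2, hs2⟩ := s1'.adj h hr1
  exact s2.invol h hr2 he2 hs2

end Sw

end Cfsg.Agent.OddHalf.D5.Eight
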