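import Mathlib
import Cfsg.Agent.OddHalf.D5.EightSwap

/-!
# ODD D5, `n = 8`: the element `w` (helper647)

`T = ⟨t⟩ × j(P₁)`. Either `T` fixes exactly one bad coset of `T` (so there is `m : G →* ℤˣ` with `m t = -1`) or some
`w ∈ N_G(T)` swaps `t` and `t z`.
-/

set_option autoImplicit false

namespace Cfsg.Agent.OddHalf.D5.Eight

open Subgroup Equiv Cfsg.Agent.StdSpSix

variable {G : Type*} [Group G]

/-! ## `H = N ∪ tN` and its sign -/

/-- `N ∪ tN` -/
def dbl (N : Subgroup G) (t : G) (htt : t * t = 1) (hN : ∀ n ∈ N, t * n * t ∈ N) : Subgroup G where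
  carrier := {g | g ∈ N ∨ t * g ∈ N}
  one_mem' := Or.inl N.one_mem
  mul_mem' := by
    have ti : ∀ x : G, t * (t * x) = x := fun x => by rw [← mul_assoc, htt, one_mul]
    rintro a b (ha | ha) (hb | hb)
    · exact Or.inl (N.mul_mem ha hb)
    · right
      have := N.mul_mem (hN a ha) hb
      have e : t * a * t * (t * b) = t * (a * b) := by
        calc t * a * t * (t * b) = t * a * (t * (t * b)) := by group
          _ = t * (a * b) := by rw [ti]; group
      rwa [e] at this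
    · right
      have := N.mul_mem ha hb
      rwa [mul_assoc] at this
    · left
      have := N.mul_mem (hN _ ha) hb
      have e : t * (t * a) * t * (t * b) = a * b := by
        calc t * (t * a) * t * (t * b) = (t * (t * a)) * (t * (t * b)) := by group
          _ = a * b := by rw [ti, ti]
      rwa [e] at this
  inv_mem' := by
    rintro a (ha | ha)
    · exact Or.inl (N.inv_mem ha)
    · right
      have := hN _ (N.inv_mem ha)
      have ti : t⁻¹ = t := inv_eq_of_mul_eq_one_left htt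
      have e : t * (t * a)⁻¹ * t = t * a⁻¹ := by
        rw [mul_inv_rev, ti, mul_assoc, mul_assoc, htt, mul_one]
      rwa [e] at this

theorem mem_dbl {N : Subgroup G} {t : G} {htt : t * t = 1} {hN : ∀ n ∈ N, t * n * t ∈ N} {g : G} :
    g ∈ dbl N t htt hN ↔ g ∈ N ∨ t * g ∈ N := Iff.rfl

open Classical in
/-- the sign: `1` on `N`, `-1` off `N` -/
theorem exists_sgn (N : Subgroup G) (t : G) (htt : t * t = 1) (hN : ∀ n ∈ N, t * n * t ∈ N) :
    ∃ l : dbl N t htt hN →* ℤˣ, ∀ a : dbl N t htt hN, (l a = 1 ↔ (a : G) ∈ N) := by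
  have hne : (-1 : ℤˣ) ≠ 1 := by decide
  refine ⟨{ toFun := fun a => if (a : G) ∈ N then 1 else -1
            map_one' := if_pos N.one_mem
            map_mul' := ?_ }, ?_⟩
  · rintro ⟨a, ha⟩ ⟨b, hb⟩
    change (if a * b ∈ N then (1 : ℤˣ) else -1) = (if a ∈ N then 1 else -1) * (if b ∈ N then 1 else -1)
    by_cases h1 : a ∈ N
    · by_cases h2 : b ∈ N
      · rw [if_pos h1, if_pos h2, if_pos (N.mul_mem h1 h2), one_mul]
      · rw [if_pos h1, if_neg h2, one_mul, if_neg]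
        exact fun h => h2 ((N.mul_mem_cancel_left h1).1 h)
    · by_cases h2 : b ∈ N
      · rw [if_neg h1, if_pos h2, mul_one, if_neg]
        exact fun h => h1 ((N.mul_mem_cancel_right h2).1 h)
      · rw [if_neg h1, if_neg h2, if_pos]
        · decide
        · have ha' := (mem_dbl.1 ha).resolve_left h1
          have hb' := (mem_dbl.1 hb).resolve_left h2
          have := N.mul_mem (hN _ ha') hb'
          have e : t * (t * a) * t * (t * b) = a * b := by
            calc t * (t * a) * t * (t * b) = (t * t) * a * (t * t) * b := by group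
              _ = a * b := by rw [htt]; group
          rwa [e] at this
  · rintro ⟨a, ha⟩
    change (if a ∈ N then (1 : ℤˣ) else -1) = 1 ↔ a ∈ N
    by_cases h1 : a ∈ N
    · rw [if_pos h1]; exact ⟨fun _ => h1, fun _ => rfl⟩
    · rw [if_neg h1]; exact ⟨fun h => absurd h hne, fun h => absurd h h1⟩

namespace SS

variable {t : G} {j : Perm (Fin 8) →* G}

theorem tnt (h : SS t j) : ∀ n ∈ P1.map j, t * n * t ∈ P1.map j := by
  rintro _ ⟨p, hp, rfl⟩
  rw [h.comm, mul_assoc, h.tt, mul_one]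
  exact ⟨p, hp, rfl⟩

/-- `T = ⟨t⟩ × j(P₁)` -/
def T (h : SS t j) : Subgroup G := dbl (P1.map j) t h.tt h.tnt

theorem mem_T (h : SS t j) {g : G} : g ∈ h.T ↔ ∃ p ∈ P1, R t j g p := by
  constructor
  · rintro (⟨p, hp, e⟩ | ⟨p, hp, e⟩)
    · exact ⟨p, hp, Or.inl e.symm⟩
    · refine ⟨p, hp, Or.inr ?_⟩
      rw [e, ← mul_assoc, h.tt, one_mul]
  · rintro ⟨p, hp, e | e⟩
    · exact Or.inl ⟨p, hp, e.symm⟩
    · refine Or.inr ⟨p, hp, ?_⟩
      rw [e, ← mul_assoc, h.tt, one_mul]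

theorem T_comm (h : SS t j) {g : G} (hg : g ∈ h.T) : g * t = t * g := by
  obtain ⟨p, -, hR⟩ := h.mem_T.1 hg
  exact h.R_comm hR

theorem j_mem_T (h : SS t j) {p : Perm (Fin 8)} (hp : p ∈ P1) : j p ∈ h.T := h.mem_T.2 ⟨p, hp, R_j p⟩

theorem t_mem_T (h : SS t j) : t ∈ h.T := h.mem_T.2 ⟨1, P1.one_mem, Or.inr (by rw [map_one, mul_one])⟩

theorem T_pgroup (h : SS t j) : IsPGroup 2 h.T := by
  rintro ⟨g, hg⟩
  refine ⟨3, Subtype.ext ?_⟩
  change g ^ (2 ^ 3) = 1
  obtain ⟨p, hp, e | e⟩ := h.mem_T.1 hg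
  · rw [e, ← map_pow, show (2 : ℕ) ^ 3 = 8 from rfl, pow8 hp, map_one]
  · have hc : Commute t (j p) := h.comm p
    rw [e, hc.mul_pow, ← map_pow, show (2 : ℕ) ^ 3 = 8 from rfl, pow8 hp, map_one, mul_one,
      show (8 : ℕ) = 2 * 4 from rfl, pow_mul, pow_two, h.tt, one_pow]

/-- `N_G(T) ∩ C_G(t) = T` -/
theorem mem_T_of (h : SS t j) {g : G} (hg : g * t = t * g) (hn : ∀ x ∈ h.T, g⁻¹ * x * g ∈ h.T) : g ∈ h.T := by
  obtain ⟨a, ha⟩ := h.exists_R hg
  refine h.mem_T.2 ⟨a, ?_, ha⟩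
  apply norm_P1
  intro p hp
  obtain ⟨q, hq, hR⟩ := h.mem_T.1 (hn _ (h.j_mem_T hp))
  have h1 : R t j (g⁻¹ * j p * g) (a⁻¹ * p * a) := h.R_mul (h.R_mul (h.R_inv ha) (R_j p)) ha
  rw [h.R_uniq h1 hR]
  exact hq

/-- elements of `C(T)` -/
theorem cent_T (h : SS t j) {g : G} (hg : ∀ x ∈ h.T, g * x = x * g) : R t j g 1 ∨ R t j g z0 := by
  obtain ⟨a, ha⟩ := h.exists_R (hg t h.t_mem_T)
  have : a = 1 ∨ a = z0 := by
    apply center_P1
    intro p hp
    exact h.R_commute ha (hg _ (h.j_mem_T hp))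
  rcases this with rfl | rfl
  · exact Or.inl ha
  · exact Or.inr ha

/-- `z` is fixed by elements normalising `T` -/
theorem fix_z (h : SS t j) {g : G} (hn : ∀ x ∈ h.T, g⁻¹ * x * g ∈ h.T) (hn' : ∀ x ∈ h.T, g * x * g⁻¹ ∈ h.T) :
    g⁻¹ * j z0 * g = j z0 := by
  obtain ⟨u, hu, v, hv, e⟩ := z0_comm
  obtain ⟨p, hp, hpR⟩ := h.mem_T.1 (hn _ (h.j_mem_T hu))
  obtain ⟨q, hq, hqR⟩ := h.mem_T.1 (hn _ (h.j_mem_T hv))
  -- a commutator lies in `j(P₁)`
  have hc : g⁻¹ * j z0 * g = j (p * q * p⁻¹ * q⁻¹) := by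
    have h1 : g⁻¹ * j z0 * g = (g⁻¹ * j u * g) * (g⁻¹ * j v * g) * (g⁻¹ * j u * g)⁻¹ * (g⁻¹ * j v * g)⁻¹ := by
      rw [e]
      simp only [map_mul, map_inv]
      group
    rw [h1]
    have tc : ∀ x : Perm (Fin 8), Commute t (j x) := h.comm
    simp only [map_mul, map_inv]
    rcases hpR with hp1 | hp1 <;> rcases hqR with hq1 | hq1 <;> rw [hp1, hq1]
    · rw [mul_inv_rev t, h.tinv]
      calc j p * (t * j q) * (j p)⁻¹ * ((j q)⁻¹ * t) = (j p * t) * j q * (j p)⁻¹ * (j q)⁻¹ * t := by group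
        _ = t * (j p * j q * (j p)⁻¹ * (j q)⁻¹) * t := by rw [← h.comm]; group
        _ = t * j (p * q * p⁻¹ * q⁻¹) * t := by simp only [map_mul, map_inv]
        _ = t * t * j (p * q * p⁻¹ * q⁻¹) := by rw [mul_assoc t, ← h.comm]; group
        _ = j p * j q * (j p)⁻¹ * (j q)⁻¹ := by rw [h.tt, one_mul]; simp only [map_mul, map_inv]
    · rw [mul_inv_rev t, h.tinv]
      calc t * j p * j q * ((j p)⁻¹ * t) * (j q)⁻¹ = t * (j p * j q * (j p)⁻¹) * (t * (j q)⁻¹) := by group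
        _ = t * (j p * j q * (j p)⁻¹) * (t * j q⁻¹) := by rw [map_inv]
        _ = t * (j p * j q * (j p)⁻¹) * (j q⁻¹ * t) := by rw [h.comm]
        _ = t * j (p * q * p⁻¹ * q⁻¹) * t := by simp only [map_mul, map_inv]; group
        _ = t * t * j (p * q * p⁻¹ * q⁻¹) := by rw [mul_assoc t, ← h.comm]; group
        _ = j p * j q * (j p)⁻¹ * (j q)⁻¹ := by rw [h.tt, one_mul]; simp only [map_mul, map_inv]
    · rw [mul_inv_rev t, mul_inv_rev t, h.tinv]
      calc t * j p * (t * j q) * ((j p)⁻¹ * t) * ((j q)⁻¹ * t)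
          = t * (j p * t) * j q * (j p)⁻¹ * (t * (j q)⁻¹) * t := by group
        _ = t * (j p * t) * j q * (j p)⁻¹ * (t * j q⁻¹) * t := by rw [map_inv]
        _ = t * (t * j p) * j q * (j p)⁻¹ * (j q⁻¹ * t) * t := by rw [h.comm, h.comm]
        _ = (t * t) * (j p * j q * (j p)⁻¹ * j q⁻¹) * (t * t) := by group
        _ = j p * j q * (j p)⁻¹ * (j q)⁻¹ := by rw [h.tt, one_mul, mul_one, map_inv]
  have hcen : ∀ x ∈ h.T, (g⁻¹ * j z0 * g) * x = x * (g⁻¹ * j z0 * g) := by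
    intro x hx
    obtain ⟨r, hr, hrR⟩ := h.mem_T.1 (hn' x hx)
    have h2 : j z0 * (g * x * g⁻¹) = (g * x * g⁻¹) * j z0 := by
      rcases hrR with e | e
      · rw [e, ← map_mul, ← map_mul, hr.1]
      · rw [e, ← mul_assoc, ← h.comm, mul_assoc, ← map_mul, ← hr.1, map_mul, mul_assoc]
    calc g⁻¹ * j z0 * g * x = g⁻¹ * (j z0 * (g * x * g⁻¹)) * g := by group
      _ = g⁻¹ * ((g * x * g⁻¹) * j z0) * g := by rw [h2]
      _ = x * (g⁻¹ * j z0 * g) := by group
  have hne : g⁻¹ * j z0 * g ≠ 1 := by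
    intro e
    apply h.jz_ne
    calc j z0 = g * (g⁻¹ * j z0 * g) * g⁻¹ := by group
      _ = 1 := by rw [e]; group
  rcases h.cent_T hcen with h1 | h1
  · exfalso
    rw [hc] at h1 hne
    have := h.R_uniq (R_j _) h1
    rw [this, map_one] at hne
    exact hne rfl
  · rw [hc] at h1 ⊢
    rw [h.R_uniq (R_j _) h1]

/-- the dichotomy -/
theorem exists_sw [Finite G] (h : SS t j) : (∃ m : G →* ℤˣ, m t = -1) ∨ ∃ w, Sw t j w := by
  by_cases hw : ∃ g, (∀ x ∈ h.T, g⁻¹ * x * g ∈ h.T) ∧ g⁻¹ * t * g = t * j z0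
  · right
    obtain ⟨g, hn, ht⟩ := hw
    have hn' := conj_onto h.T hn
    have hz := h.fix_z hn hn'
    refine ⟨g⁻¹, ?_, ?_⟩
    · rw [← ht]; group
    · calc g⁻¹ * j z0 = g⁻¹ * j z0 * g * g⁻¹ := by group
        _ = j z0 * g⁻¹ := by rw [hz]
  · left
    obtain ⟨l, hl⟩ := exists_sgn (P1.map j) t h.tt h.tnt
    apply TR.exists_hom_of_fixed (H := h.T) l h.tt h.T h.T_pgroup (fun x hx => h.T_comm hx)
    have huniq : ∀ q : G ⧸ h.T, (TR.Bad (H := h.T) l t q ∧ ∀ x ∈ h.T, x • q = q) → q = ((1 : G) : G ⧸ h.T) := by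
      rintro q ⟨⟨g, rfl, hgt, hlg⟩, hfix⟩
      have hn : ∀ x ∈ h.T, g⁻¹ * x * g ∈ h.T := by
        intro x hx
        have h1 := hfix x hx
        rw [MulAction.Quotient.smul_coe, smul_eq_mul, eq_comm, QuotientGroup.eq] at h1
        rwa [← mul_assoc] at h1
      have hn' := conj_onto h.T hn
      -- `g⁻¹ t g` is central in `T`
      have hc : ∀ x ∈ h.T, (g⁻¹ * t * g) * x = x * (g⁻¹ * t * g) := by
        intro x hx
        have h2 := h.T_comm (hn' x hx)
        calc g⁻¹ * t * g * x = g⁻¹ * (t * (g * x * g⁻¹)) * g := by group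
          _ = g⁻¹ * ((g * x * g⁻¹) * t) * g := by rw [h2]
          _ = x * (g⁻¹ * t * g) := by group
      have hnN : g⁻¹ * t * g ∉ P1.map j := by
        intro hN
        have := (hl ⟨g⁻¹ * t * g, hgt⟩).2 hN
        exact absurd (hlg.symm.trans this) (by decide)
      have hnj : ∀ p ∈ P1, g⁻¹ * t * g ≠ j p := fun p hp e => hnN ⟨p, hp, e.symm⟩
      have ht : g⁻¹ * t * g = t := by
        rcases h.cent_T hc with (e | e) | (e | e)
        · exact absurd e (hnj _ P1.one_mem)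
        · rw [e, map_one, mul_one]
        · exact absurd e (hnj _ z0_mem_P1)
        · exact absurd ⟨g, hn, e⟩ hw
      have hgc : g * t = t * g := by
        calc g * t = g * (g⁻¹ * t * g) := by rw [ht]
          _ = t * g := by group
      have hgT := h.mem_T_of hgc hn
      rw [QuotientGroup.eq, mul_one]
      exact h.T.inv_mem hgT
    have hone : TR.Bad (H := h.T) l t ((1 : G) : G ⧸ h.T) ∧ ∀ x ∈ h.T, x • ((1 : G) : G ⧸ h.T) = ((1 : G) : G ⧸ h.T) := by
      have e : (1 : G)⁻¹ * t * 1 = t := by group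
      refine ⟨⟨1, rfl, by rw [e]; exact h.t_mem_T, ?_⟩, ?_⟩
      · refine (TR.units_eq _).resolve_left fun h1 => ?_
        obtain ⟨p, -, hp⟩ := (hl _).1 h1
        exact h.ne p (hp.trans e)
      · intro x hx
        rw [MulAction.Quotient.smul_coe, smul_eq_mul, mul_one, eq_comm, QuotientGroup.eq, inv_one, one_mul]
        exact hx
    have : Nat.card {q : G ⧸ h.T // TR.Bad (H := h.T) l t q ∧ ∀ x ∈ h.T, x • q = q} = 1 := by
      rw [Nat.card_eq_one_iff_unique]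
      refine ⟨⟨fun a b => Subtype.ext ((huniq _ a.2).trans (huniq _ b.2).symm)⟩, ⟨⟨_, hone⟩⟩⟩
    rw [this]
    exact odd_one

end SS

end Cfsg.Agent.OddHalf.D5.Eight
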