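import Mathlib
import Cfsg.Agent.OddHalf.D5.EightStart

/-!
# ODD D5, `n = 8`: the twist; `β = 1` is impossible (helper647)
-/

set_option autoImplicit false

namespace Cfsg.Agent.OddHalf.D5.Eight

open Subgroup Equiv Cfsg.Agent.StdSpSix

variable {G : Type*} [Group G]

namespace Pre

variable {t y : G} {j : Perm (Fin 8) →* G} {be bs : Perm (Fin 8)}

theorem yt' (s : Pre t j y be bs) : y * t = t * j z0 * y := by
  rw [← s.yt, mul_assoc, mul_assoc, s.yy, mul_one]

theorem yz (s : Pre t j y be bs) (h : SS t j) : y * j z0 * y = j z0 := by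
  have h1 : y * (t * j z0) * y = t := by
    rw [← s.yt]
    calc y * (y * t * y) * y = (y * y) * t * (y * y) := by group
      _ = t := by rw [s.yy]; group
  have h2 : y * (t * j z0) * y = (y * t * y) * (y * j z0 * y) := by
    calc y * (t * j z0) * y = y * t * 1 * j z0 * y := by group
      _ = y * t * (y * y) * j z0 * y := by rw [s.yy]
      _ = (y * t * y) * (y * j z0 * y) := by group
  rw [h2, s.yt, mul_assoc] at h1
  have h3 : j z0 * (y * j z0 * y) = 1 := mul_eq_left.1 h1
  have h4 : y * j z0 * y = (j z0)⁻¹ := eq_inv_of_mul_eq_one_right h3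
  rw [h4]
  exact inv_eq_of_mul_eq_one_left h.jz

theorem mul_conj (s : Pre t j y be bs) (a b : G) : y * (a * b) * y = (y * a * y) * (y * b * y) := by
  calc y * (a * b) * y = y * a * 1 * b * y := by group
    _ = y * a * (y * y) * b * y := by rw [s.yy]
    _ = (y * a * y) * (y * b * y) := by group

theorem inv_conj (s : Pre t j y be bs) (a : G) : y * a⁻¹ * y = (y * a * y)⁻¹ := by
  have : y⁻¹ = y := inv_eq_of_mul_eq_one_left s.yy
  rw [mul_inv_rev, mul_inv_rev, this, mul_assoc]

/-- `y` acts on `j(C(z0))` -/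
theorem act (s : Pre t j y be bs) (_h : SS t j) (hbe : be = 1 ∨ be = z0) (hbs : bs = 1 ∨ bs = z0)
    {p : Perm (Fin 8)} (hp : p * z0 = z0 * p) : ∃ c, (c = 1 ∨ c = z0) ∧ y * j p * y = j (p * c) := by
  have cz : ∀ {c : Perm (Fin 8)}, (c = 1 ∨ c = z0) → ∀ {q : Perm (Fin 8)}, q * z0 = z0 * q → q * c = c * q := by
    rintro c (rfl | rfl) q hq
    · rw [mul_one, one_mul]
    · exact hq
  have czz : ∀ {c d : Perm (Fin 8)}, (c = 1 ∨ c = z0) → (d = 1 ∨ d = z0) → (c * d = 1 ∨ c * d = z0) := by
    rintro c d (rfl | rfl) (rfl | rfl)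
    · exact Or.inl (one_mul 1)
    · exact Or.inr (one_mul _)
    · exact Or.inr (mul_one _)
    · exact Or.inl z0_sq
  let S : Subgroup (Perm (Fin 8)) :=
    { carrier := {p | p * z0 = z0 * p ∧ ∃ c, (c = 1 ∨ c = z0) ∧ y * j p * y = j (p * c)}
      one_mem' := ⟨by simp, 1, Or.inl rfl, by rw [map_one, mul_one, mul_one, map_one, s.yy]⟩
      mul_mem' := by
        rintro a b ⟨ha, c, hc, hac⟩ ⟨hb, d, hd, hbd⟩
        refine ⟨by rw [mul_assoc, hb, ← mul_assoc, ha, mul_assoc], c * d, czz hc hd, ?_⟩
        rw [map_mul, s.mul_conj, hac, hbd, ← map_mul]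
        congr 1
        calc a * c * (b * d) = a * (c * b) * d := by group
          _ = a * (b * c) * d := by rw [cz hc hb]
          _ = a * b * (c * d) := by group
      inv_mem' := by
        rintro a ⟨ha, c, hc, hac⟩
        refine ⟨by rw [inv_mul_eq_iff_eq_mul, ← mul_assoc, ha, mul_inv_cancel_right], c, hc, ?_⟩
        rw [map_inv, s.inv_conj, hac, ← map_inv]
        congr 1
        have hci : c⁻¹ = c := by
          rcases hc with rfl | rfl
          · exact inv_one
          · exact inv_eq_of_mul_eq_one_left z0_sq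
        rw [cz hc ha, mul_inv_rev, hci] }
  have hr : rho ∈ S := ⟨by decide, 1, Or.inl rfl, by rw [mul_one]; exact s.yr⟩
  have he : e6 ∈ S := ⟨by decide, be, hbe, s.ye⟩
  have hs : s1 ∈ S := ⟨by decide, bs, hbs, s.ys⟩
  exact (gen_cz S hr he hs hp).2

/-- `be = bs = 1` : `y` centralises `j(C(z0))` -/
theorem act_one (s : Pre t j y 1 1) {p : Perm (Fin 8)} (hp : p * z0 = z0 * p) : y * j p * y = j p := by
  let S : Subgroup (Perm (Fin 8)) :=
    { carrier := {p | y * j p * y = j p}
      one_mem' := by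
        change y * j 1 * y = j 1
        rw [map_one, mul_one, s.yy]
      mul_mem' := by
        intro a b (ha : y * j a * y = j a) (hb : y * j b * y = j b)
        change y * j (a * b) * y = j (a * b)
        rw [map_mul, s.mul_conj, ha, hb]
      inv_mem' := by
        intro a (ha : y * j a * y = j a)
        change y * j a⁻¹ * y = j a⁻¹
        rw [map_inv, s.inv_conj, ha] }
  have hr : rho ∈ S := s.yr
  have he : e6 ∈ S := by
    have := s.ye
    rwa [mul_one] at this
  have hs : s1 ∈ S := by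
    have := s.ys
    rwa [mul_one] at this
  exact gen_cz S hr he hs hp

end Pre

/-! ## the twist -/

open Classical in
/-- the other complement -/
noncomputable def tw (t : G) (j : Perm (Fin 8) →* G) (h : SS t j) : Perm (Fin 8) →* G where
  toFun a := (if Perm.sign a = 1 then 1 else t) * j a
  map_one' := by simp
  map_mul' := by
    have hne : (-1 : ℤˣ) ≠ 1 := by decide
    intro a b
    rcases Int.units_eq_one_or (Perm.sign a) with ha | ha <;>
    rcases Int.units_eq_one_or (Perm.sign b) with hb | hb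
    · simp [ha, hb]
    · simp only [map_mul, ha, hb, if_true, one_mul, if_neg hne]
      rw [← mul_assoc, h.comm a, mul_assoc]
    · simp only [map_mul, ha, hb, if_true, mul_one, if_neg hne, mul_assoc, one_mul]
    · have h2 : (-1 : ℤˣ) * -1 = 1 := by decide
      simp only [map_mul, ha, hb, h2, if_true, if_neg hne, one_mul]
      calc j a * j b = (t * t) * j a * j b := by rw [h.tt, one_mul]
        _ = t * (t * j a) * j b := by group
        _ = t * (j a * t) * j b := by rw [h.comm a]
        _ = t * j a * (t * j b) := by group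

theorem tw_even {t : G} {j : Perm (Fin 8) →* G} (h : SS t j) {a : Perm (Fin 8)} (ha : Perm.sign a = 1) :
    tw t j h a = j a := by
  change (if Perm.sign a = 1 then 1 else t) * j a = _
  rw [if_pos ha, one_mul]

theorem tw_odd {t : G} {j : Perm (Fin 8) →* G} (h : SS t j) {a : Perm (Fin 8)} (ha : Perm.sign a ≠ 1) :
    tw t j h a = t * j a := by
  change (if Perm.sign a = 1 then 1 else t) * j a = _
  rw [if_neg ha]

theorem SS.tw {t : G} {j : Perm (Fin 8) →* G} (h : SS t j) : SS t (tw t j h) where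
  tt := h.tt
  inj := by
    rw [injective_iff_map_eq_one]
    intro a ha
    by_cases hs : Perm.sign a = 1
    · rw [tw_even h hs] at ha
      exact h.inj (ha.trans (map_one j).symm)
    · rw [tw_odd h hs] at ha
      exfalso
      exact h.t_ne 1 a ((map_one j).trans ha.symm)
  comm := by
    intro a
    by_cases hs : Perm.sign a = 1
    · rw [tw_even h hs]; exact h.comm a
    · rw [tw_odd h hs, mul_assoc t (j a) t, ← h.comm]
  cent := by
    intro g hg
    rcases h.cent g hg with ⟨a, rfl⟩ | ⟨a, rfl⟩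
    · by_cases hs : Perm.sign a = 1
      · exact Or.inl ⟨a, (tw_even h hs).symm⟩
      · refine Or.inr ⟨a, ?_⟩
        rw [tw_odd h hs, ← mul_assoc, h.tt, one_mul]
    · by_cases hs : Perm.sign a = 1
      · refine Or.inr ⟨a, ?_⟩
        rw [tw_even h hs]
      · exact Or.inl ⟨a, (tw_odd h hs).symm⟩
  ne := by
    intro a
    by_cases hs : Perm.sign a = 1
    · rw [tw_even h hs]; exact h.ne a
    · rw [tw_odd h hs]
      intro e
      have h1 : j a = 1 := mul_eq_left.1 e
      have h2 : a = 1 := h.inj (h1.trans (map_one j).symm)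
      exact hs (by rw [h2, map_one])

/-- after a twist `be = 1` -/
theorem Pre.twist {t y : G} {j : Perm (Fin 8) →* G} {bs : Perm (Fin 8)} (s : Pre t j y z0 bs)
    (hbs : bs = 1 ∨ bs = z0) (h : SS t j) : Pre t (tw t j h) y 1 bs := by
  have sz : Perm.sign z0 = 1 := by decide
  have sr : Perm.sign rho = 1 := by decide
  have se : Perm.sign e6 ≠ 1 := by decide
  have ss : Perm.sign s1 = 1 := by decide
  have ssz : Perm.sign (s1 * bs) = 1 := by
    rcases hbs with rfl | rfl
    · rw [mul_one]; exact ss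
    · decide
  refine ⟨s.yy, ?_, ?_, ?_, ?_⟩
  · rw [tw_even h sz]; exact s.yt
  · rw [tw_even h sr]; exact s.yr
  · rw [mul_one, tw_odd h se, s.mul_conj, s.yt, s.ye, mul_assoc, ← map_mul]
    have : z0 * (e6 * z0) = e6 := by decide
    rw [this]
  · rw [tw_even h ss, tw_even h ssz]; exact s.ys

/-- summary: `w` gives a pre-swap with `be = 1` after a change of complement -/
theorem exists_pre [Finite G] {t : G} {j : Perm (Fin 8) →* G} (h : SS t j) :
    (∃ m : G →* ℤˣ, m t = -1) ∨
      ∃ (j' : Perm (Fin 8) →* G) (y : G), SS t j' ∧ (Pre t j' y 1 1 ∨ Pre t j' y 1 z0) := by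
  rcases h.exists_sw with hm | ⟨w, sw⟩
  · exact Or.inl hm
  · right
    obtain ⟨y, be, bs, hbe, hbs, s⟩ := sw.pre h
    rcases hbe with rfl | rfl
    · refine ⟨j, y, h, ?_⟩
      rcases hbs with rfl | rfl
      · exact Or.inl s
      · exact Or.inr s
    · refine ⟨tw t j h, y, h.tw, ?_⟩
      have s' := s.twist hbs h
      rcases hbs with rfl | rfl
      · exact Or.inl s'
      · exact Or.inr s'

/-! ## `β = 1` : the action on `V` -/

namespace Pre

variable {t y : G} {j : Perm (Fin 8) →* G}

/-- conjugates of `s1` under `C(z0)` -/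
theorem act_s1 (s : Pre t j y 1 z0) (h : SS t j) {c : Perm (Fin 8)} (hc : c * z0 = z0 * c) :
    y * j (c * s1 * c⁻¹) * y = j (c * s1 * c⁻¹ * z0) := by
  obtain ⟨d, hd, hcd⟩ := s.act h (Or.inl rfl) (Or.inr rfl) hc
  have hsz : s1 * z0 = z0 * s1 := by decide
  have hdc : ∀ q : Perm (Fin 8), q * z0 = z0 * q → q * d = d * q := by
    rcases hd with rfl | rfl
    · intro q _; rw [mul_one, one_mul]
    · exact fun q hq => hq
  have hdd : d * d⁻¹ = 1 := mul_inv_cancel d
  rw [map_mul, map_mul, s.mul_conj, s.mul_conj, map_inv, s.inv_conj, hcd, s.ys, ← map_inv, ← map_mul,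
    ← map_mul]
  congr 1
  have hci : c⁻¹ * z0 = z0 * c⁻¹ := by rw [inv_mul_eq_iff_eq_mul, ← mul_assoc, hc, mul_inv_cancel_right]
  calc c * d * (s1 * z0) * (c * d)⁻¹ = c * (d * (s1 * z0)) * d⁻¹ * c⁻¹ := by group
    _ = c * ((s1 * z0) * d) * d⁻¹ * c⁻¹ := by
        rw [hdc (s1 * z0) (by rw [hsz, mul_assoc, hsz])]
    _ = c * s1 * (z0 * c⁻¹) := by group
    _ = c * s1 * c⁻¹ * z0 := by rw [← hci]; group

theorem act_vb (s : Pre t j y 1 z0) (h : SS t j) : y * j vb * y = j (vb * z0) := by
  have e : vb = sw * s1 * sw⁻¹ := by decide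
  rw [e]
  exact s.act_s1 h (by decide)

theorem act_vc (s : Pre t j y 1 z0) (h : SS t j) : y * j vc * y = j (vc * z0) := by
  have e : vc = (sw * e6) * s1 * (sw * e6)⁻¹ := by decide
  rw [e]
  exact s.act_s1 h (by decide)

theorem act_vc' (s : Pre t j y 1 z0) (h : SS t j) : y * j vc' * y = j (vc' * z0) := by
  have e : vc' = e6 * s1 * e6⁻¹ := by decide
  rw [e]
  exact s.act_s1 h (by decide)

theorem act_va (s : Pre t j y 1 z0) (h : SS t j) : y * j va * y = j va := by
  have e : va = vb * vc := by decide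
  rw [e, map_mul, s.mul_conj, s.act_vb h, s.act_vc h, ← map_mul, ← map_mul]
  congr 1
  decide

theorem act_va' (s : Pre t j y 1 z0) (h : SS t j) : y * j va' * y = j va' := by
  have e : va' = s1 * vc' := by decide
  rw [e, map_mul, s.mul_conj, s.ys, s.act_vc' h, ← map_mul, ← map_mul]
  congr 1
  decide

end Pre

end Cfsg.Agent.OddHalf.D5.Eight
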