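import Mathlib
import Cfsg.Agent.OddHalf.D5.EightBeta

/-!
# ODD D5, `n = 8`, `M = ⟨t⟩ × S₈`: `β = 1` and `t·va ∈ t^G` is impossible (helper647)

`F = y j(g₆)` commutes with `e' = t·va` and acts as a five-cycle on `t va', t vb, t s1, t vc, t vc'`.
-/

set_option autoImplicit false

namespace Cfsg.Agent.OddHalf.D5.Eight

open Subgroup Equiv Cfsg.Agent.StdSpSix

variable {G : Type*} [Group G]

/-- conjugate of the frame -/
theorem SS.conj {t : G} {j : Perm (Fin 8) →* G} (h : SS t j) (x : G) :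
    SS (x * t * x⁻¹) ((MulAut.conj x).toMonoidHom.comp j) where
  tt := by
    calc x * t * x⁻¹ * (x * t * x⁻¹) = x * (t * t) * x⁻¹ := by group
      _ = 1 := by rw [h.tt]; group
  inj := (MulAut.conj x).injective.comp h.inj
  comm := by
    intro a
    change x * t * x⁻¹ * (x * j a * x⁻¹) = x * j a * x⁻¹ * (x * t * x⁻¹)
    calc x * t * x⁻¹ * (x * j a * x⁻¹) = x * (t * j a) * x⁻¹ := by group
      _ = x * (j a * t) * x⁻¹ := by rw [h.comm a]
      _ = x * j a * x⁻¹ * (x * t * x⁻¹) := by group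
  cent := by
    intro g hg
    have h1 : (x⁻¹ * g * x) * t = t * (x⁻¹ * g * x) := by
      calc (x⁻¹ * g * x) * t = x⁻¹ * (g * (x * t * x⁻¹)) * x := by group
        _ = x⁻¹ * (x * t * x⁻¹ * g) * x := by rw [hg]
        _ = t * (x⁻¹ * g * x) := by group
    rcases h.cent _ h1 with ⟨a, ha⟩ | ⟨a, ha⟩
    · left
      refine ⟨a, ?_⟩
      change g = x * j a * x⁻¹
      rw [← ha]; group
    · right
      refine ⟨a, ?_⟩
      change g = x * t * x⁻¹ * (x * j a * x⁻¹)
      calc g = x * (x⁻¹ * g * x) * x⁻¹ := by group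
        _ = x * t * x⁻¹ * (x * j a * x⁻¹) := by rw [ha]; group
  ne := by
    intro a e
    apply h.ne a
    have e' : x * j a * x⁻¹ = x * t * x⁻¹ := e
    exact mul_left_cancel (mul_right_cancel e')

/-- the five-cycle lemma in `C(e) = ⟨e⟩ × S₈` -/
theorem SS.five {e : G} {k : Perm (Fin 8) →* G} (h : SS e k) {F b : G} (hF : F * e = e * F) (hb : b * e = e * b)
    (hbb : b * b = 1) (h1 : b * (F * b * F⁻¹) = F * b * F⁻¹ * b)
    (h2 : b * (F * F * b * (F * F)⁻¹) = F * F * b * (F * F)⁻¹ * b) (h5 : F ^ 5 * b = b * F ^ 5) :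
    F * b * F⁻¹ = b ∨ F * b * F⁻¹ = e * b := by
  obtain ⟨f, hf⟩ := h.exists_R hF
  obtain ⟨c, hc⟩ := h.exists_R hb
  have hf2 := h.R_mul hf hf
  have hc1 : R e k (F * b * F⁻¹) (f * c * f⁻¹) := h.R_mul (h.R_mul hf hc) (h.R_inv hf)
  have hc2 : R e k (F * F * b * (F * F)⁻¹) (f * f * c * (f * f)⁻¹) := h.R_mul (h.R_mul hf2 hc) (h.R_inv hf2)
  have hf5 : R e k (F ^ 5) (f ^ 5) := by
    have e1 : F ^ 5 = F * F * F * F * F := by simp only [pow_succ, pow_zero, one_mul]
    have e2 : f ^ 5 = f * f * f * f * f := by simp only [pow_succ, pow_zero, one_mul]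
    rw [e1, e2]
    exact h.R_mul (h.R_mul (h.R_mul hf2 hf) hf) hf
  have k1 : c * c = 1 := h.R_uniq (h.R_mul hc hc) (by rw [hbb]; exact SS.R_one)
  have k2 : c * (f * c * f⁻¹) = f * c * f⁻¹ * c := by
    refine h.R_uniq (h.R_mul hc hc1) ?_
    rw [h1]; exact h.R_mul hc1 hc
  have k3 : c * (f * f * c * (f * f)⁻¹) = f * f * c * (f * f)⁻¹ * c := by
    refine h.R_uniq (h.R_mul hc hc2) ?_
    rw [h2]; exact h.R_mul hc2 hc
  have k4 : f ^ 5 * c = c * f ^ 5 := by
    refine h.R_uniq (h.R_mul hf5 hc) ?_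
    rw [h5]; exact h.R_mul hc hf5
  have k5 := five_lemma k1 k2 k3 k4
  have k6 : f * c * f⁻¹ = c := by rw [k5, mul_inv_cancel_right]
  rw [k6] at hc1
  rcases hc with hc | hc <;> rcases hc1 with hc1 | hc1
  · left; rw [hc1, hc]
  · right; rw [hc1, hc]
  · right; rw [hc1, hc, ← mul_assoc, h.tt, one_mul]
  · left; rw [hc1, hc]

/-- the element permuting `va → va' → vb → s1 → vc → vc' → va` -/
def g6 : Perm (Fin 8) := ⟨![4, 5, 6, 7, 0, 2, 3, 1], ![4, 7, 5, 6, 0, 1, 2, 3], by decide, by decide⟩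

namespace Pre

variable {t y : G} {j : Perm (Fin 8) →* G}

/-- **(B7)** -/
theorem seven (s : Pre t j y 1 z0) (h : SS t j) : ¬ IsConj t (t * j va) := by
  intro hD
  obtain ⟨x, hx⟩ := isConj_iff.1 hD
  have h' := h.conj x
  rw [hx] at h'
  set F := y * j g6 with hFd
  have tj : ∀ p, y * (t * j p) * y = t * j z0 * (y * j p * y) := by
    intro p
    rw [s.mul_conj, s.yt]
  have yi : y⁻¹ = y := inv_eq_of_mul_eq_one_left s.yy
  have Fc : ∀ p, F * (t * j p) * F⁻¹ = t * j z0 * (y * j (g6 * p * g6⁻¹) * y) := by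
    intro p
    rw [← tj, hFd, mul_inv_rev, yi]
    calc y * j g6 * (t * j p) * ((j g6)⁻¹ * y) = y * ((j g6 * t) * j p * (j g6)⁻¹) * y := by group
      _ = y * (t * (j g6 * j p * (j g6)⁻¹)) * y := by rw [← h.comm]; group
      _ = y * (t * j (g6 * p * g6⁻¹)) * y := by simp only [map_mul, map_inv]
  have g1 : g6 * va * g6⁻¹ = va' := by decide
  have g2 : g6 * va' * g6⁻¹ = vb := by decide
  have g3 : g6 * vb * g6⁻¹ = s1 := by decide
  have g4 : g6 * s1 * g6⁻¹ = vc := by decide
  have g5 : g6 * vc * g6⁻¹ = vc' := by decide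
  have g6' : g6 * vc' * g6⁻¹ = va := by decide
  have F0 : F * (t * j va) * F⁻¹ = t * j va := by
    rw [Fc, g1, s.act_va' h, mul_assoc, ← map_mul]
    have : z0 * va' = va := by decide
    rw [this]
  have F1 : F * (t * j va') * F⁻¹ = t * j vb := by
    rw [Fc, g2, s.act_vb h, mul_assoc, ← map_mul]
    have : z0 * (vb * z0) = vb := by decide
    rw [this]
  have F2 : F * (t * j vb) * F⁻¹ = t * j s1 := by
    rw [Fc, g3, s.ys, mul_assoc, ← map_mul]
    have : z0 * (s1 * z0) = s1 := by decide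
    rw [this]
  have F3 : F * (t * j s1) * F⁻¹ = t * j vc := by
    rw [Fc, g4, s.act_vc h, mul_assoc, ← map_mul]
    have : z0 * (vc * z0) = vc := by decide
    rw [this]
  have F4 : F * (t * j vc) * F⁻¹ = t * j vc' := by
    rw [Fc, g5, s.act_vc' h, mul_assoc, ← map_mul]
    have : z0 * (vc' * z0) = vc' := by decide
    rw [this]
  have F5 : F * (t * j vc') * F⁻¹ = t * j va' := by
    rw [Fc, g6', s.act_va h, mul_assoc, ← map_mul]
    have : z0 * va = va' := by decide
    rw [this]
  have tjc : ∀ p q : Perm (Fin 8), p * q = q * p → (t * j p) * (t * j q) = (t * j q) * (t * j p) := by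
    intro p q hpq
    calc (t * j p) * (t * j q) = t * (j p * t) * j q := by group
      _ = t * (t * j p) * j q := by rw [← h.comm]
      _ = t * t * (j p * j q) := by group
      _ = t * t * (j q * j p) := by rw [← map_mul, hpq, map_mul]
      _ = t * (t * j q) * j p := by group
      _ = t * (j q * t) * j p := by rw [← h.comm q]
      _ = (t * j q) * (t * j p) := by group
  have FF : F * F * (t * j va') * (F * F)⁻¹ = t * j s1 := by
    calc F * F * (t * j va') * (F * F)⁻¹ = F * (F * (t * j va') * F⁻¹) * F⁻¹ := by group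
      _ = t * j s1 := by rw [F1, F2]
  have F5' : F ^ 5 * (t * j va') = (t * j va') * F ^ 5 := by
    have e1 : F ^ 5 = F * F * F * F * F := by simp only [pow_succ, pow_zero, one_mul]
    have : F ^ 5 * (t * j va') * (F ^ 5)⁻¹ = t * j va' := by
      rw [e1]
      calc (F * F * F * F * F) * (t * j va') * (F * F * F * F * F)⁻¹ =
          F * (F * (F * (F * (F * (t * j va') * F⁻¹) * F⁻¹) * F⁻¹) * F⁻¹) * F⁻¹ := by group
        _ = t * j va' := by rw [F1, F2, F3, F4, F5]
    calc F ^ 5 * (t * j va') = F ^ 5 * (t * j va') * (F ^ 5)⁻¹ * F ^ 5 := by group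
      _ = (t * j va') * F ^ 5 := by rw [this]
  have hFe : F * (t * j va) = (t * j va) * F := by
    calc F * (t * j va) = F * (t * j va) * F⁻¹ * F := by group
      _ = (t * j va) * F := by rw [F0]
  have hbb : (t * j va') * (t * j va') = 1 := by
    calc (t * j va') * (t * j va') = t * (j va' * t) * j va' := by group
      _ = t * (t * j va') * j va' := by rw [← h.comm]
      _ = (t * t) * (j va' * j va') := by group
      _ = 1 := by rw [h.tt, ← map_mul, va'_sq, map_one, one_mul]
  have := h'.five hFe (tjc va' va (by decide)) hbb (by rw [F1]; exact tjc _ _ (by decide))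
    (by rw [FF]; exact tjc _ _ (by decide)) F5'
  rw [F1] at this
  rcases this with e | e
  · exact absurd (h.inj (mul_left_cancel e)) (by decide)
  · have e1 : t * j va * (t * j va') = j (va * va') := by
      calc t * j va * (t * j va') = t * (j va * t) * j va' := by group
        _ = t * (t * j va) * j va' := by rw [← h.comm]
        _ = (t * t) * (j va * j va') := by group
        _ = j (va * va') := by rw [h.tt, one_mul, map_mul]
    rw [e1] at e
    exact h.t_ne _ _ e.symm

end Pre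

end Cfsg.Agent.OddHalf.D5.Eight
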