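import Mathlib
import Cfsg.Agent.OddHalf.D5.EightBeta

/-!
# ODD D5, `n = 8`, `M = ⟨t⟩ × S₈`: `β = 1` and `t·va ∉ t^G` (the pattern of `HS:2`) (helper647)

`H = T⟨y⟩`, `N₀ = j(P₁)⟨y⟩` of index two in `H`; `T` fixes exactly one bad coset of `H`.
-/

set_option autoImplicit false

namespace Cfsg.Agent.OddHalf.D5.Eight

open Subgroup Equiv Cfsg.Agent.StdSpSix

variable {G : Type*} [Group G]

/-- A conjugate of `T`, contained in `H`, is normal in `H` if `|H : T| = 2`. -/
theorem norm_of_index_two [Finite G] (T H : Subgroup G) (hTH : T ≤ H) (h2 : (T.subgroupOf H).index = 2) (g : G)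
    (hg : ∀ x ∈ T, g⁻¹ * x * g ∈ H) :
    ∀ h ∈ H, ∀ x ∈ T, g * (h * (g⁻¹ * x * g) * h⁻¹) * g⁻¹ ∈ T := by
  set Td : Subgroup G := T.map (MulAut.conj g⁻¹).toMonoidHom with hTd
  have hle : Td ≤ H := by
    rintro _ ⟨x, hx, rfl⟩
    have := hg x hx
    change g⁻¹ * x * g⁻¹⁻¹ ∈ H
    rwa [inv_inv]
  have hcT : Nat.card Td = Nat.card T :=
    (Nat.card_congr (T.equivMapOfInjective _ (MulAut.conj g⁻¹).injective).toEquiv).symm
  have hc1 : Nat.card (Td.subgroupOf H) = Nat.card Td := Nat.card_congr (subgroupOfEquivOfLe hle).toEquiv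
  have hc2 : Nat.card (T.subgroupOf H) = Nat.card T := Nat.card_congr (subgroupOfEquivOfLe hTH).toEquiv
  have hi : (Td.subgroupOf H).index = 2 := by
    have h3 := (T.subgroupOf H).index_mul_card
    have h4 := (Td.subgroupOf H).index_mul_card
    rw [h2, hc2] at h3
    rw [hc1, hcT, ← h3] at h4
    exact Nat.eq_of_mul_eq_mul_right Nat.card_pos h4
  have hn : (Td.subgroupOf H).Normal := normal_of_index_eq_two hi
  intro h hh x hx
  have hxd : g⁻¹ * x * g ∈ Td := ⟨x, hx, by
    change g⁻¹ * x * g⁻¹⁻¹ = _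
    rw [inv_inv]⟩
  have := hn.conj_mem ⟨g⁻¹ * x * g, hle hxd⟩ (mem_subgroupOf.2 hxd) ⟨h, hh⟩
  rw [mem_subgroupOf] at this
  obtain ⟨x', hx', e⟩ := this
  have e' : g⁻¹ * x' * g = h * (g⁻¹ * x * g) * h⁻¹ := by
    rw [← inv_inv g]
    rw [inv_inv g⁻¹]
    exact (by
      have : g⁻¹ * x' * g⁻¹⁻¹ = h * (g⁻¹ * x * g) * h⁻¹ := e
      rwa [inv_inv] at this ⊢)
  rw [← e']
  have : g * (g⁻¹ * x' * g) * g⁻¹ = x' := by group
  rw [this]
  exact hx'

namespace Pre

variable {t y : G} {j : Perm (Fin 8) →* G}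

theorem yny (s : Pre t j y 1 z0) (h : SS t j) : ∀ n ∈ P1.map j, y * n * y ∈ P1.map j := by
  rintro _ ⟨p, hp, rfl⟩
  obtain ⟨c, hc, e⟩ := s.act h (Or.inl rfl) (Or.inr rfl) hp.1
  refine ⟨p * c, P1.mul_mem hp ?_, e.symm⟩
  rcases hc with rfl | rfl
  · exact P1.one_mem
  · exact z0_mem_P1

/-- `N₀ = j(P₁) ∪ y j(P₁)` -/
def N0 (s : Pre t j y 1 z0) (h : SS t j) : Subgroup G := dbl (P1.map j) y s.yy (s.yny h)

theorem mem_N0 (s : Pre t j y 1 z0) (h : SS t j) {g : G} :
    g ∈ s.N0 h ↔ ∃ p ∈ P1, g = j p ∨ g = y * j p := by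
  constructor
  · rintro (⟨p, hp, e⟩ | ⟨p, hp, e⟩)
    · exact ⟨p, hp, Or.inl e.symm⟩
    · refine ⟨p, hp, Or.inr ?_⟩
      rw [e, ← mul_assoc, s.yy, one_mul]
  · rintro ⟨p, hp, e | e⟩
    · exact Or.inl ⟨p, hp, e.symm⟩
    · refine Or.inr ⟨p, hp, ?_⟩
      rw [e, ← mul_assoc, s.yy, one_mul]

theorem tyt (s : Pre t j y 1 z0) (h : SS t j) : t * y * t = y * j z0 := by
  have h1 : t * y = y * (t * j z0) := by
    rw [← s.yt]
    calc t * y = 1 * t * y := by group
      _ = y * y * t * y := by rw [s.yy]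
      _ = y * (y * t * y) := by group
  rw [h1, mul_assoc, mul_assoc t, ← h.comm, ← mul_assoc t, h.tt, one_mul]

theorem tnt (s : Pre t j y 1 z0) (h : SS t j) : ∀ n ∈ s.N0 h, t * n * t ∈ s.N0 h := by
  intro n hn
  obtain ⟨p, hp, e | e⟩ := (s.mem_N0 h).1 hn
  · refine (s.mem_N0 h).2 ⟨p, hp, Or.inl ?_⟩
    rw [e, h.comm, mul_assoc, h.tt, mul_one]
  · refine (s.mem_N0 h).2 ⟨z0 * p, P1.mul_mem z0_mem_P1 hp, Or.inr ?_⟩
    rw [e, map_mul]
    calc t * (y * j p) * t = t * y * (j p * t) := by group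
      _ = t * y * t * j p := by rw [← h.comm]; group
      _ = y * (j z0 * j p) := by rw [s.tyt h]; group

/-- `H = N₀ ∪ tN₀` -/
def HH (s : Pre t j y 1 z0) (h : SS t j) : Subgroup G := dbl (s.N0 h) t h.tt (s.tnt h)

theorem y_mem (s : Pre t j y 1 z0) (h : SS t j) : y ∈ s.N0 h :=
  (s.mem_N0 h).2 ⟨1, P1.one_mem, Or.inr (by rw [map_one, mul_one])⟩

theorem j_mem (s : Pre t j y 1 z0) (h : SS t j) {p : Perm (Fin 8)} (hp : p ∈ P1) : j p ∈ s.N0 h :=
  (s.mem_N0 h).2 ⟨p, hp, Or.inl rfl⟩

theorem N0_le (s : Pre t j y 1 z0) (h : SS t j) : s.N0 h ≤ s.HH h := fun _ hg => Or.inl hg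

theorem T_le (s : Pre t j y 1 z0) (h : SS t j) : h.T ≤ s.HH h := by
  intro g hg
  obtain ⟨p, hp, e | e⟩ := h.mem_T.1 hg
  · exact Or.inl (by rw [e]; exact s.j_mem h hp)
  · exact Or.inr (by rw [e, ← mul_assoc, h.tt, one_mul]; exact s.j_mem h hp)

theorem y_not_T (s : Pre t j y 1 z0) (h : SS t j) : y ∉ h.T := by
  intro hy
  have := h.T_comm hy
  rw [s.yt', mul_assoc, mul_right_inj, mul_eq_right] at this
  exact h.jz_ne this

/-- `H = T ∪ yT` -/
theorem mem_HH (s : Pre t j y 1 z0) (h : SS t j) {g : G} (hg : g ∈ s.HH h) : g ∈ h.T ∨ y * g ∈ h.T := by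
  rcases hg with hg | hg
  · obtain ⟨p, hp, e | e⟩ := (s.mem_N0 h).1 hg
    · left; rw [e]; exact h.j_mem_T hp
    · right; rw [e, ← mul_assoc, s.yy, one_mul]; exact h.j_mem_T hp
  · have key : ∀ x : G, t * g = x → g = t * x := by
      intro x hx
      rw [← hx, ← mul_assoc, h.tt, one_mul]
    obtain ⟨p, hp, e | e⟩ := (s.mem_N0 h).1 hg
    · left; rw [key _ e]; exact h.T.mul_mem h.t_mem_T (h.j_mem_T hp)
    · right
      rw [key _ e]
      have : y * (t * (y * j p)) = t * j z0 * j p := by
        rw [← s.yt]; group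
      rw [this]
      exact h.T.mul_mem (h.T.mul_mem h.t_mem_T (h.j_mem_T z0_mem_P1)) (h.j_mem_T hp)

theorem index_two (s : Pre t j y 1 z0) (h : SS t j) : (h.T.subgroupOf (s.HH h)).index = 2 := by
  rw [index_eq_two_iff']
  refine ⟨⟨y, s.N0_le h (s.y_mem h)⟩, ?_⟩
  rintro ⟨g, hg⟩
  rw [mem_subgroupOf, mem_subgroupOf]
  change Xor (y * g ∈ h.T) (g ∈ h.T)
  rcases s.mem_HH h hg with h1 | h1
  · right
    exact ⟨h1, fun h2 => s.y_not_T h ((h.T.mul_mem_cancel_right h1).1 h2)⟩
  · left
    exact ⟨h1, fun h2 => s.y_not_T h ((h.T.mul_mem_cancel_right h2).1 h1)⟩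

theorem cent_t (s : Pre t j y 1 z0) (h : SS t j) {g : G} (hg : g ∈ s.HH h) (hc : g * t = t * g) : g ∈ h.T := by
  rcases s.mem_HH h hg with h1 | h1
  · exact h1
  · exfalso
    have h2 := h.T_comm h1
    have h3 : y * t * g = t * y * g := by
      calc y * t * g = y * (t * g) := by group
        _ = (y * g) * t := by rw [← hc]; group
        _ = t * y * g := by rw [h2]; group
    have h4 : y * t = t * y := mul_right_cancel h3
    rw [s.yt', mul_assoc, mul_right_inj, mul_eq_right] at h4
    exact h.jz_ne h4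

/-- `z` is the only nontrivial central element of `H` in `N₀` -/
theorem center (s : Pre t j y 1 z0) (h : SS t j) {g : G} (hg : g ∈ s.N0 h) (h1 : g ≠ 1)
    (hc : ∀ x ∈ s.HH h, x * g = g * x) : g = j z0 := by
  obtain ⟨p, hp, e | e⟩ := (s.mem_N0 h).1 hg
  · have : p = 1 ∨ p = z0 := by
      apply center_P1
      intro q hq
      have := hc _ (s.N0_le h (s.j_mem h hq))
      rw [e, ← map_mul, ← map_mul] at this
      exact (h.inj this).symm
    rcases this with rfl | rfl
    · rw [map_one] at e; exact absurd e h1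
    · exact e
  · exfalso
    have h2 := hc t (s.T_le h h.t_mem_T)
    have h3 := h.T_comm (h.j_mem_T hp)
    rw [e] at h2
    have h4 : t * y * j p = y * t * j p := by
      calc t * y * j p = y * j p * t := by rw [← h2]; group
        _ = y * t * j p := by rw [mul_assoc, h3, mul_assoc]
    have h5 := (mul_right_cancel h4).symm
    rw [s.yt', mul_assoc, mul_right_inj, mul_eq_right] at h5
    exact h.jz_ne h5

/-- a commutator of `H` lies in `N₀` -/
theorem comm_mem (s : Pre t j y 1 z0) (h : SS t j) {u v : G} (hu : u ∈ s.HH h) (hv : v ∈ s.HH h) :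
    u * v * u⁻¹ * v⁻¹ ∈ s.N0 h := by
  obtain ⟨l, hl⟩ := exists_sgn (s.N0 h) t h.tt (s.tnt h)
  have := (hl (⟨u, hu⟩ * ⟨v, hv⟩ * ⟨u, hu⟩⁻¹ * ⟨v, hv⟩⁻¹)).1 (by
    rw [map_mul, map_mul, map_mul, map_inv, map_inv, mul_comm (l ⟨u, hu⟩) (l ⟨v, hv⟩),
      mul_inv_cancel_right, mul_inv_cancel])
  exact this

/-- **(B6)** -/
theorem six [Finite G] (s : Pre t j y 1 z0) (h : SS t j) (hD : ¬ IsConj t (t * j va)) :
    ∃ m : G →* ℤˣ, m t = -1 := by
  have hD' : ¬ IsConj t (t * j va') := by
    intro hc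
    apply hD
    obtain ⟨c, hc⟩ := isConj_iff.1 hc
    refine isConj_iff.2 ⟨j sw * c, ?_⟩
    have e : sw * va' * sw⁻¹ = va := by decide
    calc j sw * c * t * (j sw * c)⁻¹ = j sw * (c * t * c⁻¹) * (j sw)⁻¹ := by group
      _ = (j sw * t) * j va' * (j sw)⁻¹ := by rw [hc]; group
      _ = t * (j sw * j va' * j sw⁻¹) := by rw [← h.comm, map_inv]; group
      _ = t * j va := by rw [← map_mul, ← map_mul, e]
  obtain ⟨l, hl⟩ := exists_sgn (s.N0 h) t h.tt (s.tnt h)
  have yz := s.yz h
  have yzc : y * j z0 = j z0 * y := by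
    calc y * j z0 = y * j z0 * y * y := by rw [mul_assoc (y * j z0), s.yy, mul_one]
      _ = j z0 * y := by rw [yz]
  apply TR.exists_hom_of_fixed (H := s.HH h) l h.tt h.T h.T_pgroup (fun x hx => h.T_comm hx)
  have tN : t ∉ s.N0 h := by
    intro ht
    obtain ⟨p, hp, e | e⟩ := (s.mem_N0 h).1 ht
    · exact h.ne p e.symm
    · apply s.y_not_T h
      have : y = t * j p⁻¹ := by rw [map_inv, e, mul_inv_cancel_right]
      rw [this]
      exact h.T.mul_mem h.t_mem_T (h.j_mem_T (P1.inv_mem hp))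
  -- the main analysis
  have main : ∀ g : G, (∀ x ∈ h.T, g⁻¹ * x * g ∈ s.HH h) → g⁻¹ * t * g ∉ s.N0 h → g ∈ s.HH h := by
    intro g hg hgN
    set d := g⁻¹ * t * g with hd
    set zd := g⁻¹ * j z0 * g with hzd
    have hdH : d ∈ s.HH h := hg t h.t_mem_T
    have hzdH : zd ∈ s.HH h := hg _ (h.j_mem_T z0_mem_P1)
    have norm := norm_of_index_two h.T (s.HH h) (s.T_le h) (s.index_two h) g hg
    -- elements commuting with `T_d`
    have four : ∀ x : G, (∀ r ∈ h.T, x * (g⁻¹ * r * g) = (g⁻¹ * r * g) * x) →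
        x = 1 ∨ x = d ∨ x = zd ∨ x = d * zd := by
      intro x hx
      have h1 : ∀ r ∈ h.T, (g * x * g⁻¹) * r = r * (g * x * g⁻¹) := by
        intro r hr
        calc (g * x * g⁻¹) * r = g * (x * (g⁻¹ * r * g)) * g⁻¹ := by group
          _ = g * ((g⁻¹ * r * g) * x) * g⁻¹ := by rw [hx r hr]
          _ = r * (g * x * g⁻¹) := by group
      have key : ∀ r : G, g * x * g⁻¹ = r → x = g⁻¹ * r * g := by
        intro r hr
        rw [← hr]; group
      rcases h.cent_T h1 with (e | e) | (e | e)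
      · left; rw [key _ e, map_one]; group
      · right; left; rw [key _ e, map_one, mul_one]
      · right; right; left; rw [key _ e]
      · right; right; right; rw [key _ e, hd, hzd]; group
    have conjC : ∀ k ∈ s.HH h, ∀ x : G, (∀ r ∈ h.T, x * (g⁻¹ * r * g) = (g⁻¹ * r * g) * x) →
        ∀ r ∈ h.T, (k * x * k⁻¹) * (g⁻¹ * r * g) = (g⁻¹ * r * g) * (k * x * k⁻¹) := by
      intro k hk x hx r hr
      have h1 := norm k⁻¹ ((s.HH h).inv_mem hk) r hr
      have h2 := hx _ h1
      have e : g⁻¹ * (g * (k⁻¹ * (g⁻¹ * r * g) * k⁻¹⁻¹) * g⁻¹) * g = k⁻¹ * (g⁻¹ * r * g) * k := by group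
      rw [e] at h2
      calc (k * x * k⁻¹) * (g⁻¹ * r * g) = k * (x * (k⁻¹ * (g⁻¹ * r * g) * k)) * k⁻¹ := by group
        _ = k * ((k⁻¹ * (g⁻¹ * r * g) * k) * x) * k⁻¹ := by rw [h2]
        _ = (g⁻¹ * r * g) * (k * x * k⁻¹) := by group
    have hdC : ∀ r ∈ h.T, d * (g⁻¹ * r * g) = (g⁻¹ * r * g) * d := by
      intro r hr
      have := h.T_comm hr
      calc d * (g⁻¹ * r * g) = g⁻¹ * (t * r) * g := by rw [hd]; group
        _ = g⁻¹ * (r * t) * g := by rw [this]
        _ = (g⁻¹ * r * g) * d := by rw [hd]; group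
    have hzC : ∀ r ∈ h.T, zd * (g⁻¹ * r * g) = (g⁻¹ * r * g) * zd := by
      intro r hr
      obtain ⟨p, hp, hR⟩ := h.mem_T.1 hr
      have : j z0 * r = r * j z0 := by
        rcases hR with e | e
        · rw [e, ← map_mul, ← map_mul, hp.1]
        · rw [e, ← mul_assoc, ← h.comm, mul_assoc, ← map_mul, ← hp.1, map_mul, mul_assoc]
      calc zd * (g⁻¹ * r * g) = g⁻¹ * (j z0 * r) * g := by rw [hzd]; group
        _ = g⁻¹ * (r * j z0) * g := by rw [this]
        _ = (g⁻¹ * r * g) * zd := by rw [hzd]; group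
    -- `zd ∈ N₀`
    have hzN : zd ∈ s.N0 h := by
      obtain ⟨u, hu, v, hv, e⟩ := z0_comm
      have := s.comm_mem h (hg _ (h.j_mem_T hu)) (hg _ (h.j_mem_T hv))
      have e' : zd = (g⁻¹ * j u * g) * (g⁻¹ * j v * g) * (g⁻¹ * j u * g)⁻¹ * (g⁻¹ * j v * g)⁻¹ := by
        rw [hzd, e]
        simp only [map_mul, map_inv]
        group
      rwa [← e'] at this
    have hz1 : zd ≠ 1 := by
      intro e
      apply h.jz_ne
      calc j z0 = g * zd * g⁻¹ := by rw [hzd]; group
        _ = 1 := by rw [e]; group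
    have dzN : d * zd ∉ s.N0 h := fun e => hgN (((s.N0 h).mul_mem_cancel_right hzN).1 e)
    have nN : ∀ k ∈ s.HH h, ∀ x ∈ s.HH h, (k * x * k⁻¹ ∈ s.N0 h ↔ x ∈ s.N0 h) := by
      intro k hk x hx
      have h1 := hl (⟨k, hk⟩ * ⟨x, hx⟩ * ⟨k, hk⟩⁻¹)
      have h2 := hl ⟨x, hx⟩
      rw [map_mul, map_mul, map_inv, mul_comm (l ⟨k, hk⟩), mul_inv_cancel_right] at h1
      exact h1.symm.trans h2
    -- `zd = z`
    have hzz : zd = j z0 := by
      apply s.center h hzN hz1
      intro k hk
      have h1 : k * zd * k⁻¹ = zd := by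
        have hN := (nN k hk zd hzdH).2 hzN
        rcases four _ (conjC k hk zd hzC) with e | e | e | e
        · exfalso
          apply hz1
          calc zd = k⁻¹ * (k * zd * k⁻¹) * k := by group
            _ = 1 := by rw [e]; group
        · rw [e] at hN; exact absurd hN hgN
        · exact e
        · rw [e] at hN; exact absurd hN dzN
      calc k * zd = k * zd * k⁻¹ * k := by group
        _ = zd * k := by rw [h1]
    -- `[H, d] ≤ ⟨z⟩`
    have hdd : ∀ k ∈ s.HH h, k * d * k⁻¹ = d ∨ k * d * k⁻¹ = d * j z0 := by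
      intro k hk
      have hN : k * d * k⁻¹ ∉ s.N0 h := fun e => hgN ((nN k hk d hdH).1 e)
      rcases four _ (conjC k hk d hdC) with e | e | e | e
      · rw [e] at hN; exact absurd (s.N0 h).one_mem hN
      · exact Or.inl e
      · rw [e] at hN; exact absurd hzN hN
      · right; rw [e, hzz]
    have hd2 : d * d = 1 := by
      calc d * d = g⁻¹ * (t * t) * g := by rw [hd]; group
        _ = 1 := by rw [h.tt]; group
    have hzq : ∀ q ∈ P1, q⁻¹ * z0 = z0 * q⁻¹ := fun q hq => (P1.inv_mem hq).1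
    have fin2 : ∀ p : Perm (Fin 8), (∀ q ∈ P1, q * p * q⁻¹ = p ∨ q * p * q⁻¹ = p * z0) →
        p = 1 ∨ p = z0 ∨ p = va ∨ p = va' := by
      intro p hp
      apply second_center
      intro q hq
      rcases hp q hq with e | e
      · left
        calc p * q = q * p * q⁻¹ * q := by rw [e]
          _ = q * p := by group
      · right
        have h1 : q * p = p * q * z0 := by
          calc q * p = q * p * q⁻¹ * q := by group
            _ = p * (z0 * q) := by rw [e]; group
            _ = p * q * z0 := by rw [← hq.1]; group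
        have hpz : p * z0 = z0 * p := by
          rcases hp z0 z0_mem_P1 with e | e
          · calc p * z0 = z0 * p * z0⁻¹ * z0 := by rw [e]
              _ = z0 * p := by group
          · exfalso
            have e2 : z0⁻¹ = z0 := by decide
            rw [e2] at e
            have h3 : z0 * p = p := by
              have := mul_right_cancel e
              exact this
            exact absurd (mul_eq_right.1 h3) (by decide)
        calc p * q = p * q * (z0 * z0) := by rw [z0_sq, mul_one]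
          _ = (q * p) * z0 := by rw [h1]; group
          _ = q * (p * z0) := by group
          _ = (q * z0) * p := by rw [hpz]; group
          _ = z0 * (q * p) := by rw [hq.1]; group
    -- `d ∈ {t, tz}`
    have hdt : d = t ∨ d = t * j z0 := by
      have htd : t * d ∈ s.N0 h := (mem_dbl.1 hdH).resolve_left hgN
      have key : ∀ x : G, t * d = x → d = t * x := by
        intro x hx
        rw [← hx, ← mul_assoc, h.tt, one_mul]
      obtain ⟨p, hp, e | e⟩ := (s.mem_N0 h).1 htd
      · have e1 := key _ e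
        have hp4 : p = 1 ∨ p = z0 ∨ p = va ∨ p = va' := by
          apply fin2
          intro q hq
          have h1 : j q * d * (j q)⁻¹ = t * j (q * p * q⁻¹) := by
            rw [e1]
            calc j q * (t * j p) * (j q)⁻¹ = (j q * t) * j p * (j q)⁻¹ := by group
              _ = t * j q * j p * (j q)⁻¹ := by rw [← h.comm]
              _ = t * j (q * p * q⁻¹) := by simp only [map_mul, map_inv]; group
          rcases hdd _ (s.N0_le h (s.j_mem h hq)) with e2 | e2
          · left
            rw [h1, e1] at e2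
            exact h.inj (mul_left_cancel e2)
          · right
            rw [h1, e1, mul_assoc t (j p), ← map_mul] at e2
            exact h.inj (mul_left_cancel e2)
        rcases hp4 with rfl | rfl | rfl | rfl
        · left; rw [e1, map_one, mul_one]
        · right; exact e1
        · exfalso
          apply hD
          rw [← e1]
          exact isConj_iff.2 ⟨g⁻¹, by rw [inv_inv]⟩
        · exfalso
          apply hD'
          rw [← e1]
          exact isConj_iff.2 ⟨g⁻¹, by rw [inv_inv]⟩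
      · exfalso
        have e1 := key _ e
        have hp4 : p = 1 ∨ p = z0 ∨ p = va ∨ p = va' := by
          apply fin2
          intro q hq
          obtain ⟨c, hc, hqc⟩ := s.act h (Or.inl rfl) (Or.inr rfl) hq.1
          have hcc : ∀ r : Perm (Fin 8), r * z0 = z0 * r → c * r = r * c := by
            rcases hc with rfl | rfl
            · intro r _; rw [one_mul, mul_one]
            · exact fun r hr => hr.symm
          have h1 : j q * d * (j q)⁻¹ = t * y * j (q * p * q⁻¹ * c) := by
            rw [e1]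
            calc j q * (t * (y * j p)) * (j q)⁻¹ = (j q * t) * y * j p * (j q)⁻¹ := by group
              _ = t * (1 * j q * y) * j p * (j q)⁻¹ := by rw [← h.comm]; group
              _ = t * (y * y * j q * y) * j p * (j q)⁻¹ := by rw [s.yy]
              _ = t * y * (y * j q * y) * j p * (j q)⁻¹ := by group
              _ = t * y * j (q * c * p * q⁻¹) := by rw [hqc]; simp only [map_mul, map_inv]; group
              _ = t * y * j (q * p * q⁻¹ * c) := by
                  congr 2
                  have h3 : c * (p * q⁻¹) = p * q⁻¹ * c :=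
                    hcc _ (by rw [mul_assoc, hzq q hq, ← mul_assoc, hp.1, mul_assoc])
                  calc q * c * p * q⁻¹ = q * (c * (p * q⁻¹)) := by group
                    _ = q * p * q⁻¹ * c := by rw [h3]; group
          have hzz' : z0 * z0 = 1 := z0_sq
          rcases hdd _ (s.N0_le h (s.j_mem h hq)) with e2 | e2
          · rw [h1, e1, ← mul_assoc] at e2
            have e3 := h.inj (mul_left_cancel e2)
            rcases hc with rfl | rfl
            · left; rwa [mul_one] at e3
            · right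
              calc q * p * q⁻¹ = q * p * q⁻¹ * z0 * z0 := by rw [mul_assoc (q * p * q⁻¹), hzz', mul_one]
                _ = p * z0 := by rw [e3]
          · rw [h1, e1, mul_assoc t, mul_assoc t, mul_assoc y (j p), ← map_mul] at e2
            have e3 := h.inj (mul_left_cancel (mul_left_cancel e2))
            rcases hc with rfl | rfl
            · right; rwa [mul_one] at e3
            · left; exact mul_right_cancel e3
        have hyp : y * j p * y = j p := by
          rcases hp4 with rfl | rfl | rfl | rfl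
          · rw [map_one, mul_one, s.yy]
          · exact yz
          · exact s.act_va h
          · exact s.act_va' h
        have hpp : p * p = 1 := by
          rcases hp4 with rfl | rfl | rfl | rfl
          · rw [one_mul]
          · exact z0_sq
          · exact va_sq
          · exact va'_sq
        rw [e1] at hd2
        apply h.jz_ne
        calc j z0 = y * y * j z0 * j (p * p) := by rw [s.yy, hpp, map_one]; group
          _ = y * (y * j z0) * (j p * j p) := by rw [map_mul]; group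
          _ = y * (t * y * t) * (j p * j p) := by rw [s.tyt h]
          _ = y * (t * y) * (t * j p) * j p := by group
          _ = y * (t * y) * (j p * t) * j p := by rw [h.comm]
          _ = y * (t * (y * j p) * (t * (y * (y * j p)))) := by
              have : y * (y * j p) = j p := by rw [← mul_assoc, s.yy, one_mul]
              rw [this]; group
          _ = y * ((t * (y * j p)) * (t * (y * (j p * y)))) := by
              have : y * j p = j p * y := by
                calc y * j p = y * j p * y * y := by rw [mul_assoc (y * j p), s.yy, mul_one]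
                  _ = j p * y := by rw [hyp]
              rw [this]
          _ = y * ((t * (y * j p)) * (t * (y * j p))) * y := by group
          _ = 1 := by rw [hd2, mul_one, s.yy]
    -- WLOG `d = t`
    have last : ∀ g' : G, (∀ x ∈ h.T, g'⁻¹ * x * g' ∈ s.HH h) → g'⁻¹ * t * g' = t → g' ∈ s.HH h := by
      intro g' hg' ht
      have hc : g' * t = t * g' := by
        calc g' * t = g' * (g'⁻¹ * t * g') := by rw [ht]
          _ = t * g' := by group
      apply s.T_le h
      apply h.mem_T_of hc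
      intro x hx
      apply s.cent_t h (hg' x hx)
      have h1 := h.T_comm hx
      calc g'⁻¹ * x * g' * t = g'⁻¹ * x * (g' * t) := by group
        _ = g'⁻¹ * (x * t) * g' := by rw [hc]; group
        _ = g'⁻¹ * t * g' * (g'⁻¹ * x * g') := by rw [h1]; group
        _ = t * (g'⁻¹ * x * g') := by rw [ht]
    rcases hdt with e | e
    · exact last g hg e
    · have hy : y ∈ s.HH h := s.N0_le h (s.y_mem h)
      have yi : y⁻¹ = y := inv_eq_of_mul_eq_one_left s.yy
      have h1 : g * y ∈ s.HH h := by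
        apply last
        · intro x hx
          have : (g * y)⁻¹ * x * (g * y) = y⁻¹ * (g⁻¹ * x * g) * y := by group
          rw [this]
          exact (s.HH h).mul_mem ((s.HH h).mul_mem ((s.HH h).inv_mem hy) (hg x hx)) hy
        · calc (g * y)⁻¹ * t * (g * y) = y⁻¹ * d * y := by rw [hd]; group
            _ = y * (t * j z0) * y := by rw [e, yi]
            _ = (y * t * y) * (y * j z0 * y) := s.mul_conj _ _
            _ = t := by rw [s.yt, yz, mul_assoc, h.jz, mul_one]
      exact ((s.HH h).mul_mem_cancel_right hy).1 h1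
  have huniq : ∀ q : G ⧸ s.HH h, (TR.Bad (H := s.HH h) l t q ∧ ∀ x ∈ h.T, x • q = q) →
      q = ((1 : G) : G ⧸ s.HH h) := by
    rintro q ⟨⟨g, rfl, hgt, hlg⟩, hfix⟩
    have hn : ∀ x ∈ h.T, g⁻¹ * x * g ∈ s.HH h := by
      intro x hx
      have h1 := hfix x hx
      rw [MulAction.Quotient.smul_coe, smul_eq_mul, eq_comm, QuotientGroup.eq] at h1
      rwa [← mul_assoc] at h1
    have hN : g⁻¹ * t * g ∉ s.N0 h := by
      intro hN
      have := (hl ⟨g⁻¹ * t * g, hgt⟩).2 hN
      exact absurd (hlg.symm.trans this) (by decide)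
    rw [QuotientGroup.eq, mul_one]
    exact (s.HH h).inv_mem (main g hn hN)
  have hone : TR.Bad (H := s.HH h) l t ((1 : G) : G ⧸ s.HH h) ∧
      ∀ x ∈ h.T, x • ((1 : G) : G ⧸ s.HH h) = ((1 : G) : G ⧸ s.HH h) := by
    have e : (1 : G)⁻¹ * t * 1 = t := by group
    have ht : (1 : G)⁻¹ * t * 1 ∈ s.HH h := by rw [e]; exact s.T_le h h.t_mem_T
    refine ⟨⟨1, rfl, ht, ?_⟩, ?_⟩
    · refine (TR.units_eq _).resolve_left fun h1 => ?_
      have h2 : (1 : G)⁻¹ * t * 1 ∈ s.N0 h := (hl ⟨_, ht⟩).1 h1
      rw [e] at h2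
      exact tN h2
    · intro x hx
      rw [MulAction.Quotient.smul_coe, smul_eq_mul, mul_one, eq_comm, QuotientGroup.eq, inv_one, one_mul]
      exact s.T_le h hx
  have : Nat.card {q : G ⧸ s.HH h // TR.Bad (H := s.HH h) l t q ∧ ∀ x ∈ h.T, x • q = q} = 1 := by
    rw [Nat.card_eq_one_iff_unique]
    refine ⟨⟨fun a b => Subtype.ext ((huniq _ a.2).trans (huniq _ b.2).symm)⟩, ⟨⟨_, hone⟩⟩⟩
  rw [this]
  exact odd_one

end Pre

end Cfsg.Agent.OddHalf.D5.Eight
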