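import Cfsg.Agent.OddHalf.D5.EightAff

/-!
# The seven bad swaps (helper401)
-/

set_option autoImplicit false

namespace Cfsg.Agent.OddHalf.D5.EightBad

open Matrix EightMat EightMatB EightAff

variable {G : Type*} [Group G] {t : G} {φ : S4 →* G}

theorem vv_a : vv ![1, 0, 0, 0] = tv 0 2 := by decide +kernel

theorem vv_z : vv ![0, 1, 0, 0] = tv 0 3 := by decide +kernel

theorem vv_s : vv ![0, 0, 1, 0] = tv 1 2 := by decide +kernel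

theorem cp_az : CP (vv ![1, 0, 0, 0]) (vv ![0, 1, 0, 0]) := by
  rw [vv_a, vv_z]; exact CP_row (by decide) (by decide)

theorem cp_aa : CP (vv ![1, 0, 0, 0]) (vv ![1, 0, 0, 0]) := by
  rw [vv_a]; exact CP_row (by decide) (by decide)

theorem cp_ss : CP (vv ![0, 0, 1, 0]) (vv ![0, 0, 1, 0]) := by
  rw [vv_s]; exact CP_row (by decide) (by decide)

theorem idone (h : Hyp t φ) {w : G} (ht : w * t * w⁻¹ = t * φ (tv 0 3)) (hz : w * φ (tv 0 3) * w⁻¹ = φ (tv 0 3))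
    (ha : w * φ (tv 0 2) * w⁻¹ = φ (tv 0 2)) (hs : w * φ (tv 1 2) * w⁻¹ = φ (tv 1 2 * tv 0 3))
    (hb : w * φ (tv 1 3) * w⁻¹ = φ (tv 1 3)) : False := by
  have hw : Aff t φ w !![1, 0, 0, 0; 0, 1, 1, 0; 0, 0, 1, 0; 0, 0, 0, 1] ![0, 1, 0, 0] :=
    Aff.of_w ht hz ha hs hb (by decide +kernel)
  refine word h (K1 := !![1, 1, 0, 0; 0, 1, 0, 0; 1, 1, 1, 1; 0, 1, 0, 1]) (K2 := !![1, 1, 0, 0; 0, 1, 0, 0; 1, 1, 1, 1; 0, 1, 0, 1])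
    (k1 := tv 3 2 * tv 1 0) (k2 := tv 3 2 * tv 1 0) (b := ![1, 0, 0, 0]) (c := ![0, 1, 0, 0])
    hw (by decide +kernel) (by decide +kernel) (by decide +kernel) cp_az ?_
  have e1 : vv ((!![1, 0, 0, 0; 0, 1, 1, 0; 0, 0, 1, 0; 0, 0, 0, 1] * (!![1, 1, 0, 0; 0, 1, 0, 0; 1, 1, 1, 1; 0, 1, 0, 1] *
      (!![1, 0, 0, 0; 0, 1, 1, 0; 0, 0, 1, 0; 0, 0, 0, 1] * (!![1, 1, 0, 0; 0, 1, 0, 0; 1, 1, 1, 1; 0, 1, 0, 1] *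
      !![1, 0, 0, 0; 0, 1, 1, 0; 0, 0, 1, 0; 0, 0, 0, 1]))) : Matrix (Fin 4) (Fin 4) (ZMod 2)) *ᵥ ![1, 0, 0, 0]) = tv 1 2 * tv 1 3 := by decide +kernel
  have e2 : vv ((!![1, 0, 0, 0; 0, 1, 1, 0; 0, 0, 1, 0; 0, 0, 0, 1] * (!![1, 1, 0, 0; 0, 1, 0, 0; 1, 1, 1, 1; 0, 1, 0, 1] *
      (!![1, 0, 0, 0; 0, 1, 1, 0; 0, 0, 1, 0; 0, 0, 0, 1] * (!![1, 1, 0, 0; 0, 1, 0, 0; 1, 1, 1, 1; 0, 1, 0, 1] *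
      !![1, 0, 0, 0; 0, 1, 1, 0; 0, 0, 1, 0; 0, 0, 0, 1]))) : Matrix (Fin 4) (Fin 4) (ZMod 2)) *ᵥ ![0, 1, 0, 0]) = tv 0 2 * tv 0 3 * tv 1 2 * tv 1 3 := by decide +kernel
  rw [e1, e2]
  exact not_CP_1

theorem swz (h : Hyp t φ) {w : G} (ht : w * t * w⁻¹ = t * φ (tv 0 3)) (hz : w * φ (tv 0 3) * w⁻¹ = φ (tv 0 3))
    (ha : w * φ (tv 0 2) * w⁻¹ = φ (tv 1 3)) (hs : w * φ (tv 1 2) * w⁻¹ = φ (tv 1 2))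
    (hb : w * φ (tv 1 3) * w⁻¹ = φ (tv 0 2)) : False := by
  have hw : Aff t φ w !![0, 0, 0, 1; 0, 1, 0, 0; 0, 0, 1, 0; 1, 0, 0, 0] ![0, 1, 0, 0] :=
    Aff.of_w ht hz ha hs hb (by decide +kernel)
  refine word h (K1 := !![0, 1, 0, 0; 1, 1, 0, 0; 0, 0, 0, 1; 0, 0, 1, 1]) (K2 := !![1, 0, 0, 0; 0, 1, 0, 0; 1, 0, 1, 0; 0, 1, 0, 1])
    (k1 := tv 3 2 * tv 2 3) (k2 := tv 1 0) (b := ![1, 0, 0, 0]) (c := ![0, 1, 0, 0])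
    hw (by decide +kernel) (by decide +kernel) (by decide +kernel) cp_az ?_
  have e1 : vv ((!![0, 0, 0, 1; 0, 1, 0, 0; 0, 0, 1, 0; 1, 0, 0, 0] * (!![0, 1, 0, 0; 1, 1, 0, 0; 0, 0, 0, 1; 0, 0, 1, 1] *
      (!![0, 0, 0, 1; 0, 1, 0, 0; 0, 0, 1, 0; 1, 0, 0, 0] * (!![1, 0, 0, 0; 0, 1, 0, 0; 1, 0, 1, 0; 0, 1, 0, 1] *
      !![0, 0, 0, 1; 0, 1, 0, 0; 0, 0, 1, 0; 1, 0, 0, 0]))) : Matrix (Fin 4) (Fin 4) (ZMod 2)) *ᵥ ![1, 0, 0, 0]) = tv 0 3 := by decide +kernel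
  have e2 : vv ((!![0, 0, 0, 1; 0, 1, 0, 0; 0, 0, 1, 0; 1, 0, 0, 0] * (!![0, 1, 0, 0; 1, 1, 0, 0; 0, 0, 0, 1; 0, 0, 1, 1] *
      (!![0, 0, 0, 1; 0, 1, 0, 0; 0, 0, 1, 0; 1, 0, 0, 0] * (!![1, 0, 0, 0; 0, 1, 0, 0; 1, 0, 1, 0; 0, 1, 0, 1] *
      !![0, 0, 0, 1; 0, 1, 0, 0; 0, 0, 1, 0; 1, 0, 0, 0]))) : Matrix (Fin 4) (Fin 4) (ZMod 2)) *ᵥ ![0, 1, 0, 0]) = tv 1 3 := by decide +kernel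
  rw [e1, e2]
  exact not_CP_2

theorem swo (h : Hyp t φ) {w : G} (ht : w * t * w⁻¹ = t * φ (tv 0 3)) (hz : w * φ (tv 0 3) * w⁻¹ = φ (tv 0 3))
    (ha : w * φ (tv 0 2) * w⁻¹ = φ (tv 1 3)) (hs : w * φ (tv 1 2) * w⁻¹ = φ (tv 1 2 * tv 0 3))
    (hb : w * φ (tv 1 3) * w⁻¹ = φ (tv 0 2)) : False := by
  have hw : Aff t φ w !![0, 0, 0, 1; 0, 1, 1, 0; 0, 0, 1, 0; 1, 0, 0, 0] ![0, 1, 0, 0] :=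
    Aff.of_w ht hz ha hs hb (by decide +kernel)
  refine word h (K1 := !![0, 1, 0, 0; 1, 1, 0, 0; 0, 0, 0, 1; 0, 0, 1, 1]) (K2 := !![1, 0, 0, 0; 0, 1, 0, 0; 1, 0, 1, 0; 0, 1, 0, 1])
    (k1 := tv 3 2 * tv 2 3) (k2 := tv 1 0) (b := ![1, 0, 0, 0]) (c := ![0, 1, 0, 0])
    hw (by decide +kernel) (by decide +kernel) (by decide +kernel) cp_az ?_
  have e1 : vv ((!![0, 0, 0, 1; 0, 1, 1, 0; 0, 0, 1, 0; 1, 0, 0, 0] * (!![0, 1, 0, 0; 1, 1, 0, 0; 0, 0, 0, 1; 0, 0, 1, 1] *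
      (!![0, 0, 0, 1; 0, 1, 1, 0; 0, 0, 1, 0; 1, 0, 0, 0] * (!![1, 0, 0, 0; 0, 1, 0, 0; 1, 0, 1, 0; 0, 1, 0, 1] *
      !![0, 0, 0, 1; 0, 1, 1, 0; 0, 0, 1, 0; 1, 0, 0, 0]))) : Matrix (Fin 4) (Fin 4) (ZMod 2)) *ᵥ ![1, 0, 0, 0]) = tv 0 3 := by decide +kernel
  have e2 : vv ((!![0, 0, 0, 1; 0, 1, 1, 0; 0, 0, 1, 0; 1, 0, 0, 0] * (!![0, 1, 0, 0; 1, 1, 0, 0; 0, 0, 0, 1; 0, 0, 1, 1] *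
      (!![0, 0, 0, 1; 0, 1, 1, 0; 0, 0, 1, 0; 1, 0, 0, 0] * (!![1, 0, 0, 0; 0, 1, 0, 0; 1, 0, 1, 0; 0, 1, 0, 1] *
      !![0, 0, 0, 1; 0, 1, 1, 0; 0, 0, 1, 0; 1, 0, 0, 0]))) : Matrix (Fin 4) (Fin 4) (ZMod 2)) *ᵥ ![0, 1, 0, 0]) = tv 1 3 := by decide +kernel
  rw [e1, e2]
  exact not_CP_2

theorem aaz (h : Hyp t φ) {w : G} (ht : w * t * w⁻¹ = t * φ (tv 0 3)) (hz : w * φ (tv 0 3) * w⁻¹ = φ (tv 0 3))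
    (ha : w * φ (tv 0 2) * w⁻¹ = φ (tv 0 2)) (hs : w * φ (tv 1 2) * w⁻¹ = φ (tv 1 2))
    (hb : w * φ (tv 1 3) * w⁻¹ = φ (cc)) : False := by
  have hw : Aff t φ w !![1, 0, 0, 1; 0, 1, 0, 1; 0, 0, 1, 0; 0, 0, 0, 1] ![0, 1, 0, 0] :=
    Aff.of_w ht hz ha hs hb (by decide +kernel)
  refine word h (K1 := !![0, 1, 0, 0; 1, 1, 0, 0; 0, 0, 0, 1; 0, 0, 1, 1]) (K2 := !![1, 1, 0, 0; 0, 1, 0, 0; 0, 0, 1, 1; 0, 0, 0, 1])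
    (k1 := tv 3 2 * tv 2 3) (k2 := tv 3 2) (b := ![0, 0, 1, 0]) (c := ![0, 0, 1, 0])
    hw (by decide +kernel) (by decide +kernel) (by decide +kernel) cp_ss ?_
  have e1 : vv ((!![1, 0, 0, 1; 0, 1, 0, 1; 0, 0, 1, 0; 0, 0, 0, 1] * (!![0, 1, 0, 0; 1, 1, 0, 0; 0, 0, 0, 1; 0, 0, 1, 1] *
      (!![1, 0, 0, 1; 0, 1, 0, 1; 0, 0, 1, 0; 0, 0, 0, 1] * (!![1, 1, 0, 0; 0, 1, 0, 0; 0, 0, 1, 1; 0, 0, 0, 1] *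
      !![1, 0, 0, 1; 0, 1, 0, 1; 0, 0, 1, 0; 0, 0, 0, 1]))) : Matrix (Fin 4) (Fin 4) (ZMod 2)) *ᵥ ![0, 0, 1, 0]) = tv 0 2 * tv 0 3 * tv 1 3 := by decide +kernel
  rw [e1]
  exact not_CP_3

theorem aao (h : Hyp t φ) {w : G} (ht : w * t * w⁻¹ = t * φ (tv 0 3)) (hz : w * φ (tv 0 3) * w⁻¹ = φ (tv 0 3))
    (ha : w * φ (tv 0 2) * w⁻¹ = φ (tv 0 2)) (hs : w * φ (tv 1 2) * w⁻¹ = φ (tv 1 2 * tv 0 3))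
    (hb : w * φ (tv 1 3) * w⁻¹ = φ (cc)) : False := by
  have hw : Aff t φ w !![1, 0, 0, 1; 0, 1, 1, 1; 0, 0, 1, 0; 0, 0, 0, 1] ![0, 1, 0, 0] :=
    Aff.of_w ht hz ha hs hb (by decide +kernel)
  refine word h (K1 := !![0, 1, 0, 0; 1, 1, 0, 0; 0, 0, 0, 1; 0, 0, 1, 1]) (K2 := !![1, 1, 0, 0; 0, 1, 0, 0; 0, 0, 1, 1; 0, 0, 0, 1])
    (k1 := tv 3 2 * tv 2 3) (k2 := tv 3 2) (b := ![0, 0, 1, 0]) (c := ![0, 0, 1, 0])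
    hw (by decide +kernel) (by decide +kernel) (by decide +kernel) cp_ss ?_
  have e1 : vv ((!![1, 0, 0, 1; 0, 1, 1, 1; 0, 0, 1, 0; 0, 0, 0, 1] * (!![0, 1, 0, 0; 1, 1, 0, 0; 0, 0, 0, 1; 0, 0, 1, 1] *
      (!![1, 0, 0, 1; 0, 1, 1, 1; 0, 0, 1, 0; 0, 0, 0, 1] * (!![1, 1, 0, 0; 0, 1, 0, 0; 0, 0, 1, 1; 0, 0, 0, 1] *
      !![1, 0, 0, 1; 0, 1, 1, 1; 0, 0, 1, 0; 0, 0, 0, 1]))) : Matrix (Fin 4) (Fin 4) (ZMod 2)) *ᵥ ![0, 0, 1, 0]) = tv 0 2 * tv 1 3 := by decide +kernel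
  rw [e1]
  exact not_CP_4

theorem bbz (h : Hyp t φ) {w : G} (ht : w * t * w⁻¹ = t * φ (tv 0 3)) (hz : w * φ (tv 0 3) * w⁻¹ = φ (tv 0 3))
    (ha : w * φ (tv 0 2) * w⁻¹ = φ (cc)) (hs : w * φ (tv 1 2) * w⁻¹ = φ (tv 1 2))
    (hb : w * φ (tv 1 3) * w⁻¹ = φ (tv 1 3)) : False := by
  have hw : Aff t φ w !![1, 0, 0, 0; 1, 1, 0, 0; 0, 0, 1, 0; 1, 0, 0, 1] ![0, 1, 0, 0] :=
    Aff.of_w ht hz ha hs hb (by decide +kernel)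
  refine word h (K1 := !![1, 0, 1, 0; 0, 1, 0, 1; 1, 0, 0, 0; 0, 1, 0, 0]) (K2 := !![1, 0, 0, 0; 0, 1, 0, 0; 1, 0, 1, 0; 0, 1, 0, 1])
    (k1 := tv 1 0 * tv 0 1) (k2 := tv 1 0) (b := ![1, 0, 0, 0]) (c := ![1, 0, 0, 0])
    hw (by decide +kernel) (by decide +kernel) (by decide +kernel) cp_aa ?_
  have e1 : vv ((!![1, 0, 0, 0; 1, 1, 0, 0; 0, 0, 1, 0; 1, 0, 0, 1] * (!![1, 0, 1, 0; 0, 1, 0, 1; 1, 0, 0, 0; 0, 1, 0, 0] *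
      (!![1, 0, 0, 0; 1, 1, 0, 0; 0, 0, 1, 0; 1, 0, 0, 1] * (!![1, 0, 0, 0; 0, 1, 0, 0; 1, 0, 1, 0; 0, 1, 0, 1] *
      !![1, 0, 0, 0; 1, 1, 0, 0; 0, 0, 1, 0; 1, 0, 0, 1]))) : Matrix (Fin 4) (Fin 4) (ZMod 2)) *ᵥ ![1, 0, 0, 0]) = tv 0 3 * tv 1 2 := by decide +kernel
  rw [e1]
  exact not_CP_5

theorem bbo (h : Hyp t φ) {w : G} (ht : w * t * w⁻¹ = t * φ (tv 0 3)) (hz : w * φ (tv 0 3) * w⁻¹ = φ (tv 0 3))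
    (ha : w * φ (tv 0 2) * w⁻¹ = φ (cc)) (hs : w * φ (tv 1 2) * w⁻¹ = φ (tv 1 2 * tv 0 3))
    (hb : w * φ (tv 1 3) * w⁻¹ = φ (tv 1 3)) : False := by
  have hw : Aff t φ w !![1, 0, 0, 0; 1, 1, 1, 0; 0, 0, 1, 0; 1, 0, 0, 1] ![0, 1, 0, 0] :=
    Aff.of_w ht hz ha hs hb (by decide +kernel)
  refine word h (K1 := !![1, 0, 1, 0; 0, 1, 0, 1; 1, 0, 0, 0; 0, 1, 0, 0]) (K2 := !![1, 0, 0, 0; 0, 1, 0, 0; 1, 0, 1, 0; 0, 1, 0, 1])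
    (k1 := tv 1 0 * tv 0 1) (k2 := tv 1 0) (b := ![1, 0, 0, 0]) (c := ![1, 0, 0, 0])
    hw (by decide +kernel) (by decide +kernel) (by decide +kernel) cp_aa ?_
  have e1 : vv ((!![1, 0, 0, 0; 1, 1, 1, 0; 0, 0, 1, 0; 1, 0, 0, 1] * (!![1, 0, 1, 0; 0, 1, 0, 1; 1, 0, 0, 0; 0, 1, 0, 0] *
      (!![1, 0, 0, 0; 1, 1, 1, 0; 0, 0, 1, 0; 1, 0, 0, 1] * (!![1, 0, 0, 0; 0, 1, 0, 0; 1, 0, 1, 0; 0, 1, 0, 1] *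
      !![1, 0, 0, 0; 1, 1, 1, 0; 0, 0, 1, 0; 1, 0, 0, 1]))) : Matrix (Fin 4) (Fin 4) (ZMod 2)) *ᵥ ![1, 0, 0, 0]) = tv 0 3 * tv 1 2 * tv 1 3 := by decide +kernel
  rw [e1]
  exact not_CP_6

end Cfsg.Agent.OddHalf.D5.EightBad
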