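import Cfsg.Agent.OddHalf.D5.EightMat
import Cfsg.Agent.S0242

/-!
# `SL₄(2)`: unitriangular subgroups (helper401)
-/

set_option autoImplicit false

namespace Cfsg.Agent.OddHalf.D5.EightUp

open Matrix EightMat

theorem val_mul (a b : S4) : (a * b).1 = a.1 * b.1 := rfl

theorem val_one : (1 : S4).1 = 1 := rfl

/-- the matrices `1 + N` with `N k l ≠ 0 → k + h ≤ l ∧ p k l` -/
def Dm (h : ℕ) (p : Fin 4 → Fin 4 → Prop)
    (hp : ∀ k l : Fin 4, (k : ℕ) + 2 * h ≤ l → p k l) : Submonoid S4 where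
  carrier := {c | ∀ k l, c.1 k l ≠ (1 : Matrix (Fin 4) (Fin 4) (ZMod 2)) k l → (k : ℕ) + h ≤ l ∧ p k l}
  one_mem' := fun k l hkl => absurd rfl hkl
  mul_mem' := by
    intro a b ha hb k l hkl
    by_contra hn
    apply hkl
    have e : ∀ c : S4, c.1 = 1 + (c.1 - 1) := fun c => by rw [add_sub_cancel]
    rw [val_mul, e a, e b]
    have e2 : (1 + (a.1 - 1)) * (1 + (b.1 - 1)) = 1 + ((a.1 - 1) + (b.1 - 1) + (a.1 - 1) * (b.1 - 1)) := by
      noncomm_ring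
    rw [e2, Matrix.add_apply, Matrix.add_apply, Matrix.add_apply]
    have e3 : (a.1 - 1) k l = 0 := by
      rw [Matrix.sub_apply, sub_eq_zero]
      by_contra h2
      exact hn (ha k l h2)
    have e4 : (b.1 - 1) k l = 0 := by
      rw [Matrix.sub_apply, sub_eq_zero]
      by_contra h2
      exact hn (hb k l h2)
    have e5 : ((a.1 - 1) * (b.1 - 1)) k l = 0 := by
      rw [Matrix.mul_apply]
      apply Finset.sum_eq_zero
      intro m _
      by_contra h2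
      have h3 : (a.1 - 1) k m ≠ 0 := fun h => h2 (by rw [h, zero_mul])
      have h4 : (b.1 - 1) m l ≠ 0 := fun h => h2 (by rw [h, mul_zero])
      rw [Matrix.sub_apply, sub_ne_zero] at h3 h4
      have h5 := (ha k m h3).1
      have h6 := (hb m l h4).1
      exact hn ⟨by omega, hp k l (by omega)⟩
    rw [e3, e4, e5, add_zero, add_zero, add_zero]

/-- the matrices `1 + N` with `N k l ≠ 0 → k + h ≤ l ∧ p k l` -/
def D (h : ℕ) (p : Fin 4 → Fin 4 → Prop)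
    (hp : ∀ k l : Fin 4, (k : ℕ) + 2 * h ≤ l → p k l) : Subgroup S4 :=
  { Dm h p hp with
    inv_mem' := by
      intro c hc
      have h1 : c⁻¹ = c ^ (orderOf c - 1) := by
        rw [inv_eq_iff_mul_eq_one, ← pow_succ', Nat.sub_add_cancel (orderOf_pos c), pow_orderOf_eq_one]
      rw [h1]
      exact (Dm h p hp).pow_mem hc _ }

theorem mem_D {h : ℕ} {p : Fin 4 → Fin 4 → Prop} {hp : ∀ k l : Fin 4, (k : ℕ) + 2 * h ≤ l → p k l} {c : S4} :
    c ∈ D h p hp ↔ ∀ k l, c.1 k l ≠ (1 : Matrix (Fin 4) (Fin 4) (ZMod 2)) k l → (k : ℕ) + h ≤ l ∧ p k l :=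
  Iff.rfl

theorem tv_apply {i j : Fin 4} (hij : i ≠ j) (k l : Fin 4) :
    (tv i j).1 k l ≠ (1 : Matrix (Fin 4) (Fin 4) (ZMod 2)) k l → k = i ∧ l = j := by
  rw [coe_tv hij, Matrix.add_apply]
  intro h
  by_contra hn
  apply h
  rw [Matrix.single_apply_of_ne _ _ _ _ _ (fun h => hn ⟨h.1.symm, h.2.symm⟩), add_zero]

theorem tv_mem_D {h : ℕ} {p : Fin 4 → Fin 4 → Prop} {hp : ∀ k l : Fin 4, (k : ℕ) + 2 * h ≤ l → p k l}
    {i j : Fin 4} (hij : (i : ℕ) + h ≤ j) (hne : i ≠ j) (h2 : p i j) : tv i j ∈ D h p hp := by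
  rw [mem_D]
  intro k l hkl
  obtain ⟨rfl, rfl⟩ := tv_apply hne k l hkl
  exact ⟨hij, h2⟩

theorem tv_notMem_D {h : ℕ} {p : Fin 4 → Fin 4 → Prop} {hp : ∀ k l : Fin 4, (k : ℕ) + 2 * h ≤ l → p k l}
    {i j : Fin 4} (hne : i ≠ j) (h2 : ¬ p i j) : tv i j ∉ D h p hp := by
  rw [mem_D]
  intro h3
  apply h2
  refine (h3 i j ?_).2
  rw [coe_tv hne, Matrix.add_apply, Matrix.single_apply_same]
  intro h4
  exact one_ne_zero (left_eq_add.1 h4.symm)

/-- the unitriangular group -/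
def U : Subgroup S4 := D 1 (fun _ _ => True) (fun _ _ _ => trivial)

/-- enumeration of `U` -/
def ue (a b c d e f : Bool) : S4 :=
  pw (tv 2 3) a * pw (tv 1 3) b * pw (tv 1 2) c * pw (tv 0 3) d * pw (tv 0 2) e * pw (tv 0 1) f

theorem ue_aux : ∀ x1 x2 x3 x4 x5 x6 : ZMod 2, ∃ a b c d e f : Bool,
    !![1, x1, x2, x3; 0, 1, x4, x5; 0, 0, 1, x6; 0, 0, 0, 1] = (ue a b c d e f).1 := by
  decide +kernel

theorem exists_ue {c : S4} (h : c ∈ U) : ∃ a b c' d e f : Bool, c = ue a b c' d e f := by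
  have h0 : ∀ k l : Fin 4, l ≤ k → c.1 k l = (1 : Matrix (Fin 4) (Fin 4) (ZMod 2)) k l := by
    intro k l hkl
    by_contra hn
    have h1 := (h k l hn).1
    have h2 : (l : ℕ) ≤ k := hkl
    omega
  have e1 : c.1 = !![1, c.1 0 1, c.1 0 2, c.1 0 3; 0, 1, c.1 1 2, c.1 1 3; 0, 0, 1, c.1 2 3; 0, 0, 0, 1] := by
    ext k l
    fin_cases k <;> fin_cases l <;> first
      | rfl
      | exact h0 _ _ (by decide)
  obtain ⟨a, b, c', d, e, f, h4⟩ := ue_aux (c.1 0 1) (c.1 0 2) (c.1 0 3) (c.1 1 2) (c.1 1 3) (c.1 2 3)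
  exact ⟨a, b, c', d, e, f, Subtype.ext (e1.trans h4)⟩

/-- decoding -/
def dec (c : S4) : Bool × Bool × Bool × Bool × Bool × Bool :=
  (c.1 2 3 = 1, c.1 1 3 = 1, c.1 1 2 = 1, c.1 0 3 = 1, c.1 0 2 = 1, c.1 0 1 = 1)

theorem dec_ue : ∀ a b c d e f : Bool, dec (ue a b c d e f) = (a, b, c, d, e, f) := by
  decide +kernel

theorem pw_mem {S : Subgroup S4} {g : S4} (h : g ∈ S) (b : Bool) : pw g b ∈ S := by
  cases b
  · exact S.one_mem
  · exact h

/-- a subgroup containing the upper transvections contains `U` -/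
theorem U_le {S : Subgroup S4} (h : ∀ i j : Fin 4, i < j → tv i j ∈ S) : U ≤ S := by
  intro c hc
  obtain ⟨a, b, c', d, e, f, rfl⟩ := exists_ue hc
  unfold ue
  exact mul_mem (mul_mem (mul_mem (mul_mem (mul_mem (pw_mem (h 2 3 (by decide)) _) (pw_mem (h 1 3 (by decide)) _))
    (pw_mem (h 1 2 (by decide)) _)) (pw_mem (h 0 3 (by decide)) _)) (pw_mem (h 0 2 (by decide)) _))
    (pw_mem (h 0 1 (by decide)) _)

theorem tv_mem_U {i j : Fin 4} (h : i < j) : tv i j ∈ U := tv_mem_D h h.ne trivial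

theorem ue_mem (a b c d e f : Bool) : ue a b c d e f ∈ U := by
  unfold ue
  exact mul_mem (mul_mem (mul_mem (mul_mem (mul_mem (pw_mem (tv_mem_U (by decide)) _)
    (pw_mem (tv_mem_U (by decide)) _)) (pw_mem (tv_mem_U (by decide)) _)) (pw_mem (tv_mem_U (by decide)) _))
    (pw_mem (tv_mem_U (by decide)) _)) (pw_mem (tv_mem_U (by decide)) _)

theorem card_U : Nat.card U = 64 := by
  let f : (Bool × Bool × Bool × Bool × Bool × Bool) → U := fun x =>
    ⟨ue x.1 x.2.1 x.2.2.1 x.2.2.2.1 x.2.2.2.2.1 x.2.2.2.2.2, ue_mem _ _ _ _ _ _⟩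
  have hf : Function.Bijective f := by
    constructor
    · intro x y hxy
      have h1 : dec (f x : S4) = dec (f y : S4) := by rw [hxy]
      rw [dec_ue, dec_ue] at h1
      exact h1
    · rintro ⟨c, hc⟩
      obtain ⟨a, b, c', d, e, g, rfl⟩ := exists_ue hc
      exact ⟨(a, b, c', d, e, g), rfl⟩
  rw [← Nat.card_congr (Equiv.ofBijective f hf)]
  simp

theorem card_S4 : Nat.card S4 = 20160 := by
  have h := Cfsg.Agent.S0242.result (F := ZMod 2) (q := 2) (ZMod.card 2) 4 (by norm_num)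
  rw [Fin.prod_univ_four] at h
  have e : ((2 : ℕ) ^ 4 - 2 ^ ((0 : Fin 4) : ℕ)) * (2 ^ 4 - 2 ^ ((1 : Fin 4) : ℕ)) *
      (2 ^ 4 - 2 ^ ((2 : Fin 4) : ℕ)) * (2 ^ 4 - 2 ^ ((3 : Fin 4) : ℕ)) = 20160 := by decide +kernel
  rw [e] at h
  have h2 : (2 - 1) * Nat.card S4 = 20160 := h
  omega

/-- a subgroup containing the generators of `C(z)` contains `C(z)` -/
theorem P_le {S : Subgroup S4} (h03 : tv 0 3 ∈ S) (h13 : tv 1 3 ∈ S) (h23 : tv 2 3 ∈ S) (h12 : tv 1 2 ∈ S)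
    (h21 : tv 2 1 ∈ S) (h01 : tv 0 1 ∈ S) (h02 : tv 0 2 ∈ S) {c : S4} (hc : c * tv 0 3 = tv 0 3 * c) :
    c ∈ S := by
  obtain ⟨m, a, b, c', d, e, rfl⟩ := exists_pe hc
  unfold pe
  refine mul_mem (mul_mem (mul_mem (mul_mem (mul_mem (pw_mem h03 _) (pw_mem h13 _)) (pw_mem h23 _)) ?_)
    (pw_mem h01 _)) (pw_mem h02 _)
  fin_cases m
  · exact S.one_mem
  · exact h12
  · exact h21
  · exact mul_mem h12 h21
  · exact mul_mem h21 h12
  · exact mul_mem (mul_mem h12 h21) h12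

end Cfsg.Agent.OddHalf.D5.EightUp
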