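import Cfsg.Agent.OddHalf.D5.EightBad
import Cfsg.Agent.OddHalf.D5.EightUp

/-!
# `K = SL₄(2) = A₈`, `C_G(t) = ⟨t⟩ × K`: the swap centralises `C_K(z)` (helper401)

`Wx t φ x`: `x` maps `t` to `t z` and fixes `z`.  From one such `x` we construct an involution `y` with the same property
that centralises `φ(C(z))`.
-/

set_option autoImplicit false

namespace Cfsg.Agent.OddHalf.D5.EightClean

open Matrix EightMat EightMatB EightAff

variable {G : Type*} [Group G] {t : G} {φ : S4 →* G}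

/-- `x` swaps `t` and `t z` -/
structure Wx (t : G) (φ : S4 →* G) (x : G) : Prop where
  t : x * t * x⁻¹ = t * φ (tv 0 3)
  z : x * φ (tv 0 3) * x⁻¹ = φ (tv 0 3)

theorem zz (φ : S4 →* G) : φ (tv 0 3) * φ (tv 0 3) = 1 := by rw [← map_mul, tv_sq, map_one]

/-- conjugation is compatible with commuting -/
theorem conj_comm {x a b : G} (h : a * b = b * a) : (x * a * x⁻¹) * (x * b * x⁻¹) = (x * b * x⁻¹) * (x * a * x⁻¹) := by
  calc (x * a * x⁻¹) * (x * b * x⁻¹) = x * (a * b) * x⁻¹ := by group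
    _ = x * (b * a) * x⁻¹ := by rw [h]
    _ = (x * b * x⁻¹) * (x * a * x⁻¹) := by group

theorem conj_mul {x a b : G} : x * (a * b) * x⁻¹ = (x * a * x⁻¹) * (x * b * x⁻¹) := by group

theorem comm_of_conj {x a b : G} (h : x * a * x⁻¹ = b) (h1 : x * a = a * x) : a = b := by
  rw [← h, h1]; group

theorem conj_eq_of_comm {x a : G} (h1 : x * a = a * x) : x * a * x⁻¹ = a := by
  rw [h1]; group

/-- conjugates of elements of `C(⟨t,z⟩)` -/
theorem Wx.cent {x : G} (W : Wx t φ x) {y : G} (hy : y * t = t * y) (hz : y * φ (tv 0 3) = φ (tv 0 3) * y) :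
    (x * y * x⁻¹) * t = t * (x * y * x⁻¹) ∧ (x * y * x⁻¹) * φ (tv 0 3) = φ (tv 0 3) * (x * y * x⁻¹) := by
  have h1 := conj_comm (x := x) hy
  have h2 := conj_comm (x := x) hz
  rw [W.t] at h1
  rw [W.z] at h2
  refine ⟨?_, h2⟩
  set y' := x * y * x⁻¹
  have e : t = (t * φ (tv 0 3)) * φ (tv 0 3) := by rw [mul_assoc, zz, mul_one]
  calc y' * t = y' * ((t * φ (tv 0 3)) * φ (tv 0 3)) := by rw [← e]
    _ = (y' * (t * φ (tv 0 3))) * φ (tv 0 3) := by group
    _ = (t * φ (tv 0 3)) * (y' * φ (tv 0 3)) := by rw [h1]; group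
    _ = (t * φ (tv 0 3)) * (φ (tv 0 3) * y') := by rw [h2]
    _ = ((t * φ (tv 0 3)) * φ (tv 0 3)) * y' := by group
    _ = t * y' := by rw [← e]

/-- elements of `C(⟨t,z⟩)` -/
theorem form (h : Hyp t φ) {y : G} (hy : y * t = t * y) (hz : y * φ (tv 0 3) = φ (tv 0 3) * y) :
    ∃ p : S4, p * tv 0 3 = tv 0 3 * p ∧ (y = φ p ∨ y = t * φ p) := by
  rcases h.cent y hy with ⟨p, rfl⟩ | ⟨p, rfl⟩
  · refine ⟨p, h.inj ?_, Or.inl rfl⟩
    rw [map_mul, map_mul, hz]
  · refine ⟨p, h.inj ?_, Or.inr rfl⟩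
    rw [map_mul, map_mul]
    have h1 := h.comm (tv 0 3)
    have : t * (φ p * φ (tv 0 3)) = t * (φ (tv 0 3) * φ p) := by
      calc t * (φ p * φ (tv 0 3)) = t * φ p * φ (tv 0 3) := by group
        _ = (φ (tv 0 3) * t) * φ p := by rw [hz]; group
        _ = t * (φ (tv 0 3) * φ p) := by rw [← h1]; group
    exact mul_left_cancel this

theorem phi_comm_t (h : Hyp t φ) (a : S4) : φ a * t = t * φ a := h.comm' a

theorem phi_comm {a b : S4} (φ : S4 →* G) (hab : a * b = b * a) : φ a * φ b = φ b * φ a := by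
  rw [← map_mul, hab, map_mul]

/-- powers of `t φ p` -/
theorem cube (h : Hyp t φ) {p : S4} (e : (t * φ p) * (t * φ p) * (t * φ p) = 1) : False := by
  apply h.ne (p * p * p)⁻¹
  have h1 : (t * φ p) * (t * φ p) * (t * φ p) = t * φ (p * p * p) := by
    calc (t * φ p) * (t * φ p) * (t * φ p) = t * (φ p * t) * φ p * (t * φ p) := by group
      _ = t * (t * φ p) * φ p * (t * φ p) := by rw [h.comm']
      _ = (t * t) * φ p * (φ p * t) * φ p := by group
      _ = (t * t) * φ p * (t * φ p) * φ p := by rw [h.comm']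
      _ = (φ p * t) * φ p * φ p := by rw [h.tt, one_mul]; group
      _ = t * φ (p * p * p) := by rw [h.comm', map_mul, map_mul]; group
  rw [h1] at e
  rw [map_inv]
  exact (mul_eq_one_iff_eq_inv.1 e).symm

theorem Wx.mul_phi (h : Hyp t φ) {x : G} (W : Wx t φ x) {a : S4} (ha : a * tv 0 3 = tv 0 3 * a) : Wx t φ (φ a * x) where
  t := by
    calc φ a * x * t * (φ a * x)⁻¹ = φ a * (x * t * x⁻¹) * (φ a)⁻¹ := by group
      _ = (φ a * t) * φ (tv 0 3) * (φ a)⁻¹ := by rw [W.t]; group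
      _ = t * (φ a * φ (tv 0 3)) * (φ a)⁻¹ := by rw [h.comm']; group
      _ = t * φ (tv 0 3) := by rw [phi_comm φ ha]; group
  z := by
    calc φ a * x * φ (tv 0 3) * (φ a * x)⁻¹ = φ a * (x * φ (tv 0 3) * x⁻¹) * (φ a)⁻¹ := by group
      _ = φ (tv 0 3) := by rw [W.z, phi_comm φ ha]; group

theorem rho_z : rho * tv 0 3 = tv 0 3 * rho := by decide +kernel

/-- **Step 1**: a swap commuting with `ρ` -/
theorem step1 (h : Hyp t φ) {x : G} (W : Wx t φ x) : ∃ x', Wx t φ x' ∧ x' * φ rho * x'⁻¹ = φ rho := by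
  obtain ⟨h1, h2⟩ := W.cent (phi_comm_t h rho) (phi_comm φ rho_z)
  obtain ⟨p, hp, hy⟩ := form h h1 h2
  have h3 : (x * φ rho * x⁻¹) * (x * φ rho * x⁻¹) * (x * φ rho * x⁻¹) = 1 := by
    calc (x * φ rho * x⁻¹) * (x * φ rho * x⁻¹) * (x * φ rho * x⁻¹) = x * (φ rho * φ rho * φ rho) * x⁻¹ := by group
      _ = 1 := by rw [← map_mul, ← map_mul, rho3, map_one]; group
  rcases hy with hy | hy
  · rw [hy, ← map_mul, ← map_mul] at h3
    have h4 : p * p * p = 1 := h.inj (h3.trans (map_one φ).symm)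
    have h5 : p ≠ 1 := by
      rintro rfl
      rw [map_one, mul_inv_eq_one] at hy
      exact rho_ne (h.inj ((mul_eq_left.1 hy).trans (map_one φ).symm))
    obtain ⟨a, ha1, ha2⟩ := p1 hp h4 h5
    refine ⟨φ a * x, W.mul_phi h ha1, ?_⟩
    calc φ a * x * φ rho * (φ a * x)⁻¹ = φ a * (x * φ rho * x⁻¹) * (φ a)⁻¹ := by group
      _ = φ (a * p) * (φ a)⁻¹ := by rw [hy, map_mul]
      _ = φ rho := by rw [ha2, map_mul]; group
  · rw [hy] at h3
    exact (cube h h3).elim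

theorem s_z : tv 1 2 * tv 0 3 = tv 0 3 * tv 1 2 := by decide +kernel

theorem s_rho : tv 1 2 * rho = rho * rho * tv 1 2 := by decide +kernel

theorem s_fix0 : (1 : S4) * (tv 1 2 * 1) = tv 1 2 * 1 := by decide +kernel

theorem s_fix1 : (rho * rho) * (tv 1 2 * rho) = tv 1 2 * (rho * rho) := by decide +kernel

theorem s_fix2 : rho * (tv 1 2 * (rho * rho)) = tv 1 2 * rho := by decide +kernel

theorem s_rr : tv 1 2 * (rho * rho) = rho * tv 1 2 := by decide +kernel

/-- the element `p` with `p ρ = ρ² p` in `C(z)` -/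
theorem inv_form {p : S4} (hp : p * tv 0 3 = tv 0 3 * p) (hr : p * rho = rho * rho * p) :
    ∃ z' r r' : S4, (z' = 1 ∨ z' = tv 0 3) ∧ p = z' * (tv 1 2 * r) ∧ r' * tv 0 3 = tv 0 3 * r' ∧
      r' * rho = rho * r' ∧ r' * (tv 1 2 * r) = tv 1 2 * r' := by
  have h1 : (tv 1 2 * p) * tv 0 3 = tv 0 3 * (tv 1 2 * p) := by
    rw [mul_assoc, hp, ← mul_assoc, s_z, mul_assoc]
  have h2 : (tv 1 2 * p) * rho = rho * (tv 1 2 * p) := by
    rw [mul_assoc, hr, ← mul_assoc, s_rr, mul_assoc]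
  obtain ⟨z', r, hz', hr', h3⟩ := p2 h1 h2
  have h4 : z' * tv 1 2 = tv 1 2 * z' := by
    rcases hz' with rfl | rfl
    · rw [one_mul, mul_one]
    · exact s_z.symm
  have h5 : p = z' * (tv 1 2 * r) := by
    rw [← mul_assoc, h4, mul_assoc, ← h3, ← mul_assoc, tv_sq, one_mul]
  have hrr : rho * rho * tv 0 3 = tv 0 3 * (rho * rho) := by
    rw [mul_assoc, rho_z, ← mul_assoc, rho_z, mul_assoc]
  rcases hr' with rfl | rfl | rfl
  · exact ⟨z', 1, 1, hz', h5, by rw [one_mul, mul_one], by rw [one_mul, mul_one], s_fix0⟩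
  · exact ⟨z', rho, rho * rho, hz', h5, hrr, by rw [mul_assoc], s_fix1⟩
  · exact ⟨z', rho * rho, rho, hz', h5, rho_z, rfl, s_fix2⟩

theorem rr_comm (φ : S4 →* G) {x : G} (h : x * φ rho * x⁻¹ = φ rho) :
    x * (φ rho * φ rho) * x⁻¹ = φ rho * φ rho := by
  rw [conj_mul, h]

/-- **Step 2** -/
theorem step2 (h : Hyp t φ) {x : G} (W : Wx t φ x) (hr : x * φ rho * x⁻¹ = φ rho) :
    ∃ w, Wx t φ w ∧ w * φ rho * w⁻¹ = φ rho ∧ ∃ z' : S4, (z' = 1 ∨ z' = tv 0 3) ∧
      (w * φ (tv 1 2) * w⁻¹ = φ (z' * tv 1 2) ∨ w * φ (tv 1 2) * w⁻¹ = t * φ (z' * tv 1 2)) := by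
  obtain ⟨h1, h2⟩ := W.cent (phi_comm_t h (tv 1 2)) (phi_comm φ s_z)
  obtain ⟨p, hp, hy⟩ := form h h1 h2
  -- `y ρ = ρ² y`
  have h3 : (x * φ (tv 1 2) * x⁻¹) * φ rho = φ rho * φ rho * (x * φ (tv 1 2) * x⁻¹) := by
    calc (x * φ (tv 1 2) * x⁻¹) * φ rho = (x * φ (tv 1 2) * x⁻¹) * (x * φ rho * x⁻¹) := by rw [hr]
      _ = x * (φ (tv 1 2) * φ rho) * x⁻¹ := by group
      _ = x * (φ rho * φ rho * φ (tv 1 2)) * x⁻¹ := by rw [← map_mul, s_rho, map_mul, map_mul]
      _ = (x * (φ rho * φ rho) * x⁻¹) * (x * φ (tv 1 2) * x⁻¹) := by group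
      _ = φ rho * φ rho * (x * φ (tv 1 2) * x⁻¹) := by rw [rr_comm φ hr]
  have hpr : p * rho = rho * rho * p := by
    apply h.inj
    rw [map_mul, map_mul, map_mul]
    rcases hy with hy | hy
    · rwa [hy] at h3
    · rw [hy] at h3
      have h4 : t * (φ p * φ rho) = t * (φ rho * φ rho * φ p) := by
        calc t * (φ p * φ rho) = t * φ p * φ rho := by group
          _ = φ rho * φ rho * (t * φ p) := h3
          _ = (φ (rho * rho) * t) * φ p := by rw [map_mul]; group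
          _ = t * (φ rho * φ rho * φ p) := by rw [h.comm', map_mul]; group
      exact mul_left_cancel h4
  obtain ⟨z', r, r', hz', hpe, hr1, hr2, hr3⟩ := inv_form hp hpr
  have hz'c : r' * z' = z' * r' := by
    rcases hz' with rfl | rfl
    · rw [one_mul, mul_one]
    · exact hr1
  have key : φ r' * φ p * (φ r')⁻¹ = φ (z' * tv 1 2) := by
    rw [mul_inv_eq_iff_eq_mul, ← map_mul, ← map_mul, hpe, ← mul_assoc, hz'c, mul_assoc, hr3, mul_assoc]
  refine ⟨φ r' * x, W.mul_phi h hr1, ?_, z', hz', ?_⟩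
  · calc φ r' * x * φ rho * (φ r' * x)⁻¹ = φ r' * (x * φ rho * x⁻¹) * (φ r')⁻¹ := by group
      _ = φ rho := by rw [hr, ← map_mul, hr2, map_mul]; group
  · have e : φ r' * x * φ (tv 1 2) * (φ r' * x)⁻¹ = φ r' * (x * φ (tv 1 2) * x⁻¹) * (φ r')⁻¹ := by group
    rcases hy with hy | hy
    · left
      rw [e, hy, key]
    · right
      rw [e, hy, ← key]
      calc φ r' * (t * φ p) * (φ r')⁻¹ = (φ r' * t) * φ p * (φ r')⁻¹ := by group
        _ = t * (φ r' * φ p * (φ r')⁻¹) := by rw [h.comm']; group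

theorem zs_comm : (tv 3 2 * tv 0 1) * (tv 1 3 * tv 0 3) =
      (tv 0 3 * tv 1 2) * ((tv 1 3 * tv 0 3) * (tv 3 2 * tv 0 1)) ∧
    (tv 3 2 * tv 0 1) * (tv 0 3 * tv 1 2) = (tv 0 3 * tv 1 2) * (tv 3 2 * tv 0 1) ∧
    (tv 1 3 * tv 0 3) * (tv 0 3 * tv 1 2) = (tv 0 3 * tv 1 2) * (tv 1 3 * tv 0 3) := by decide +kernel

/-- **Step 3**: `D ∩ K = ∅` -/
theorem step3 (h : Hyp t φ) {w : G} (W : Wx t φ w) {z' : S4} (hz' : z' = 1 ∨ z' = tv 0 3)
    (hs : w * φ (tv 1 2) * w⁻¹ = t * φ (z' * tv 1 2)) : False := by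
  -- `s t` is conjugate to `t`
  obtain ⟨k, hk⟩ := conj_tv 1 2 (by decide)
  have h1 : φ k * (t * φ (tv 0 3)) * (φ k)⁻¹ = t * φ (tv 1 2) := by
    rw [mul_inv_eq_iff_eq_mul, ← mul_assoc, h.comm', mul_assoc, mul_assoc, ← map_mul, ← map_mul, hk]
  have h2 : (w * φ k * w) * t * (w * φ k * w)⁻¹ = (w * t * w⁻¹) * (w * φ (tv 1 2) * w⁻¹) := by
    calc (w * φ k * w) * t * (w * φ k * w)⁻¹ = w * (φ k * (w * t * w⁻¹) * (φ k)⁻¹) * w⁻¹ := by group
      _ = w * (t * φ (tv 1 2)) * w⁻¹ := by rw [W.t, h1]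
      _ = _ := by group
  have h3 : (w * t * w⁻¹) * (w * φ (tv 1 2) * w⁻¹) = φ (tv 0 3 * (z' * tv 1 2)) := by
    rw [W.t, hs, map_mul φ (tv 0 3) (z' * tv 1 2)]
    calc t * φ (tv 0 3) * (t * φ (z' * tv 1 2)) = t * (φ (tv 0 3) * t) * φ (z' * tv 1 2) := by group
      _ = (t * t) * φ (tv 0 3) * φ (z' * tv 1 2) := by rw [h.comm']; group
      _ = φ (tv 0 3) * φ (z' * tv 1 2) := by rw [h.tt, one_mul]
  rw [h3] at h2
  rcases hz' with rfl | rfl
  · rw [one_mul] at h2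
    obtain ⟨e1, e2, e3⟩ := zs_comm
    exact h.not_conj e1 e2 e3 h2
  · rw [← mul_assoc, tv_sq, one_mul] at h2
    obtain ⟨e1, e2, e3⟩ := s_comm
    exact h.not_conj e1 e2 e3 h2

theorem prod3 : ∀ i : Fin 3, (![tv 0 2, tv 1 3, cc] i) * (rho * (![tv 0 2, tv 1 3, cc] i) * (rho * rho)) *
    ((rho * rho) * (![tv 0 2, tv 1 3, cc] i) * rho) = 1 := by decide +kernel

theorem sq3 : ∀ i : Fin 3, (![tv 0 2, tv 1 3, cc] i) * (![tv 0 2, tv 1 3, cc] i) = 1 := by decide +kernel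

theorem s3 : ∀ i : Fin 3, (![tv 0 2, tv 1 3, cc] i) * tv 1 2 = tv 1 2 * (![tv 0 2, tv 1 3, cc] i) := by decide +kernel

theorem z3 : ∀ i : Fin 3, (![tv 0 2, tv 1 3, cc] i) * tv 0 3 = tv 0 3 * (![tv 0 2, tv 1 3, cc] i) := by decide +kernel

/-- **Step 4**: the image of `a = x₁₃` under `w` -/
theorem step4 (h : Hyp t φ) {w : G} (W : Wx t φ w) (hr : w * φ rho * w⁻¹ = φ rho) {z' : S4}
    (hz' : z' = 1 ∨ z' = tv 0 3) (hs : w * φ (tv 1 2) * w⁻¹ = φ (z' * tv 1 2)) {a : S4}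
    (ha3 : a * (rho * a * (rho * rho)) * ((rho * rho) * a * rho) = 1) (ha2 : a * a = 1)
    (has : a * tv 1 2 = tv 1 2 * a) (haz : a * tv 0 3 = tv 0 3 * a) (ha1 : a ≠ 1) :
    w * φ a * w⁻¹ = φ (tv 0 2) ∨ w * φ a * w⁻¹ = φ (tv 1 3) ∨ w * φ a * w⁻¹ = φ cc := by
  obtain ⟨h1, h2⟩ := W.cent (phi_comm_t h a) (phi_comm φ haz)
  obtain ⟨p, hp, hy⟩ := form h h1 h2
  have hrr := rr_comm φ hr
  -- the product of the three conjugates
  have h3 : (w * φ a * w⁻¹) * (φ rho * (w * φ a * w⁻¹) * (φ rho * φ rho)) *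
      ((φ rho * φ rho) * (w * φ a * w⁻¹) * φ rho) = 1 := by
    calc (w * φ a * w⁻¹) * (φ rho * (w * φ a * w⁻¹) * (φ rho * φ rho)) *
        ((φ rho * φ rho) * (w * φ a * w⁻¹) * φ rho)
        = (w * φ a * w⁻¹) * ((w * φ rho * w⁻¹) * (w * φ a * w⁻¹) * (w * (φ rho * φ rho) * w⁻¹)) *
        ((w * (φ rho * φ rho) * w⁻¹) * (w * φ a * w⁻¹) * (w * φ rho * w⁻¹)) := by rw [hr, hrr]
      _ = w * (φ a * (φ rho * φ a * (φ rho * φ rho)) * ((φ rho * φ rho) * φ a * φ rho)) * w⁻¹ := by group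
      _ = w * φ (a * (rho * a * (rho * rho)) * ((rho * rho) * a * rho)) * w⁻¹ := by simp only [map_mul]
      _ = 1 := by rw [ha3, map_one]; group
  have hy' : w * φ a * w⁻¹ = φ p := by
    rcases hy with hy | hy
    · exact hy
    · exfalso
      rw [hy] at h3
      have h4 : (t * φ p) * (φ rho * (t * φ p) * (φ rho * φ rho)) * ((φ rho * φ rho) * (t * φ p) * φ rho) =
          t * φ (p * (rho * p * (rho * rho)) * ((rho * rho) * p * rho)) := by
        have c := h.comm'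
        have ct : ∀ (u : S4) (v : G), φ u * (t * v) = t * (φ u * v) := fun u v => by
          rw [← mul_assoc, c, mul_assoc]
        simp only [map_mul, mul_assoc, ct]
        rw [← mul_assoc t t, h.tt, one_mul]
      rw [h4] at h3
      apply h.ne (p * (rho * p * (rho * rho)) * ((rho * rho) * p * rho))⁻¹
      rw [map_inv]
      exact (mul_eq_one_iff_eq_inv.1 h3).symm
  rw [hy'] at h3 ⊢
  have hp3 : p * (rho * p * (rho * rho)) * ((rho * rho) * p * rho) = 1 := by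
    apply h.inj
    rw [map_one, ← h3]
    simp only [map_mul]
  have hp2 : p * p = 1 := by
    apply h.inj
    rw [map_mul, ← hy', ← conj_mul, ← map_mul, ha2, map_one]; group
  have hz's : z' * p = p * z' := by
    rcases hz' with rfl | rfl
    · rw [one_mul, mul_one]
    · exact hp.symm
  have hps : p * tv 1 2 = tv 1 2 * p := by
    have h5 : p * (z' * tv 1 2) = (z' * tv 1 2) * p := by
      apply h.inj
      rw [map_mul φ p (z' * tv 1 2), map_mul φ (z' * tv 1 2) p, ← hy', ← hs]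
      exact conj_comm (phi_comm φ has)
    have h6 : z' * (p * tv 1 2) = z' * (tv 1 2 * p) := by
      rw [← mul_assoc, hz's, mul_assoc, h5, mul_assoc]
    exact mul_left_cancel h6
  rcases p3 hp hp2 hps hp3 with rfl | rfl | rfl | rfl
  · exfalso
    rw [map_one, mul_inv_eq_one] at hy'
    exact ha1 (h.inj ((mul_eq_left.1 hy').trans (map_one φ).symm))
  · exact Or.inl rfl
  · exact Or.inr (Or.inl rfl)
  · exact Or.inr (Or.inr rfl)

theorem a_ne : tv 0 2 ≠ 1 ∧ tv 1 3 ≠ 1 ∧ tv 0 2 ≠ tv 1 3 ∧ tv 0 2 ≠ cc ∧ tv 1 3 ≠ cc := by decide +kernel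

theorem cc_facts : tv 0 2 * tv 1 3 * tv 0 3 = cc ∧ tv 0 2 * cc * tv 0 3 = tv 1 3 ∧ cc * tv 1 3 * tv 0 3 = tv 0 2 ∧
    tv 1 3 * cc * tv 0 3 = tv 0 2 ∧ cc * tv 0 2 * tv 0 3 = tv 1 3 := by decide +kernel

theorem not_rho : ∀ i : Fin 3, (![1, rho, rho * rho] i) * tv 0 2 ≠ tv 1 3 * (![1, rho, rho * rho] i) ∧
    (![1, rho, rho * rho] i) * tv 0 2 ≠ cc * (![1, rho, rho * rho] i) := by
  decide +kernel

/-- `w²` does not move `a` to `b` or `c` -/
theorem sq_act (h : Hyp t φ) {w : G} (W : Wx t φ w) (hr : w * φ rho * w⁻¹ = φ rho) {b : S4}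
    (hb : w * (w * φ (tv 0 2) * w⁻¹) * w⁻¹ = φ b) (h1 : b = tv 1 3 ∨ b = cc) : False := by
  have hwt : (w * w) * t = t * (w * w) := by
    rw [← mul_inv_eq_iff_eq_mul]
    calc w * w * t * (w * w)⁻¹ = w * (w * t * w⁻¹) * w⁻¹ := by group
      _ = w * (t * φ (tv 0 3)) * w⁻¹ := by rw [W.t]
      _ = (w * t * w⁻¹) * (w * φ (tv 0 3) * w⁻¹) := by group
      _ = t := by rw [W.t, W.z, mul_assoc, zz, mul_one]
  have hwz : (w * w) * φ (tv 0 3) = φ (tv 0 3) * (w * w) := by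
    rw [← mul_inv_eq_iff_eq_mul]
    calc w * w * φ (tv 0 3) * (w * w)⁻¹ = w * (w * φ (tv 0 3) * w⁻¹) * w⁻¹ := by group
      _ = φ (tv 0 3) := by rw [W.z, W.z]
  have hwr : (w * w) * φ rho = φ rho * (w * w) := by
    rw [← mul_inv_eq_iff_eq_mul]
    calc w * w * φ rho * (w * w)⁻¹ = w * (w * φ rho * w⁻¹) * w⁻¹ := by group
      _ = φ rho := by rw [hr, hr]
  obtain ⟨p, hp, hy⟩ := form h hwt hwz
  have hpr : p * rho = rho * p := by
    apply h.inj
    rw [map_mul, map_mul]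
    rcases hy with hy | hy
    · rwa [hy] at hwr
    · rw [hy] at hwr
      have h4 : t * (φ p * φ rho) = t * (φ rho * φ p) := by
        calc t * (φ p * φ rho) = t * φ p * φ rho := by group
          _ = φ rho * (t * φ p) := hwr
          _ = (φ rho * t) * φ p := by group
          _ = t * (φ rho * φ p) := by rw [h.comm']; group
      exact mul_left_cancel h4
  obtain ⟨z', r, hz', hr', rfl⟩ := p2 hp hpr
  have hb' : (w * w) * φ (tv 0 2) = φ b * (w * w) := by
    rw [← mul_inv_eq_iff_eq_mul, ← hb]; group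
  have hb2 : (z' * r) * tv 0 2 = b * (z' * r) := by
    apply h.inj
    rw [map_mul φ (z' * r) (tv 0 2), map_mul φ b (z' * r)]
    rcases hy with hy | hy
    · rwa [hy] at hb'
    · rw [hy] at hb'
      have h4 : t * (φ (z' * r) * φ (tv 0 2)) = t * (φ b * φ (z' * r)) := by
        calc t * (φ (z' * r) * φ (tv 0 2)) = t * φ (z' * r) * φ (tv 0 2) := by group
          _ = φ b * (t * φ (z' * r)) := hb'
          _ = (φ b * t) * φ (z' * r) := by group
          _ = t * (φ b * φ (z' * r)) := by rw [h.comm']; group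
      exact mul_left_cancel h4
  have hzb : z' * b = b * z' := by
    rcases hz' with rfl | rfl
    · rw [one_mul, mul_one]
    · rcases h1 with rfl | rfl
      · exact (z3 1).symm
      · exact (z3 2).symm
  have h5 : r * tv 0 2 = b * r := by
    have h6 : z' * (r * tv 0 2) = z' * (b * r) := by
      rw [← mul_assoc, hb2, ← mul_assoc, ← mul_assoc, hzb]
    exact mul_left_cancel h6
  rcases hr' with rfl | rfl | rfl <;> rcases h1 with rfl | rfl
  · exact (not_rho 0).1 h5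
  · exact (not_rho 0).2 h5
  · exact (not_rho 1).1 h5
  · exact (not_rho 1).2 h5
  · exact (not_rho 2).1 h5
  · exact (not_rho 2).2 h5

/-- **Step 5**: `w` centralises `a`, `b`, `s` -/
theorem step5 (h : Hyp t φ) {w : G} (W : Wx t φ w) (hr : w * φ rho * w⁻¹ = φ rho) {z' : S4}
    (hz' : z' = 1 ∨ z' = tv 0 3) (hs : w * φ (tv 1 2) * w⁻¹ = φ (z' * tv 1 2)) :
    w * φ (tv 0 2) * w⁻¹ = φ (tv 0 2) ∧ w * φ (tv 1 3) * w⁻¹ = φ (tv 1 3) ∧
      w * φ (tv 1 2) * w⁻¹ = φ (tv 1 2) := by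
  obtain ⟨n1, n2, n3, n4, n5⟩ := a_ne
  obtain ⟨c1, c2, c3, c4, c5⟩ := cc_facts
  have fa := step4 h W hr hz' hs (prod3 0) (sq3 0) (s3 0) (z3 0) n1
  have fb := step4 h W hr hz' hs (prod3 1) (sq3 1) (s3 1) (z3 1) n2
  change w * φ (tv 0 2) * w⁻¹ = φ (tv 0 2) ∨ w * φ (tv 0 2) * w⁻¹ = φ (tv 1 3) ∨ w * φ (tv 0 2) * w⁻¹ = φ cc at fa
  change w * φ (tv 1 3) * w⁻¹ = φ (tv 0 2) ∨ w * φ (tv 1 3) * w⁻¹ = φ (tv 1 3) ∨ w * φ (tv 1 3) * w⁻¹ = φ cc at fb
  have fc : w * φ cc * w⁻¹ = (w * φ (tv 0 2) * w⁻¹) * (w * φ (tv 1 3) * w⁻¹) * φ (tv 0 3) := by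
    rw [← c1, map_mul, map_mul, conj_mul, conj_mul, W.z]
  have inj : ∀ u v : S4, w * φ u * w⁻¹ = w * φ v * w⁻¹ → u = v := fun u v e =>
    h.inj (mul_left_cancel (mul_right_cancel e))
  have hs0 : z' = 1 → w * φ (tv 1 2) * w⁻¹ = φ (tv 1 2) := fun e => by rw [hs, e, one_mul]
  have hs1 : z' = tv 0 3 → w * φ (tv 1 2) * w⁻¹ = φ (tv 1 2 * tv 0 3) := fun e => by rw [hs, e, s_z]
  rcases fa with fa | fa | fa <;> rcases fb with fb | fb | fb
  · exact absurd (inj _ _ (fa.trans fb.symm)) n3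
  · rcases hz' with e | e
    · exact ⟨fa, fb, hs0 e⟩
    · exact (EightBad.idone h W.t W.z fa (hs1 e) fb).elim
  · rcases hz' with e | e
    · exact (EightBad.aaz h W.t W.z fa (hs0 e) fb).elim
    · exact (EightBad.aao h W.t W.z fa (hs1 e) fb).elim
  · rcases hz' with e | e
    · exact (EightBad.swz h W.t W.z fa (hs0 e) fb).elim
    · exact (EightBad.swo h W.t W.z fa (hs1 e) fb).elim
  · exact absurd (inj _ _ (fa.trans fb.symm)) n3
  · -- `a → b → c`
    exfalso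
    refine sq_act h W hr (b := cc) ?_ (Or.inr rfl)
    rw [fa, fb]
  · -- `a → c → b`
    exfalso
    refine sq_act h W hr (b := tv 1 3) ?_ (Or.inl rfl)
    rw [fa, fc, fa, fb, ← map_mul, ← map_mul, c5]
  · rcases hz' with e | e
    · exact (EightBad.bbz h W.t W.z fa (hs0 e) fb).elim
    · exact (EightBad.bbo h W.t W.z fa (hs1 e) fb).elim
  · exact absurd (inj _ _ (fa.trans fb.symm)) n3

theorem gen_facts : tv 2 1 = tv 1 2 * rho ∧ tv 0 1 = tv 0 2 * tv 2 1 * tv 0 2 * tv 2 1 ∧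
    tv 2 3 = tv 2 1 * tv 1 3 * tv 2 1 * tv 1 3 := by decide +kernel

/-- `w` centralises `C_K(z)` -/
theorem cent_P {w : G} (h03 : w * φ (tv 0 3) = φ (tv 0 3) * w) (h13 : w * φ (tv 1 3) = φ (tv 1 3) * w)
    (h12 : w * φ (tv 1 2) = φ (tv 1 2) * w) (h02 : w * φ (tv 0 2) = φ (tv 0 2) * w)
    (hr : w * φ rho = φ rho * w) {c : S4} (hc : c * tv 0 3 = tv 0 3 * c) : w * φ c = φ c * w := by
  obtain ⟨g1, g2, g3⟩ := gen_facts
  let S : Subgroup S4 := (Subgroup.centralizer ({w} : Set G)).comap φ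
  have hS : ∀ c, c ∈ S ↔ w * φ c = φ c * w := fun c => by
    rw [Subgroup.mem_comap, Subgroup.mem_centralizer_singleton_iff]
    exact eq_comm
  have m12 : tv 1 2 ∈ S := (hS _).2 h12
  have m02 : tv 0 2 ∈ S := (hS _).2 h02
  have m13 : tv 1 3 ∈ S := (hS _).2 h13
  have m21 : tv 2 1 ∈ S := by rw [g1]; exact mul_mem m12 ((hS _).2 hr)
  have m01 : tv 0 1 ∈ S := by rw [g2]; exact mul_mem (mul_mem (mul_mem m02 m21) m02) m21
  have m23 : tv 2 3 ∈ S := by rw [g3]; exact mul_mem (mul_mem (mul_mem m21 m13) m21) m13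
  exact (hS _).1 (EightUp.P_le ((hS _).2 h03) m13 m23 m12 m21 m01 m02 hc)

/-- **The swap.** -/
theorem main (h : Hyp t φ) {x : G} (W0 : Wx t φ x) :
    ∃ y : G, y * y = 1 ∧ y * t * y = t * φ (tv 0 3) ∧ ∀ c : S4, c * tv 0 3 = tv 0 3 * c → y * φ c = φ c * y := by
  obtain ⟨x1, W1, hr1⟩ := step1 h W0
  obtain ⟨w, W, hr, z', hz', hs | hs⟩ := step2 h W1 hr1
  swap
  · exact (step3 h W hz' hs).elim
  obtain ⟨ha, hb, hs'⟩ := step5 h W hr hz' hs
  have toc : ∀ u : S4, w * φ u * w⁻¹ = φ u → w * φ u = φ u * w := fun u e => by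
    rwa [mul_inv_eq_iff_eq_mul] at e
  have hP : ∀ c : S4, c * tv 0 3 = tv 0 3 * c → w * φ c = φ c * w := fun c hc =>
    cent_P (toc _ W.z) (toc _ hb) (toc _ hs') (toc _ ha) (toc _ hr) hc
  have hwt : w * t = t * φ (tv 0 3) * w := by
    have := W.t
    rwa [mul_inv_eq_iff_eq_mul] at this
  have hzw : φ (tv 0 3) * w = w * φ (tv 0 3) := (toc _ W.z).symm
  -- `w² ∈ {1, z}`
  have hww : w * w = 1 ∨ w * w = φ (tv 0 3) := by
    have hwwt : (w * w) * t = t * (w * w) := by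
      calc w * w * t = w * (w * t) := by group
        _ = w * (t * φ (tv 0 3) * w) := by rw [hwt]
        _ = (w * t) * (φ (tv 0 3) * w) := by group
        _ = (t * φ (tv 0 3) * w) * (w * φ (tv 0 3)) := by rw [hwt, hzw]
        _ = t * φ (tv 0 3) * w * (φ (tv 0 3) * w) := by rw [hzw]
        _ = t * φ (tv 0 3) * (w * φ (tv 0 3)) * w := by group
        _ = t * φ (tv 0 3) * (φ (tv 0 3) * w) * w := by rw [hzw]
        _ = t * (φ (tv 0 3) * φ (tv 0 3)) * (w * w) := by group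
        _ = t * (w * w) := by rw [zz, mul_one]
    have hwwz : (w * w) * φ (tv 0 3) = φ (tv 0 3) * (w * w) := by
      rw [mul_assoc, ← hzw, ← mul_assoc, ← hzw, mul_assoc]
    obtain ⟨p, hp, hy⟩ := form h hwwt hwwz
    have hpc : ∀ c : S4, c * tv 0 3 = tv 0 3 * c → p * c = c * p := by
      intro c hc
      have h1 : (w * w) * φ c = φ c * (w * w) := by
        rw [mul_assoc, hP c hc, ← mul_assoc, hP c hc, mul_assoc]
      apply h.inj
      rw [map_mul, map_mul]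
      rcases hy with hy | hy
      · rwa [hy] at h1
      · rw [hy] at h1
        have h4 : t * (φ p * φ c) = t * (φ c * φ p) := by
          calc t * (φ p * φ c) = t * φ p * φ c := by group
            _ = φ c * (t * φ p) := h1
            _ = (φ c * t) * φ p := by group
            _ = t * (φ c * φ p) := by rw [h.comm']; group
        exact mul_left_cancel h4
    have h0 : p = 1 ∨ p = tv 0 3 := by
      apply K1 (by decide) p
      · intro l hl
        apply hpc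
        apply tv_comm
        · exact hl.symm
        · decide
        · exact hl
        · decide
      · intro l hl
        apply hpc
        apply tv_comm
        · exact hl
        · decide
        · decide
        · exact hl.symm
    rcases hy with hy | hy
    · rcases h0 with rfl | rfl
      · left; rw [hy, map_one]
      · right; exact hy
    · exfalso
      -- `w` commutes with `w²`, not with `t`, `t z`
      have h2 : w * (t * φ p) = (t * φ p) * w := by rw [← hy]; group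
      have h3 : w * φ p = φ p * w := by
        rcases h0 with rfl | rfl
        · rw [map_one]; group
        · exact hzw.symm
      have h4 : w * t = t * w := by
        have h5 : (w * t) * φ p = (t * w) * φ p := by
          calc (w * t) * φ p = w * (t * φ p) := by group
            _ = t * (φ p * w) := by rw [h2]; group
            _ = (t * w) * φ p := by rw [← h3]; group
        exact mul_right_cancel h5
      rw [hwt] at h4
      have h5 : φ (tv 0 3) = 1 := by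
        have h6 : t * φ (tv 0 3) * w = t * 1 * w := by rw [mul_one]; exact h4
        exact mul_left_cancel (mul_right_cancel h6)
      exact tv_ne_one 0 3 (by decide) (h.inj (h5.trans (map_one φ).symm))
  rcases hww with hww | hww
  · refine ⟨w, hww, ?_, hP⟩
    rw [hwt, mul_assoc, hww, mul_one]
  · have htw : t * w = φ (tv 0 3) * w * t := by
      calc t * w = t * (φ (tv 0 3) * φ (tv 0 3)) * w := by rw [zz, mul_one]
        _ = (t * φ (tv 0 3)) * (φ (tv 0 3) * w) := by group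
        _ = (φ (tv 0 3) * t) * (φ (tv 0 3) * w) := by rw [h.comm]
        _ = φ (tv 0 3) * (t * φ (tv 0 3) * w) := by group
        _ = φ (tv 0 3) * w * t := by rw [← hwt]; group
    refine ⟨w * t, ?_, ?_, ?_⟩
    · calc w * t * (w * t) = w * (t * w) * t := by group
        _ = (w * φ (tv 0 3)) * w * (t * t) := by rw [htw]; group
        _ = φ (tv 0 3) * (w * w) := by rw [h.tt, mul_one, ← hzw]; group
        _ = 1 := by rw [hww, zz]
    · calc w * t * t * (w * t) = w * (t * t) * w * t := by group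
        _ = φ (tv 0 3) * t := by rw [h.tt, mul_one, hww]
        _ = t * φ (tv 0 3) := (h.comm _).symm
    · intro c hc
      rw [mul_assoc, h.comm, ← mul_assoc, hP c hc, mul_assoc]

end Cfsg.Agent.OddHalf.D5.EightClean
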