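import Cfsg.Agent.OddHalf.D5.EightUp
import Cfsg.Agent.OddHalf.D5.EightDefs2
import Cfsg.Agent.LieClassical.SLFourTwo

/-!
# `SL₄(2) ≃* A₈` with `tv 0 3 ↦ z₀` (helper401)
-/

set_option autoImplicit false

namespace Cfsg.Agent.OddHalf.D5.EightIso

open Matrix EightMat Eight
open Cfsg.Agent.LieClassical

theorem center_eq_bot : Subgroup.center S4 = ⊥ := by
  rw [eq_bot_iff]
  intro A hA
  rw [Matrix.SpecialLinearGroup.mem_center_iff] at hA
  obtain ⟨r, hr, h⟩ := hA
  have hr1 : r = 1 := by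
    rw [Fintype.card_fin] at hr
    have h5 : ∀ r : ZMod 2, r ^ 4 = 1 → r = 1 := by decide
    exact h5 r hr
  rw [Subgroup.mem_bot]
  apply Subtype.ext
  rw [← h, hr1, map_one]
  rfl

/-- `PSL_4(2) ≃* SL_4(2)` -/
noncomputable def psl : Matrix.ProjectiveSpecialLinearGroup (Fin 4) (ZMod 2) ≃* S4 :=
  (QuotientGroup.quotientMulEquivOfEq center_eq_bot).trans QuotientGroup.quotientBot

theorem simple : IsSimpleGroup S4 := by
  have h := SLGen.psl_isSimpleGroup (ι := Fin 4) (F := ZMod 2) (by simp)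
  exact psl.symm.isSimpleGroup

theorem tv_eq {i j : Fin 4} (h : i ≠ j) : tv i j = SpecialLinearGroup.transvection h 1 := by
  unfold tv
  rw [dif_pos h]

theorem hom_tv {i j : Fin 4} (h : i ≠ j) :
    SLFourTwo.hom (tv i j) = Function.Involutive.toPerm (SLFourTwo.sig i j) (SLFourTwo.sig_sig i j) := by
  rw [tv_eq h]
  exact SLFourTwo.hom_transvection h

theorem hom_inj : Function.Injective SLFourTwo.hom := by
  have := simple
  rw [← MonoidHom.ker_eq_bot_iff]
  rcases Subgroup.Normal.eq_bot_or_eq_top (inferInstance : SLFourTwo.hom.ker.Normal) with h | h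
  · exact h
  · exfalso
    have h1 : SLFourTwo.hom (tv 0 3) = 1 := by
      rw [← MonoidHom.mem_ker, h]
      exact Subgroup.mem_top _
    rw [hom_tv (by decide)] at h1
    have h3 := DFunLike.congr_fun h1 0
    revert h3
    change ¬ (SLFourTwo.sig 0 3 0 = (0 : Fin 8))
    decide

theorem range_hom : SLFourTwo.hom.range = A8 := by
  apply Equiv.Perm.eq_alternatingGroup_of_index_eq_two
  have h1 : Nat.card SLFourTwo.hom.range = 20160 := by
    rw [← EightUp.card_S4]
    exact (Nat.card_congr (MonoidHom.ofInjective hom_inj).toEquiv).symm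
  have h2 : Nat.card (Equiv.Perm (Fin 8)) = 40320 := by
    rw [Nat.card_eq_fintype_card, Fintype.card_perm, Fintype.card_fin]
    decide
  have h3 := Subgroup.card_mul_index (SLFourTwo.hom.range)
  rw [h1, h2] at h3
  omega

/-- a conjugating permutation -/
def cj : Equiv.Perm (Fin 8) := ⟨![0, 1, 2, 4, 5, 6, 7, 3], ![0, 1, 2, 7, 3, 4, 5, 6], by decide, by decide⟩

theorem cj_mem : cj ∈ A8 := by
  rw [Equiv.Perm.mem_alternatingGroup]
  decide

theorem cj_z : cj * Function.Involutive.toPerm (SLFourTwo.sig 0 3) (SLFourTwo.sig_sig 0 3) * cj⁻¹ = z0 := by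
  rw [mul_inv_eq_iff_eq_mul]
  ext i
  revert i
  decide

/-- **`SL₄(2) ≅ A₈`**, transvections are of type `2⁴`. -/
theorem exists_equiv : ∃ e : S4 ≃* A8, (e (tv 0 3) : Equiv.Perm (Fin 8)) = z0 := by
  let e1 : S4 ≃* SLFourTwo.hom.range := MonoidHom.ofInjective hom_inj
  let e2 : SLFourTwo.hom.range ≃* A8 := MulEquiv.subgroupCongr range_hom
  let e3 : A8 ≃* A8 := MulAut.conj ⟨cj, cj_mem⟩
  refine ⟨(e1.trans e2).trans e3, ?_⟩
  show cj * SLFourTwo.hom (tv 0 3) * cj⁻¹ = z0
  rw [hom_tv (by decide), cj_z]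

end Cfsg.Agent.OddHalf.D5.EightIso
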