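import Cfsg.Agent.OddHalf.D5.EightFrame
import Cfsg.Agent.OddHalf.D5.EightIso

/-!
# ODD D5, `n = 8`, clean case: `C_G(t) = ⟨t⟩ × A₈` gives the swap (helper401)
-/

set_option autoImplicit false

namespace Cfsg.Agent.OddHalf.D5.EightCleanSwp

open EightMat Eight

variable {G : Type*} [Group G]

/-- from `A₈` to `SL₄(2)` -/
theorem hyp {t : G} {ι : A8 →* G} (h : Spl t A8 ι) (e : S4 ≃* A8) : EightAff.Hyp t (ι.comp e.toMonoidHom) where
  tt := h.tt
  inj := h.inj.comp e.injective
  comm := fun a => h.comm (e a)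
  cent := by
    intro g hg
    rcases h.cent g hg with ⟨a, ha⟩ | ⟨a, ha⟩
    · left
      refine ⟨e.symm a, ?_⟩
      show g = ι (e (e.symm a))
      rw [e.apply_symm_apply]; exact ha
    · right
      refine ⟨e.symm a, ?_⟩
      show g = t * ι (e (e.symm a))
      rw [e.apply_symm_apply]; exact ha
  ne := fun a => h.ne (e a)

/-- **the swap in the clean case** -/
theorem swp [Finite G] {t : G} {ι : A8 →* G} (h : Spl t A8 ι) (hG : commutator G = ⊤) : ∃ y : G, Swp t A8 ι y := by
  obtain ⟨e, he⟩ := EightIso.exists_equiv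
  obtain ⟨y, h1, h2, h3⟩ := EightFrame.swap (hyp h e) hG
  refine ⟨y, ⟨h1, ?_, ?_⟩⟩
  · intro a ha
    have : a = e (tv 0 3) := Subtype.ext (ha.trans he.symm)
    rw [h2, this]
    rfl
  · intro a ha
    have h4 : (e.symm a) * tv 0 3 = tv 0 3 * (e.symm a) := by
      apply e.injective
      rw [map_mul, map_mul, e.apply_symm_apply]
      apply Subtype.ext
      show (a : Equiv.Perm (Fin 8)) * (e (tv 0 3) : Equiv.Perm (Fin 8)) = (e (tv 0 3) : Equiv.Perm (Fin 8)) * a
      rw [he]; exact ha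
    have h5 := h3 _ h4
    have h6 : (ι.comp e.toMonoidHom) (e.symm a) = ι a := by
      show ι (e (e.symm a)) = ι a
      rw [e.apply_symm_apply]
    rwa [h6] at h5

end Cfsg.Agent.OddHalf.D5.EightCleanSwp
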