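import Mathlib
import Cfsg.Agent.OddHalf.D5.EightDefs2

/-!
# ODD D5, `n = 8`: the growth, 1 (helper432)

`Grow t f y`: the common abstraction of `Swp t A ι y` for `A = A₈` and `A = ⊤`. `Y r` is the conjugate of `y` which
belongs to the involution `r` of the class of `x14 = (01)(23)(45)(67)`. Text: `blueprints/ODD-D5-n8-helper647.md` (B8) and
`blueprints/ODD-D5-n8-helper432.md` section 2.

Result of this file: `line1`, `line3` : `Y r * Y q = Y (r * q)` for collinear `r, q`.
-/

set_option autoImplicit false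

namespace Cfsg.Agent.OddHalf.D5.Eight.Gr

open Subgroup Equiv

/-- permutation with octal code `c` -/
def pc (c : ℕ) (i : Fin 8) : Fin 8 := ⟨(c / 8 ^ (i : ℕ)) % 8, Nat.mod_lt _ (by decide)⟩

/-- permutation from two codes -/
def pm (c d : ℕ) (h1 : ∀ i, pc d (pc c i) = i) (h2 : ∀ i, pc c (pc d i) = i) : Perm (Fin 8) := ⟨pc c, pc d, h1, h2⟩

/-- even permutation -/
def ev (p : Perm (Fin 8)) (h : Perm.sign p = 1) : A8 := ⟨p, Perm.mem_alternatingGroup.2 h⟩

theorem all_of {L : List A8} {P : A8 → Prop} [DecidablePred P] (h : (L.all fun d => decide (P d)) = true) :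
    ∀ d ∈ L, P d := fun d hd => of_decide_eq_true (List.all_eq_true.1 h d hd)

theorem any_of {L : List A8} {P : A8 → Prop} [DecidablePred P] (h : (L.any fun d => decide (P d)) = true) :
    ∃ d ∈ L, P d := by
  obtain ⟨d, hd, h1⟩ := List.any_eq_true.1 h
  exact ⟨d, hd, of_decide_eq_true h1⟩

def x14 : A8 := ev (pm 0o67452301 0o67452301 (by decide) (by decide)) (by decide)
def va : A8 := ev (pm 0o76542301 0o76542301 (by decide) (by decide)) (by decide)
def vb : A8 := ev (pm 0o76541032 0o76541032 (by decide) (by decide)) (by decide)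
def wa : A8 := ev (pm 0o67453210 0o67453210 (by decide) (by decide)) (by decide)
def wb : A8 := ev (pm 0o54763210 0o54763210 (by decide) (by decide)) (by decide)
def x13 : A8 := ev (pm 0o54761032 0o54761032 (by decide) (by decide)) (by decide)
def x24 : A8 := ev (pm 0o45671032 0o45671032 (by decide) (by decide)) (by decide)
def x23 : A8 := ev (pm 0o67450123 0o67450123 (by decide) (by decide)) (by decide)
def x12 : A8 := ev (pm 0o32107654 0o32107654 (by decide) (by decide)) (by decide)
def x34 : A8 := ev (pm 0o32017645 0o32017645 (by decide) (by decide)) (by decide)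
/-! the 16 elements of `V` -/
def V0 : A8 := ev (pm 0o76543210 0o76543210 (by decide) (by decide)) (by decide)
def V1 : A8 := ev (pm 0o67453210 0o67453210 (by decide) (by decide)) (by decide)
def V2 : A8 := ev (pm 0o54763210 0o54763210 (by decide) (by decide)) (by decide)
def V3 : A8 := ev (pm 0o45673210 0o45673210 (by decide) (by decide)) (by decide)
def V4 : A8 := ev (pm 0o76542301 0o76542301 (by decide) (by decide)) (by decide)
def V5 : A8 := ev (pm 0o67452301 0o67452301 (by decide) (by decide)) (by decide)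
def V6 : A8 := ev (pm 0o54762301 0o54762301 (by decide) (by decide)) (by decide)
def V7 : A8 := ev (pm 0o45672301 0o45672301 (by decide) (by decide)) (by decide)
def V8 : A8 := ev (pm 0o76541032 0o76541032 (by decide) (by decide)) (by decide)
def V9 : A8 := ev (pm 0o67451032 0o67451032 (by decide) (by decide)) (by decide)
def V10 : A8 := ev (pm 0o54761032 0o54761032 (by decide) (by decide)) (by decide)
def V11 : A8 := ev (pm 0o45671032 0o45671032 (by decide) (by decide)) (by decide)
def V12 : A8 := ev (pm 0o76540123 0o76540123 (by decide) (by decide)) (by decide)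
def V13 : A8 := ev (pm 0o67450123 0o67450123 (by decide) (by decide)) (by decide)
def V14 : A8 := ev (pm 0o54760123 0o54760123 (by decide) (by decide)) (by decide)
def V15 : A8 := ev (pm 0o45670123 0o45670123 (by decide) (by decide)) (by decide)

/-- the 16 elements of `V` -/
def Vl : List A8 := [V0, V1, V2, V3, V4, V5, V6, V7, V8, V9, V10, V11, V12, V13, V14, V15]

/-! conjugating elements -/
def kap : A8 := ev (pm 0o57641320 0o65742130 (by decide) (by decide)) (by decide)
def sig : A8 := ev (pm 0o75643120 0o75643120 (by decide) (by decide)) (by decide)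
def c1312 : A8 := ev (pm 0o75316420 0o73625140 (by decide) (by decide)) (by decide)
def c1412 : A8 := ev (pm 0o76325410 0o76325410 (by decide) (by decide)) (by decide)
def c1413_12 : A8 := ev (pm 0o56127430 0o36721450 (by decide) (by decide)) (by decide)
def c14_1312 : A8 := ev (pm 0o32547610 0o32547610 (by decide) (by decide)) (by decide)
def c2423 : A8 := ev (pm 0o13206574 0o13206574 (by decide) (by decide)) (by decide)
def d1434 : A8 := ev (pm 0o76234510 0o76234510 (by decide) (by decide)) (by decide)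
def d1323 : A8 := ev (pm 0o31207564 0o31207564 (by decide) (by decide)) (by decide)
def d2434 : A8 := ev (pm 0o74136520 0o73264150 (by decide) (by decide)) (by decide)
def o1324 : A8 := ev (pm 0o31207564 0o31207564 (by decide) (by decide)) (by decide)
def o1234 : A8 := ev (pm 0o73625140 0o75316420 (by decide) (by decide)) (by decide)
def s1224 : A8 := ev (pm 0o31207564 0o31207564 (by decide) (by decide)) (by decide)
def s1334 : A8 := ev (pm 0o73625140 0o75316420 (by decide) (by decide)) (by decide)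
def s2334 : A8 := ev (pm 0o41735260 0o51374260 (by decide) (by decide)) (by decide)
def g1 : A8 := ev (pm 0o76451230 0o76451230 (by decide) (by decide)) (by decide)
def g2 : A8 := ev (pm 0o75643201 0o75643201 (by decide) (by decide)) (by decide)

variable {G : Type*} [Group G]

/-- The common abstraction. -/
structure Grow (t : G) (f : A8 →* G) (y : G) : Prop where
  tt : t * t = 1
  t1 : t ≠ 1
  inj : Function.Injective f
  comm : ∀ a, t * f a = f a * t
  ne : ∀ a, f a ≠ t
  cent : ∀ g, g * t = t * g → ∃ p : Perm (Fin 8),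
    (∀ b : A8, g * f b = f b * g → p * (b : Perm (Fin 8)) = b * p) ∧
      ∀ hp : p ∈ A8, g = f ⟨p, hp⟩ ∨ g = t * f ⟨p, hp⟩
  yy : y * y = 1
  yt : y * t * y = t * f x14
  yc : ∀ a : A8, a * x14 = x14 * a → y * f a = f a * y

/-- The class of `x14`. -/
def Root (r : A8) : Prop := ∃ a : A8, a * x14 * a⁻¹ = r

open Classical in
/-- The doubled element belonging to the root `r`. -/
noncomputable def Y (f : A8 →* G) (y : G) (r : A8) : G :=
  if h : ∃ a : A8, a * x14 * a⁻¹ = r then f h.choose * y * (f h.choose)⁻¹ else 1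

theorem Root.conj {r : A8} (hr : Root r) (b : A8) : Root (b * r * b⁻¹) := by
  obtain ⟨a, rfl⟩ := hr
  exact ⟨b * a, by group⟩

theorem x14_sq : x14 * x14 = 1 := by decide

theorem Root.sq {r : A8} (hr : Root r) : r * r = 1 := by
  obtain ⟨a, rfl⟩ := hr
  calc a * x14 * a⁻¹ * (a * x14 * a⁻¹) = a * (x14 * x14) * a⁻¹ := by group
    _ = 1 := by rw [x14_sq]; group

theorem Root.ne_one {r : A8} (hr : Root r) : r ≠ 1 := by
  obtain ⟨a, rfl⟩ := hr
  intro e
  have : x14 = 1 := by
    calc x14 = a⁻¹ * (a * x14 * a⁻¹) * a := by group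
      _ = 1 := by rw [e]; group
  revert this
  decide

namespace Grow

variable {t : G} {f : A8 →* G} {y : G}

theorem t_inv (h : Grow t f y) : t⁻¹ = t := inv_eq_of_mul_eq_one_left h.tt

theorem comm_inv (h : Grow t f y) (a : A8) : t * (f a)⁻¹ = (f a)⁻¹ * t := by
  rw [← map_inv, h.comm]

theorem Y_eq (h : Grow t f y) (a : A8) : Y f y (a * x14 * a⁻¹) = f a * y * (f a)⁻¹ := by
  classical
  have hex : ∃ b : A8, b * x14 * b⁻¹ = a * x14 * a⁻¹ := ⟨a, rfl⟩
  unfold Y
  rw [dif_pos hex]
  generalize hb : hex.choose = b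
  have hb' : b * x14 * b⁻¹ = a * x14 * a⁻¹ := by rw [← hb]; exact hex.choose_spec
  have hc : (a⁻¹ * b) * x14 = x14 * (a⁻¹ * b) := by
    calc (a⁻¹ * b) * x14 = a⁻¹ * (b * x14 * b⁻¹) * b := by group
      _ = x14 * (a⁻¹ * b) := by rw [hb']; group
  have h1 := h.yc _ hc
  have h2 : f b = f a * f (a⁻¹ * b) := by rw [← map_mul]; congr 1; group
  rw [h2]
  calc f a * f (a⁻¹ * b) * y * (f a * f (a⁻¹ * b))⁻¹ = f a * (f (a⁻¹ * b) * y) * (f (a⁻¹ * b))⁻¹ * (f a)⁻¹ := by group
    _ = f a * y * (f a)⁻¹ := by rw [← h1]; group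

theorem Y14 (h : Grow t f y) : Y f y x14 = y := by
  have := h.Y_eq 1
  rwa [one_mul, inv_one, mul_one, map_one, one_mul, inv_one, mul_one] at this

theorem Y_conj (h : Grow t f y) {r : A8} (hr : Root r) (b : A8) : Y f y (b * r * b⁻¹) = f b * Y f y r * (f b)⁻¹ := by
  obtain ⟨a, rfl⟩ := hr
  have e : b * (a * x14 * a⁻¹) * b⁻¹ = (b * a) * x14 * (b * a)⁻¹ := by group
  rw [e, h.Y_eq, h.Y_eq, map_mul]
  group

theorem Y_sq (h : Grow t f y) {r : A8} (hr : Root r) : Y f y r * Y f y r = 1 := by
  obtain ⟨a, rfl⟩ := hr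
  rw [h.Y_eq]
  calc f a * y * (f a)⁻¹ * (f a * y * (f a)⁻¹) = f a * (y * y) * (f a)⁻¹ := by group
    _ = 1 := by rw [h.yy]; group

theorem Y_inv (h : Grow t f y) {r : A8} (hr : Root r) : (Y f y r)⁻¹ = Y f y r :=
  inv_eq_of_mul_eq_one_left (h.Y_sq hr)

/-- `Y t Y = t r` -/
theorem Y_t (h : Grow t f y) {r : A8} (hr : Root r) : Y f y r * t * Y f y r = t * f r := by
  obtain ⟨a, rfl⟩ := hr
  rw [h.Y_eq]
  calc f a * y * (f a)⁻¹ * t * (f a * y * (f a)⁻¹) = f a * y * ((f a)⁻¹ * t) * f a * y * (f a)⁻¹ := by group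
    _ = f a * y * (t * (f a)⁻¹) * f a * y * (f a)⁻¹ := by rw [h.comm_inv]
    _ = f a * (y * t * y) * (f a)⁻¹ := by group
    _ = (f a * t) * f x14 * (f a)⁻¹ := by rw [h.yt]; group
    _ = t * (f a * f x14 * (f a)⁻¹) := by rw [← h.comm]; group
    _ = t * f (a * x14 * a⁻¹) := by rw [map_mul, map_mul, map_inv]

theorem Y_comm (h : Grow t f y) {r : A8} (hr : Root r) {b : A8} (hb : b * r = r * b) :
    Y f y r * f b = f b * Y f y r := by
  have h1 := h.Y_conj hr b
  have h2 : b * r * b⁻¹ = r := by rw [hb]; group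
  rw [h2] at h1
  calc Y f y r * f b = f b * Y f y r * (f b)⁻¹ * f b := by rw [← h1]
    _ = f b * Y f y r := by group

/-- `t Y = Y t r` -/
theorem t_Y (h : Grow t f y) {r : A8} (hr : Root r) : t * Y f y r = Y f y r * t * f r := by
  calc t * Y f y r = (Y f y r * Y f y r) * t * Y f y r := by rw [h.Y_sq hr, one_mul]
    _ = Y f y r * (Y f y r * t * Y f y r) := by group
    _ = Y f y r * t * f r := by rw [h.Y_t hr, ← mul_assoc]

/-- `Y r` does not commute with `t` -/
theorem Y_ne (h : Grow t f y) {r : A8} (hr : Root r) : Y f y r * t ≠ t * Y f y r := by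
  intro e
  have h1 := h.t_Y hr
  rw [← e] at h1
  have h2 : f r = 1 := by
    have := mul_left_cancel (a := Y f y r * t) (b := 1) (c := f r) (by rw [mul_one]; exact h1)
    exact this.symm
  exact hr.ne_one (h.inj (h2.trans (map_one f).symm))

/-- Elements of `C(t)` commuting with some `f b`. -/
theorem cent_of (h : Grow t f y) {g : G} (hg : g * t = t * g) (L : List A8) (hL : ∀ b ∈ L, g * f b = f b * g)
    (P : A8 → Prop)
    (hP : ∀ p : Perm (Fin 8), (∀ b ∈ L, p * (b : Perm (Fin 8)) = b * p) → ∃ d : A8, P d ∧ (d : Perm (Fin 8)) = p) :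
    ∃ d : A8, P d ∧ (g = f d ∨ g = t * f d) := by
  obtain ⟨p, h1, h2⟩ := h.cent g hg
  obtain ⟨d, hd, rfl⟩ := hP p (fun b hb => h1 b (hL b hb))
  exact ⟨d, hd, h2 d.2⟩

end Grow

/-! ### The line -/

/-- centre type collinear pairs -/
def L1 (r q : A8) : Prop := ∃ c : A8, c * x14 * c⁻¹ = r ∧ c * x13 * c⁻¹ = q

theorem L1_base : L1 x14 x13 := ⟨1, by group, by group⟩
theorem L1_symm {r q : A8} (h : L1 r q) : L1 q r := by
  obtain ⟨c, rfl, rfl⟩ := h
  refine ⟨c * sig, ?_, ?_⟩
  · have : sig * x14 * sig⁻¹ = x13 := by decide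
    rw [← this]; group
  · have : sig * x13 * sig⁻¹ = x14 := by decide
    rw [← this]; group
theorem L1_cyc {r q : A8} (h : L1 r q) : L1 q (r * q) := by
  obtain ⟨c, rfl, rfl⟩ := h
  refine ⟨c * kap, ?_, ?_⟩
  · have : kap * x14 * kap⁻¹ = x13 := by decide
    rw [← this]; group
  · have : kap * x13 * kap⁻¹ = x14 * x13 := by decide
    calc c * kap * x13 * (c * kap)⁻¹ = c * (kap * x13 * kap⁻¹) * c⁻¹ := by group
      _ = _ := by rw [this]; group
theorem L1_1312 : L1 x13 x12 := ⟨c1312, by decide, by decide⟩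
theorem L1_1413_12 : L1 (x14 * x13) x12 := ⟨c1413_12, by decide, by decide⟩
theorem L1_14_1312 : L1 x14 (x13 * x12) := ⟨c14_1312, by decide, by decide⟩

theorem L1.left {r q : A8} (h : L1 r q) : Root r := by
  obtain ⟨c, rfl, -⟩ := h
  exact ⟨c, rfl⟩
theorem L1.right {r q : A8} (h : L1 r q) : Root q := (L1_symm h).left
theorem L1.prod {r q : A8} (h : L1 r q) : Root (r * q) := (L1_cyc h).right
theorem L1.comm {r q : A8} (h : L1 r q) : r * q = q * r := by
  obtain ⟨c, rfl, rfl⟩ := h
  have : x14 * x13 = x13 * x14 := by decide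
  calc c * x14 * c⁻¹ * (c * x13 * c⁻¹) = c * (x14 * x13) * c⁻¹ := by group
    _ = _ := by rw [this]; group
theorem L1.conj {r q : A8} (h : L1 r q) (b : A8) : L1 (b * r * b⁻¹) (b * q * b⁻¹) := by
  obtain ⟨c, rfl, rfl⟩ := h
  exact ⟨b * c, by group, by group⟩

/-- rigidity: a permutation commuting with the `w i` is determined by its values at the base points -/
theorem rigid {p q : Perm (Fin 8)} (w : Fin 8 → Perm (Fin 8)) (b : Fin 8 → Fin 8) (hw : ∀ i, w i (b i) = i)
    (hp : ∀ i, p * w i = w i * p) (hq : ∀ i, w i (q (b i)) = q i) (h : ∀ i, p (b i) = q (b i)) : p = q := by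
  ext i
  have h1 : p i = q i := by
    calc p i = p (w i (b i)) := by rw [hw]
      _ = w i (p (b i)) := by rw [← Perm.mul_apply, hp, Perm.mul_apply]
      _ = w i (q (b i)) := by rw [h]
      _ = q i := hq i
  rw [h1]

/-- elements of `V` moving the base point to `i` -/
def wV : Fin 8 → Perm (Fin 8) := ![(V0 : Perm (Fin 8)), (va : Perm (Fin 8)), (vb : Perm (Fin 8)), (V12 : Perm (Fin 8)),
  (V0 : Perm (Fin 8)), (wa : Perm (Fin 8)), (wb : Perm (Fin 8)), (V3 : Perm (Fin 8))]

theorem cent_V (p : Perm (Fin 8)) (ha : p * (va : Perm (Fin 8)) = va * p) (hb : p * (vb : Perm (Fin 8)) = vb * p)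
    (hc : p * (wa : Perm (Fin 8)) = wa * p) (hd : p * (wb : Perm (Fin 8)) = wb * p) :
    ∃ d ∈ Vl, (d : Perm (Fin 8)) = p := by
  have h0 : (wa : Perm (Fin 8)) (p 0) = p 0 := by
    rw [← Perm.mul_apply, ← hc, Perm.mul_apply]
    congr 1
  have h4 : (va : Perm (Fin 8)) (p 4) = p 4 := by
    rw [← Perm.mul_apply, ← ha, Perm.mul_apply]
    congr 1
  have key : ∀ i j : Fin 8, (wa : Perm (Fin 8)) i = i → (va : Perm (Fin 8)) j = j →
      (Vl.any fun d => decide ((d : Perm (Fin 8)) 0 = i ∧ (d : Perm (Fin 8)) 4 = j)) = true := by decide +kernel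
  obtain ⟨d, hdV, hd0, hd4⟩ := any_of (key _ _ h0 h4)
  refine ⟨d, hdV, ?_⟩
  symm
  apply rigid wV ![0, 0, 0, 0, 4, 4, 4, 4] (by decide)
  · intro i
    have e12 : (V12 : Perm (Fin 8)) = vb * va := by decide +kernel
    have e3 : (V3 : Perm (Fin 8)) = wb * wa := by decide +kernel
    have e0 : (V0 : Perm (Fin 8)) = 1 := by decide +kernel
    have hba : p * (V12 : Perm (Fin 8)) = V12 * p := by
      rw [e12, ← mul_assoc, hb, mul_assoc, ha, mul_assoc]
    have hdc : p * (V3 : Perm (Fin 8)) = V3 * p := by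
      rw [e3, ← mul_assoc, hd, mul_assoc, hc, mul_assoc]
    have h1 : p * (V0 : Perm (Fin 8)) = V0 * p := by rw [e0, mul_one, one_mul]
    fin_cases i
    · exact h1
    · exact ha
    · exact hb
    · exact hba
    · exact h1
    · exact hc
    · exact hd
    · exact hdc
  · exact all_of (P := fun d => ∀ i, wV i ((d : Perm (Fin 8)) ((![0, 0, 0, 0, 4, 4, 4, 4] : Fin 8 → Fin 8) i)) =
      (d : Perm (Fin 8)) i) (L := Vl) (by decide +kernel) d hdV
  · intro i
    fin_cases i
    · exact hd0.symm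
    · exact hd0.symm
    · exact hd0.symm
    · exact hd0.symm
    · exact hd4.symm
    · exact hd4.symm
    · exact hd4.symm
    · exact hd4.symm

/-- the four elements `⟨x14, x13⟩` -/
def Ll : List A8 := [1, x14, x13, x14 * x13]

theorem cent_L (p : Perm (Fin 8)) (hL : ∀ b ∈ [va, vb, wa, wb, x12], p * (b : Perm (Fin 8)) = b * p) :
    ∃ d : A8, d ∈ Ll ∧ (d : Perm (Fin 8)) = p := by
  obtain ⟨d, hd, rfl⟩ := cent_V p (hL _ (by simp)) (hL _ (by simp)) (hL _ (by simp)) (hL _ (by simp))
  refine ⟨d, ?_, rfl⟩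
  have h1 := hL x12 (by simp)
  exact all_of (P := fun d => (d : Perm (Fin 8)) * (x12 : Perm (Fin 8)) = x12 * d → d ∈ Ll) (L := Vl)
    (by decide +kernel) d hd h1

/-! abstract identities -/

theorem comm_of_sq {a b : G} (ha : a * a = 1) (hb : b * b = 1) (hab : (a * b) * (a * b) = 1) : a * b = b * a := by
  calc a * b = a * ((a * b) * (a * b)) * b := by rw [hab, mul_one]
    _ = (a * a) * (b * a) * (b * b) := by group
    _ = b * a := by rw [ha, hb, one_mul, mul_one]

namespace Grow

variable {t : G} {f : A8 →* G} {y : G}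

/-- `m = Y r * Y q * Y (r q)` commutes with `t`. -/
theorem line_t (h : Grow t f y) {r q : A8} (hr : Root r) (hq : Root q) (hs : Root (r * q)) (hc : r * q = q * r) :
    Y f y r * Y f y q * Y f y (r * q) * t = t * (Y f y r * Y f y q * Y f y (r * q)) := by
  have e1 := h.t_Y hr
  have e2 := h.t_Y hq
  have e3 := h.t_Y hs
  have c1 : f r * Y f y q = Y f y q * f r := (h.Y_comm hq hc).symm
  have c2 : f r * Y f y (r * q) = Y f y (r * q) * f r := (h.Y_comm hs (by rw [mul_assoc r q r, ← hc])).symm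
  have c3 : f q * Y f y (r * q) = Y f y (r * q) * f q := (h.Y_comm hs (by rw [← mul_assoc, ← hc])).symm
  have hone : f (r * q) * f q * f r = 1 := by
    rw [← map_mul, ← map_mul]
    have : r * q * q * r = 1 := by rw [mul_assoc r q q, hq.sq, mul_one, hr.sq]
    rw [this, map_one]
  symm
  calc t * (Y f y r * Y f y q * Y f y (r * q)) = (t * Y f y r) * Y f y q * Y f y (r * q) := by group
    _ = Y f y r * t * (f r * Y f y q) * Y f y (r * q) := by rw [e1]; group
    _ = Y f y r * (t * Y f y q) * (f r * Y f y (r * q)) := by rw [c1]; group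
    _ = Y f y r * Y f y q * t * (f q * Y f y (r * q)) * f r := by rw [e2, c2]; group
    _ = Y f y r * Y f y q * (t * Y f y (r * q)) * f q * f r := by rw [c3]; group
    _ = Y f y r * Y f y q * Y f y (r * q) * t * (f (r * q) * f q * f r) := by rw [e3]; group
    _ = Y f y r * Y f y q * Y f y (r * q) * t := by rw [hone, mul_one]

theorem line_base (h : Grow t f y) :
    ∃ d : A8, d ∈ Ll ∧ (Y f y x14 * Y f y x13 * Y f y (x14 * x13) = f d ∨
      Y f y x14 * Y f y x13 * Y f y (x14 * x13) = t * f d) := by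
  have hr := L1_base.left
  have hq := L1_base.right
  have hs := L1_base.prod
  refine h.cent_of (h.line_t hr hq hs L1_base.comm) [va, vb, wa, wb, x12] ?_ (fun d => d ∈ Ll) (fun p hp => cent_L p hp)
  intro b hb
  have h1 : b * x14 = x14 * b ∧ b * x13 = x13 * b := by
    exact all_of (P := fun b => b * x14 = x14 * b ∧ b * x13 = x13 * b) (L := [va, vb, wa, wb, x12])
      (by decide +kernel) b hb
  have h2 : b * (x14 * x13) = x14 * x13 * b := by rw [← mul_assoc, h1.1, mul_assoc, h1.2, mul_assoc]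
  have e1 := h.Y_comm hr h1.1
  have e2 := h.Y_comm hq h1.2
  have e3 := h.Y_comm hs h2
  calc Y f y x14 * Y f y x13 * Y f y (x14 * x13) * f b = Y f y x14 * Y f y x13 * (Y f y (x14 * x13) * f b) := by group
    _ = Y f y x14 * (Y f y x13 * f b) * Y f y (x14 * x13) := by rw [e3]; group
    _ = (Y f y x14 * f b) * Y f y x13 * Y f y (x14 * x13) := by rw [e2]; group
    _ = f b * (Y f y x14 * Y f y x13 * Y f y (x14 * x13)) := by rw [e1]; group

/-- conjugation by `kap` rotates the line -/
theorem kap14 : kap * x14 * kap⁻¹ = x13 := by decide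
theorem kap13 : kap * x13 * kap⁻¹ = x14 * x13 := by decide
theorem kap1413 : kap * (x14 * x13) * kap⁻¹ = x14 := by decide

/-- case A -/
theorem lineA (h : Grow t f y) {d : A8} (hd : d ∈ Ll) (hm : Y f y x14 * Y f y x13 * Y f y (x14 * x13) = f d) :
    Y f y x14 * Y f y x13 = Y f y (x14 * x13) := by
  have hr := L1_base.left
  have hq := L1_base.right
  have hs := L1_base.prod
  have k1 := h.Y_conj hr kap
  have k2 := h.Y_conj hq kap
  have k3 := h.Y_conj hs kap
  rw [kap14] at k1
  rw [kap13] at k2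
  rw [kap1413] at k3
  have h1 : Y f y x13 * Y f y (x14 * x13) * Y f y x14 = f (kap * d * kap⁻¹) := by
    rw [map_mul, map_mul, map_inv, ← hm]
    nth_rewrite 1 [k1]
    nth_rewrite 1 [k2]
    nth_rewrite 2 [k3]
    group
  have hd14 : d * x14 = x14 * d := all_of (P := fun d => d * x14 = x14 * d) (L := Ll) (by decide +kernel) d hd
  have h2 : Y f y x13 * Y f y (x14 * x13) * Y f y x14 = f d := by
    calc Y f y x13 * Y f y (x14 * x13) * Y f y x14
        = (Y f y x14)⁻¹ * (Y f y x14 * Y f y x13 * Y f y (x14 * x13)) * Y f y x14 := by group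
      _ = (Y f y x14)⁻¹ * (f d * Y f y x14) := by rw [hm, mul_assoc]
      _ = f d := by rw [← h.Y_comm hr hd14, inv_mul_cancel_left]
  have h3 : kap * d * kap⁻¹ = d := h.inj (h1.symm.trans h2)
  have h4 : d = 1 := all_of (P := fun d => kap * d * kap⁻¹ = d → d = 1) (L := Ll) (by decide +kernel) d hd h3
  rw [h4, map_one] at hm
  have h5 := mul_eq_one_iff_eq_inv.1 hm
  rw [h5, h.Y_inv hs]

/-- case B, the base line -/
theorem lineB (h : Grow t f y) {d : A8} (hd : d ∈ Ll) (hm : Y f y x14 * Y f y x13 * Y f y (x14 * x13) = t * f d) :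
    (t * Y f y x14) * (t * Y f y x13) * (t * Y f y (x14 * x13)) = 1 := by
  have hr := L1_base.left
  have hq := L1_base.right
  have hs := L1_base.prod
  -- `Z1 Z2 Z3 = f (x13 d)`
  have e1 : (t * Y f y x14) * (t * Y f y x13) * (t * Y f y (x14 * x13)) = f (x13 * d) := by
    have c1 : f x14 * Y f y x13 = Y f y x13 * f x14 := (h.Y_comm hq (by decide)).symm
    have c2 : f x14 * Y f y (x14 * x13) = Y f y (x14 * x13) * f x14 := (h.Y_comm hs (by decide)).symm
    have c3 : f x13 * Y f y (x14 * x13) = Y f y (x14 * x13) * f x13 := (h.Y_comm hs (by decide)).symm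
    have e1 := h.t_Y hr
    have e2 := h.t_Y hq
    have e3 := h.t_Y hs
    have hone : f (x14 * x13) * f x14 = f x13 := by
      rw [← map_mul]; congr 1; decide
    calc (t * Y f y x14) * (t * Y f y x13) * (t * Y f y (x14 * x13))
        = Y f y x14 * t * (f x14 * t) * Y f y x13 * (t * Y f y (x14 * x13)) := by rw [e1]; group
      _ = Y f y x14 * (t * t) * (f x14 * Y f y x13) * (t * Y f y (x14 * x13)) := by rw [← h.comm]; group
      _ = Y f y x14 * Y f y x13 * (f x14 * t) * Y f y (x14 * x13) := by rw [h.tt, c1]; group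
      _ = Y f y x14 * Y f y x13 * t * (f x14 * Y f y (x14 * x13)) := by rw [← h.comm]; group
      _ = Y f y x14 * Y f y x13 * (t * Y f y (x14 * x13)) * f x14 := by rw [c2]; group
      _ = (Y f y x14 * Y f y x13 * Y f y (x14 * x13)) * t * (f (x14 * x13) * f x14) := by rw [e3]; group
      _ = t * (f d * t) * f x13 := by rw [hm, hone]; group
      _ = (t * t) * (f d * f x13) := by rw [← h.comm]; group
      _ = f (x13 * d) := by
        rw [h.tt, one_mul, ← map_mul]
        congr 1
        exact all_of (P := fun d => d * x13 = x13 * d) (L := Ll) (by decide +kernel) d hd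
  have k1 := h.Y_conj hr kap
  have k2 := h.Y_conj hq kap
  have k3 := h.Y_conj hs kap
  rw [kap14] at k1
  rw [kap13] at k2
  rw [kap1413] at k3
  have ht : t = f kap * t * (f kap)⁻¹ := by rw [← h.comm, mul_inv_cancel_right]
  have h1 : (t * Y f y x13) * (t * Y f y (x14 * x13)) * (t * Y f y x14) = f (kap * (x13 * d) * kap⁻¹) := by
    rw [map_mul f (kap * (x13 * d)), map_mul f kap, map_inv, ← e1]
    nth_rewrite 1 [k1]
    nth_rewrite 1 [k2]
    nth_rewrite 2 [k3]
    nth_rewrite 1 [ht]
    nth_rewrite 2 [ht]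
    nth_rewrite 3 [ht]
    group
  have hd14 : (x13 * d) * x14 = x14 * (x13 * d) :=
    all_of (P := fun d => (x13 * d) * x14 = x14 * (x13 * d)) (L := Ll) (by decide +kernel) d hd
  have h2 : (t * Y f y x13) * (t * Y f y (x14 * x13)) * (t * Y f y x14) = f (x13 * d) := by
    calc (t * Y f y x13) * (t * Y f y (x14 * x13)) * (t * Y f y x14)
        = (t * Y f y x14)⁻¹ * ((t * Y f y x14) * (t * Y f y x13) * (t * Y f y (x14 * x13))) * (t * Y f y x14) := by group
      _ = (t * Y f y x14)⁻¹ * ((f (x13 * d) * t) * Y f y x14) := by rw [e1]; group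
      _ = (t * Y f y x14)⁻¹ * (t * (f (x13 * d) * Y f y x14)) := by rw [← h.comm]; group
      _ = (t * Y f y x14)⁻¹ * ((t * Y f y x14) * f (x13 * d)) := by rw [← h.Y_comm hr hd14]; group
      _ = f (x13 * d) := by rw [inv_mul_cancel_left]
  have h3 : kap * (x13 * d) * kap⁻¹ = x13 * d := h.inj (h1.symm.trans h2)
  have h4 : x13 * d = 1 :=
    all_of (P := fun d => kap * (x13 * d) * kap⁻¹ = x13 * d → x13 * d = 1) (L := Ll) (by decide +kernel) d hd h3
  rw [e1, h4, map_one]

/-- transport to all centre type pairs -/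
theorem lineB_all (h : Grow t f y)
    (hB : (t * Y f y x14) * (t * Y f y x13) * (t * Y f y (x14 * x13)) = 1) {r q : A8} (hrq : L1 r q) :
    (t * Y f y r) * (t * Y f y q) * (t * Y f y (r * q)) = 1 := by
  obtain ⟨c, rfl, rfl⟩ := hrq
  have hr := L1_base.left
  have hq := L1_base.right
  have hs := L1_base.prod
  have e : c * x14 * c⁻¹ * (c * x13 * c⁻¹) = c * (x14 * x13) * c⁻¹ := by group
  rw [e, h.Y_conj hr, h.Y_conj hq, h.Y_conj hs]
  have ht : t = f c * t * (f c)⁻¹ := by rw [← h.comm, mul_inv_cancel_right]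
  calc (t * (f c * Y f y x14 * (f c)⁻¹)) * (t * (f c * Y f y x13 * (f c)⁻¹)) * (t * (f c * Y f y (x14 * x13) * (f c)⁻¹))
      = ((f c * t * (f c)⁻¹) * (f c * Y f y x14 * (f c)⁻¹)) * ((f c * t * (f c)⁻¹) * (f c * Y f y x13 * (f c)⁻¹)) *
        ((f c * t * (f c)⁻¹) * (f c * Y f y (x14 * x13) * (f c)⁻¹)) := by rw [← ht]
    _ = f c * ((t * Y f y x14) * (t * Y f y x13) * (t * Y f y (x14 * x13))) * (f c)⁻¹ := by group
    _ = 1 := by rw [hB]; group

theorem Z_sq (h : Grow t f y) {r : A8} (hr : Root r) : (t * Y f y r) * (t * Y f y r) = f r := by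
  calc (t * Y f y r) * (t * Y f y r) = t * (Y f y r * t * Y f y r) := by group
    _ = f r := by rw [h.Y_t hr, ← mul_assoc, h.tt, one_mul]

/-- case B is impossible -/
theorem lineB_false (h : Grow t f y)
    (hB : (t * Y f y x14) * (t * Y f y x13) * (t * Y f y (x14 * x13)) = 1) : False := by
  have a1 := h.lineB_all hB L1_base
  have a2 := h.lineB_all hB L1_1312
  have a3 := h.lineB_all hB L1_1413_12
  have a4 := h.lineB_all hB L1_14_1312
  have b1 := h.lineB_all hB (L1_symm L1_base)
  have b2 := h.lineB_all hB (L1_symm L1_1312)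
  have s1 := h.Z_sq L1_base.left
  have s2 := h.Z_sq L1_1312.right
  rw [L1_base.comm.symm] at b1
  rw [L1_1312.comm.symm] at b2
  rw [mul_assoc x14 x13 x12] at a3
  generalize t * Y f y x14 = A at *
  generalize t * Y f y x13 = B at *
  generalize t * Y f y x12 = C at *
  generalize t * Y f y (x14 * x13) = D at *
  generalize t * Y f y (x13 * x12) = E at *
  generalize t * Y f y (x14 * (x13 * x12)) = F at *
  -- `A B = B A`, `B C = C B`
  have hAB : A * B = B * A := mul_right_cancel (a1.trans b1.symm)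
  have hBC : B * C = C * B := mul_right_cancel (a2.trans b2.symm)
  have hD : D = (A * B)⁻¹ := (inv_eq_of_mul_eq_one_right a1).symm
  have hE : E = (B * C)⁻¹ := (inv_eq_of_mul_eq_one_right a2).symm
  have h5 : D * C = A * E := mul_right_cancel (a3.trans a4.symm)
  rw [hD, hE] at h5
  have h6 : C * C = A * A := by
    calc C * C = (A * B) * ((A * B)⁻¹ * C) * C := by group
      _ = (A * B) * (A * (B * C)⁻¹) * C := by rw [h5]
      _ = (B * A) * (A * (C * B)⁻¹) * C := by rw [hAB, hBC]
      _ = B * (A * A) * B⁻¹ * (C⁻¹ * C) := by group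
      _ = (B * (A * A)) * B⁻¹ := by group
      _ = A * A := by
        have : B * (A * A) = (A * A) * B := by rw [← mul_assoc, ← hAB, mul_assoc, ← hAB, mul_assoc]
        rw [this, mul_inv_cancel_right]
  rw [s1, s2] at h6
  have : x12 = x14 := h.inj h6
  revert this
  decide

/-- **centre type lines** -/
theorem line1_base (h : Grow t f y) : Y f y x14 * Y f y x13 = Y f y (x14 * x13) := by
  obtain ⟨d, hd, hm | hm⟩ := h.line_base
  · exact h.lineA hd hm
  · exact (h.lineB_false (h.lineB hd hm)).elim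

theorem line1 (h : Grow t f y) {r q : A8} (hrq : L1 r q) : Y f y r * Y f y q = Y f y (r * q) := by
  obtain ⟨c, rfl, rfl⟩ := hrq
  have hr := L1_base.left
  have hq := L1_base.right
  have hs := L1_base.prod
  have e : c * x14 * c⁻¹ * (c * x13 * c⁻¹) = c * (x14 * x13) * c⁻¹ := by group
  rw [e, h.Y_conj hr, h.Y_conj hq, h.Y_conj hs, ← h.line1_base]
  group

end Grow

end Cfsg.Agent.OddHalf.D5.Eight.Gr
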