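import Mathlib
import Cfsg.Agent.OddHalf.D5.EightGrowCore

/-!
# ODD D5, `n = 8`: the growth, 2 (helper432)

Collinear, orthogonal and special pairs of roots.
-/

set_option autoImplicit false

namespace Cfsg.Agent.OddHalf.D5.Eight.Gr

open Subgroup Equiv

variable {G : Type*} [Group G]

/-! ### The flip -/

/-- the transposition `(45)` -/
def g45 : Perm (Fin 8) := pm 0o76453210 0o76453210 (by decide) (by decide)

/-- conjugation by `(45)` on the alternating group -/
def phi : A8 →* A8 := (MulAut.conjNormal g45 : MulAut A8).toMonoidHom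

theorem phi_coe (a : A8) : (phi a : Perm (Fin 8)) = g45 * a * g45⁻¹ := MulAut.conjNormal_apply g45 a

theorem phi_inj : Function.Injective phi := (MulAut.conjNormal g45 : MulAut A8).injective

theorem phi14 : phi x14 = x14 := Subtype.ext ((phi_coe _).trans (by decide +kernel))
theorem phi13 : phi x13 = x24 := Subtype.ext ((phi_coe _).trans (by decide +kernel))
theorem phi24 : phi x24 = x13 := Subtype.ext ((phi_coe _).trans (by decide +kernel))
theorem phi23 : phi x23 = x23 := Subtype.ext ((phi_coe _).trans (by decide +kernel))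
theorem phi12 : phi x12 = x34 := Subtype.ext ((phi_coe _).trans (by decide +kernel))
theorem phi34 : phi x34 = x12 := Subtype.ext ((phi_coe _).trans (by decide +kernel))

theorem Root.phi {r : A8} (hr : Root r) : Root (phi r) := by
  obtain ⟨a, rfl⟩ := hr
  exact ⟨Gr.phi a, by rw [map_mul, map_mul, map_inv, phi14]⟩

namespace Grow

variable {t : G} {f : A8 →* G} {y : G}

theorem flip (h : Grow t f y) : Grow t (f.comp phi) y where
  tt := h.tt
  t1 := h.t1
  inj := h.inj.comp phi_inj
  comm := fun a => h.comm _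
  ne := fun a => h.ne _
  cent := by
    intro g hg
    obtain ⟨p, h1, h2⟩ := h.cent g hg
    refine ⟨g45⁻¹ * p * g45, ?_, ?_⟩
    · intro b hb
      have h3 := h1 (phi b) hb
      rw [phi_coe] at h3
      calc g45⁻¹ * p * g45 * (b : Perm (Fin 8)) = g45⁻¹ * (p * (g45 * b * g45⁻¹)) * g45 := by group
        _ = g45⁻¹ * ((g45 * b * g45⁻¹) * p) * g45 := by rw [h3]
        _ = b * (g45⁻¹ * p * g45) := by group
    · intro hp
      have hpe : (phi ⟨g45⁻¹ * p * g45, hp⟩ : Perm (Fin 8)) = p := by
        rw [phi_coe]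
        show g45 * (g45⁻¹ * p * g45) * g45⁻¹ = p
        group
      have hpA : p ∈ A8 := by
        rw [← hpe]
        exact (phi ⟨g45⁻¹ * p * g45, hp⟩).2
      have he : phi ⟨g45⁻¹ * p * g45, hp⟩ = ⟨p, hpA⟩ := Subtype.ext hpe
      rw [MonoidHom.comp_apply, he]
      exact h2 hpA
  yy := h.yy
  yt := by rw [MonoidHom.comp_apply, phi14]; exact h.yt
  yc := by
    intro a ha
    apply h.yc
    rw [← phi14, ← map_mul, ha, map_mul]

theorem Y_flip (h : Grow t f y) {r : A8} (hr : Root r) : Y (f.comp phi) y r = Y f y (phi r) := by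
  obtain ⟨a, rfl⟩ := hr
  rw [h.flip.Y_eq, map_mul, map_mul, map_inv, phi14, h.Y_eq]
  rfl

end Grow

/-- axis type collinear pairs -/
def L3 (r q : A8) : Prop := ∃ c : A8, c * x14 * c⁻¹ = r ∧ c * x24 * c⁻¹ = q

theorem L3_base : L3 x14 x24 := ⟨1, by group, by group⟩

theorem L3.left {r q : A8} (h : L3 r q) : Root r := by
  obtain ⟨c, rfl, -⟩ := h
  exact ⟨c, rfl⟩

theorem root24 : Root x24 := by
  have := L1_base.right.phi
  rwa [phi13] at this

theorem L3.right {r q : A8} (h : L3 r q) : Root q := by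
  obtain ⟨c, -, rfl⟩ := h
  exact root24.conj c

theorem L1.flip {r q : A8} (h : L1 r q) : L3 (phi r) (phi q) := by
  obtain ⟨c, rfl, rfl⟩ := h
  exact ⟨phi c, by rw [map_mul, map_mul, map_inv, phi14], by rw [map_mul, map_mul, map_inv, phi13]⟩

theorem L3.prod {r q : A8} (h : L3 r q) : Root (r * q) := by
  obtain ⟨c, rfl, rfl⟩ := h
  have h1 := L1_base.prod.phi
  rw [map_mul, phi14, phi13] at h1
  have h2 := h1.conj c
  have e : c * x14 * c⁻¹ * (c * x24 * c⁻¹) = c * (x14 * x24) * c⁻¹ := by group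
  rwa [e]

theorem L3.comm {r q : A8} (h : L3 r q) : r * q = q * r := by
  obtain ⟨c, rfl, rfl⟩ := h
  have : x14 * x24 = x24 * x14 := by decide
  calc c * x14 * c⁻¹ * (c * x24 * c⁻¹) = c * (x14 * x24) * c⁻¹ := by group
    _ = _ := by rw [this]; group

namespace Grow

variable {t : G} {f : A8 →* G} {y : G}

/-- **axis type lines** -/
theorem line3 (h : Grow t f y) {r q : A8} (hrq : L3 r q) : Y f y r * Y f y q = Y f y (r * q) := by
  obtain ⟨c, rfl, rfl⟩ := hrq
  have hr := L3_base.left
  have hq := L3_base.right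
  have hs := L3_base.prod
  have e : c * x14 * c⁻¹ * (c * x24 * c⁻¹) = c * (x14 * x24) * c⁻¹ := by group
  have h1 := h.flip.line1_base
  rw [h.Y_flip L1_base.left, h.Y_flip L1_base.right, h.Y_flip L1_base.prod, map_mul, phi14, phi13] at h1
  rw [e, h.Y_conj hr, h.Y_conj hq, h.Y_conj hs, ← h1]
  group

theorem comm_of_line (h : Grow t f y) {r q : A8} (hr : Root r) (hq : Root q) (hs : Root (r * q))
    (hl : Y f y r * Y f y q = Y f y (r * q)) : Y f y r * Y f y q = Y f y q * Y f y r := by
  apply comm_of_sq (h.Y_sq hr) (h.Y_sq hq)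
  rw [hl]
  exact h.Y_sq hs

theorem comm1 (h : Grow t f y) {r q : A8} (hrq : L1 r q) : Y f y r * Y f y q = Y f y q * Y f y r :=
  h.comm_of_line hrq.left hrq.right hrq.prod (h.line1 hrq)

theorem comm3 (h : Grow t f y) {r q : A8} (hrq : L3 r q) : Y f y r * Y f y q = Y f y q * Y f y r :=
  h.comm_of_line hrq.left hrq.right hrq.prod (h.line3 hrq)

end Grow

/-! ### Orthogonal pairs -/

def csp : A8 := ev (pm 0o57643210 0o65743210 (by decide) (by decide)) (by decide)
/-- `(01)(23)(46)(57)` -/
def xsp : A8 := va * wb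

theorem xsp_mul : xsp * x24 = x23 := by decide
theorem L1_sp : L1 xsp x24 := ⟨csp, by decide, by decide⟩
theorem root23 : Root x23 := by
  rw [← xsp_mul]
  exact L1_sp.prod
theorem g1_14 : g1 * x14 * g1⁻¹ = x23 := by decide
theorem g1_23 : g1 * x23 * g1⁻¹ = x14 := by decide
theorem g2_14 : g2 * x14 * g2⁻¹ = xsp := by decide
theorem g2_sp : g2 * xsp * g2⁻¹ = x14 := by decide

theorem cent_V' (p : Perm (Fin 8)) (hL : ∀ b ∈ [va, vb, wa, wb], p * (b : Perm (Fin 8)) = b * p) :
    ∃ d : A8, d ∈ Vl ∧ (d : Perm (Fin 8)) = p :=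
  cent_V p (hL _ (by simp)) (hL _ (by simp)) (hL _ (by simp)) (hL _ (by simp))

namespace Grow

variable {t : G} {f : A8 →* G} {y : G}

/-- `(Y r Y s)²` commutes with `t` for commuting `r, s`. -/
theorem sq_t (h : Grow t f y) {r s : A8} (hr : Root r) (hs : Root s) (hc : r * s = s * r) :
    Y f y r * Y f y s * Y f y r * Y f y s * t = t * (Y f y r * Y f y s * Y f y r * Y f y s) := by
  have e1 := h.t_Y hr
  have e2 := h.t_Y hs
  have c1 : f r * Y f y s = Y f y s * f r := (h.Y_comm hs hc).symm
  have c2 : f r * Y f y r = Y f y r * f r := (h.Y_comm hr rfl).symm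
  have c3 : f s * Y f y r = Y f y r * f s := (h.Y_comm hr hc.symm).symm
  have c4 : f s * Y f y s = Y f y s * f s := (h.Y_comm hs rfl).symm
  have hone : f s * f r * f s * f r = 1 := by
    rw [← map_mul, ← map_mul, ← map_mul]
    have : s * r * s * r = 1 := by
      calc s * r * s * r = s * (r * s) * r := by group
        _ = (s * s) * (r * r) := by rw [hc]; group
        _ = 1 := by rw [hs.sq, hr.sq, one_mul]
    rw [this, map_one]
  symm
  calc t * (Y f y r * Y f y s * Y f y r * Y f y s)
      = (t * Y f y r) * Y f y s * Y f y r * Y f y s := by group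
    _ = Y f y r * t * (f r * Y f y s) * Y f y r * Y f y s := by rw [e1]; group
    _ = Y f y r * (t * Y f y s) * (f r * Y f y r) * Y f y s := by rw [c1]; group
    _ = Y f y r * Y f y s * t * (f s * Y f y r) * (f r * Y f y s) := by rw [e2, c2]; group
    _ = Y f y r * Y f y s * (t * Y f y r) * (f s * Y f y s) * f r := by rw [c3, c1]; group
    _ = Y f y r * Y f y s * Y f y r * t * (f r * Y f y s) * f s * f r := by rw [e1, c4]; group
    _ = Y f y r * Y f y s * Y f y r * (t * Y f y s) * f r * f s * f r := by rw [c1]; group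
    _ = Y f y r * Y f y s * Y f y r * Y f y s * t * (f s * f r * f s * f r) := by rw [e2]; group
    _ = Y f y r * Y f y s * Y f y r * Y f y s * t := by rw [hone, mul_one]

theorem commute4 (h : Grow t f y) {r s b : A8} (hr : Root r) (hs : Root s) (h1 : b * r = r * b) (h2 : b * s = s * b) :
    Y f y r * Y f y s * Y f y r * Y f y s * f b = f b * (Y f y r * Y f y s * Y f y r * Y f y s) := by
  have e1 := h.Y_comm hr h1
  have e2 := h.Y_comm hs h2
  calc Y f y r * Y f y s * Y f y r * Y f y s * f b = Y f y r * Y f y s * Y f y r * (Y f y s * f b) := by group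
    _ = Y f y r * Y f y s * (Y f y r * f b) * Y f y s := by rw [e2]; group
    _ = Y f y r * (Y f y s * f b) * Y f y r * Y f y s := by rw [e1]; group
    _ = (Y f y r * f b) * Y f y s * Y f y r * Y f y s := by rw [e2]; group
    _ = f b * (Y f y r * Y f y s * Y f y r * Y f y s) := by rw [e1]; group

/-- the base orthogonal pair -/
theorem orth_base (h : Grow t f y) : Y f y x14 * Y f y x23 = Y f y x23 * Y f y x14 := by
  have hr : Root x14 := L1_base.left
  have hs := root23
  have hp := L1_sp.left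
  have e0 : x14 * x23 = x23 * x14 := by decide
  apply comm_of_sq (h.Y_sq hr) (h.Y_sq hs)
  have s1 := h.Y_sq hr
  have s2 := h.Y_sq hs
  have s3 := h.Y_sq hp
  obtain ⟨d, hd, hm⟩ := h.cent_of (h.sq_t hr hs e0) [va, vb, wa, wb] (by
    intro b hb
    have h1 := all_of (P := fun b => b * x14 = x14 * b ∧ b * x23 = x23 * b) (L := [va, vb, wa, wb])
      (by decide +kernel) b hb
    exact h.commute4 hr hs h1.1 h1.2) (fun d => d ∈ Vl) (fun p hp => cent_V' p hp)
  have hdd : d * d = 1 := all_of (P := fun d => d * d = 1) (L := Vl) (by decide +kernel) d hd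
  have hfd : f d * f d = 1 := by rw [← map_mul, hdd, map_one]
  have hd14 : d * x14 = x14 * d := all_of (P := fun d => d * x14 = x14 * d) (L := Vl) (by decide +kernel) d hd
  have hinv : Y f y x23 * Y f y x14 * Y f y x23 * Y f y x14 = (Y f y x14 * Y f y x23 * Y f y x14 * Y f y x23)⁻¹ := by
    rw [mul_inv_rev, mul_inv_rev, mul_inv_rev, h.Y_inv hr, h.Y_inv hs]
    group
  have hinv' : Y f y x14 * (Y f y x14 * Y f y x23 * Y f y x14 * Y f y x23) * Y f y x14 =
      (Y f y x14 * Y f y x23 * Y f y x14 * Y f y x23)⁻¹ := by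
    rw [← hinv]
    calc Y f y x14 * (Y f y x14 * Y f y x23 * Y f y x14 * Y f y x23) * Y f y x14
        = (Y f y x14 * Y f y x14) * (Y f y x23 * Y f y x14 * Y f y x23 * Y f y x14) := by group
      _ = _ := by rw [s1, one_mul]
  rcases hm with hm | hm
  · -- `e = f d`
    have hfinv : (f d)⁻¹ = f d := inv_eq_of_mul_eq_one_left hfd
    have h1 : g1 * d * g1⁻¹ = d := by
      apply h.inj
      have k1 := h.Y_conj hr g1
      have k2 := h.Y_conj hs g1
      rw [g1_14] at k1
      rw [g1_23] at k2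
      calc f (g1 * d * g1⁻¹) = f g1 * (Y f y x14 * Y f y x23 * Y f y x14 * Y f y x23) * (f g1)⁻¹ := by
            rw [map_mul, map_mul, map_inv, hm]
        _ = (f g1 * Y f y x14 * (f g1)⁻¹) * (f g1 * Y f y x23 * (f g1)⁻¹) * (f g1 * Y f y x14 * (f g1)⁻¹) *
            (f g1 * Y f y x23 * (f g1)⁻¹) := by group
        _ = Y f y x23 * Y f y x14 * Y f y x23 * Y f y x14 := by rw [← k1, ← k2]
        _ = f d := by rw [hinv, hm, hfinv]
    have hl := h.line1 L1_sp
    rw [xsp_mul] at hl
    have hc1 := h.comm1 L1_sp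
    have hc3 := h.comm3 L3_base
    have s24 := h.Y_sq root24
    have he : Y f y x14 * Y f y x23 * Y f y x14 * Y f y x23 = Y f y x14 * Y f y xsp * Y f y x14 * Y f y xsp := by
      rw [← hl]
      calc Y f y x14 * (Y f y xsp * Y f y x24) * Y f y x14 * (Y f y xsp * Y f y x24)
          = Y f y x14 * Y f y xsp * (Y f y x24 * Y f y x14) * (Y f y xsp * Y f y x24) := by group
        _ = Y f y x14 * Y f y xsp * (Y f y x14 * Y f y x24) * (Y f y x24 * Y f y xsp) := by rw [← hc3, hc1]
        _ = Y f y x14 * Y f y xsp * Y f y x14 * (Y f y x24 * Y f y x24) * Y f y xsp := by group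
        _ = Y f y x14 * Y f y xsp * Y f y x14 * Y f y xsp := by rw [s24, mul_one]
    have h2 : g2 * d * g2⁻¹ = d := by
      apply h.inj
      have k1 := h.Y_conj hr g2
      have k2 := h.Y_conj hp g2
      rw [g2_14] at k1
      rw [g2_sp] at k2
      calc f (g2 * d * g2⁻¹) = f g2 * (Y f y x14 * Y f y xsp * Y f y x14 * Y f y xsp) * (f g2)⁻¹ := by
            rw [map_mul, map_mul, map_inv, ← he, hm]
        _ = (f g2 * Y f y x14 * (f g2)⁻¹) * (f g2 * Y f y xsp * (f g2)⁻¹) * (f g2 * Y f y x14 * (f g2)⁻¹) *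
            (f g2 * Y f y xsp * (f g2)⁻¹) := by group
        _ = Y f y xsp * Y f y x14 * Y f y xsp * Y f y x14 := by rw [← k1, ← k2]
        _ = (Y f y x14 * Y f y xsp * Y f y x14 * Y f y xsp)⁻¹ := by
            rw [mul_inv_rev, mul_inv_rev, mul_inv_rev, h.Y_inv hr, h.Y_inv hp]
            group
        _ = f d := by rw [← he, hm, hfinv]
    have h3 : d = 1 := all_of (P := fun d => g1 * d * g1⁻¹ = d → g2 * d * g2⁻¹ = d → d = 1) (L := Vl)
      (by decide +kernel) d hd h1 h2
    rw [h3, map_one] at hm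
    rw [← mul_assoc]
    exact hm
  · -- `e = t f d`
    exfalso
    rw [hm] at hinv'
    have h1 : Y f y x14 * (t * f d) * Y f y x14 = t * f x14 * f d := by
      calc Y f y x14 * (t * f d) * Y f y x14 = Y f y x14 * t * (f d * Y f y x14) := by group
        _ = (Y f y x14 * t * Y f y x14) * f d := by rw [← h.Y_comm hr hd14]; group
        _ = t * f x14 * f d := by rw [h.Y_t hr]
    have h2 : (t * f d)⁻¹ = t * f d := by
      apply inv_eq_of_mul_eq_one_left
      calc t * f d * (t * f d) = t * (f d * t) * f d := by group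
        _ = (t * t) * (f d * f d) := by rw [← h.comm]; group
        _ = 1 := by rw [h.tt, hfd, one_mul]
    rw [h1, h2] at hinv'
    have h3 : f x14 = 1 := by
      have := mul_right_cancel hinv'
      exact mul_eq_left.1 this
    exact hr.ne_one (h.inj (h3.trans (map_one f).symm))

end Grow

/-- orthogonal pairs -/
def Or (r s : A8) : Prop := ∃ c : A8, c * x14 * c⁻¹ = r ∧ c * x23 * c⁻¹ = s

theorem Grow.orth {t : G} {f : A8 →* G} {y : G} (h : Grow t f y) {r s : A8} (hrs : Or r s) :
    Y f y r * Y f y s = Y f y s * Y f y r := by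
  obtain ⟨c, rfl, rfl⟩ := hrs
  rw [h.Y_conj L1_base.left, h.Y_conj root23]
  calc f c * Y f y x14 * (f c)⁻¹ * (f c * Y f y x23 * (f c)⁻¹) = f c * (Y f y x14 * Y f y x23) * (f c)⁻¹ := by group
    _ = _ := by rw [h.orth_base]; group

end Cfsg.Agent.OddHalf.D5.Eight.Gr
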