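import Mathlib
import Cfsg.Agent.OddHalf.D5.EightGrowPairs

/-!
# ODD D5, `n = 8`: the growth, 3 (helper432)

Special pairs of roots: `(Y r Y s)² ∈ {Y q, q Y q}`, `q = [r, s]`.
-/

set_option autoImplicit false
set_option linter.dupNamespace false

namespace Cfsg.Agent.OddHalf.D5.Eight.Gr

open Subgroup Equiv

variable {G : Type*} [Group G]

/-- special pairs -/
def Sp (r s : A8) : Prop := ∃ c : A8, c * x12 * c⁻¹ = r ∧ c * x23 * c⁻¹ = s

theorem root12 : Root x12 := L1_1312.right
theorem root13 : Root x13 := L1_base.right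
theorem L1_1213 : L1 x12 x13 := L1_symm L1_1312

theorem L3_1323 : L3 x13 x23 := ⟨d1323, by decide, by decide⟩

def x43 : A8 := ev (pm 0o12305674 0o12305674 (by decide) (by decide)) (by decide)
def D0 : A8 := ev (pm 0o76543210 0o76543210 (by decide) (by decide)) (by decide)
def D1 : A8 := ev (pm 0o45672301 0o45672301 (by decide) (by decide)) (by decide)
def D2 : A8 := ev (pm 0o54761032 0o54761032 (by decide) (by decide)) (by decide)
def D3 : A8 := ev (pm 0o67450123 0o67450123 (by decide) (by decide)) (by decide)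
def D4 : A8 := ev (pm 0o32107654 0o32107654 (by decide) (by decide)) (by decide)
def D5 : A8 := ev (pm 0o01236745 0o23014567 (by decide) (by decide)) (by decide)
def D6 : A8 := ev (pm 0o10325476 0o10325476 (by decide) (by decide)) (by decide)
def D7 : A8 := ev (pm 0o23014567 0o01236745 (by decide) (by decide)) (by decide)

/-- the dihedral group `⟨x12, x23⟩` -/
def Dl : List A8 := [D0, D1, D2, D3, D4, D5, D6, D7]

def C0 : A8 := ev (pm 0o76543210 0o76543210 (by decide) (by decide)) (by decide)
def C1 : A8 := ev (pm 0o67452301 0o67452301 (by decide) (by decide)) (by decide)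
def C2 : A8 := ev (pm 0o54761032 0o54761032 (by decide) (by decide)) (by decide)
def C3 : A8 := ev (pm 0o45670123 0o45670123 (by decide) (by decide)) (by decide)
def C4 : A8 := ev (pm 0o12305674 0o12305674 (by decide) (by decide)) (by decide)
def C5 : A8 := ev (pm 0o03214765 0o21036547 (by decide) (by decide)) (by decide)
def C6 : A8 := ev (pm 0o30127456 0o30127456 (by decide) (by decide)) (by decide)
def C7 : A8 := ev (pm 0o21036547 0o03214765 (by decide) (by decide)) (by decide)

/-- elements of `⟨x14, x43⟩` moving the base point `0` to `i` -/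
def wC : Fin 8 → Perm (Fin 8) := ![(C0 : Perm (Fin 8)), (C1 : Perm (Fin 8)), (C2 : Perm (Fin 8)), (C3 : Perm (Fin 8)),
  (C4 : Perm (Fin 8)), (C5 : Perm (Fin 8)), (C6 : Perm (Fin 8)), (C7 : Perm (Fin 8))]

theorem cent_D (p : Perm (Fin 8)) (hL : ∀ b ∈ [x14, x43], p * (b : Perm (Fin 8)) = b * p) :
    ∃ d : A8, d ∈ Dl ∧ (d : Perm (Fin 8)) = p := by
  have ha : p * (x14 : Perm (Fin 8)) = x14 * p := hL _ (by simp)
  have hb : p * (x43 : Perm (Fin 8)) = x43 * p := hL _ (by simp)
  have key : ∀ i : Fin 8, (Dl.any fun d => decide ((d : Perm (Fin 8)) 0 = i)) = true := by decide +kernel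
  obtain ⟨d, hdD, hd0⟩ := any_of (key (p 0))
  refine ⟨d, hdD, ?_⟩
  have hm : ∀ a b : Perm (Fin 8), p * a = a * p → p * b = b * p → p * (a * b) = a * b * p := by
    intro a b h1 h2
    rw [← mul_assoc, h1, mul_assoc, h2, mul_assoc]
  symm
  apply rigid wC ![0, 0, 0, 0, 0, 0, 0, 0] (by decide)
  · have e0 : (C0 : Perm (Fin 8)) = x14 * x14 := by decide +kernel
    have e1 : (C1 : Perm (Fin 8)) = x14 := by decide +kernel
    have e4 : (C4 : Perm (Fin 8)) = x43 := by decide +kernel
    have e5 : (C5 : Perm (Fin 8)) = C1 * C4 := by decide +kernel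
    have e2 : (C2 : Perm (Fin 8)) = C5 * C5 := by decide +kernel
    have e3 : (C3 : Perm (Fin 8)) = C1 * C2 := by decide +kernel
    have e6 : (C6 : Perm (Fin 8)) = C4 * C2 := by decide +kernel
    have e7 : (C7 : Perm (Fin 8)) = C1 * C6 := by decide +kernel
    have k1 : p * (C1 : Perm (Fin 8)) = C1 * p := by rw [e1]; exact ha
    have k4 : p * (C4 : Perm (Fin 8)) = C4 * p := by rw [e4]; exact hb
    have k0 : p * (C0 : Perm (Fin 8)) = C0 * p := by rw [e0]; exact hm _ _ ha ha
    have k5 : p * (C5 : Perm (Fin 8)) = C5 * p := by rw [e5]; exact hm _ _ k1 k4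
    have k2 : p * (C2 : Perm (Fin 8)) = C2 * p := by rw [e2]; exact hm _ _ k5 k5
    have k3 : p * (C3 : Perm (Fin 8)) = C3 * p := by rw [e3]; exact hm _ _ k1 k2
    have k6 : p * (C6 : Perm (Fin 8)) = C6 * p := by rw [e6]; exact hm _ _ k4 k2
    have k7 : p * (C7 : Perm (Fin 8)) = C7 * p := by rw [e7]; exact hm _ _ k1 k6
    intro i
    fin_cases i
    · exact k0
    · exact k1
    · exact k2
    · exact k3
    · exact k4
    · exact k5
    · exact k6
    · exact k7
  · exact all_of (P := fun d => ∀ i, wC i ((d : Perm (Fin 8)) ((![0, 0, 0, 0, 0, 0, 0, 0] : Fin 8 → Fin 8) i)) =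
      (d : Perm (Fin 8)) i) (L := Dl) (by decide +kernel) d hdD
  · intro i
    fin_cases i <;> exact hd0.symm

namespace Grow

variable {t : G} {f : A8 →* G} {y : G}

/-- `x23 Y12 x23 = Y12 Y13` -/
theorem sY12 (h : Grow t f y) : f x23 * Y f y x12 * f x23 = Y f y x12 * Y f y x13 := by
  rw [h.line1 L1_1213]
  have h1 := h.Y_conj root12 x23
  have h2 : x23 * x12 * x23⁻¹ = x12 * x13 := by decide
  have h3 : (f x23)⁻¹ = f x23 := by rw [← map_inv]; congr 1
  rw [h2, h3] at h1
  exact h1.symm

/-- `x12 Y23 x12 = Y13 Y23` -/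
theorem rY23 (h : Grow t f y) : f x12 * Y f y x23 * f x12 = Y f y x13 * Y f y x23 := by
  rw [h.line3 L3_1323]
  have h1 := h.Y_conj root23 x12
  have h2 : x12 * x23 * x12⁻¹ = x13 * x23 := by decide
  have h3 : (f x12)⁻¹ = f x12 := by rw [← map_inv]; congr 1
  rw [h2, h3] at h1
  exact h1.symm

theorem f_sq (_h : Grow t f y) {r : A8} (hr : Root r) : f r * f r = 1 := by rw [← map_mul, hr.sq, map_one]

/-- `Y23 x12 Y23 = x12 Y13` -/
theorem Yr (h : Grow t f y) : Y f y x23 * f x12 * Y f y x23 = f x12 * Y f y x13 := by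
  have h1 := h.rY23
  have s := h.Y_sq root23
  have r := h.f_sq root12
  calc Y f y x23 * f x12 * Y f y x23 = (f x12 * f x12) * Y f y x23 * f x12 * Y f y x23 := by rw [r, one_mul]
    _ = f x12 * (f x12 * Y f y x23 * f x12) * Y f y x23 := by group
    _ = f x12 * Y f y x13 * (Y f y x23 * Y f y x23) := by rw [h1]; group
    _ = f x12 * Y f y x13 := by rw [s, mul_one]

/-- `Y12 x23 Y12 = x23 Y13` -/
theorem Ys (h : Grow t f y) : Y f y x12 * f x23 * Y f y x12 = f x23 * Y f y x13 := by
  have h1 := h.sY12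
  have s := h.Y_sq root12
  have r := h.f_sq root23
  have c := h.comm1 L1_1213
  have c13 : Y f y x13 * f x23 = f x23 * Y f y x13 := h.Y_comm root13 (by decide)
  calc Y f y x12 * f x23 * Y f y x12 = Y f y x12 * (f x23 * Y f y x12 * f x23) * (f x23)⁻¹ := by group
    _ = (Y f y x12 * Y f y x12) * Y f y x13 * (f x23)⁻¹ := by rw [h1]; group
    _ = Y f y x13 * f x23 := by
      rw [s, one_mul]
      congr 1
      exact inv_eq_of_mul_eq_one_left r
    _ = f x23 * Y f y x13 := c13

/-- the product `c = (Y12 Y23)² Y13` commutes with `t` -/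
theorem spec_t (h : Grow t f y) :
    Y f y x12 * Y f y x23 * Y f y x12 * Y f y x23 * Y f y x13 * t =
      t * (Y f y x12 * Y f y x23 * Y f y x12 * Y f y x23 * Y f y x13) := by
  have y12 := h.Y_sq root12
  have y23 := h.Y_sq root23
  have y13 := h.Y_sq root13
  have t12 := h.Y_t root12
  have t23 := h.Y_t root23
  have t13 := h.Y_t root13
  have c1312 : Y f y x13 * Y f y x12 = Y f y x12 * Y f y x13 := h.comm1 L1_1312
  have c1323 : Y f y x13 * Y f y x23 = Y f y x23 * Y f y x13 := h.comm3 L3_1323
  have d1312 : Y f y x13 * f x12 = f x12 * Y f y x13 := h.Y_comm root13 (by decide)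
  have hrev : f x12 * f x23 * f x12 = f (x23 * x13) := by
    rw [← map_mul, ← map_mul]; congr 1; decide
  have d23 : Y f y x23 * f (x23 * x13) = f (x23 * x13) * Y f y x23 := h.Y_comm root23 (by decide)
  have f13 : f x23 * f (x23 * x13) = f x13 := by rw [← map_mul]; congr 1; decide
  -- step 2
  have a2 : Y f y x23 * (t * f x12) * Y f y x23 = t * f x23 * f x12 * Y f y x13 := by
    calc Y f y x23 * (t * f x12) * Y f y x23
        = (Y f y x23 * t * Y f y x23) * (Y f y x23⁻¹ * f x12 * Y f y x23) := by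
          have : Y f y x23⁻¹ = Y f y x23 := by congr 1
          rw [this]
          calc Y f y x23 * (t * f x12) * Y f y x23 = Y f y x23 * t * 1 * f x12 * Y f y x23 := by group
            _ = _ := by rw [← y23]; group
      _ = t * f x23 * (f x12 * Y f y x13) := by
          have : Y f y x23⁻¹ = Y f y x23 := by congr 1
          rw [this, t23, h.Yr]
      _ = _ := by group
  -- step 3
  have a3 : Y f y x12 * (t * f x23 * f x12 * Y f y x13) * Y f y x12 = t * f (x23 * x13) := by
    have e1 : Y f y x12 * f x12 = f x12 * Y f y x12 := h.Y_comm root12 rfl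
    calc Y f y x12 * (t * f x23 * f x12 * Y f y x13) * Y f y x12
        = Y f y x12 * t * f x23 * f x12 * (Y f y x13 * Y f y x12) := by group
      _ = Y f y x12 * t * f x23 * (f x12 * Y f y x12) * Y f y x13 := by rw [c1312]; group
      _ = Y f y x12 * t * 1 * f x23 * Y f y x12 * f x12 * Y f y x13 := by rw [← e1]; group
      _ = (Y f y x12 * t * Y f y x12) * (Y f y x12 * f x23 * Y f y x12) * f x12 * Y f y x13 := by rw [← y12]; group
      _ = t * f x12 * f x23 * (Y f y x13 * f x12) * Y f y x13 := by rw [t12, h.Ys]; group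
      _ = t * (f x12 * f x23 * f x12) * (Y f y x13 * Y f y x13) := by rw [d1312]; group
      _ = t * f (x23 * x13) := by rw [hrev, y13, mul_one]
  -- step 4
  have a4 : Y f y x23 * (t * f (x23 * x13)) * Y f y x23 = t * f x13 := by
    calc Y f y x23 * (t * f (x23 * x13)) * Y f y x23 = Y f y x23 * t * (f (x23 * x13) * Y f y x23) := by group
      _ = (Y f y x23 * t * Y f y x23) * f (x23 * x13) := by rw [← d23]; group
      _ = t * f x13 := by rw [t23, mul_assoc, f13]
  -- `u⁻¹ t u = t x13`
  have hu : Y f y x23 * Y f y x12 * Y f y x23 * Y f y x12 * t * (Y f y x12 * Y f y x23 * Y f y x12 * Y f y x23) =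
      t * f x13 := by
    calc Y f y x23 * Y f y x12 * Y f y x23 * Y f y x12 * t * (Y f y x12 * Y f y x23 * Y f y x12 * Y f y x23)
        = Y f y x23 * (Y f y x12 * (Y f y x23 * (Y f y x12 * t * Y f y x12) * Y f y x23) * Y f y x12) * Y f y x23 := by
          group
      _ = t * f x13 := by rw [t12, a2, a3, a4]
  have hinv : (Y f y x12 * Y f y x23 * Y f y x12 * Y f y x23 * Y f y x13)⁻¹ =
      Y f y x13 * (Y f y x23 * Y f y x12 * Y f y x23 * Y f y x12) := by
    rw [mul_inv_rev, mul_inv_rev, mul_inv_rev, mul_inv_rev, h.Y_inv root12, h.Y_inv root23, h.Y_inv root13]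
    group
  have hfin : (Y f y x12 * Y f y x23 * Y f y x12 * Y f y x23 * Y f y x13)⁻¹ * t *
      (Y f y x12 * Y f y x23 * Y f y x12 * Y f y x23 * Y f y x13) = t := by
    rw [hinv]
    calc Y f y x13 * (Y f y x23 * Y f y x12 * Y f y x23 * Y f y x12) * t *
        (Y f y x12 * Y f y x23 * Y f y x12 * Y f y x23 * Y f y x13)
        = Y f y x13 * (Y f y x23 * Y f y x12 * Y f y x23 * Y f y x12 * t *
          (Y f y x12 * Y f y x23 * Y f y x12 * Y f y x23)) * Y f y x13 := by group
      _ = (Y f y x13 * t) * (f x13 * Y f y x13) := by rw [hu]; group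
      _ = (Y f y x13 * t * Y f y x13) * f x13 := by rw [← h.Y_comm root13 rfl]; group
      _ = t * (f x13 * f x13) := by rw [t13]; group
      _ = t := by rw [h.f_sq root13, mul_one]
  generalize Y f y x12 * Y f y x23 * Y f y x12 * Y f y x23 * Y f y x13 = c at hfin
  calc c * t = c * (c⁻¹ * t * c) := by rw [hfin]
    _ = t * c := by group

/-- **the base special pair** -/
theorem spec_base (h : Grow t f y) :
    Y f y x12 * Y f y x23 * Y f y x12 * Y f y x23 = Y f y x13 ∨
      Y f y x12 * Y f y x23 * Y f y x12 * Y f y x23 = f x13 * Y f y x13 := by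
  have y12 := h.Y_sq root12
  have y23 := h.Y_sq root23
  have y13 := h.Y_sq root13
  have t12 := h.Y_t root12
  have t23 := h.Y_t root23
  have t13 := h.Y_t root13
  have c1312 : Y f y x13 * Y f y x12 = Y f y x12 * Y f y x13 := h.comm1 L1_1312
  have c1323 : Y f y x13 * Y f y x23 = Y f y x23 * Y f y x13 := h.comm3 L3_1323
  obtain ⟨d, hd, hm⟩ := h.cent_of h.spec_t [x14, x43] (by
    intro b hb
    have h1 := all_of (P := fun b => b * x12 = x12 * b ∧ b * x23 = x23 * b ∧ b * x13 = x13 * b) (L := [x14, x43])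
      (by decide +kernel) b hb
    have e1 := h.commute4 root12 root23 h1.1 h1.2.1
    have e2 := h.Y_comm root13 h1.2.2
    calc Y f y x12 * Y f y x23 * Y f y x12 * Y f y x23 * Y f y x13 * f b
        = Y f y x12 * Y f y x23 * Y f y x12 * Y f y x23 * (Y f y x13 * f b) := by group
      _ = (Y f y x12 * Y f y x23 * Y f y x12 * Y f y x23 * f b) * Y f y x13 := by rw [e2]; group
      _ = _ := by rw [e1]; group) (fun d => d ∈ Dl) (fun p hp => cent_D p hp)
  have hd13 : d * x13 = x13 * d := all_of (P := fun d => d * x13 = x13 * d) (L := Dl) (by decide +kernel) d hd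
  have hd13' : d⁻¹ * x13 = x13 * d⁻¹ := by
    calc d⁻¹ * x13 = d⁻¹ * (x13 * d) * d⁻¹ := by group
      _ = d⁻¹ * (d * x13) * d⁻¹ := by rw [hd13]
      _ = x13 * d⁻¹ := by group
  -- conjugation of `c` by `Y12` and `Y23`
  have r1 : Y f y x12 * (Y f y x12 * Y f y x23 * Y f y x12 * Y f y x23 * Y f y x13) * Y f y x12 =
      Y f y x13 * (Y f y x12 * Y f y x23 * Y f y x12 * Y f y x23 * Y f y x13)⁻¹ * Y f y x13 := by
    rw [mul_inv_rev, mul_inv_rev, mul_inv_rev, mul_inv_rev, h.Y_inv root12, h.Y_inv root23, h.Y_inv root13]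
    calc Y f y x12 * (Y f y x12 * Y f y x23 * Y f y x12 * Y f y x23 * Y f y x13) * Y f y x12
        = (Y f y x12 * Y f y x12) * Y f y x23 * Y f y x12 * Y f y x23 * (Y f y x13 * Y f y x12) := by group
      _ = Y f y x23 * Y f y x12 * Y f y x23 * Y f y x12 * Y f y x13 := by rw [y12, c1312]; group
      _ = (Y f y x13 * Y f y x13) * (Y f y x23 * (Y f y x12 * (Y f y x23 * Y f y x12))) * Y f y x13 := by
        rw [y13]; group
      _ = _ := by group
  have r2 : Y f y x23 * (Y f y x12 * Y f y x23 * Y f y x12 * Y f y x23 * Y f y x13) * Y f y x23 =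
      Y f y x13 * (Y f y x12 * Y f y x23 * Y f y x12 * Y f y x23 * Y f y x13)⁻¹ * Y f y x13 := by
    rw [mul_inv_rev, mul_inv_rev, mul_inv_rev, mul_inv_rev, h.Y_inv root12, h.Y_inv root23, h.Y_inv root13]
    calc Y f y x23 * (Y f y x12 * Y f y x23 * Y f y x12 * Y f y x23 * Y f y x13) * Y f y x23
        = Y f y x23 * Y f y x12 * Y f y x23 * Y f y x12 * Y f y x23 * (Y f y x13 * Y f y x23) := by group
      _ = Y f y x23 * Y f y x12 * Y f y x23 * Y f y x12 * (Y f y x23 * Y f y x23) * Y f y x13 := by rw [c1323]; group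
      _ = (Y f y x13 * Y f y x13) * (Y f y x23 * (Y f y x12 * (Y f y x23 * Y f y x12))) * Y f y x13 := by
        rw [y13, y23]; group
      _ = _ := by group
  rcases hm with hm | hm
  · -- `c = f d`: then `d` is central in the dihedral group
    have key : ∀ {r : A8} (hr : Root r), Y f y r * (f d) * Y f y r = Y f y x13 * (f d)⁻¹ * Y f y x13 → r * d = d * r := by
      intro r hr e
      have e1 : Y f y x13 * (f d)⁻¹ * Y f y x13 = f d⁻¹ := by
        rw [← map_inv, h.Y_comm root13 hd13', mul_assoc, y13, mul_one]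
      rw [e1] at e
      -- `Y r (f d) Y r` commutes with `t`
      have yr := h.Y_sq hr
      have tr := h.Y_t hr
      have e2 : t * f r * f d = f d * (t * f r) := by
        have e3 : f d = Y f y r * f d⁻¹ * Y f y r := by
          rw [← e]
          calc f d = (Y f y r * Y f y r) * f d * (Y f y r * Y f y r) := by rw [yr]; group
            _ = _ := by group
        calc t * f r * f d = (Y f y r * t * Y f y r) * (Y f y r * f d⁻¹ * Y f y r) := by rw [tr, ← e3]
          _ = Y f y r * t * (Y f y r * Y f y r) * f d⁻¹ * Y f y r := by group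
          _ = Y f y r * (t * f d⁻¹) * Y f y r := by rw [yr]; group
          _ = Y f y r * f d⁻¹ * (Y f y r * Y f y r) * t * Y f y r := by rw [h.comm, yr]; group
          _ = (Y f y r * f d⁻¹ * Y f y r) * (Y f y r * t * Y f y r) := by group
          _ = f d * (t * f r) := by rw [tr, ← e3]
      apply h.inj
      rw [map_mul, map_mul]
      apply mul_left_cancel (a := t)
      calc t * (f r * f d) = f d * (t * f r) := by rw [← mul_assoc, e2]
        _ = t * (f d * f r) := by rw [← mul_assoc, ← h.comm, mul_assoc]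
    rw [hm] at r1 r2
    have k1 := key root12 r1
    have k2 := key root23 r2
    have k3 : d = 1 ∨ d = x13 := all_of (P := fun d => x12 * d = d * x12 → x23 * d = d * x23 → d = 1 ∨ d = x13)
      (L := Dl) (by decide +kernel) d hd k1 k2
    have hu : Y f y x12 * Y f y x23 * Y f y x12 * Y f y x23 = f d * Y f y x13 := by
      rw [← hm, mul_assoc _ (Y f y x13), y13, mul_one]
    rw [hu]
    rcases k3 with rfl | rfl
    · left; rw [map_one, one_mul]
    · right; rfl
  · -- `c = t f d`
    exfalso
    have key : ∀ {r : A8} (hr : Root r), Y f y r * (t * f d) * Y f y r = Y f y x13 * (t * f d)⁻¹ * Y f y x13 →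
        r * d = d⁻¹ * x13 := by
      intro r hr e
      have yr := h.Y_sq hr
      have tr := h.Y_t hr
      have e1 : Y f y x13 * (t * f d)⁻¹ * Y f y x13 = t * f (d⁻¹ * x13) := by
        calc Y f y x13 * (t * f d)⁻¹ * Y f y x13 = Y f y x13 * f d⁻¹ * t⁻¹ * Y f y x13 := by
              rw [mul_inv_rev, map_inv]; group
          _ = f d⁻¹ * (Y f y x13 * t * Y f y x13) := by rw [h.t_inv, h.Y_comm root13 hd13']; group
          _ = (f d⁻¹ * t) * f x13 := by rw [t13]; group
          _ = t * f (d⁻¹ * x13) := by rw [← h.comm, map_mul, mul_assoc]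
      rw [e1] at e
      -- the left-hand side commutes with `t`, so `t f d` commutes with `t f r`
      have e2 : (t * f r) * (t * f d) = (t * f d) * (t * f r) := by
        have e3 : t * f d = Y f y r * (t * f (d⁻¹ * x13)) * Y f y r := by
          rw [← e]
          calc t * f d = (Y f y r * Y f y r) * (t * f d) * (Y f y r * Y f y r) := by rw [yr]; group
            _ = _ := by group
        calc t * f r * (t * f d) = (Y f y r * t * Y f y r) * (Y f y r * (t * f (d⁻¹ * x13)) * Y f y r) := by
              rw [tr, ← e3]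
          _ = Y f y r * t * (Y f y r * Y f y r) * (t * f (d⁻¹ * x13)) * Y f y r := by group
          _ = Y f y r * t * (t * f (d⁻¹ * x13)) * Y f y r := by rw [yr, mul_one]
          _ = Y f y r * t * (f (d⁻¹ * x13) * t) * Y f y r := by rw [h.comm (d⁻¹ * x13)]
          _ = Y f y r * (t * f (d⁻¹ * x13)) * (Y f y r * Y f y r) * t * Y f y r := by rw [yr]; group
          _ = (Y f y r * (t * f (d⁻¹ * x13)) * Y f y r) * (Y f y r * t * Y f y r) := by group
          _ = (t * f d) * (t * f r) := by rw [tr, ← e3]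
      have e4 : r * d = d * r := by
        apply h.inj
        rw [map_mul, map_mul]
        calc f r * f d = t * t * f r * f d := by rw [h.tt, one_mul]
          _ = (t * f r) * (t * f d) := by
            calc t * t * f r * f d = t * (t * f r) * f d := by group
              _ = t * (f r * t) * f d := by rw [h.comm]
              _ = _ := by group
          _ = (t * f d) * (t * f r) := e2
          _ = t * (f d * t) * f r := by group
          _ = (t * t) * f d * f r := by rw [← h.comm]; group
          _ = f d * f r := by rw [h.tt, one_mul]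
      have e5 : Y f y r * (t * f d) * Y f y r = t * f (r * d) := by
        calc Y f y r * (t * f d) * Y f y r = Y f y r * t * (f d * Y f y r) := by group
          _ = (Y f y r * t * Y f y r) * f d := by rw [← h.Y_comm hr e4.symm]; group
          _ = t * f (r * d) := by rw [tr, map_mul]; group
      rw [e5] at e
      exact h.inj (mul_left_cancel e)
    rw [hm] at r1 r2
    have k1 := key root12 r1
    have k2 := key root23 r2
    have k3 : x12 = x23 := mul_right_cancel (k1.trans k2.symm)
    revert k3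
    decide

/-- the product of a special pair -/
theorem spec (h : Grow t f y) {r s : A8} (hrs : Sp r s) :
    Y f y r * Y f y s * Y f y r * Y f y s = Y f y (r * s * r * s) ∨
      Y f y r * Y f y s * Y f y r * Y f y s = f (r * s * r * s) * Y f y (r * s * r * s) := by
  obtain ⟨c, rfl, rfl⟩ := hrs
  have e : c * x12 * c⁻¹ * (c * x23 * c⁻¹) * (c * x12 * c⁻¹) * (c * x23 * c⁻¹) = c * x13 * c⁻¹ := by
    have : x12 * x23 * x12 * x23 = x13 := by decide
    rw [← this]; group
  rw [e, h.Y_conj root12, h.Y_conj root23, h.Y_conj root13]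
  rcases h.spec_base with hb | hb
  · left
    rw [← hb]; group
  · right
    calc f c * Y f y x12 * (f c)⁻¹ * (f c * Y f y x23 * (f c)⁻¹) * (f c * Y f y x12 * (f c)⁻¹) * (f c * Y f y x23 * (f c)⁻¹)
        = f c * (Y f y x12 * Y f y x23 * Y f y x12 * Y f y x23) * (f c)⁻¹ := by group
      _ = f (c * x13 * c⁻¹) * (f c * Y f y x13 * (f c)⁻¹) := by
        rw [hb, map_mul, map_mul, map_inv]; group

/-- `s Y_r s = Y_r Y_q` -/
theorem spec_s (h : Grow t f y) {r s : A8} (hrs : Sp r s) :
    Y f y r * f s * Y f y r * f s = Y f y (r * s * r * s) := by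
  obtain ⟨c, rfl, rfl⟩ := hrs
  have e : c * x12 * c⁻¹ * (c * x23 * c⁻¹) * (c * x12 * c⁻¹) * (c * x23 * c⁻¹) = c * x13 * c⁻¹ := by
    have : x12 * x23 * x12 * x23 = x13 := by decide
    rw [← this]; group
  rw [e, h.Y_conj root12, h.Y_conj root13, map_mul, map_mul, map_inv]
  have h1 := h.Ys
  have h2 : Y f y x13 * f x23 = f x23 * Y f y x13 := h.Y_comm root13 (by decide)
  calc f c * Y f y x12 * (f c)⁻¹ * (f c * f x23 * (f c)⁻¹) * (f c * Y f y x12 * (f c)⁻¹) * (f c * f x23 * (f c)⁻¹)
      = f c * ((Y f y x12 * f x23 * Y f y x12) * f x23) * (f c)⁻¹ := by group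
    _ = f c * (Y f y x13 * (f x23 * f x23)) * (f c)⁻¹ := by rw [h1, ← h2]; group
    _ = _ := by rw [h.f_sq root23, mul_one]

/-- `[r, Y_s] = Y_q` -/
theorem spec_r (h : Grow t f y) {r s : A8} (hrs : Sp r s) :
    f r * Y f y s * f r * Y f y s = Y f y (r * s * r * s) := by
  obtain ⟨c, rfl, rfl⟩ := hrs
  have e : c * x12 * c⁻¹ * (c * x23 * c⁻¹) * (c * x12 * c⁻¹) * (c * x23 * c⁻¹) = c * x13 * c⁻¹ := by
    have : x12 * x23 * x12 * x23 = x13 := by decide
    rw [← this]; group
  rw [e, h.Y_conj root23, h.Y_conj root13, map_mul, map_mul, map_inv]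
  have h1 := h.rY23
  calc f c * f x12 * (f c)⁻¹ * (f c * Y f y x23 * (f c)⁻¹) * (f c * f x12 * (f c)⁻¹) * (f c * Y f y x23 * (f c)⁻¹)
      = f c * ((f x12 * Y f y x23 * f x12) * Y f y x23) * (f c)⁻¹ := by group
    _ = f c * (Y f y x13 * (Y f y x23 * Y f y x23)) * (f c)⁻¹ := by rw [h1]; group
    _ = _ := by rw [h.Y_sq root23, mul_one]

end Grow

end Cfsg.Agent.OddHalf.D5.Eight.Gr
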