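import Mathlib
import Cfsg.Agent.OddHalf.D5.EightGrowSpec
import Cfsg.Agent.Doubling.Growth

/-!
# ODD D5, `n = 8`: the growth, 4 (helper432)

The doubled root groups `V i = {1, r, Y r, r Y r}` for the six positive roots form a `Growth.Dbl` of length 6.
-/

set_option autoImplicit false
set_option linter.dupNamespace false

namespace Cfsg.Agent.OddHalf.D5.Eight.Gr

open Subgroup Equiv Cfsg.Agent.Doubling.Growth

variable {G : Type*} [Group G]

/-- `(x14, x12)`, `(x24, x23)` centre type; `(x14, x34)`, `(x24, x34)` axis type -/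
theorem L1_1412 : L1 x14 x12 := ⟨c1412, by decide, by decide⟩
theorem L1_2423 : L1 x24 x23 := ⟨c2423, by decide, by decide⟩
theorem L3_1434 : L3 x14 x34 := ⟨d1434, by decide, by decide⟩
theorem L3_2434 : L3 x24 x34 := ⟨d2434, by decide, by decide⟩
theorem Or_1423 : Or x14 x23 := ⟨1, by group, by group⟩
theorem Or_1324 : Or x13 x24 := ⟨o1324, by decide, by decide⟩
theorem Or_1234 : Or x12 x34 := ⟨o1234, by decide, by decide⟩
theorem Sp_1223 : Sp x12 x23 := ⟨1, by group, by group⟩
theorem Sp_1224 : Sp x12 x24 := ⟨s1224, by decide, by decide⟩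
theorem Sp_1334 : Sp x13 x34 := ⟨s1334, by decide, by decide⟩
theorem Sp_2334 : Sp x23 x34 := ⟨s2334, by decide, by decide⟩
theorem root14 : Root x14 := L1_base.left
theorem root34 : Root x34 := L3_1434.right

/-- the positive roots -/
def xr : ℕ → A8
  | 0 => x14
  | 1 => x13
  | 2 => x24
  | 3 => x23
  | 4 => x12
  | _ => x34

theorem root_xr (i : ℕ) : Root (xr i) := by
  unfold xr
  split
  · exact root14
  · exact root13
  · exact root24
  · exact root23
  · exact root12
  · exact root34

/-- the doubled root group -/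
def Wd (f : A8 →* G) (y : G) (r : A8) : Subgroup G := closure {f r, Y f y r}

/-- the root group -/
def Xd (f : A8 →* G) (r : A8) : Subgroup G := closure {f r}

/-- commutators of generators -/
theorem comm_mem {N : Subgroup G} {A B : Set G} (hA : ∀ a ∈ A, ∀ n ∈ N, a * n = n * a) (hB : ∀ b ∈ B, ∀ n ∈ N, b * n = n * b)
    (hAB : ∀ a ∈ A, ∀ b ∈ B, a * b * a⁻¹ * b⁻¹ ∈ N) :
    ∀ v ∈ closure A, ∀ w ∈ closure B, v * w * v⁻¹ * w⁻¹ ∈ N := by
  have cA : ∀ v ∈ closure A, ∀ n ∈ N, v * n = n * v := by
    have hle : closure A ≤ centralizer (N : Set G) := by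
      rw [closure_le]
      intro a ha
      rw [SetLike.mem_coe, mem_centralizer_iff]
      exact fun n hn => (hA a ha n hn).symm
    intro v hv n hn
    exact (mem_centralizer_iff.1 (hle hv) n hn).symm
  have cB : ∀ v ∈ closure B, ∀ n ∈ N, v * n = n * v := by
    have hle : closure B ≤ centralizer (N : Set G) := by
      rw [closure_le]
      intro a ha
      rw [SetLike.mem_coe, mem_centralizer_iff]
      exact fun n hn => (hB a ha n hn).symm
    intro v hv n hn
    exact (mem_centralizer_iff.1 (hle hv) n hn).symm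
  have h1 : ∀ b ∈ B, ∀ v ∈ closure A, v * b * v⁻¹ * b⁻¹ ∈ N := by
    intro b hb v hv
    induction hv using closure_induction with
    | mem x hx => exact hAB x hx b hb
    | one => rw [one_mul, inv_one, mul_one, mul_inv_cancel]; exact one_mem _
    | mul x z hx hz ihx ihz =>
      have e : x * z * b * (x * z)⁻¹ * b⁻¹ = (x * (z * b * z⁻¹ * b⁻¹)) * x⁻¹ * (x * b * x⁻¹ * b⁻¹) := by group
      rw [e, cA x hx _ ihz, mul_inv_cancel_right]
      exact mul_mem ihz ihx
    | inv x hx ih =>
      have e : x⁻¹ * b * x⁻¹⁻¹ * b⁻¹ = x⁻¹ * ((x * b * x⁻¹ * b⁻¹)⁻¹ * x) := by group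
      rw [e, ← cA x hx _ (inv_mem ih), inv_mul_cancel_left]
      exact inv_mem ih
  intro v hv w hw
  induction hw using closure_induction with
  | mem x hx => exact h1 x hx v hv
  | one => rw [mul_one, mul_inv_cancel, inv_one, mul_one]; exact one_mem _
  | mul x z hx hz ihx ihz =>
    have e : v * (x * z) * v⁻¹ * (x * z)⁻¹ = (v * x * v⁻¹ * x⁻¹) * (x * (v * z * v⁻¹ * z⁻¹) * x⁻¹) := by group
    rw [e, cB x hx _ ihz, mul_inv_cancel_right]
    exact mul_mem ihx ihz
  | inv x hx ih =>
    have e : v * x⁻¹ * v⁻¹ * x⁻¹⁻¹ = x⁻¹ * ((v * x * v⁻¹ * x⁻¹)⁻¹ * x) := by group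
    rw [e, ← cB x hx _ (inv_mem ih), inv_mul_cancel_left]
    exact inv_mem ih

namespace Grow

variable {t : G} {f : A8 →* G} {y : G}

theorem fY (h : Grow t f y) {r : A8} (hr : Root r) : Y f y r * f r = f r * Y f y r := h.Y_comm hr rfl

/-- `t Y t = r Y` -/
theorem tYt (h : Grow t f y) {r : A8} (hr : Root r) : t * Y f y r * t = f r * Y f y r := by
  calc t * Y f y r * t = Y f y r * t * (f r * t) := by rw [h.t_Y hr]; group
    _ = Y f y r * (t * t) * f r := by rw [← h.comm]; group
    _ = f r * Y f y r := by rw [h.tt, mul_one, h.fY hr]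

theorem tft (h : Grow t f y) (r : A8) : t * f r * t = f r := by
  rw [h.comm, mul_assoc, h.tt, mul_one]

/-- the four elements -/
theorem mem_Wd (h : Grow t f y) {r : A8} (hr : Root r) {x : G} :
    x ∈ Wd f y r ↔ x = 1 ∨ x = f r ∨ x = Y f y r ∨ x = f r * Y f y r := by
  have s1 := h.f_sq hr
  have s2 := h.Y_sq hr
  have c := h.fY hr
  constructor
  · intro hx
    induction hx using closure_induction with
    | mem x hx =>
      rcases hx with rfl | rfl
      · exact Or.inr (Or.inl rfl)
      · exact Or.inr (Or.inr (Or.inl rfl))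
    | one => exact Or.inl rfl
    | mul a b _ _ ha hb =>
      have s1' : ∀ z, f r * (f r * z) = z := fun z => by rw [← mul_assoc, s1, one_mul]
      have s2' : ∀ z, Y f y r * (Y f y r * z) = z := fun z => by rw [← mul_assoc, s2, one_mul]
      have c' : ∀ z, Y f y r * (f r * z) = f r * (Y f y r * z) := fun z => by rw [← mul_assoc, c, mul_assoc]
      rcases ha with rfl | rfl | rfl | rfl <;> rcases hb with rfl | rfl | rfl | rfl <;>
        simp only [one_mul, mul_one, mul_assoc, s1, s2, c, s1', c', true_or, or_true]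
    | inv a _ ha =>
      have i1 : (f r)⁻¹ = f r := inv_eq_of_mul_eq_one_left s1
      have i2 : (Y f y r)⁻¹ = Y f y r := inv_eq_of_mul_eq_one_left s2
      rcases ha with rfl | rfl | rfl | rfl
      · exact Or.inl inv_one
      · exact Or.inr (Or.inl i1)
      · exact Or.inr (Or.inr (Or.inl i2))
      · refine Or.inr (Or.inr (Or.inr ?_))
        rw [mul_inv_rev, i1, i2, c]
  · have m1 : f r ∈ Wd f y r := subset_closure (Or.inl rfl)
    have m2 : Y f y r ∈ Wd f y r := subset_closure (Or.inr rfl)
    rintro (rfl | rfl | rfl | rfl)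
    · exact one_mem _
    · exact m1
    · exact m2
    · exact mul_mem m1 m2

theorem mem_Xd (h : Grow t f y) {r : A8} (hr : Root r) {x : G} : x ∈ Xd f r ↔ x = 1 ∨ x = f r := by
  have s1 := h.f_sq hr
  constructor
  · intro hx
    induction hx using closure_induction with
    | mem x hx => exact Or.inr hx
    | one => exact Or.inl rfl
    | mul a b _ _ ha hb =>
      rcases ha with rfl | rfl <;> rcases hb with rfl | rfl <;>
        simp only [one_mul, mul_one, s1, true_or, or_true]
    | inv a _ ha =>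
      rcases ha with rfl | rfl
      · exact Or.inl inv_one
      · exact Or.inr (inv_eq_of_mul_eq_one_left s1)
  · rintro (rfl | rfl)
    · exact one_mem _
    · exact subset_closure rfl

/-- commuting pairs -/
theorem comm_Wd (h : Grow t f y) {r s : A8} (hr : Root r) (hs : Root s) (hrs : r * s = s * r)
    (hY : Y f y r * Y f y s = Y f y s * Y f y r) : ∀ v ∈ Wd f y r, ∀ w ∈ Wd f y s, v * w = w * v := by
  have h1 : f r * f s = f s * f r := by rw [← map_mul, hrs, map_mul]
  have h2 : f r * Y f y s = Y f y s * f r := (h.Y_comm hs hrs).symm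
  have h3 : Y f y r * f s = f s * Y f y r := h.Y_comm hr hrs.symm
  have key := comm_mem (N := (⊥ : Subgroup G)) (A := {f r, Y f y r}) (B := {f s, Y f y s})
    (fun a _ n hn => by rw [Subgroup.mem_bot.1 hn, one_mul, mul_one])
    (fun a _ n hn => by rw [Subgroup.mem_bot.1 hn, one_mul, mul_one]) (by
      rintro a (rfl | rfl) b (rfl | rfl) <;> rw [Subgroup.mem_bot, mul_inv_eq_one, mul_inv_eq_iff_eq_mul]
      · exact h1
      · exact h2
      · exact h3
      · exact hY)
  intro v hv w hw
  have := key v hv w hw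
  rwa [Subgroup.mem_bot, mul_inv_eq_one, mul_inv_eq_iff_eq_mul] at this

theorem comm_base (h : Grow t f y) {r s : A8} (hrs : Sp r s) :
    Root r ∧ Root s ∧ Root (r * s * r * s) ∧ (r * (r * s * r * s) = r * s * r * s * r) ∧
      (s * (r * s * r * s) = r * s * r * s * s) ∧
      Y f y r * Y f y (r * s * r * s) = Y f y (r * s * r * s) * Y f y r ∧
      Y f y s * Y f y (r * s * r * s) = Y f y (r * s * r * s) * Y f y s := by
  obtain ⟨c, rfl, rfl⟩ := hrs
  have e : c * x12 * c⁻¹ * (c * x23 * c⁻¹) * (c * x12 * c⁻¹) * (c * x23 * c⁻¹) = c * x13 * c⁻¹ := by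
    have : x12 * x23 * x12 * x23 = x13 := by decide
    rw [← this]; group
  rw [e]
  refine ⟨root12.conj c, root23.conj c, root13.conj c, ?_, ?_, ?_, ?_⟩
  · have : x12 * x13 = x13 * x12 := by decide
    calc c * x12 * c⁻¹ * (c * x13 * c⁻¹) = c * (x12 * x13) * c⁻¹ := by group
      _ = _ := by rw [this]; group
  · have : x23 * x13 = x13 * x23 := by decide
    calc c * x23 * c⁻¹ * (c * x13 * c⁻¹) = c * (x23 * x13) * c⁻¹ := by group
      _ = _ := by rw [this]; group
  · rw [h.Y_conj root12, h.Y_conj root13]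
    have : Y f y x12 * Y f y x13 = Y f y x13 * Y f y x12 := h.comm1 L1_1213
    calc f c * Y f y x12 * (f c)⁻¹ * (f c * Y f y x13 * (f c)⁻¹) = f c * (Y f y x12 * Y f y x13) * (f c)⁻¹ := by group
      _ = _ := by rw [this]; group
  · rw [h.Y_conj root23, h.Y_conj root13]
    have : Y f y x23 * Y f y x13 = Y f y x13 * Y f y x23 := (h.comm3 L3_1323).symm
    calc f c * Y f y x23 * (f c)⁻¹ * (f c * Y f y x13 * (f c)⁻¹) = f c * (Y f y x23 * Y f y x13) * (f c)⁻¹ := by group
      _ = _ := by rw [this]; group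

/-- special pairs -/
theorem spec_Wd (h : Grow t f y) {r s q : A8} (hrs : Sp r s) (hq : r * s * r * s = q) :
    ∀ v ∈ Wd f y r, ∀ w ∈ Wd f y s, v * w * v⁻¹ * w⁻¹ ∈ Wd f y q := by
  have k1 := h.spec hrs
  have k2 := h.spec_r hrs
  have k3 := h.spec_s hrs
  obtain ⟨hr, hs, hqr, e1, e2, e3, e4⟩ := h.comm_base hrs
  rw [hq] at k1 k2 k3 hqr e1 e2 e3 e4
  have c1 := h.comm_Wd hr hqr e1 e3
  have c2 := h.comm_Wd hs hqr e2 e4
  have i1 : (f r)⁻¹ = f r := inv_eq_of_mul_eq_one_left (h.f_sq hr)
  have i2 : (f s)⁻¹ = f s := inv_eq_of_mul_eq_one_left (h.f_sq hs)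
  have i3 := h.Y_inv hr
  have i4 := h.Y_inv hs
  have m1 : f q ∈ Wd f y q := subset_closure (Or.inl rfl)
  have m2 : Y f y q ∈ Wd f y q := subset_closure (Or.inr rfl)
  apply comm_mem (fun a ha n hn => c1 a (subset_closure ha) n hn) (fun a ha n hn => c2 a (subset_closure ha) n hn)
  rintro a (rfl | rfl) b (rfl | rfl)
  · rw [i1, i2, ← map_mul, ← map_mul, ← map_mul, hq]; exact m1
  · rw [i1, i4, k2]; exact m2
  · rw [i3, i2, k3]; exact m2
  · rw [i3, i4]
    rcases k1 with k1 | k1
    · rw [k1]; exact m2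
    · rw [k1]; exact mul_mem m1 m2

end Grow

/-- the eight elements `⟨x14, x13, x24⟩` -/
def E3 : List A8 := [V0, V1, V4, V5, V10, V11, V14, V15]

/-- the subgroup `⟨x14, x13, x24⟩` -/
def S3 : Subgroup A8 where
  carrier := {x | x ∈ E3}
  one_mem' := by
    show (1 : A8) ∈ E3
    decide +kernel
  mul_mem' := by
    intro a b ha hb
    have := all_of (P := fun a => (E3.all fun b => decide (a * b ∈ E3)) = true) (L := E3) (by decide +kernel) a ha
    exact all_of (P := fun b => a * b ∈ E3) this b hb
  inv_mem' := by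
    intro a ha
    exact all_of (P := fun a => a⁻¹ ∈ E3) (L := E3) (by decide +kernel) a ha

/-- separating subgroups -/
def Ssep : ℕ → Subgroup A8
  | 0 => ⊥
  | 1 => centralizer {x34}
  | 2 => centralizer {x12}
  | 3 => S3
  | 4 => centralizer {x23}
  | _ => centralizer {x13}

theorem sep_mem {i k : ℕ} (hik : i < k) (hk : k < 6) : xr i ∈ Ssep k := by
  interval_cases k <;> interval_cases i
  all_goals first
    | exact mem_centralizer_singleton_iff.2 (by decide)
    | (show _ ∈ E3; decide +kernel)

theorem sep_notMem {k : ℕ} (hk : k < 6) : xr k ∉ Ssep k := by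
  interval_cases k
  · show x14 ∉ (⊥ : Subgroup A8)
    rw [Subgroup.mem_bot]
    decide
  · intro hx
    have := mem_centralizer_singleton_iff.1 hx
    revert this
    decide
  · intro hx
    have := mem_centralizer_singleton_iff.1 hx
    revert this
    decide
  · show ¬ (x23 ∈ E3)
    decide +kernel
  · intro hx
    have := mem_centralizer_singleton_iff.1 hx
    revert this
    decide
  · intro hx
    have := mem_centralizer_singleton_iff.1 hx
    revert this
    decide

namespace Grow

variable {t : G} {f : A8 →* G} {y : G}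

theorem W_le_map (_h : Grow t f y) {k : ℕ} (hk : k < 6) : W (fun i => Xd f (xr i)) k ≤ (Ssep k).map f := by
  refine iSup₂_le fun i hi => ?_
  unfold Xd
  rw [closure_le]
  rintro x rfl
  exact ⟨xr i, sep_mem hi hk, rfl⟩

/-- **the doubled root groups** -/
theorem dbl (h : Grow t f y) : Dbl t (fun i => Wd f y (xr i)) (fun i => Xd f (xr i)) 6 where
  tt := h.tt
  conj := by
    intro i _ v hv
    have hr := root_xr i
    rw [h.mem_Wd hr] at hv ⊢
    rcases hv with rfl | rfl | rfl | rfl
    · left; rw [mul_one, h.tt]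
    · right; left; exact h.tft _
    · right; right; right; exact h.tYt hr
    · right; right; left
      calc t * (f (xr i) * Y f y (xr i)) * t = (t * f (xr i) * t) * (t⁻¹ * Y f y (xr i) * t) := by group
        _ = (f (xr i) * f (xr i)) * Y f y (xr i) := by rw [h.tft, h.t_inv, h.tYt hr, mul_assoc]
        _ = Y f y (xr i) := by rw [h.f_sq hr, one_mul]
  sq := by
    intro i _ v hv
    have hr := root_xr i
    rw [h.mem_Wd hr] at hv
    rcases hv with rfl | rfl | rfl | rfl
    · exact one_mul 1
    · exact h.f_sq hr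
    · exact h.Y_sq hr
    · calc f (xr i) * Y f y (xr i) * (f (xr i) * Y f y (xr i))
          = f (xr i) * (Y f y (xr i) * f (xr i)) * Y f y (xr i) := by group
        _ = (f (xr i) * f (xr i)) * (Y f y (xr i) * Y f y (xr i)) := by rw [h.fY hr]; group
        _ = 1 := by rw [h.f_sq hr, h.Y_sq hr, one_mul]
  fix := by
    intro i _ v hv hf
    have hr := root_xr i
    have hne : f (xr i) ≠ 1 := fun e => hr.ne_one (h.inj (e.trans (map_one f).symm))
    rw [h.mem_Wd hr] at hv
    rw [h.mem_Xd hr]
    rcases hv with rfl | rfl | rfl | rfl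
    · exact Or.inl rfl
    · exact Or.inr rfl
    · rw [h.tYt hr] at hf
      exact absurd (mul_eq_right.1 hf) hne
    · exfalso
      apply hne
      have e : t * (f (xr i) * Y f y (xr i)) * t = Y f y (xr i) := by
        calc t * (f (xr i) * Y f y (xr i)) * t = (t * f (xr i) * t) * (t⁻¹ * Y f y (xr i) * t) := by group
          _ = (f (xr i) * f (xr i)) * Y f y (xr i) := by rw [h.tft, h.t_inv, h.tYt hr, mul_assoc]
          _ = Y f y (xr i) := by rw [h.f_sq hr, one_mul]
      rw [e] at hf
      exact mul_eq_right.1 hf.symm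
  X_le := by
    intro i _ v hv
    have hr := root_xr i
    rw [h.mem_Xd hr] at hv
    rw [h.mem_Wd hr]
    rcases hv with rfl | rfl
    · exact Or.inl rfl
    · exact Or.inr (Or.inl rfl)
  X_fix := by
    intro i _ v hv
    have hr := root_xr i
    rw [h.mem_Xd hr] at hv
    rcases hv with rfl | rfl
    · rw [mul_one, h.tt]
    · exact h.tft _
  free := by
    intro i _ v hv
    have hr := root_xr i
    rw [h.mem_Xd hr] at hv
    rcases hv with rfl | rfl
    · exact ⟨1, one_mem _, by rw [mul_one, h.tt, inv_one, one_mul]⟩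
    · exact ⟨Y f y (xr i), (h.mem_Wd hr).2 (Or.inr (Or.inr (Or.inl rfl))), by rw [h.tYt hr, mul_inv_cancel_right]⟩
  comm := by
    intro i j hij hj
    have hcom : ∀ {r s : A8} (K : Subgroup G), Root r → Root s → r * s = s * r → Y f y r * Y f y s = Y f y s * Y f y r →
        ∀ v ∈ Wd f y r, ∀ w ∈ Wd f y s, v * w * v⁻¹ * w⁻¹ ∈ K := by
      intro r s K hr hs hrs hY v hv w hw
      rw [h.comm_Wd hr hs hrs hY v hv w hw, mul_inv_cancel_right, mul_inv_cancel]
      exact one_mem _
    have hsp : ∀ {r s q : A8}, Sp r s → r * s * r * s = q → ∀ v ∈ Wd f y s, ∀ w ∈ Wd f y r,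
        v * w * v⁻¹ * w⁻¹ ∈ Wd f y q := by
      intro r s q hrs hq v hv w hw
      have := inv_mem (h.spec_Wd hrs hq w hw v hv)
      have e : (w * v * w⁻¹ * v⁻¹)⁻¹ = v * w * v⁻¹ * w⁻¹ := by group
      rwa [e] at this
    have hW : ∀ {i k : ℕ}, i < k → Wd f y (xr i) ≤ W (fun i => Wd f y (xr i)) k := fun h => le_W (fun i => Wd f y (xr i)) h
    interval_cases j
    · omega
    · interval_cases i
      exact hcom _ root14 root13 (by decide) (h.comm1 L1_base)
    · interval_cases i
      · exact hcom _ root14 root24 (by decide) (h.comm3 L3_base)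
      · exact hcom _ root13 root24 (by decide) (h.orth Or_1324)
    · interval_cases i
      · exact hcom _ root14 root23 (by decide) (h.orth Or_1423)
      · exact hcom _ root13 root23 (by decide) (h.comm3 L3_1323)
      · exact hcom _ root24 root23 (by decide) (h.comm1 L1_2423)
    · interval_cases i
      · exact hcom _ root14 root12 (by decide) (h.comm1 L1_1412)
      · exact hcom _ root13 root12 (by decide) (h.comm1 L1_1312)
      · exact fun v hv w hw => hW (by norm_num : 0 < 2) (hsp Sp_1224 (by decide) v hv w hw)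
      · exact fun v hv w hw => hW (by norm_num : 1 < 3) (hsp Sp_1223 (by decide) v hv w hw)
    · interval_cases i
      · exact hcom _ root14 root34 (by decide) (h.comm3 L3_1434)
      · exact fun v hv w hw => hW (by norm_num : 0 < 1) (h.spec_Wd Sp_1334 (by decide) v hv w hw)
      · exact hcom _ root24 root34 (by decide) (h.comm3 L3_2434)
      · exact fun v hv w hw => hW (by norm_num : 2 < 3) (h.spec_Wd Sp_2334 (by decide) v hv w hw)
      · exact hcom _ root12 root34 (by decide) (h.orth Or_1234)
  indep := by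
    intro k hk
    rw [eq_bot_iff]
    rintro x ⟨hx, hW⟩
    rw [Subgroup.mem_bot]
    rcases (h.mem_Xd (root_xr k)).1 hx with rfl | rfl
    · rfl
    · exfalso
      obtain ⟨a, ha, e⟩ := h.W_le_map hk hW
      rw [h.inj e] at ha
      exact sep_notMem hk ha

end Grow

end Cfsg.Agent.OddHalf.D5.Eight.Gr
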