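import Mathlib
import Cfsg.Agent.OddHalf.D5.EightGrowDbl

/-!
# ODD D5, `n = 8`: the growth, 5 (helper432): `growA8`

`C_G(t) = ⟨t⟩ × A₈` together with the swap `y` gives a subgroup of index 2 of `G` not containing `t`.
-/

set_option autoImplicit false

namespace Cfsg.Agent.OddHalf.D5.Eight.Gr

open Subgroup Equiv Cfsg.Agent.Doubling.Growth

variable {G : Type*} [Group G]

theorem card_subgroupOf' {H K : Subgroup G} (h : H ≤ K) : Nat.card (H.subgroupOf K) = Nat.card H :=
  Nat.card_congr (Subgroup.subgroupOfEquivOfLe h).toEquiv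

theorem card_mul_relIndex' {H K : Subgroup G} (h : H ≤ K) : Nat.card H * H.relIndex K = Nat.card K := by
  rw [Subgroup.relIndex, ← card_subgroupOf' h]
  exact Subgroup.card_mul_index _

/-- `|K H| = |K| |H|` -/
theorem card_sup_eq [Finite G] {K H : Subgroup G} (h : H ≤ normalizer (K : Set G)) (hd : K ⊓ H = ⊥) :
    Nat.card (K ⊔ H : Subgroup G) = Nat.card K * Nat.card H := by
  have hKn : (K.subgroupOf (K ⊔ H)).Normal :=
    normal_subgroupOf_of_le_normalizer (sup_le le_normalizer h)
  have h1 := relIndex_sup_left (H.subgroupOf (K ⊔ H)) (K.subgroupOf (K ⊔ H))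
  rw [← Subgroup.subgroupOf_sup le_sup_left le_sup_right, Subgroup.subgroupOf_self,
    Subgroup.relIndex_subgroupOf le_sup_right, relIndex_top_right] at h1
  have h2 : Nat.card K * K.relIndex H = Nat.card (K ⊔ H : Subgroup G) := by
    rw [← h1]
    exact card_mul_relIndex' le_sup_left
  have h3 : Nat.card (K ⊓ H : Subgroup G) * K.relIndex H = Nat.card H := by
    rw [← inf_relIndex_right]
    exact card_mul_relIndex' inf_le_right
  rw [hd, Subgroup.card_bot, one_mul] at h3
  rw [← h2, h3]

/-- orders along a `Dbl` -/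
theorem card_W [Finite G] {t : G} {V X : ℕ → Subgroup G} {n : ℕ} (h : Dbl t V X n) (hX : ∀ i < n, Nat.card (X i) = 2) :
    ∀ k ≤ n, Nat.card (W X k) = 2 ^ k := by
  intro k
  induction k with
  | zero =>
    intro _
    rw [W_zero, Subgroup.card_bot, pow_zero]
  | succ k ih =>
    intro hk
    have hk' : k < n := hk
    rw [W_succ, card_sup_eq, ih hk'.le, hX k hk', pow_succ]
    · have key : ∀ x ∈ X k, ∀ w ∈ W X k, x * w * x⁻¹ ∈ W X k := by
        intro x hx w hw
        have h1 := (h.mem_U_iff hk'.le).1 hw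
        refine (h.mem_U_iff hk'.le).2 ⟨h.normal le_rfl hk' (h.X_le k hk' hx) h1.1, ?_⟩
        rw [h.conj_mul, h.conj_mul, h.conj_inv, h.X_fix k hk' x hx, h1.2]
      intro x hx
      rw [mem_normalizer_iff]
      intro w
      refine ⟨fun hw => key x hx w hw, fun hw => ?_⟩
      have h2 := key x⁻¹ (inv_mem hx) _ hw
      have e : x⁻¹ * (x * w * x⁻¹) * x⁻¹⁻¹ = w := by group
      rwa [e] at h2
    · rw [inf_comm]
      exact h.indep k hk'

theorem x14_coe : (x14 : Perm (Fin 8)) = z0 := by decide +kernel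

/-- both cases -/
theorem Grow.of {t : G} {A : Subgroup (Perm (Fin 8))} {ι : A →* G} {y : G} (h : Spl t A ι) (s : Swp t A ι y)
    (hA : A8 ≤ A) : Grow t (ι.comp (Subgroup.inclusion hA)) y where
  tt := h.tt
  t1 := h.t1
  inj := h.inj.comp (Subgroup.inclusion_injective hA)
  comm := fun a => h.comm _
  ne := fun a => h.ne _
  cent := by
    intro g hg
    have key : ∀ a : A, (∀ b : A8, ι a * ι (Subgroup.inclusion hA b) = ι (Subgroup.inclusion hA b) * ι a →
        (a : Perm (Fin 8)) * b = b * a) := by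
      intro a b hb
      rw [← map_mul, ← map_mul] at hb
      exact congrArg Subtype.val (h.inj hb)
    have hinc : ∀ (a : A) (hp : (a : Perm (Fin 8)) ∈ A8), Subgroup.inclusion hA ⟨a, hp⟩ = a := fun a hp => rfl
    rcases h.cent g hg with ⟨a, rfl⟩ | ⟨a, rfl⟩
    · refine ⟨a, fun b hb => key a b hb, fun hp => Or.inl ?_⟩
      rw [MonoidHom.comp_apply, hinc]
    · refine ⟨a, fun b hb => key a b ?_, fun hp => Or.inr ?_⟩
      · have hb' : t * ι a * ι (Subgroup.inclusion hA b) = ι (Subgroup.inclusion hA b) * (t * ι a) := hb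
        apply mul_left_cancel (a := t)
        calc t * (ι a * ι (Subgroup.inclusion hA b)) = ι (Subgroup.inclusion hA b) * (t * ι a) := by
              rw [← mul_assoc, hb']
          _ = (ι (Subgroup.inclusion hA b) * t) * ι a := by group
          _ = t * (ι (Subgroup.inclusion hA b) * ι a) := by rw [← h.comm]; group
      · rw [MonoidHom.comp_apply, hinc]
  yy := s.yy
  yt := s.yt _ x14_coe
  yc := by
    intro a ha
    apply s.yc
    have := congrArg Subtype.val ha
    rw [Subgroup.coe_mul, Subgroup.coe_mul, x14_coe] at this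
    exact this

/-- `|C_G(t)| = 2 |A|` -/
theorem card_cent {t : G} {A : Subgroup (Perm (Fin 8))} {ι : A →* G} (h : Spl t A ι) :
    Nat.card (centralizer ({t} : Set G)) = 2 * Nat.card A := by
  have hmem : ∀ (b : Bool) (a : A), (cond b (t * ι a) (ι a)) ∈ centralizer ({t} : Set G) := by
    intro b a
    rw [mem_centralizer_singleton_iff]
    cases b
    · exact (h.comm a).symm
    · show t * ι a * t = t * (t * ι a)
      rw [mul_assoc, ← h.comm]
  have hbij : Function.Bijective (fun x : Bool × A => (⟨cond x.1 (t * ι x.2) (ι x.2), hmem x.1 x.2⟩ :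
      centralizer ({t} : Set G))) := by
    constructor
    · rintro ⟨b, a⟩ ⟨b', a'⟩ e
      have e1 : cond b (t * ι a) (ι a) = cond b' (t * ι a') (ι a') := congrArg Subtype.val e
      cases b <;> cases b'
      · rw [h.inj (show ι a = ι a' from e1)]
      · exact absurd e1 (h.tne a a')
      · exact absurd e1.symm (h.tne a' a)
      · rw [h.inj (mul_left_cancel (show t * ι a = t * ι a' from e1))]
    · rintro ⟨g, hg⟩
      rcases h.cent g (mem_centralizer_singleton_iff.1 hg) with ⟨a, rfl⟩ | ⟨a, rfl⟩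
      · exact ⟨(false, a), rfl⟩
      · exact ⟨(true, a), rfl⟩
  rw [← Nat.card_congr (Equiv.ofBijective _ hbij), Nat.card_prod, Nat.card_eq_fintype_card, Fintype.card_bool]

theorem card_A8 : Nat.card A8 = 2 ^ 6 * 315 := by
  have h1 : 2 * Nat.card A8 = Nat.card (Perm (Fin 8)) := two_mul_nat_card_alternatingGroup
  rw [Nat.card_perm, Nat.card_eq_fintype_card (α := Fin 8), Fintype.card_fin] at h1
  have h2 : Nat.factorial 8 = 2 * (2 ^ 6 * 315) := by decide
  rw [h2] at h1
  exact Nat.eq_of_mul_eq_mul_left (by norm_num) h1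

theorem card_Xd {t : G} {f : A8 →* G} {y : G} (h : Grow t f y) {r : A8} (hr : Root r) : Nat.card (Xd f r) = 2 := by
  unfold Xd
  rw [← zpowers_eq_closure, Nat.card_zpowers]
  refine orderOf_eq_prime (p := 2) (by rw [pow_two]; exact h.f_sq hr) ?_
  exact fun e => hr.ne_one (h.inj (e.trans (map_one f).symm))

namespace Grow

variable {t : G} {f : A8 →* G} {y : G}

theorem W_le_range (_h : Grow t f y) (k : ℕ) : W (fun i => Xd f (xr i)) k ≤ f.range := by
  refine iSup₂_le fun i _ => ?_
  unfold Xd
  rw [closure_le]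
  rintro x rfl
  exact ⟨xr i, rfl⟩

theorem t_notMem (h : Grow t f y) : t ∉ W (fun i => Xd f (xr i)) 6 := by
  intro ht
  obtain ⟨a, ha⟩ := h.W_le_range 6 ht
  exact h.ne a ha

theorem card_U [Finite G] (h : Grow t f y) : Nat.card (W (fun i => Xd f (xr i)) 6) = 2 ^ 6 :=
  card_W h.dbl (fun i _ => card_Xd h (root_xr i)) 6 le_rfl

theorem card_UT [Finite G] (h : Grow t f y) :
    Nat.card (W (fun i => Xd f (xr i)) 6 ⊔ zpowers t : Subgroup G) = 2 ^ 7 := by
  rw [card_sup_eq, h.card_U, Nat.card_zpowers, orderOf_eq_prime (p := 2) (by rw [pow_two]; exact h.tt) h.t1]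
  · norm_num
  · rw [zpowers_le, mem_normalizer_iff]
    have key : ∀ w ∈ W (fun i => Xd f (xr i)) 6, t * w * t⁻¹ = w := by
      intro w hw
      rw [h.t_inv]
      exact h.dbl.U_fix le_rfl hw
    intro w
    constructor
    · intro hw
      rwa [key w hw]
    · intro hw
      have e := key _ hw
      rw [mul_inv_eq_iff_eq_mul] at e
      have e2 : t * w * t⁻¹ = w := by
        have := mul_left_cancel (a := t) (b := t * w * t⁻¹) (c := w) (by rw [e]; group)
        exact this
      rwa [e2] at hw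
  · rw [eq_bot_iff]
    rintro x ⟨hx, hz⟩
    rw [Subgroup.mem_bot]
    obtain ⟨n, rfl⟩ := mem_zpowers_iff.1 hz
    rcases Int.even_or_odd n with ⟨m, rfl⟩ | ⟨m, rfl⟩
    · rw [← two_mul, zpow_mul, zpow_ofNat, pow_two, h.tt, one_zpow]
    · exfalso
      apply h.t_notMem
      rwa [zpow_add, zpow_mul, zpow_ofNat, pow_two, h.tt, one_zpow, one_mul, zpow_one] at hx

end Grow

/-- **Growth, case `C_G(t) = ⟨t⟩ × A₈`.** -/
theorem growA8 [Finite G] {t : G} {ι : A8 →* G} {y : G} (h : Spl t A8 ι) (s : Swp t A8 ι y) :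
    ∃ m : G →* ℤˣ, m t = -1 := by
  have g := Grow.of h s le_rfl
  apply g.dbl.exists_hom g.t_notMem
  have h1 := card_mul_relIndex' (H := W (fun i => Xd (ι.comp (Subgroup.inclusion le_rfl)) (xr i)) 6 ⊔ zpowers t)
    (K := centralizer ({t} : Set G)) (by
      apply sup_le
      · intro w hw
        rw [mem_centralizer_singleton_iff]
        have := g.dbl.U_fix le_rfl hw
        calc w * t = (t * w * t) * t := by rw [this]
          _ = t * w * (t * t) := by group
          _ = t * w := by rw [h.tt, mul_one]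
      · rw [zpowers_le, mem_centralizer_singleton_iff])
  rw [g.card_UT, card_cent h, card_A8] at h1
  have h2 : (W (fun i => Xd (ι.comp (Subgroup.inclusion le_rfl)) (xr i)) 6 ⊔ zpowers t).relIndex
      (centralizer ({t} : Set G)) = 315 := by omega
  rw [h2]
  decide

end Cfsg.Agent.OddHalf.D5.Eight.Gr
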