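import Mathlib
import Cfsg.Agent.OddHalf.D5.EightBSix
import Cfsg.Agent.OddHalf.D5.EightBSeven

/-!
# ODD D5, `n = 8`, `M = ⟨t⟩ × S₈`: the swap exists (helper647)

`exists_swp`: if `C_G(t) = ⟨t⟩ × ι(S₈)`, then `m t = -1` for some `m : G →* ℤˣ`, or (after a change of the complement)
an involution `y` with `t^y = t z₀` centralises `ι(C(z₀))`.
-/

set_option autoImplicit false

namespace Cfsg.Agent.OddHalf.D5.Eight

open Subgroup Equiv Cfsg.Agent.StdSpSix

variable {G : Type*} [Group G]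

/-- the `SS` form -/
theorem SS.exists_swap [Finite G] {t : G} {j : Perm (Fin 8) →* G} (h : SS t j) :
    (∃ m : G →* ℤˣ, m t = -1) ∨
      ∃ (j' : Perm (Fin 8) →* G) (y : G), SS t j' ∧ y * y = 1 ∧ y * t * y = t * j' z0 ∧
        ∀ p, p * z0 = z0 * p → y * j' p = j' p * y := by
  rcases exists_pre h with hm | ⟨j', y, h', s | s⟩
  · exact Or.inl hm
  · right
    refine ⟨j', y, h', s.yy, s.yt, fun p hp => ?_⟩
    have := s.act_one hp
    calc y * j' p = y * j' p * y * y := by rw [mul_assoc (y * j' p), s.yy, mul_one]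
      _ = j' p * y := by rw [this]
  · left
    exact s.six h' (s.seven h')

theorem Spl.toSS {t : G} {ι : (⊤ : Subgroup (Perm (Fin 8))) →* G} (h : Spl t ⊤ ι) :
    SS t (ι.comp (topEquiv (G := Perm (Fin 8))).symm.toMonoidHom) where
  tt := h.tt
  inj := h.inj.comp (topEquiv (G := Perm (Fin 8))).symm.injective
  comm := fun a => h.comm _
  cent := by
    intro g hg
    rcases h.cent g hg with ⟨⟨a, ha⟩, e⟩ | ⟨⟨a, ha⟩, e⟩
    · exact Or.inl ⟨a, e⟩
    · exact Or.inr ⟨a, e⟩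
  ne := fun a => h.ne _

theorem SS.toSpl {t : G} {j : Perm (Fin 8) →* G} (h : SS t j) :
    Spl t ⊤ (j.comp (⊤ : Subgroup (Perm (Fin 8))).subtype) where
  tt := h.tt
  t1 := fun e => h.ne 1 ((map_one j).trans e.symm)
  inj := h.inj.comp (subtype_injective _)
  comm := fun a => h.comm _
  cent := by
    intro g hg
    rcases h.cent g hg with ⟨a, e⟩ | ⟨a, e⟩
    · exact Or.inl ⟨⟨a, mem_top a⟩, e⟩
    · exact Or.inr ⟨⟨a, mem_top a⟩, e⟩
  ne := fun a => h.ne _

/-- **[S]** -/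
theorem exists_swp [Finite G] {t : G} {ι : (⊤ : Subgroup (Perm (Fin 8))) →* G} (h : Spl t ⊤ ι) :
    (∃ m : G →* ℤˣ, m t = -1) ∨
      ∃ (ι' : (⊤ : Subgroup (Perm (Fin 8))) →* G) (y : G), Spl t ⊤ ι' ∧ Swp t ⊤ ι' y := by
  rcases h.toSS.exists_swap with hm | ⟨j', y, h', hyy, hyt, hyc⟩
  · exact Or.inl hm
  · right
    refine ⟨_, y, h'.toSpl, hyy, ?_, ?_⟩
    · rintro ⟨p, hp⟩ e
      have e' : p = z0 := e
      rw [hyt, ← e']
      rfl
    · rintro ⟨p, hp⟩ e
      exact hyc p e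

end Cfsg.Agent.OddHalf.D5.Eight
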