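import Cfsg.Agent.OddHalf.D5.Setup
import Cfsg.Agent.OddHalf.D5.Disj

/-!
# ODD D5: the rows

`Row n t φ K`: all the hypotheses, `n ≥ 7`. The rows `IsoRow`, `CleanRow`, `SymRow`, `SixRow` and the node D5 from
them.
-/

set_option autoImplicit false

namespace Cfsg.Agent.OddHalf.D5

open Subgroup Equiv Cfsg Cfsg.Agent.OddHalf.Iface Cfsg.Agent.OddHalf.UQ4

universe u

/-- everything that is known for `n ≥ 7` -/
structure Row {G : Type u} [Group G] (n : ℕ) (t : G) (φ : centralizer ({t} : Set G) →* Perm (Fin n))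
    (K : Subgroup G) : Prop where
  intr : Intr.{u}
  ctx : Ctx G
  std : Std G K
  cyc : Cyc K
  front : Front t K
  gen : Gen t φ K
  /-- `t` has no conjugate in `K` -/
  disj : ∀ g, g * t * g⁻¹ ∉ K
  perfect : commutator G = ⊤
  index : ∀ H : Subgroup G, H.index ≠ 2
  /-- no character of order two -/
  hom : ∀ m : G →* ℤˣ, ∀ g, m g = 1

/-- the isoclinic case -/
def IsoRow (P : ℕ → Prop) : Prop :=
  ∀ (G : Type u) [Group G] (n : ℕ) (t : G) (φ : centralizer ({t} : Set G) →* Perm (Fin n)) (K : Subgroup G), P n →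
    Row n t φ K → Iso t φ K → False

/-- the case `C_G(t) = ⟨t⟩ × A_n` -/
def CleanRow (P : ℕ → Prop) : Prop :=
  ∀ (G : Type u) [Group G] (n : ℕ) (t : G) (φ : centralizer ({t} : Set G) →* Perm (Fin n)) (K : Subgroup G), P n →
    Row n t φ K → ∀ ι : An n →* G, Spl t (An n) ι → (∀ a, ι a ∈ K) →
    (∀ a, ∃ h : ι a ∈ centralizer ({t} : Set G), φ ⟨ι a, h⟩ = a) → False

/-- the case `C_G(t) = ⟨t⟩ × S_n` -/
def SymRow (P : ℕ → Prop) : Prop :=
  ∀ (G : Type u) [Group G] (n : ℕ) (t : G) (φ : centralizer ({t} : Set G) →* Perm (Fin n)) (K : Subgroup G), P n →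
    Row n t φ K → ∀ ι : (⊤ : Subgroup (Perm (Fin n))) →* G, Spl t ⊤ ι →
    (∀ a : (⊤ : Subgroup (Perm (Fin n))), (a : Perm (Fin n)) ∈ An n → ι a ∈ K) →
    (∀ a, ∃ h : ι a ∈ centralizer ({t} : Set G), φ ⟨ι a, h⟩ = a) → False

/-- `n = 6` -/
def SixRow : Prop :=
  ∀ (G : Type u) [Group G], Ctx G → ∀ K : Subgroup G, Std G K → Cyc K →
    Nonempty (↥K ≃* ↥(alternatingGroup (Fin 6))) → False

theorem perfect_of {G : Type u} [Group G] (C : Ctx G) : commutator G = ⊤ := by
  have hs := C.simple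
  rcases hs.eq_bot_or_eq_top_of_normal (commutator G) inferInstance with h | h
  · exfalso
    apply C.na
    refine ⟨⟨fun a b => ?_⟩⟩
    have h1 : a * b * a⁻¹ * b⁻¹ ∈ commutator G := by
      rw [commutator_def, ← commutatorElement_def]
      exact commutator_mem_commutator (mem_top a) (mem_top b)
    rw [h, mem_bot, mul_inv_eq_one, mul_inv_eq_iff_eq_mul] at h1
    exact h1
  · exact h

theorem hom_of {G : Type u} [Group G] (C : Ctx G) (m : G →* ℤˣ) (g : G) : m g = 1 := by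
  have h1 : commutator G ≤ m.ker := by
    rw [commutator_def, commutator_le]
    intro a _ b _
    rw [MonoidHom.mem_ker, commutatorElement_def, map_mul, map_mul, map_mul, map_inv, map_inv, mul_comm (m a),
      mul_inv_cancel_right, mul_inv_cancel]
  rw [perfect_of C] at h1
  exact MonoidHom.mem_ker.1 (h1 (mem_top g))

theorem index_of {G : Type u} [Group G] (C : Ctx G) (H : Subgroup G) : H.index ≠ 2 := by
  intro h
  have hn : H.Normal := normal_of_index_eq_two h
  have hs := C.simple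
  have := C.fin
  rcases hs.eq_bot_or_eq_top_of_normal H hn with h1 | h1
  · -- `G` has order two
    apply C.na
    rw [h1, index_bot] at h
    have : Fact (Nat.Prime 2) := ⟨Nat.prime_two⟩
    have hc : IsCyclic G := isCyclic_of_prime_card h
    refine ⟨⟨fun a b => ?_⟩⟩
    letI := hc.commGroup
    exact mul_comm a b
  · rw [h1, index_top] at h
    omega

variable {G : Type u} [Group G]

/-- the hypotheses hold -/
theorem exists_row (I : Intr.{u}) (C : Ctx G) {K : Subgroup G} (S : Std G K) (hcyc : Cyc K) {n : ℕ} (hn : 7 ≤ n)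
    (e : ↥K ≃* ↥(alternatingGroup (Fin n))) :
    ∃ (t : G) (φ : centralizer ({t} : Set G) →* Perm (Fin n)), Row n t φ K := by
  obtain ⟨t, φ, F, h⟩ := front_gen C S.std S.comp hcyc hn e
  exact ⟨t, φ, I, C, S, hcyc, F, h, h.disj (by omega), perfect_of C, index_of C, hom_of C⟩

/-- **the node D5 from its rows** -/
theorem d5_of_rows (hiso : IsoRow.{u} (7 ≤ ·)) (hclean : CleanRow.{u} (7 ≤ ·)) (hsym : SymRow.{u} (7 ≤ ·))
    (h6 : SixRow.{u}) (I : Intr.{u}) : D5.{u} (fun n => 6 ≤ n) := by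
  intro G _ C K S hcyc n hn hK
  rcases Nat.eq_or_lt_of_le hn with h | h
  · subst h
    exact h6 G C K S hcyc hK
  obtain ⟨e⟩ := hK
  have hn7 : 7 ≤ n := h
  obtain ⟨t, φ, R⟩ := exists_row I C S hcyc hn7 e
  rcases R.gen.tri with h1 | ⟨g, h1, h2⟩ | h1
  · obtain ⟨ι, h3, h4, h5⟩ := R.gen.clean h1
    exact hclean G n t φ K hn7 R ι h3 h4 h5
  · obtain ⟨ι, h3, h4, h5⟩ := R.gen.sym g h1 h2
    exact hsym G n t φ K hn7 R ι h3 h4 h5
  · exact hiso G n t φ K hn7 R h1

theorem CleanRow.of_three (h7 : CleanRow.{u} (· = 7)) (h8 : CleanRow.{u} (· = 8)) (h9 : CleanRow.{u} (9 ≤ ·)) :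
    CleanRow.{u} (7 ≤ ·) := by
  intro G _ n t φ K hn
  by_cases e7 : n = 7
  · exact h7 G n t φ K e7
  by_cases e8 : n = 8
  · exact h8 G n t φ K e8
  · exact h9 G n t φ K (show 9 ≤ n by have : 7 ≤ n := hn; omega)

theorem SymRow.of_three (h7 : SymRow.{u} (· = 7)) (h8 : SymRow.{u} (· = 8)) (h9 : SymRow.{u} (9 ≤ ·)) :
    SymRow.{u} (7 ≤ ·) := by
  intro G _ n t φ K hn
  by_cases e7 : n = 7
  · exact h7 G n t φ K e7
  by_cases e8 : n = 8
  · exact h8 G n t φ K e8
  · exact h9 G n t φ K (show 9 ≤ n by have : 7 ≤ n := hn; omega)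

end Cfsg.Agent.OddHalf.D5
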