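import Mathlib
import Cfsg.Agent.OddHalf.D5.EightSwp
import Cfsg.Agent.OddHalf.D5.EightCleanSwp
import Cfsg.Agent.OddHalf.D5.Rows

/-!
# ODD D5, `n = 8`: the literal rows from the growth (helper647)

`GrowA`, `GrowS`: the two statements of the growth (helper432).
-/

set_option autoImplicit false

namespace Cfsg.Agent.OddHalf.D5.Eight

open Subgroup Equiv

universe u

/-- growth, `C_G(t) = ⟨t⟩ × A₈` -/
def GrowA : Prop :=
  ∀ (G : Type u) [Group G] [Finite G] (t : G) (ι : A8 →* G) (y : G), Spl t A8 ι → Swp t A8 ι y →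
    ∃ m : G →* ℤˣ, m t = -1

/-- growth, `C_G(t) = ⟨t⟩ × S₈` -/
def GrowS : Prop :=
  ∀ (G : Type u) [Group G] [Finite G] (t : G) (ι : (⊤ : Subgroup (Perm (Fin 8))) →* G) (y : G), Spl t ⊤ ι →
    Swp t ⊤ ι y → ∃ m : G →* ℤˣ, m t = -1

theorem spl_of {G : Type u} [Group G] {t : G} {A : Subgroup (Perm (Fin 8))} {ι : A →* G}
    (h : Cfsg.Agent.OddHalf.D5.Spl t A ι) : Spl t A ι :=
  ⟨h.tt, h.t1, h.inj, h.comm, h.cent, h.ne⟩

/-- **row (R4), clean** -/
theorem cleanRow (H : GrowA.{u}) : CleanRow.{u} (· = 8) := by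
  intro G _ n t φ K hn R ι h _ _
  have : n = 8 := hn
  subst this
  have := R.ctx.fin
  obtain ⟨y, hy⟩ := EightCleanSwp.swp (spl_of h) R.perfect
  obtain ⟨m, hm⟩ := H G t ι y (spl_of h) hy
  rw [R.hom m t] at hm
  exact absurd hm (by decide)

/-- **row (R4), symmetric** -/
theorem symRow (H : GrowS.{u}) : SymRow.{u} (· = 8) := by
  intro G _ n t φ K hn R ι h _ _
  have : n = 8 := hn
  subst this
  have := R.ctx.fin
  have key : ∃ m : G →* ℤˣ, m t = -1 := by
    rcases exists_swp (spl_of h) with hm | ⟨ι', y, h', hy⟩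
    · exact hm
    · exact H G t ι' y h' hy
  obtain ⟨m, hm⟩ := key
  rw [R.hom m t] at hm
  exact absurd hm (by decide)

end Cfsg.Agent.OddHalf.D5.Eight
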