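import Mathlib
import Cfsg.Agent.OddHalf.D5.EightRows
import Cfsg.Agent.OddHalf.D5.EightGrowA

/-!
# ODD D5, `n = 8`: the clean row, unconditionally (helper647, helper401, helper432)
-/

set_option autoImplicit false

namespace Cfsg.Agent.OddHalf.D5.Eight

universe u

theorem growA : GrowA.{u} := fun _ _ _ _ _ _ h s => Gr.growA8 h s

/-- **row (R4), clean, `n = 8`** -/
theorem clean8 : CleanRow.{u} (· = 8) := cleanRow growA

end Cfsg.Agent.OddHalf.D5.Eight
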