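import Mathlib
import Cfsg.Agent.OddHalf.D5.EightFinalA
import Cfsg.Agent.OddHalf.D5.EightGrowS

/-!
# ODD D5, `n = 8`: the symmetric row, unconditionally (helper647, helper432)
-/

set_option autoImplicit false

namespace Cfsg.Agent.OddHalf.D5.Eight

universe u

theorem growS : GrowS.{u} := fun _ _ _ _ _ _ h s => Gr.growS8 h s

/-- **row (R4), symmetric, `n = 8`** -/
theorem sym8 : SymRow.{u} (· = 8) := symRow growS

end Cfsg.Agent.OddHalf.D5.Eight
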