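import Cfsg.Agent.OddHalf.D5.EightClean
import Cfsg.Agent.OddHalf.Clean

/-!
# `C_G(t) = ⟨t⟩ × SL₄(2)`: the frame and the swap (helper401)
-/

set_option autoImplicit false

namespace Cfsg.Agent.OddHalf.D5.EightFrame

open Subgroup EightMat EightMatB EightAff EightUp EightClean
open Cfsg.Agent.OddHalf.TR

variable {G : Type*} [Group G] {t : G} {φ : S4 →* G}

theorem tphi (h : Hyp t φ) (a b : S4) : (t * φ a) * (t * φ b) = φ (a * b) := by
  calc (t * φ a) * (t * φ b) = t * (φ a * t) * φ b := by group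
    _ = (t * t) * (φ a * φ b) := by rw [h.comm']; group
    _ = φ (a * b) := by rw [h.tt, one_mul, map_mul]

theorem tphi' (h : Hyp t φ) (a b : S4) : φ a * (t * φ b) = t * φ (a * b) := by
  rw [← mul_assoc, h.comm', mul_assoc, map_mul]

/-- `⟨t⟩ × φ(A)` -/
def TT (h : Hyp t φ) (A : Subgroup S4) : Subgroup G where
  carrier := {g | ∃ u ∈ A, g = φ u ∨ g = t * φ u}
  one_mem' := ⟨1, A.one_mem, Or.inl (map_one φ).symm⟩
  mul_mem' := by
    rintro _ _ ⟨u, hu, rfl | rfl⟩ ⟨v, hv, rfl | rfl⟩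
    · exact ⟨u * v, A.mul_mem hu hv, Or.inl (map_mul φ u v).symm⟩
    · exact ⟨u * v, A.mul_mem hu hv, Or.inr (tphi' h u v)⟩
    · exact ⟨u * v, A.mul_mem hu hv, Or.inr (by rw [map_mul, mul_assoc])⟩
    · exact ⟨u * v, A.mul_mem hu hv, Or.inl (tphi h u v)⟩
  inv_mem' := by
    rintro _ ⟨u, hu, rfl | rfl⟩
    · exact ⟨u⁻¹, A.inv_mem hu, Or.inl (map_inv φ u).symm⟩
    · refine ⟨u⁻¹, A.inv_mem hu, Or.inr ?_⟩
      rw [inv_eq_iff_mul_eq_one, tphi h, mul_inv_cancel, map_one]

theorem mem_TT (h : Hyp t φ) {A : Subgroup S4} {g : G} : g ∈ TT h A ↔ ∃ u ∈ A, g = φ u ∨ g = t * φ u := Iff.rfl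

theorem phi_mem (h : Hyp t φ) {A : Subgroup S4} {u : S4} (hu : u ∈ A) : φ u ∈ TT h A := ⟨u, hu, Or.inl rfl⟩

theorem t_mem (h : Hyp t φ) (A : Subgroup S4) : t ∈ TT h A := ⟨1, A.one_mem, Or.inr (by rw [map_one, mul_one])⟩

theorem comm_t (h : Hyp t φ) {A : Subgroup S4} {g : G} (hg : g ∈ TT h A) : g * t = t * g := by
  obtain ⟨u, -, rfl | rfl⟩ := hg
  · exact h.comm' u
  · rw [mul_assoc, h.comm']

/-- `T` is a 2-group -/
theorem pT (h : Hyp t φ) {A : Subgroup S4} (hA : IsPGroup 2 A) : IsPGroup 2 (TT h A) := by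
  rintro ⟨g, u, hu, hg⟩
  obtain ⟨k, hk⟩ := hA ⟨u, hu⟩
  have hk' : u ^ 2 ^ k = 1 := congrArg Subtype.val hk
  refine ⟨k + 1, Subtype.ext ?_⟩
  show g ^ 2 ^ (k + 1) = 1
  rw [pow_succ', pow_mul]
  have h2 : g ^ 2 = φ (u ^ 2) := by
    rw [pow_two, pow_two]
    rcases hg with rfl | rfl
    · rw [map_mul]
    · exact tphi h u u
  rw [h2, ← map_pow, ← pow_mul, mul_comm, pow_mul, hk', one_pow, map_one]

theorem pU : IsPGroup 2 U := IsPGroup.of_card (n := 6) (by rw [card_U]; norm_num)

/-- `U` is a Sylow subgroup -/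
theorem U_max {P : Subgroup S4} (hP : IsPGroup 2 P) (hle : U ≤ P) : P ≤ U := by
  have hfin : Finite S4 := Nat.finite_of_card_ne_zero (by rw [card_S4]; norm_num)
  have h1 : Nat.card P ∣ 20160 := by rw [← card_S4]; exact card_subgroup_dvd_card P
  obtain ⟨n, hn⟩ := IsPGroup.iff_card.1 hP
  rw [hn] at h1
  have h2 : n ≤ 6 := by
    by_contra hlt
    have h3 : 2 ^ 7 ∣ 20160 := (pow_dvd_pow 2 (by omega)).trans h1
    norm_num at h3
  have h4 : Nat.card P ≤ Nat.card U := by
    rw [hn, card_U]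
    calc 2 ^ n ≤ 2 ^ 6 := Nat.pow_le_pow_right (by norm_num) h2
      _ = 64 := by norm_num
  exact (Subgroup.eq_of_le_of_card_ge hle h4).ge

theorem x_comm : tv 0 1 * tv 1 3 = tv 0 3 * (tv 1 3 * tv 0 1) ∧ tv 0 1 * tv 0 3 = tv 0 3 * tv 0 1 ∧
    tv 1 3 * tv 0 3 = tv 0 3 * tv 1 3 := by decide +kernel

/-- the frame -/
theorem frame [Finite G] (h : Hyp t φ) : Frame t (φ (tv 0 3)) (TT h U) where
  tt := h.tt
  zz := zz φ
  t1 := h.t1
  z1 := fun e => tv_ne_one 0 3 (by decide) (h.inj (e.trans (map_one φ).symm))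
  ne := h.ne _
  pT := pT h pU
  tT := t_mem h U
  tc := fun _ hx => comm_t h hx
  zT := phi_mem h (tv_mem_U (by decide))
  zc := by
    have hz : ∀ u ∈ U, u * tv 0 3 = tv 0 3 * u := by
      intro u hu
      have h1 : U ≤ centralizer ({tv 0 3} : Set S4) := by
        apply U_le
        intro i j hij
        rw [mem_centralizer_singleton_iff]
        apply tv_comm
        · exact hij.ne
        · decide
        · intro e
          rw [e] at hij
          exact absurd hij (by omega)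
        · intro e
          rw [← e] at hij
          exact absurd hij (by omega)
      exact mem_centralizer_singleton_iff.1 (h1 hu)
    rintro x ⟨u, hu, rfl | rfl⟩
    · exact phi_comm φ (hz u hu)
    · rw [mul_assoc, phi_comm φ (hz u hu), ← mul_assoc, ← mul_assoc, h.comm]
  max := by
    intro P hP hle hc g hg
    have h1 : P.comap φ ≤ U := by
      apply U_max
      · exact hP.comap_of_injective φ h.inj
      · intro u hu
        exact hle (phi_mem h hu)
    rcases h.cent g (hc g hg) with ⟨a, rfl⟩ | ⟨a, rfl⟩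
    · exact phi_mem h (h1 hg)
    · refine ⟨a, h1 ?_, Or.inr rfl⟩
      have h2 : t * (t * φ a) ∈ P := P.mul_mem (hle (t_mem h U)) hg
      rw [← mul_assoc, h.tt, one_mul] at h2
      exact h2
  om := by
    intro y hy hc _
    obtain ⟨u, hu, hy⟩ := hy
    have hcu : ∀ v ∈ U, u * v = v * u := by
      intro v hv
      apply h.inj
      have h1 := hc (φ v) (phi_mem h hv)
      rw [map_mul, map_mul]
      rcases hy with rfl | rfl
      · exact h1.symm
      · have h4 : t * (φ v * φ u) = t * (φ u * φ v) := by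
          calc t * (φ v * φ u) = (φ v * t) * φ u := by rw [h.comm']; group
            _ = t * φ u * φ v := by rw [← h1]; group
            _ = t * (φ u * φ v) := by group
        exact (mul_left_cancel h4).symm
    have h0 : u = 1 ∨ u = tv 0 3 := by
      apply K1 (by decide) u
      · intro l hl
        apply hcu
        apply tv_mem_U
        exact Fin.pos_of_ne_zero hl
      · intro l hl
        apply hcu
        apply tv_mem_U
        omega
    rcases h0 with rfl | rfl <;> rcases hy with rfl | rfl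
    · left; exact map_one φ
    · right; left; rw [map_one, mul_one]
    · right; right; left; rfl
    · right; right; right; rfl
  iso := by
    intro g h1 h2
    have hz1 : φ (tv 0 3) ≠ 1 := fun e => tv_ne_one 0 3 (by decide) (h.inj (e.trans (map_one φ).symm))
    have hzt : φ (tv 0 3) ≠ t := h.ne _
    have inj : ∀ c d : G, g * c * g⁻¹ = g * d * g⁻¹ → c = d :=
      fun c d e => mul_left_cancel (mul_right_cancel e)
    -- `t` is a product of the images
    have hzz := zz φ
    have hct := h.comm (tv 0 3)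
    -- an element commuting with `t` and `z` is mapped to an element commuting with `t`
    have hc : ∀ u : S4, u * tv 0 3 = tv 0 3 * u → (g * φ u * g⁻¹) * t = t * (g * φ u * g⁻¹) := by
      intro u hu
      have e1 := conj_comm (x := g) (h.comm' u)
      have e2 := conj_comm (x := g) (phi_comm φ hu)
      set y := g * φ u * g⁻¹
      have fin : y * (t * φ (tv 0 3)) = (t * φ (tv 0 3)) * y → y * φ (tv 0 3) = φ (tv 0 3) * y → y * t = t * y := by
        intro e1 e2
        have e : t = (t * φ (tv 0 3)) * φ (tv 0 3) := by rw [mul_assoc, hzz, mul_one]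
        calc y * t = y * ((t * φ (tv 0 3)) * φ (tv 0 3)) := by rw [← e]
          _ = (y * (t * φ (tv 0 3))) * φ (tv 0 3) := by group
          _ = (t * φ (tv 0 3)) * (y * φ (tv 0 3)) := by rw [e1]; group
          _ = (t * φ (tv 0 3)) * (φ (tv 0 3) * y) := by rw [e2]
          _ = ((t * φ (tv 0 3)) * φ (tv 0 3)) * y := by group
          _ = t * y := by rw [← e]
      rcases h1 with h1 | h1 | h1 <;> rcases h2 with h2 | h2 | h2 <;> rw [h1] at e1 <;> rw [h2] at e2
      · exact e1
      · exact e1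
      · exact e1
      · exact e2
      · exact absurd (inj _ _ (h1.trans h2.symm)) hzt.symm
      · exact fin e2 e1
      · exact e2
      · exact fin e1 e2
      · exact absurd (inj _ _ (h1.trans h2.symm)) hzt.symm
    obtain ⟨c1, c2, c3⟩ := x_comm
    obtain ⟨a, ha⟩ := h.comm_mem (k := g * φ (tv 0 3) * g⁻¹) (hc _ c2) (hc _ c3) (by
      calc (g * φ (tv 0 1) * g⁻¹) * (g * φ (tv 1 3) * g⁻¹) = g * (φ (tv 0 1) * φ (tv 1 3)) * g⁻¹ := by group
        _ = g * (φ (tv 0 3) * (φ (tv 1 3) * φ (tv 0 1))) * g⁻¹ := by rw [← map_mul, c1, map_mul, map_mul]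
        _ = (g * φ (tv 0 3) * g⁻¹) * ((g * φ (tv 1 3) * g⁻¹) * (g * φ (tv 0 1) * g⁻¹)) := by group)
    rcases h2 with h2 | h2 | h2
    · exact absurd (ha.symm.trans h2) (h.ne a)
    · exact h2
    · exact absurd (ha.symm.trans h2) (h.tne a _)

/-- **the swap**, in the model `SL₄(2)` -/
theorem swap [Finite G] (h : Hyp t φ) (hG : commutator G = ⊤) :
    ∃ y : G, y * y = 1 ∧ y * t * y = t * φ (tv 0 3) ∧ ∀ c : S4, c * tv 0 3 = tv 0 3 * c → y * φ c = φ c * y := by
  have F := frame h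
  have hmu : (⟨t, F.tT⟩ : TT h U) ∉ commutator (TT h U) := by
    intro h1
    have h2 : commutator (TT h U) ≤ (φ.range).subgroupOf (TT h U) := by
      rw [commutator_def, commutator_le]
      rintro ⟨a, ha⟩ - ⟨b, hb⟩ -
      rw [mem_subgroupOf]
      show a * b * a⁻¹ * b⁻¹ ∈ φ.range
      obtain ⟨k, hk⟩ := h.comm_mem (k := a * b * a⁻¹ * b⁻¹) (comm_t h ha) (comm_t h hb) (comm_id a b)
      exact ⟨k, hk.symm⟩
    obtain ⟨k, hk⟩ := h2 h1
    exact h.ne k hk
  obtain ⟨S, -, -, ⟨x, -, -, -, hxt, hxz⟩, -, -⟩ := F.main' hG hmu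
  exact EightClean.main h ⟨hxt, hxz⟩

end Cfsg.Agent.OddHalf.D5.EightFrame
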