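import Mathlib

/-!
# `SL₄(2)`: transvections and centralisers (for `K = A₈`, helper401)

`tv i j = 1 + E_ij`.  `pe m c ...` enumerates the centraliser of `tv 0 3` (192 elements), `ue` the upper
unitriangular matrices (64 elements).
-/

set_option autoImplicit false

namespace Cfsg.Agent.OddHalf.D5.EightMat

open Matrix

/-- `SL₄(2)` -/
abbrev S4 := SpecialLinearGroup (Fin 4) (ZMod 2)

/-- transvection -/
def tv (i j : Fin 4) : S4 := if h : i ≠ j then SpecialLinearGroup.transvection h 1 else 1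

instance instDecEqS4 : DecidableEq S4 := fun a b => decidable_of_iff (a.1 = b.1) Subtype.ext_iff.symm

theorem tv_sq : ∀ i j : Fin 4, tv i j * tv i j = 1 := by decide +kernel

theorem tv_ne_one : ∀ i j : Fin 4, i ≠ j → tv i j ≠ 1 := by decide +kernel

theorem tv_inj : ∀ i j k l : Fin 4, i ≠ j → k ≠ l → tv i j = tv k l → i = k ∧ j = l := by decide +kernel

theorem tv_inv (i j : Fin 4) : (tv i j)⁻¹ = tv i j := inv_eq_of_mul_eq_one_left (tv_sq i j)

theorem tv_comm : ∀ i j k l : Fin 4, i ≠ j → k ≠ l → j ≠ k → l ≠ i → tv i j * tv k l = tv k l * tv i j := by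
  decide +kernel

theorem tv_mul3 : ∀ i j k : Fin 4, i ≠ j → j ≠ k → i ≠ k → tv i j * tv j k * tv i j * tv j k = tv i k := by
  decide +kernel

/-! ### Centralisers -/

theorem coe_tv {i j : Fin 4} (hij : i ≠ j) : (tv i j).1 = 1 + Matrix.single i j (1 : ZMod 2) := by
  unfold tv
  rw [dif_pos hij]
  rfl

theorem entries {c : S4} {i j : Fin 4} (hij : i ≠ j) (h : c * tv i j = tv i j * c) :
    (∀ a, a ≠ i → c.1 a i = 0) ∧ (∀ b, b ≠ j → c.1 j b = 0) ∧ c.1 i i = c.1 j j := by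
  have h1 : c.1 * (tv i j).1 = (tv i j).1 * c.1 := congrArg Subtype.val h
  rw [coe_tv hij, mul_add, add_mul, mul_one, one_mul] at h1
  have h2 := add_left_cancel h1
  have h3 : ∀ a b, (c.1 * Matrix.single i j (1 : ZMod 2)) a b = (Matrix.single i j (1 : ZMod 2) * c.1) a b :=
    fun a b => by rw [h2]
  refine ⟨fun a ha => ?_, fun b hb => ?_, ?_⟩
  · have := h3 a j
    rwa [Matrix.mul_single_apply_same, mul_one, Matrix.single_mul_apply_of_ne _ _ _ _ _ ha] at this
  · have := h3 i b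
    rw [Matrix.mul_single_apply_of_ne _ _ _ _ _ hb, Matrix.single_mul_apply_same, one_mul] at this
    exact this.symm
  · have := h3 i j
    rwa [Matrix.mul_single_apply_same, mul_one, Matrix.single_mul_apply_same, one_mul] at this

theorem two_cases : ∀ x : ZMod 2, x = 0 ∨ x = 1 := by decide

/-- a column which is zero off the diagonal has diagonal entry `1` -/
theorem diag_one {c : S4} {i : Fin 4} (h : ∀ a, a ≠ i → c.1 a i = 0) : c.1 i i = 1 := by
  rcases two_cases (c.1 i i) with h0 | h0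
  · exfalso
    have h1 : c.1.det = 0 := Matrix.det_eq_zero_of_column_eq_zero i fun a => by
      by_cases ha : a = i
      · rw [ha]; exact h0
      · exact h a ha
    rw [c.2] at h1
    exact one_ne_zero h1
  · exact h0

/-- a row which is zero off the diagonal has diagonal entry `1` -/
theorem diag_one' {c : S4} {i : Fin 4} (h : ∀ a, a ≠ i → c.1 i a = 0) : c.1 i i = 1 := by
  rcases two_cases (c.1 i i) with h0 | h0
  · exfalso
    have h1 : c.1.det = 0 := Matrix.det_eq_zero_of_row_eq_zero i fun a => by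
      by_cases ha : a = i
      · rw [ha]; exact h0
      · exact h a ha
    rw [c.2] at h1
    exact one_ne_zero h1
  · exact h0

/-- the matrix `1 + Σ x_b E_ib` over two columns -/
theorem row_aux : ∀ i j k : Fin 4, i ≠ j → i ≠ k → j ≠ k → ∀ x y : ZMod 2, ∀ a b : Fin 4,
    (if a = b then 1 else if a = i ∧ b = j then x else if a = i ∧ b = k then y else 0) =
      ((if x = 0 then 1 else tv i j) * (if y = 0 then 1 else tv i k) : S4).1 a b := by
  decide +kernel

theorem col_aux : ∀ i j k : Fin 4, i ≠ j → k ≠ j → i ≠ k → ∀ x y : ZMod 2, ∀ a b : Fin 4,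
    (if a = b then 1 else if a = i ∧ b = j then x else if a = k ∧ b = j then y else 0) =
      ((if x = 0 then 1 else tv i j) * (if y = 0 then 1 else tv k j) : S4).1 a b := by
  decide +kernel

theorem exists_third : ∀ i j : Fin 4, ∃ k, k ≠ i ∧ k ≠ j := by decide

theorem eq_row {c : S4} {i j k : Fin 4} (hij : i ≠ j) (hik : i ≠ k) (hjk : j ≠ k)
    (hd : ∀ a, c.1 a a = 1) (h0 : ∀ a b, a ≠ b → ¬ (a = i ∧ b = j) → ¬ (a = i ∧ b = k) → c.1 a b = 0) :
    c = (if c.1 i j = 0 then 1 else tv i j) * (if c.1 i k = 0 then 1 else tv i k) := by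
  apply Subtype.ext
  ext a b
  rw [← row_aux i j k hij hik hjk]
  split_ifs with h1 h2 h3
  · rw [h1]; exact hd b
  · rw [h2.1, h2.2]
  · rw [h3.1, h3.2]
  · exact h0 a b h1 h2 h3

theorem eq_col {c : S4} {i j k : Fin 4} (hij : i ≠ j) (hik : k ≠ j) (hjk : i ≠ k)
    (hd : ∀ a, c.1 a a = 1) (h0 : ∀ a b, a ≠ b → ¬ (a = i ∧ b = j) → ¬ (a = k ∧ b = j) → c.1 a b = 0) :
    c = (if c.1 i j = 0 then 1 else tv i j) * (if c.1 k j = 0 then 1 else tv k j) := by
  apply Subtype.ext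
  ext a b
  rw [← col_aux i j k hij hik hjk]
  split_ifs with h1 h2 h3
  · rw [h1]; exact hd b
  · rw [h2.1, h2.2]
  · rw [h3.1, h3.2]
  · exact h0 a b h1 h2 h3

theorem ite_cases (x : ZMod 2) (g : S4) : (if x = 0 then (1 : S4) else g) = 1 ∨ (if x = 0 then (1 : S4) else g) = g := by
  split_ifs
  · exact Or.inl rfl
  · exact Or.inr rfl

/-- **K1** -/
theorem K1 {i j : Fin 4} (hij : i ≠ j) (c : S4) (h1 : ∀ l, l ≠ i → c * tv i l = tv i l * c)
    (h2 : ∀ l, l ≠ j → c * tv l j = tv l j * c) : c = 1 ∨ c = tv i j := by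
  obtain ⟨k, hki, hkj⟩ := exists_third i j
  have hcol : ∀ a, a ≠ i → c.1 a i = 0 := (entries hij (h1 j hij.symm)).1
  have hrow : ∀ l, l ≠ i → ∀ b, b ≠ l → c.1 l b = 0 := fun l hl => (entries hl.symm (h1 l hl)).2.1
  have hcol2 : ∀ l, l ≠ j → ∀ a, a ≠ l → c.1 a l = 0 := fun l hl => (entries hl (h2 l hl)).1
  have hd : ∀ a, c.1 a a = 1 := by
    intro a
    by_cases ha : a = i
    · rw [ha]; exact diag_one hcol
    · exact diag_one' fun b hb => hrow a ha b hb
  have h0 : ∀ a b, a ≠ b → ¬ (a = i ∧ b = j) → c.1 a b = 0 := by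
    intro a b hab h
    by_cases ha : a = i
    · exact hcol2 b (fun hb => h ⟨ha, hb⟩) a hab
    · exact hrow a ha b hab.symm
  have h3 := eq_row hij hki.symm hkj.symm hd fun a b hab h _ => h0 a b hab h
  have h4 : c.1 i k = 0 := h0 i k hki.symm fun h => hkj h.2
  rw [h4, if_pos rfl, mul_one] at h3
  rw [h3]
  exact ite_cases _ _

/-- **K2** for `e_i - e_j`, `e_i - e_k` -/
theorem K2a {i j k : Fin 4} (hij : i ≠ j) (hik : i ≠ k) (hjk : j ≠ k) (c : S4)
    (h1 : ∀ l, l ≠ i → c * tv i l = tv i l * c)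
    (h2 : ∀ l, l ≠ i → l ≠ j → l ≠ k → c * tv l j = tv l j * c) :
    ∃ x y : S4, (x = 1 ∨ x = tv i j) ∧ (y = 1 ∨ y = tv i k) ∧ c = x * y := by
  have hcol : ∀ a, a ≠ i → c.1 a i = 0 := (entries hij (h1 j hij.symm)).1
  have hrow : ∀ l, l ≠ i → ∀ b, b ≠ l → c.1 l b = 0 := fun l hl => (entries hl.symm (h1 l hl)).2.1
  have hd : ∀ a, c.1 a a = 1 := by
    intro a
    by_cases ha : a = i
    · rw [ha]; exact diag_one hcol
    · exact diag_one' fun b hb => hrow a ha b hb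
  have h0 : ∀ a b, a ≠ b → ¬ (a = i ∧ b = j) → ¬ (a = i ∧ b = k) → c.1 a b = 0 := by
    intro a b hab h h'
    by_cases ha : a = i
    · have hbi : b ≠ i := fun hb => hab (ha.trans hb.symm)
      have hbj : b ≠ j := fun hb => h ⟨ha, hb⟩
      have hbk : b ≠ k := fun hb => h' ⟨ha, hb⟩
      exact (entries hbj (h2 b hbi hbj hbk)).1 a hab
    · exact hrow a ha b hab.symm
  exact ⟨_, _, ite_cases _ _, ite_cases _ _, eq_row hij hik hjk hd h0⟩

/-- **K2** for `e_i - e_j`, `e_k - e_j` -/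
theorem K2b {i j k : Fin 4} (hij : i ≠ j) (hkj : k ≠ j) (hik : i ≠ k) (c : S4)
    (h1 : ∀ l, l ≠ j → c * tv l j = tv l j * c)
    (h2 : ∀ l, l ≠ i → l ≠ j → l ≠ k → c * tv i l = tv i l * c) :
    ∃ x y : S4, (x = 1 ∨ x = tv i j) ∧ (y = 1 ∨ y = tv k j) ∧ c = x * y := by
  have hrow : ∀ a, a ≠ j → c.1 j a = 0 := (entries hij (h1 i hij)).2.1
  have hcol : ∀ l, l ≠ j → ∀ b, b ≠ l → c.1 b l = 0 := fun l hl => (entries hl (h1 l hl)).1
  have hd : ∀ a, c.1 a a = 1 := by
    intro a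
    by_cases ha : a = j
    · rw [ha]; exact diag_one' hrow
    · exact diag_one fun b hb => hcol a ha b hb
  have h0 : ∀ a b, a ≠ b → ¬ (a = i ∧ b = j) → ¬ (a = k ∧ b = j) → c.1 a b = 0 := by
    intro a b hab h h'
    by_cases hb : b = j
    · have hbi : a ≠ j := fun ha => hab (ha.trans hb.symm)
      have hbj : a ≠ i := fun ha => h ⟨ha, hb⟩
      have hbk : a ≠ k := fun ha => h' ⟨ha, hb⟩
      exact (entries hbj.symm (h2 a hbj hbi hbk)).2.1 b hab.symm
    · exact hcol b hb a hab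
  exact ⟨_, _, ite_cases _ _, ite_cases _ _, eq_col hij hkj hik hd h0⟩

/-! ### The centraliser of `z = tv 0 3` -/

/-- the Levi factor -/
def mm : Fin 6 → S4 :=
  ![1, tv 1 2, tv 2 1, tv 1 2 * tv 2 1, tv 2 1 * tv 1 2, tv 1 2 * tv 2 1 * tv 1 2]

/-- `x` or `1` -/
def pw (g : S4) (b : Bool) : S4 := if b then g else 1

/-- the elements of `C(z)` -/
def pe (m : Fin 6) (a b c d e : Bool) : S4 :=
  pw (tv 0 3) a * pw (tv 1 3) b * pw (tv 2 3) c * mm m * pw (tv 0 1) d * pw (tv 0 2) e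

theorem pe_aux : ∀ x1 x2 x3 m1 m2 m3 m4 y1 y2 : ZMod 2, m1 * m4 - m2 * m3 ≠ 0 →
    ∃ (m : Fin 6) (a b c d e : Bool),
      !![1, x1, x2, x3; 0, m1, m2, y1; 0, m3, m4, y2; 0, 0, 0, 1] = (pe m a b c d e).1 := by
  decide +kernel

theorem exists_pe {c : S4} (h : c * tv 0 3 = tv 0 3 * c) :
    ∃ (m : Fin 6) (a b c' d e : Bool), c = pe m a b c' d e := by
  obtain ⟨h1, h2, -⟩ := entries (by decide) h
  have h00 := diag_one h1
  have h33 := diag_one' h2
  have e1 : c.1 = !![1, c.1 0 1, c.1 0 2, c.1 0 3; 0, c.1 1 1, c.1 1 2, c.1 1 3; 0, c.1 2 1, c.1 2 2, c.1 2 3;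
      0, 0, 0, 1] := by
    ext a b
    fin_cases a <;> fin_cases b <;> first
      | rfl
      | exact h00
      | exact h33
      | exact h1 _ (by decide)
      | exact h2 _ (by decide)
  have hdet : c.1 1 1 * c.1 2 2 - c.1 1 2 * c.1 2 1 ≠ 0 := by
    intro h0
    have h3 := c.2
    rw [e1, Matrix.det_succ_column_zero] at h3
    simp [Fin.sum_univ_succ, Matrix.det_fin_three, Fin.succAbove] at h3
    rw [h0] at h3
    exact absurd h3 (by decide)
  obtain ⟨m, a, b, c', d, e, h4⟩ := pe_aux (c.1 0 1) (c.1 0 2) (c.1 0 3) (c.1 1 1) (c.1 1 2) (c.1 2 1) (c.1 2 2)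
    (c.1 1 3) (c.1 2 3) hdet
  exact ⟨m, a, b, c', d, e, Subtype.ext (e1.trans h4)⟩

end Cfsg.Agent.OddHalf.D5.EightMat
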