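import Cfsg.Agent.OddHalf.D5.EightMat

/-!
# `SL₄(2)`: facts on the centraliser of a transvection (helper401)
-/

set_option autoImplicit false

namespace Cfsg.Agent.OddHalf.D5.EightMatB

open Matrix EightMat

/-- an element of order 3 of `C(z)` -/
def rho : S4 := tv 1 2 * tv 2 1

theorem rho3 : rho * rho * rho = 1 := by decide +kernel

theorem rho_ne : rho ≠ 1 := by decide +kernel

/-- the third element -/
def cc : S4 := tv 0 2 * tv 1 3 * tv 0 3

theorem p3_aux : ∀ (m : Fin 6) (a b c d e : Bool),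
    pe m a b c d e * pe m a b c d e = 1 → pe m a b c d e * tv 1 2 = tv 1 2 * pe m a b c d e →
    pe m a b c d e * (rho * pe m a b c d e * (rho * rho)) * ((rho * rho) * pe m a b c d e * rho) = 1 →
    pe m a b c d e = 1 ∨ pe m a b c d e = tv 0 2 ∨ pe m a b c d e = tv 1 3 ∨ pe m a b c d e = cc := by
  decide +kernel

/-- the `ρ`-modules -/
theorem p3 {p : S4} (hz : p * tv 0 3 = tv 0 3 * p) (h2 : p * p = 1) (hs : p * tv 1 2 = tv 1 2 * p)
    (h3 : p * (rho * p * (rho * rho)) * ((rho * rho) * p * rho) = 1) :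
    p = 1 ∨ p = tv 0 2 ∨ p = tv 1 3 ∨ p = cc := by
  obtain ⟨m, a, b, c, d, e, rfl⟩ := exists_pe hz
  exact p3_aux m a b c d e h2 hs h3

theorem p2_aux : ∀ (m : Fin 6) (a b c d e : Bool),
    pe m a b c d e * rho = rho * pe m a b c d e →
    ∃ (f g : Bool), pe m a b c d e = pw (tv 0 3) f * pw rho g ∨ pe m a b c d e = pw (tv 0 3) f * (rho * rho) := by
  decide +kernel

/-- the centraliser of `ρ` in `C(z)` -/
theorem p2 {p : S4} (hz : p * tv 0 3 = tv 0 3 * p) (h : p * rho = rho * p) :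
    ∃ z r : S4, (z = 1 ∨ z = tv 0 3) ∧ (r = 1 ∨ r = rho ∨ r = rho * rho) ∧ p = z * r := by
  obtain ⟨m, a, b, c, d, e, rfl⟩ := exists_pe hz
  obtain ⟨f, g, h1 | h1⟩ := p2_aux m a b c d e h
  · refine ⟨_, _, ?_, ?_, h1⟩
    · cases f
      · exact Or.inl rfl
      · exact Or.inr rfl
    · cases g
      · exact Or.inl rfl
      · exact Or.inr (Or.inl rfl)
  · refine ⟨_, _, ?_, Or.inr (Or.inr rfl), h1⟩
    cases f
    · exact Or.inl rfl
    · exact Or.inr rfl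

theorem p1_aux : ∀ (m : Fin 6) (a b c d e : Bool),
    pe m a b c d e * pe m a b c d e * pe m a b c d e = 1 → pe m a b c d e ≠ 1 →
    ∃ (m' : Fin 2) (a' b' c' d' e' : Bool), pe (if m' = 0 then 0 else 1) a' b' c' d' e' * pe m a b c d e =
      rho * pe (if m' = 0 then 0 else 1) a' b' c' d' e' := by
  decide +kernel

theorem pe_comm : ∀ (m : Fin 6) (a b c d e : Bool),
    pe m a b c d e * tv 0 3 = tv 0 3 * pe m a b c d e := by
  decide +kernel

/-- elements of order 3 in `C(z)` are conjugate to `ρ` -/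
theorem p1 {p : S4} (hz : p * tv 0 3 = tv 0 3 * p) (h3 : p * p * p = 1) (h1 : p ≠ 1) :
    ∃ h : S4, h * tv 0 3 = tv 0 3 * h ∧ h * p = rho * h := by
  obtain ⟨m, a, b, c, d, e, rfl⟩ := exists_pe hz
  obtain ⟨m', a', b', c', d', e', h4⟩ := p1_aux m a b c d e h3 h1
  exact ⟨_, pe_comm _ _ _ _ _ _, h4⟩

theorem s_comm : tv 1 0 * tv 0 2 = tv 1 2 * (tv 0 2 * tv 1 0) ∧ tv 1 0 * tv 1 2 = tv 1 2 * tv 1 0 ∧
    tv 0 2 * tv 1 2 = tv 1 2 * tv 0 2 := by decide +kernel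

theorem sz_comm : (tv 3 2 * tv 0 1) * (tv 1 3 * tv 0 3) =
      (tv 1 2 * tv 0 3) * ((tv 1 3 * tv 0 3) * (tv 3 2 * tv 0 1)) ∧
    (tv 3 2 * tv 0 1) * (tv 1 2 * tv 0 3) = (tv 1 2 * tv 0 3) * (tv 3 2 * tv 0 1) ∧
    (tv 1 3 * tv 0 3) * (tv 1 2 * tv 0 3) = (tv 1 2 * tv 0 3) * (tv 1 3 * tv 0 3) := by decide +kernel

/-- the permutation matrix of `(a b)` -/
def sw (a b : Fin 4) : S4 := tv a b * tv b a * tv a b

theorem conj_aux : ∀ i j : Fin 4, i ≠ j →
    (sw (if i = 3 then 0 else 3) j * sw 0 i) * tv 0 3 = tv i j * (sw (if i = 3 then 0 else 3) j * sw 0 i) := by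
  decide +kernel

/-- `z` is conjugate to every transvection -/
theorem conj_tv (i j : Fin 4) (hij : i ≠ j) : ∃ k : S4, k * tv 0 3 = tv i j * k :=
  Exists.intro (sw (if i = 3 then 0 else 3) j * sw 0 i) (conj_aux i j hij)

/-! ### An invariant of pairs of transvections: common centre -/

/-- `(x - 1) X (y - 1) ∈ {0, y - 1}` for all `X` -/
def CP (x y : S4) : Prop := ∀ X : Matrix (Fin 4) (Fin 4) (ZMod 2),
  (x.1 - 1) * X * (y.1 - 1) = 0 ∨ (x.1 - 1) * X * (y.1 - 1) = y.1 - 1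

theorem val_mul (a b : S4) : (a * b).1 = a.1 * b.1 := rfl

theorem val_one : (1 : S4).1 = 1 := rfl

theorem CP_conj {k x y x' y' : S4} (h : CP x y) (hx : k * x = x' * k) (hy : k * y = y' * k) : CP x' y' := by
  have hk : k.1 * (k⁻¹).1 = 1 := by
    rw [← val_mul, mul_inv_cancel, val_one]
  have hc : ∀ u u' : S4, k * u = u' * k → u'.1 - 1 = k.1 * (u.1 - 1) * (k⁻¹).1 := by
    intro u u' h1
    have h2 : k.1 * u.1 = u'.1 * k.1 := by
      rw [← val_mul, h1, val_mul]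
    rw [mul_sub, h2, mul_one, sub_mul, hk, mul_assoc, hk, mul_one]
  intro X
  rw [hc x x' hx, hc y y' hy]
  have e : k.1 * (x.1 - 1) * (k⁻¹).1 * X * (k.1 * (y.1 - 1) * (k⁻¹).1) =
      k.1 * ((x.1 - 1) * ((k⁻¹).1 * X * k.1) * (y.1 - 1)) * (k⁻¹).1 := by
    simp only [mul_assoc]
  rw [e]
  rcases h ((k⁻¹).1 * X * k.1) with h1 | h1
  · left; rw [h1, mul_zero, zero_mul]
  · right; rw [h1]

theorem CP_row {i j l : Fin 4} (hj : i ≠ j) (hl : i ≠ l) : CP (tv i j) (tv i l) := by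
  intro X
  rw [coe_tv hj, coe_tv hl, add_sub_cancel_left, add_sub_cancel_left, Matrix.single_mul_mul_single, mul_one, one_mul]
  rcases two_cases (X j i) with h | h
  · left; rw [h, Matrix.single_zero]
  · right; rw [h]

theorem not_CP_1 : ¬ CP (tv 1 2 * tv 1 3) (tv 0 2 * tv 0 3 * tv 1 2 * tv 1 3) := by
  intro h
  have h1 := h (Matrix.single 2 0 1)
  revert h1
  decide +kernel

theorem not_CP_2 : ¬ CP (tv 0 3) (tv 1 3) := by
  intro h
  have h1 := h (Matrix.single 3 1 1)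
  revert h1
  decide +kernel

theorem not_CP_3 : ¬ CP (tv 0 2 * tv 0 3 * tv 1 3) (tv 0 2 * tv 0 3 * tv 1 3) := by
  intro h
  have h1 := h (Matrix.single 2 0 1)
  revert h1
  decide +kernel

theorem not_CP_4 : ¬ CP (tv 0 2 * tv 1 3) (tv 0 2 * tv 1 3) := by
  intro h
  have h1 := h (Matrix.single 2 0 1)
  revert h1
  decide +kernel

theorem not_CP_5 : ¬ CP (tv 0 3 * tv 1 2) (tv 0 3 * tv 1 2) := by
  intro h
  have h1 := h (Matrix.single 2 1 1)
  revert h1
  decide +kernel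

theorem not_CP_6 : ¬ CP (tv 0 3 * tv 1 2 * tv 1 3) (tv 0 3 * tv 1 2 * tv 1 3) := by
  intro h
  have h1 := h (Matrix.single 2 1 1)
  revert h1
  decide +kernel

end Cfsg.Agent.OddHalf.D5.EightMatB
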