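import Cfsg.Agent.OddHalf.D5.ElemNorm

/-!
# ODD D5, [O1]: action on the standard group (helper59)
-/

set_option autoImplicit false

namespace Cfsg.Agent.OddHalf.D5.Elem

open Equiv Subgroup

section perm

variable {β : Type*} {k : ℕ}

theorem Qe_eq_via (e : Fin k × Fin 4 ↪ β) (v : Fin k → Fin 4) :
    Qe e v = Perm.viaEmbeddingHom e (Equiv.prodCongrRight fun i => κ (v i)) := rfl

theorem via_conj (e : Fin k × Fin 4 ↪ β) {P : Perm (Fin k × Fin 4)} {v v' : Fin k → Fin 4}
    (hP : ∀ p : Fin k × Fin 4, P (p.1, κ (v p.1) p.2) = ((P p).1, κ (v' (P p).1) (P p).2)) :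
    Perm.viaEmbeddingHom e P * Qe e v * (Perm.viaEmbeddingHom e P)⁻¹ = Qe e v' := by
  rw [Qe_eq_via, Qe_eq_via, mul_inv_eq_iff_eq_mul, ← map_mul, ← map_mul]
  congr 1
  exact Equiv.ext hP

theorem via_off {γ : Type*} (e : γ ↪ β) (P : Perm γ) {x : β} (hx : x ∉ Set.range e) :
    Perm.viaEmbeddingHom e P x = x := Perm.viaEmbedding_apply_of_notMem _ _ _ hx

/-- (P1): permutations commuting with the four-groups -/
theorem exists_eq_on (e : Fin k × Fin 4 ↪ β) {f : Perm β}
    (hf : ∀ (i : Fin k) (a : Fin 4), f * Qe e (Function.update (fun _ => 0) i a) =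
      Qe e (Function.update (fun _ => 0) i a) * f) :
    ∃ c : Fin k → Fin 4, ∀ x ∈ Set.range e, f x = Qe e c x := by
  have h0 : ∀ (i : Fin k) (a : Fin 4) (w : Fin 4),
      Qe e (Function.update (fun _ => 0) i a) (e (i, w)) = e (i, κ a w) := by
    intro i a w
    rw [Qe_apply, Function.update_self]
  have h1 : ∀ i : Fin k, ∃ c : Fin 4, f (e (i, 0)) = e (i, c) := by
    intro i
    have h2 : Qe e (Function.update (fun _ => 0) i 1) (f (e (i, 0))) ≠ f (e (i, 0)) := by
      intro h3
      have h4 : f (e (i, κ 1 0)) = f (e (i, 0)) := by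
        rw [← h0 i 1 0, ← Perm.mul_apply, hf, Perm.mul_apply, h3]
      have h5 := (Prod.ext_iff.1 (e.injective (f.injective h4))).2
      exact absurd h5 (by decide : ¬ κ 1 0 = 0)
    by_contra hno
    apply h2
    by_cases hx : f (e (i, 0)) ∈ Set.range e
    · obtain ⟨⟨i', w⟩, hw⟩ := hx
      rw [← hw, Qe_apply]
      by_cases hi : i' = i
      · subst hi
        exact (hno ⟨w, hw.symm⟩).elim
      · rw [Function.update_of_ne hi, κ_zero']
        rfl
    · exact Qe_off e _ hx
  choose c hc using h1
  refine ⟨c, ?_⟩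
  rintro _ ⟨⟨i, w⟩, rfl⟩
  rw [Qe_apply]
  calc f (e (i, w)) = (f * Qe e (Function.update (fun _ => 0) i w)) (e (i, 0)) := by
        rw [Perm.mul_apply, h0, κ_zero]
    _ = e (i, κ w (c i)) := by rw [hf, Perm.mul_apply, hc, h0]
    _ = e (i, κ (c i) w) := by rw [κ_comm]

/-- (P2): permutations centralizing the alternating group on the remaining letters -/
theorem sign_eq_one [Fintype β] [DecidableEq β] {S : Set β} {f : Perm β} (hf : ∀ x ∈ S, f x = x)
    (hc : ∀ b : Perm β, Perm.sign b = 1 → (∀ x ∈ S, b x = x) → f * b = b * f)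
    (h2 : (Sᶜ).ncard ≠ 2) : Perm.sign f = 1 := by
  by_cases h1 : f = 1
  · rw [h1, Perm.sign_one]
  obtain ⟨x, hx⟩ : ∃ x, f x ≠ x := by
    by_contra hno
    push Not at hno
    exact h1 (Perm.ext hno)
  have hxS : x ∉ S := fun h => hx (hf x h)
  have hyS : f x ∉ S := fun h => hx (f.injective (hf _ h))
  set y := f x with hy
  have hcard : 2 < (Sᶜ).ncard := by
    have h3 : ({x, y} : Set β) ⊆ Sᶜ := by
      rintro z (rfl | rfl)
      · exact hxS
      · exact hyS
    have h4 := Set.ncard_le_ncard h3 (Set.toFinite _)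
    rw [Set.ncard_pair (fun h => hx h.symm)] at h4
    omega
  -- a third letter
  have hthird : ∃ z, z ∉ S ∧ z ≠ x ∧ z ≠ y := by
    by_contra hno
    push Not at hno
    have h3 : Sᶜ ⊆ ({x, y} : Set β) := by
      intro z hz
      by_cases hzx : z = x
      · exact Or.inl hzx
      · exact Or.inr (hno z hz hzx)
    have h4 := Set.ncard_le_ncard h3 (Set.toFinite _)
    rw [Set.ncard_pair (fun h => hx h.symm)] at h4
    omega
  -- the action on three letters
  have key : ∀ z, z ∉ S → z ≠ x → z ≠ y → f y = z ∧ f z = x := by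
    intro z hz hzx hzy
    have hb : Perm.sign (swap x y * swap y z) = 1 := by
      rw [Perm.sign_mul, Perm.sign_swap (fun h => hx h.symm), Perm.sign_swap hzy.symm]
      decide
    have hbS : ∀ u ∈ S, (swap x y * swap y z) u = u := by
      intro u hu
      rw [Perm.mul_apply, swap_apply_of_ne_of_ne (a := y) (b := z), swap_apply_of_ne_of_ne]
      · rintro rfl; exact hxS hu
      · rintro rfl; exact hyS hu
      · rintro rfl; exact hyS hu
      · rintro rfl; exact hz hu
    have hcom := hc _ hb hbS
    have e1 : (swap x y * swap y z) x = y := by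
      rw [Perm.mul_apply, swap_apply_of_ne_of_ne (fun h => hx h.symm) hzx.symm, swap_apply_left]
    have e2 : (swap x y * swap y z) y = z := by
      rw [Perm.mul_apply, swap_apply_left, swap_apply_of_ne_of_ne hzx hzy]
    have e3 : (swap x y * swap y z) z = x := by
      rw [Perm.mul_apply, swap_apply_right, swap_apply_right]
    have hfy : f y = z := by
      calc f y = (f * (swap x y * swap y z)) x := by rw [Perm.mul_apply f, e1]
        _ = (swap x y * swap y z) (f x) := by rw [hcom, Perm.mul_apply _ f]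
        _ = z := by rw [← hy, e2]
    refine ⟨hfy, ?_⟩
    calc f z = (f * (swap x y * swap y z)) y := by rw [Perm.mul_apply f, e2]
      _ = (swap x y * swap y z) (f y) := by rw [hcom, Perm.mul_apply _ f]
      _ = x := by rw [hfy, e3]
  obtain ⟨z, hz, hzx, hzy⟩ := hthird
  obtain ⟨k1, k2⟩ := key z hz hzx hzy
  have hall : f = swap x y * swap y z := by
    refine Perm.ext fun u => ?_
    by_cases hux : u = x
    · rw [hux, Perm.mul_apply, swap_apply_of_ne_of_ne (fun h => hx h.symm) hzx.symm,
        swap_apply_left]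
    · by_cases huy : u = y
      · rw [huy, Perm.mul_apply, swap_apply_left, swap_apply_of_ne_of_ne hzx hzy, k1]
      · by_cases huz : u = z
        · rw [huz, Perm.mul_apply, swap_apply_right, swap_apply_right, k2]
        · rw [Perm.mul_apply, swap_apply_of_ne_of_ne huy huz, swap_apply_of_ne_of_ne hux huy]
          by_cases huS : u ∈ S
          · exact hf u huS
          · exact absurd ((key u huS hux huy).1.symm.trans k1) huz
  rw [hall, Perm.sign_mul, Perm.sign_swap (fun h => hx h.symm), Perm.sign_swap hzy.symm]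
  decide

end perm

end Cfsg.Agent.OddHalf.D5.Elem
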