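import Mathlib

/-!
# ODD D5, [O1]: elementary abelian 2-groups of permutations (helper59)

`mv F` = moved points of `F ≤ Perm α`; `fx F B` = pointwise stabilizer of `B` in `F`; `orb F x` = orbit.
`bound`: `|F|² ≤ |fx F B|² · 2^|mv F ∩ B|` for `F`-invariant `B` and `F` of exponent two.
-/

set_option autoImplicit false

namespace Cfsg.Agent.OddHalf.D5.Elem

open Equiv Subgroup

variable {α : Type*}

/-- moved points -/
def mv (F : Subgroup (Perm α)) : Set α := {x | ∃ f ∈ F, f x ≠ x}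

/-- orbit -/
def orb (F : Subgroup (Perm α)) (x : α) : Set α := {y | ∃ f ∈ F, f x = y}

/-- pointwise stabilizer -/
def fx (F : Subgroup (Perm α)) (B : Set α) : Subgroup (Perm α) where
  carrier := {f | f ∈ F ∧ ∀ x ∈ B, f x = x}
  mul_mem' := by
    rintro a b ⟨ha, ha'⟩ ⟨hb, hb'⟩
    exact ⟨mul_mem ha hb, fun x hx => by rw [Perm.mul_apply, hb' x hx, ha' x hx]⟩
  one_mem' := ⟨one_mem _, fun _ _ => rfl⟩
  inv_mem' := by
    rintro a ⟨ha, ha'⟩
    exact ⟨inv_mem ha, fun x hx => by rw [Perm.inv_eq_iff_eq]; exact (ha' x hx).symm⟩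

theorem inv_self (f : Perm α) (x : α) : f⁻¹ (f x) = x := f.symm_apply_apply x

theorem self_inv (f : Perm α) (x : α) : f (f⁻¹ x) = x := f.apply_symm_apply x

theorem mem_fx {F : Subgroup (Perm α)} {B : Set α} {f : Perm α} :
    f ∈ fx F B ↔ f ∈ F ∧ ∀ x ∈ B, f x = x := Iff.rfl

theorem mem_mv {F : Subgroup (Perm α)} {x : α} : x ∈ mv F ↔ ∃ f ∈ F, f x ≠ x := Iff.rfl

theorem mem_orb {F : Subgroup (Perm α)} {x y : α} : y ∈ orb F x ↔ ∃ f ∈ F, f x = y := Iff.rfl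

theorem fx_le (F : Subgroup (Perm α)) (B : Set α) : fx F B ≤ F := fun _ h => h.1

theorem self_mem_orb (F : Subgroup (Perm α)) (x : α) : x ∈ orb F x := ⟨1, one_mem _, rfl⟩

theorem mv_mono {F F' : Subgroup (Perm α)} (h : F ≤ F') : mv F ⊆ mv F' := by
  rintro x ⟨f, hf, hx⟩
  exact ⟨f, h hf, hx⟩

theorem comm_of_sq {G : Type*} [Group G] {F : Subgroup G} (h2 : ∀ f ∈ F, f * f = 1) :
    ∀ f ∈ F, ∀ g ∈ F, f * g = g * f := by
  intro f hf g hg
  have h1 : f⁻¹ = f := inv_eq_of_mul_eq_one_left (h2 f hf)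
  have h3 : g⁻¹ = g := inv_eq_of_mul_eq_one_left (h2 g hg)
  have h4 : (f * g)⁻¹ = f * g := inv_eq_of_mul_eq_one_left (h2 _ (mul_mem hf hg))
  rw [← h4, mul_inv_rev, h1, h3]

/-- orbit-stabilizer -/
theorem card_eq (F : Subgroup (Perm α)) (x : α) :
    Nat.card F = (orb F x).ncard * Nat.card (fx F {x}) := by
  have h1 := (MulAction.stabilizer F x).card_mul_index
  rw [MulAction.index_stabilizer] at h1
  have h2 : (MulAction.orbit F x) = orb F x := by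
    ext y
    constructor
    · rintro ⟨f, rfl⟩
      exact ⟨f, f.2, rfl⟩
    · rintro ⟨f, hf, rfl⟩
      exact ⟨⟨f, hf⟩, rfl⟩
  have h3 : Nat.card (MulAction.stabilizer F x) = Nat.card (fx F {x}) := by
    refine Nat.card_congr ⟨fun f => ⟨f.1.1, f.1.2, ?_⟩, fun f => ⟨⟨f.1, f.2.1⟩, ?_⟩,
      fun _ => rfl, fun _ => rfl⟩
    · intro y hy
      rw [Set.mem_singleton_iff.1 hy]
      exact f.2
    · exact f.2.2 x rfl
  rw [← h1, h2, h3, mul_comm]

theorem two_mul_le (a : ℕ) : 2 * a ≤ 2 ^ a := by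
  induction a with
  | zero => simp
  | succ n ih =>
    rcases Nat.eq_zero_or_pos n with rfl | h
    · simp
    · rw [pow_succ]
      omega

theorem isPGroup_of_sq {G : Type*} [Group G] {F : Subgroup G} (h2 : ∀ f ∈ F, f * f = 1) :
    IsPGroup 2 F := fun f => ⟨1, by
  rw [pow_one, pow_two]
  exact Subtype.ext (h2 f f.2)⟩

theorem exists_card_eq {G : Type*} [Group G] {F : Subgroup G} [Finite F] (h2 : ∀ f ∈ F, f * f = 1) :
    ∃ a, Nat.card F = 2 ^ a :=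
  haveI : Fact (Nat.Prime 2) := ⟨Nat.prime_two⟩
  (IsPGroup.iff_card).1 (isPGroup_of_sq h2)

theorem exists_pow_orb [Finite α] {F : Subgroup (Perm α)} (h2 : ∀ f ∈ F, f * f = 1) (x : α) :
    ∃ a, (orb F x).ncard = 2 ^ a := by
  obtain ⟨b, hb⟩ := exists_card_eq h2
  have h1 : (orb F x).ncard ∣ 2 ^ b := by
    rw [← hb, card_eq F x]
    exact dvd_mul_right _ _
  obtain ⟨a, -, ha⟩ := (Nat.dvd_prime_pow Nat.prime_two).1 h1
  exact ⟨a, ha⟩

theorem sq_orb_le [Finite α] {F : Subgroup (Perm α)} (h2 : ∀ f ∈ F, f * f = 1) (x : α) :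
    (orb F x).ncard ^ 2 ≤ 2 ^ (orb F x).ncard := by
  obtain ⟨a, ha⟩ := exists_pow_orb h2 x
  rw [ha, ← pow_mul, mul_comm]
  exact Nat.pow_le_pow_right (by norm_num) (two_mul_le a)

theorem orb_subset_mv {F : Subgroup (Perm α)} (h2 : ∀ f ∈ F, f * f = 1) {x : α} (hx : x ∈ mv F) :
    orb F x ⊆ mv F := by
  rintro _ ⟨f, hf, rfl⟩
  obtain ⟨g, hg, hgx⟩ := hx
  refine ⟨g, hg, fun h => hgx ?_⟩
  have h1 : f (g x) = f x := by
    rw [← Perm.mul_apply, comm_of_sq h2 f hf g hg, Perm.mul_apply, h]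
  exact f.injective h1

theorem disjoint_mv_fx {F : Subgroup (Perm α)} (h2 : ∀ f ∈ F, f * f = 1) {x y : α}
    (hy : y ∈ orb F x) : y ∉ mv (fx F {x}) := by
  obtain ⟨f, hf, rfl⟩ := hy
  rintro ⟨g, ⟨hg, hgx⟩, h⟩
  apply h
  rw [← Perm.mul_apply, comm_of_sq h2 g hg f hf, Perm.mul_apply, hgx x rfl]

/-- the rank bound -/
theorem bound [Finite α] (B : Set α) (m : ℕ) : ∀ (F : Subgroup (Perm α)) (_ : ∀ f ∈ F, f * f = 1)
    (_ : ∀ f ∈ F, ∀ x ∈ B, f x ∈ B) (_ : (mv F ∩ B).ncard = m),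
    (Nat.card F) ^ 2 ≤ (Nat.card (fx F B)) ^ 2 * 2 ^ m := by
  induction m using Nat.strong_induction_on with
  | _ m ih =>
    intro F h2 hB hm
    by_cases hemp : (mv F ∩ B) = ∅
    · have h1 : fx F B = F := by
        refine le_antisymm (fx_le F B) fun f hf => ⟨hf, fun x hx => ?_⟩
        by_contra hne
        have : x ∈ mv F ∩ B := ⟨⟨f, hf, hne⟩, hx⟩
        rw [hemp] at this
        exact this
      rw [h1]
      exact Nat.le_mul_of_pos_right _ (by positivity)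
    · obtain ⟨x, hx, hxB⟩ := Set.nonempty_iff_ne_empty.2 hemp
      have hO : orb F x ⊆ mv F ∩ B := by
        refine fun y hy => ⟨orb_subset_mv h2 hx hy, ?_⟩
        obtain ⟨f, hf, rfl⟩ := hy
        exact hB f hf x hxB
      have hsub : mv (fx F {x}) ∩ B ⊆ (mv F ∩ B) \ orb F x := fun y hy =>
        ⟨⟨mv_mono (fx_le F _) hy.1, hy.2⟩, fun h => disjoint_mv_fx h2 h hy.1⟩
      have hOpos : 0 < (orb F x).ncard := (Set.ncard_pos (Set.toFinite _)).2 ⟨x, self_mem_orb F x⟩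
      have hc : ((mv F ∩ B) \ orb F x).ncard + (orb F x).ncard = m := by
        rw [← hm]
        exact Set.ncard_sdiff_add_ncard_of_subset hO (Set.toFinite _)
      have hc2 : (mv (fx F {x}) ∩ B).ncard ≤ ((mv F ∩ B) \ orb F x).ncard :=
        Set.ncard_le_ncard hsub (Set.toFinite _)
      have h3 := ih (mv (fx F {x}) ∩ B).ncard (by omega) (fx F {x})
        (fun f hf => h2 f hf.1) (fun f hf => hB f hf.1) rfl
      have h4 : fx (fx F {x}) B = fx F B := by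
        ext f
        constructor
        · rintro ⟨⟨h5, -⟩, h6⟩
          exact ⟨h5, h6⟩
        · rintro ⟨h5, h6⟩
          exact ⟨⟨h5, fun y hy => by rw [Set.mem_singleton_iff.1 hy]; exact h6 x hxB⟩, h6⟩
      rw [h4] at h3
      have h5 := sq_orb_le h2 x
      calc (Nat.card F) ^ 2 = (orb F x).ncard ^ 2 * (Nat.card (fx F {x})) ^ 2 := by
            rw [card_eq F x]; ring
        _ ≤ 2 ^ (orb F x).ncard *
            ((Nat.card (fx F B)) ^ 2 * 2 ^ (mv (fx F {x}) ∩ B).ncard) :=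
            Nat.mul_le_mul h5 h3
        _ = (Nat.card (fx F B)) ^ 2 * 2 ^ ((orb F x).ncard + (mv (fx F {x}) ∩ B).ncard) := by
            rw [pow_add]; ring
        _ ≤ (Nat.card (fx F B)) ^ 2 * 2 ^ m :=
            Nat.mul_le_mul_left _ (Nat.pow_le_pow_right (by norm_num) (by omega))

theorem card_fx_univ (F : Subgroup (Perm α)) : Nat.card (fx F Set.univ) = 1 := by
  have : fx F Set.univ = ⊥ := by
    rw [eq_bot_iff]
    rintro f ⟨-, hf⟩
    exact Subgroup.mem_bot.2 (Perm.ext fun x => hf x trivial)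
  rw [this, Subgroup.card_bot]

/-- `|F|² ≤ 2^|mv F|` -/
theorem sq_card_le [Finite α] {F : Subgroup (Perm α)} (h2 : ∀ f ∈ F, f * f = 1) :
    (Nat.card F) ^ 2 ≤ 2 ^ (mv F).ncard := by
  have h := bound Set.univ (mv F ∩ Set.univ).ncard F h2 (fun _ _ _ _ => trivial) rfl
  rwa [card_fx_univ, one_pow, one_mul, Set.inter_univ] at h

/-- the points of `L F x` -/
def sat (F L : Subgroup (Perm α)) (x : α) : Set α := {y | ∃ l ∈ L, ∃ f ∈ F, l (f x) = y}

/-- `l ∈ L` preserving the `F`-orbit of `x` -/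
def Nx (F L : Subgroup (Perm α)) (hc : ∀ l ∈ L, ∀ f ∈ F, l * f = f * l) (x : α) :
    Subgroup (Perm α) where
  carrier := {l | l ∈ L ∧ ∃ f ∈ F, l x = f x}
  mul_mem' := by
    rintro a b ⟨ha, f, hf, h1⟩ ⟨hb, g, hg, h2⟩
    refine ⟨mul_mem ha hb, g * f, mul_mem hg hf, ?_⟩
    rw [Perm.mul_apply, h2, ← Perm.mul_apply, hc a ha g hg, Perm.mul_apply, h1, Perm.mul_apply]
  one_mem' := ⟨one_mem _, 1, one_mem _, rfl⟩
  inv_mem' := by
    rintro a ⟨ha, f, hf, h1⟩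
    refine ⟨inv_mem ha, f⁻¹, inv_mem hf, ?_⟩
    rw [Perm.inv_eq_iff_eq, ← Perm.mul_apply, hc a ha _ (inv_mem hf), Perm.mul_apply, h1,
      inv_self]

theorem fix_sat {F L : Subgroup (Perm α)} (h2 : ∀ f ∈ F, f * f = 1)
    (hc : ∀ l ∈ L, ∀ f ∈ F, l * f = f * l) {x y : α} (hy : y ∈ sat F L x) {g : Perm α}
    (hg : g ∈ F) : g y = y ↔ g x = x := by
  obtain ⟨l, hl, f, hf, rfl⟩ := hy
  have h1 : g (l (f x)) = l (f (g x)) := by
    have h3 : g * (l * f) = l * f * g := by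
      rw [← mul_assoc, ← hc l hl g hg, mul_assoc, comm_of_sq h2 g hg f hf, mul_assoc]
    calc g (l (f x)) = (g * (l * f)) x := rfl
      _ = (l * f * g) x := by rw [h3]
      _ = l (f (g x)) := rfl
  rw [h1]
  constructor
  · intro h
    exact f.injective (l.injective h)
  · intro h
    rw [h]

theorem sat_subset_mv {F L : Subgroup (Perm α)} (h2 : ∀ f ∈ F, f * f = 1)
    (hc : ∀ l ∈ L, ∀ f ∈ F, l * f = f * l) {x : α} (hx : x ∈ mv F) : sat F L x ⊆ mv F := by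
  intro y hy
  obtain ⟨g, hg, hgx⟩ := hx
  exact ⟨g, hg, fun h => hgx ((fix_sat h2 hc hy hg).1 h)⟩

theorem sat_inv {F L : Subgroup (Perm α)} (hc : ∀ l ∈ L, ∀ f ∈ F, l * f = f * l) {x y : α}
    (hy : y ∈ sat F L x) {g : Perm α} (hg : g ∈ F) : g y ∈ sat F L x := by
  obtain ⟨l, hl, f, hf, rfl⟩ := hy
  refine ⟨l, hl, g * f, mul_mem hg hf, ?_⟩
  have h3 : l * (g * f) = g * (l * f) := by rw [← mul_assoc, hc l hl g hg, mul_assoc]
  calc l ((g * f) x) = (l * (g * f)) x := rfl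
    _ = (g * (l * f)) x := by rw [h3]
    _ = g (l (f x)) := rfl

theorem card_fx_compl_le [Finite α] {F L : Subgroup (Perm α)} (h2 : ∀ f ∈ F, f * f = 1)
    (hc : ∀ l ∈ L, ∀ f ∈ F, l * f = f * l) (x : α) :
    Nat.card (fx F (sat F L x)ᶜ) ≤ (orb F x).ncard := by
  rw [← Nat.card_coe_set_eq]
  refine Nat.card_le_card_of_injective
    (fun f : fx F (sat F L x)ᶜ => (⟨f.1 x, f.1, f.2.1, rfl⟩ : orb F x)) ?_
  intro f g hfg
  have h1 : f.1 x = g.1 x := congrArg Subtype.val hfg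
  have hgf : g.1⁻¹ * f.1 ∈ F := mul_mem (inv_mem g.2.1) f.2.1
  have h3 : (g.1⁻¹ * f.1) x = x := by
    rw [Perm.mul_apply, h1, inv_self]
  have h4 : g.1⁻¹ * f.1 = 1 := by
    refine Perm.ext fun y => ?_
    rw [Perm.one_apply]
    by_cases hy : y ∈ sat F L x
    · exact (fix_sat h2 hc hy hgf).2 h3
    · rw [Perm.mul_apply, f.2.2 y hy, Perm.inv_eq_iff_eq]
      exact (g.2.2 y hy).symm
  exact Subtype.ext (inv_mul_eq_one.1 h4).symm

/-- Lemma K: `|F|² 2^|L F x| ≤ |F x|² 2^|mv F|` -/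
theorem key [Finite α] {F L : Subgroup (Perm α)} (h2 : ∀ f ∈ F, f * f = 1)
    (hc : ∀ l ∈ L, ∀ f ∈ F, l * f = f * l) {x : α} (hx : x ∈ mv F) :
    (Nat.card F) ^ 2 * 2 ^ (sat F L x).ncard ≤
      Nat.card (fx F (sat F L x)ᶜ) ^ 2 * 2 ^ (mv F).ncard := by
  have h := bound (sat F L x)ᶜ (mv F ∩ (sat F L x)ᶜ).ncard F h2 (fun f hf y hy h => hy (by
    have h1 := sat_inv hc h (inv_mem hf)
    rwa [inv_self] at h1)) rfl
  have h3 : (mv F ∩ (sat F L x)ᶜ).ncard + (sat F L x).ncard = (mv F).ncard := by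
    rw [← Set.sdiff_eq]
    exact Set.ncard_sdiff_add_ncard_of_subset (sat_subset_mv h2 hc hx) (Set.toFinite _)
  calc (Nat.card F) ^ 2 * 2 ^ (sat F L x).ncard
      ≤ (Nat.card (fx F (sat F L x)ᶜ) ^ 2 * 2 ^ (mv F ∩ (sat F L x)ᶜ).ncard) *
        2 ^ (sat F L x).ncard := Nat.mul_le_mul_right _ h
    _ = Nat.card (fx F (sat F L x)ᶜ) ^ 2 * 2 ^ (mv F).ncard := by
      rw [← h3, pow_add]; ring

/-- `|L : N_x| |F x| ≤ |L F x|` -/
theorem le_card_sat [Finite α] {F L : Subgroup (Perm α)} (h2 : ∀ f ∈ F, f * f = 1) (hc : ∀ l ∈ L, ∀ f ∈ F, l * f = f * l)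
    (x : α) : (Nx F L hc x).relIndex L * (orb F x).ncard ≤ (sat F L x).ncard := by
  rw [← Nat.card_coe_set_eq (orb F x), ← Nat.card_coe_set_eq (sat F L x), Subgroup.relIndex,
    Subgroup.index, ← Nat.card_prod]
  refine Nat.card_le_card_of_injective
    (fun p : (L ⧸ (Nx F L hc x).subgroupOf L) × orb F x =>
      (⟨(p.1.out : Perm α) p.2.1, by
        obtain ⟨f, hf, h⟩ := p.2.2
        exact ⟨_, p.1.out.2, f, hf, by rw [h]⟩⟩ : sat F L x)) ?_
  rintro ⟨q, ⟨y, f, hf, hy⟩⟩ ⟨q', ⟨y', f', hf', hy'⟩⟩ h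
  have h1 : (q.out : Perm α) y = (q'.out : Perm α) y' := congrArg Subtype.val h
  have h3 : q = q' := by
    rw [← q.out_eq', ← q'.out_eq', QuotientGroup.eq, Subgroup.mem_subgroupOf]
    refine ⟨(q.out⁻¹ * q'.out).2, f * f'⁻¹, mul_mem hf (inv_mem hf'), ?_⟩
    have h4 : ((q.out⁻¹ * q'.out : L) : Perm α) y' = y := by
      rw [Subgroup.coe_mul, Perm.mul_apply, ← h1, Subgroup.coe_inv, inv_self]
    have h5 : x = f'⁻¹ y' := by rw [← hy', inv_self]
    have h6 := hc _ (q.out⁻¹ * q'.out).2 _ (inv_mem hf')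
    calc ((q.out⁻¹ * q'.out : L) : Perm α) x
        = (((q.out⁻¹ * q'.out : L) : Perm α) * f'⁻¹) y' := by rw [Perm.mul_apply, ← h5]
      _ = f'⁻¹ y := by rw [h6, Perm.mul_apply, h4]
      _ = (f * f'⁻¹) x := by
        rw [← hy, ← Perm.mul_apply, comm_of_sq h2 _ (inv_mem hf') _ hf]
  subst h3
  have h4 : y = y' := (q.out : Perm α).injective h1
  subst h4
  rfl

end Cfsg.Agent.OddHalf.D5.Elem
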