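import Cfsg.Agent.OddHalf.D5.ElemAlt

/-!
# ODD D5: large elementary abelian 2-groups in the centralizer of an involution of `S_n` (helper684)

`exists_elem`: for `α ∈ S_n` with `α² = 1` there is `F ≤ A_n`, elementary abelian, centralizing `α`, with
`2 |F| ≥ 2 ^ (n / 2)`. `exists_elem_four`: `2 ^ n < |F| ^ 4` if `6 ≤ n`.
-/

set_option autoImplicit false

namespace Cfsg.Agent.OddHalf.D5.ElemEx

open Equiv

variable {n : ℕ}

/-- an involution extends to one with at most one fixed point -/
theorem exists_full (α : Perm (Fin n)) (hα : α * α = 1) :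
    ∃ γ : Perm (Fin n), γ * γ = 1 ∧ (∀ x, α x ≠ x → γ x = α x) ∧ ∀ x y, γ x = x → γ y = y → x = y := by
  classical
  obtain ⟨γ, ⟨h1, h2⟩, hmax⟩ := Set.exists_max_image {γ : Perm (Fin n) | γ * γ = 1 ∧ ∀ x, α x ≠ x → γ x = α x}
    (fun γ => γ.support.card) (Set.toFinite _) ⟨α, hα, fun _ _ => rfl⟩
  refine ⟨γ, h1, h2, fun x y hx hy => ?_⟩
  by_contra hne
  have hinv : ∀ z, γ (γ z) = z := fun z => by
    rw [← Perm.mul_apply, h1, Perm.one_apply]
  have hx' : ∀ z, z ≠ x → γ z ≠ x := by
    intro z hz e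
    apply hz
    rw [← hinv z, e, hx]
  have hy' : ∀ z, z ≠ y → γ z ≠ y := by
    intro z hz e
    apply hz
    rw [← hinv z, e, hy]
  have hap : ∀ z, z ≠ x → z ≠ y → (γ * swap x y) z = γ z := by
    intro z hzx hzy
    rw [Perm.mul_apply, swap_apply_of_ne_of_ne hzx hzy]
  have hapx : (γ * swap x y) x = y := by rw [Perm.mul_apply, swap_apply_left, hy]
  have hapy : (γ * swap x y) y = x := by rw [Perm.mul_apply, swap_apply_right, hx]
  have hmem : (γ * swap x y) * (γ * swap x y) = 1 ∧ ∀ z, α z ≠ z → (γ * swap x y) z = α z := by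
    constructor
    · ext z
      congr 1
      rw [Perm.mul_apply, Perm.one_apply]
      by_cases hzx : z = x
      · rw [hzx, hapx, hapy]
      by_cases hzy : z = y
      · rw [hzy, hapy, hapx]
      rw [hap z hzx hzy, hap _ (hx' z hzx) (hy' z hzy), hinv]
    · intro z hz
      have hzx : z ≠ x := by
        rintro rfl
        apply hz
        rw [← h2 z hz, hx]
      have hzy : z ≠ y := by
        rintro rfl
        apply hz
        rw [← h2 z hz, hy]
      rw [hap z hzx hzy, h2 z hz]
  have h3 := hmax _ hmem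
  have h4 : insert x (γ.support) ⊆ (γ * swap x y).support := by
    intro z hz
    rw [Finset.mem_insert, Perm.mem_support] at hz
    rw [Perm.mem_support]
    rcases hz with rfl | hz
    · rw [hapx]; exact fun e => hne e.symm
    · have hzx : z ≠ x := by rintro rfl; exact hz hx
      have hzy : z ≠ y := by rintro rfl; exact hz hy
      rw [hap z hzx hzy]; exact hz
  have h5 := Finset.card_le_card h4
  rw [Finset.card_insert_of_notMem (by rw [Perm.mem_support]; exact fun h => h hx)] at h5
  have h6 : (γ * swap x y).support.card ≤ γ.support.card := h3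
  omega

/-- the elementary abelian group attached to a fixed point free-ish involution -/
def big (γ : Perm (Fin n)) (hγ : γ * γ = 1) : Subgroup (Perm (Fin n)) where
  carrier := {σ | ∀ x, σ x = x ∨ σ x = γ x}
  one_mem' := fun x => Or.inl rfl
  mul_mem' := by
    intro σ τ hσ hτ x
    have hinv : ∀ z, γ (γ z) = z := fun z => by
      rw [← Perm.mul_apply, hγ, Perm.one_apply]
    rw [Perm.mul_apply]
    rcases hτ x with h | h
    · rw [h]; exact hσ x
    · rw [h]
      rcases hσ (γ x) with h' | h'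
      · exact Or.inr h'
      · rw [h', hinv]; exact Or.inl rfl
  inv_mem' := by
    intro σ hσ x
    have hinv : ∀ z, γ (γ z) = z := fun z => by
      rw [← Perm.mul_apply, hγ, Perm.one_apply]
    have h1 : σ (σ⁻¹ x) = x := σ.apply_symm_apply x
    rcases hσ (σ⁻¹ x) with h | h
    · left; rw [← h, h1]
    · right; rw [← hinv (σ⁻¹ x), ← h, h1]

theorem mem_big {γ : Perm (Fin n)} {hγ : γ * γ = 1} {σ : Perm (Fin n)} :
    σ ∈ big γ hγ ↔ ∀ x, σ x = x ∨ σ x = γ x := Iff.rfl

theorem sq_big {γ : Perm (Fin n)} {hγ : γ * γ = 1} {σ : Perm (Fin n)} (hσ : σ ∈ big γ hγ) : σ * σ = 1 := by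
  have hinv : ∀ z, γ (γ z) = z := fun z => by
    rw [← Perm.mul_apply, hγ, Perm.one_apply]
  ext x
  congr 1
  rw [Perm.mul_apply, Perm.one_apply]
  rcases hσ x with h | h
  · rw [h, h]
  · rw [h]
    rcases hσ (γ x) with h' | h'
    · -- `σ (γ x) = γ x = σ x`
      have : γ x = x := σ.injective (h'.trans h.symm)
      rw [h', this]
    · rw [h', hinv]

theorem card_big (γ : Perm (Fin n)) (hγ : γ * γ = 1) (h : ∀ x y, γ x = x → γ y = y → x = y) :
    2 ^ (n / 2) ≤ Nat.card (big γ hγ) := by
  classical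
  have hinv : ∀ z, γ (γ z) = z := fun z => by
    rw [← Perm.mul_apply, hγ, Perm.one_apply]
  set R : Finset (Fin n) := Finset.univ.filter fun x => x < γ x with hR
  have hcard : n / 2 ≤ R.card := by
    have h1 : (Finset.univ : Finset (Fin n)) = R ∪ (R.image γ) ∪ (Finset.univ.filter fun x => γ x = x) := by
      ext x
      simp only [hR, Finset.mem_univ, Finset.mem_union, Finset.mem_filter, Finset.mem_image, true_and, true_iff]
      rcases lt_trichotomy x (γ x) with h1 | h1 | h1
      · exact Or.inl (Or.inl h1)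
      · exact Or.inr h1.symm
      · exact Or.inl (Or.inr ⟨γ x, by rw [hinv]; exact h1, hinv x⟩)
    have h2 : (Finset.univ.filter fun x => γ x = x).card ≤ 1 := by
      rw [Finset.card_le_one]
      intro a ha b hb
      exact h a b (Finset.mem_filter.1 ha).2 (Finset.mem_filter.1 hb).2
    have h3 : (R.image γ).card ≤ R.card := Finset.card_image_le
    have h4 := Finset.card_union_le (R ∪ R.image γ) (Finset.univ.filter fun x => γ x = x)
    have h5 := Finset.card_union_le R (R.image γ)
    rw [← h1, Finset.card_univ, Fintype.card_fin] at h4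
    omega
  -- the involution attached to a set of representatives
  let f : Finset (Fin n) → Fin n → Fin n := fun S x => if x ∈ S ∨ γ x ∈ S then γ x else x
  have hf : ∀ S, Function.Involutive (f S) := by
    intro S x
    by_cases hx : x ∈ S ∨ γ x ∈ S
    · have h1 : f S x = γ x := if_pos hx
      have h2 : f S (γ x) = x := by
        show (if γ x ∈ S ∨ γ (γ x) ∈ S then γ (γ x) else γ x) = x
        rw [hinv, if_pos (Or.symm hx)]
      rw [h1, h2]
    · have h1 : f S x = x := if_neg hx
      rw [h1, h1]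
  let g : R.powerset → big γ hγ := fun S => ⟨(hf S.1).toPerm (f S.1), fun x => by
    show f S.1 x = x ∨ f S.1 x = γ x
    by_cases hx : x ∈ S.1 ∨ γ x ∈ S.1
    · exact Or.inr (if_pos hx)
    · exact Or.inl (if_neg hx)⟩
  have hg : Function.Injective g := by
    intro S T e
    have e1 : ∀ x, f S.1 x = f T.1 x := fun x => by
      have := congrArg (fun u : big γ hγ => (u : Perm (Fin n)) x) e
      exact this
    have key : ∀ S : Finset (Fin n), S ∈ R.powerset → ∀ x, x ∈ S ↔ (x ∈ R ∧ f S x ≠ x) := by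
      intro S hS x
      have hS' := Finset.mem_powerset.1 hS
      constructor
      · intro hx
        have hxR := hS' hx
        refine ⟨hxR, ?_⟩
        have : f S x = γ x := if_pos (Or.inl hx)
        rw [this]
        exact ne_of_gt (Finset.mem_filter.1 hxR).2
      · rintro ⟨hxR, hx⟩
        have hlt := (Finset.mem_filter.1 hxR).2
        by_contra hxS
        apply hx
        apply if_neg
        rintro (h1 | h1)
        · exact hxS h1
        · have h2 := (Finset.mem_filter.1 (hS' h1)).2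
          rw [hinv] at h2
          exact absurd hlt (not_lt.2 h2.le)
    apply Subtype.ext
    ext x
    rw [key S.1 S.2, key T.1 T.2, e1]
  have h1 := Nat.card_le_card_of_injective g hg
  rw [Nat.card_eq_fintype_card, Fintype.card_coe, Finset.card_powerset] at h1
  exact (Nat.pow_le_pow_right (by norm_num) hcard).trans h1

/-- the even part has index at most two -/
theorem card_even (F : Subgroup (Perm (Fin n))) :
    Nat.card F ≤ 2 * Nat.card (F ⊓ alternatingGroup (Fin n) : Subgroup (Perm (Fin n))) := by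
  classical
  set s : F →* ℤˣ := Perm.sign.comp F.subtype with hs
  have h1 := s.ker.card_mul_index
  have h2 : s.ker.index ≤ 2 := by
    rw [Subgroup.index_ker]
    calc Nat.card s.range ≤ Nat.card ℤˣ := Subgroup.card_le_card_group _
      _ = 2 := by rw [Nat.card_eq_fintype_card]; rfl
  have h3 : Nat.card s.ker = Nat.card (F ⊓ alternatingGroup (Fin n) : Subgroup (Perm (Fin n))) := by
    apply Nat.card_congr
    refine ⟨fun x => ⟨x.1.1, x.1.2, x.2⟩, fun y => ⟨⟨y.1, y.2.1⟩, y.2.2⟩, fun _ => rfl, fun _ => rfl⟩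
  rw [← h1, h3, mul_comm]
  exact Nat.mul_le_mul_right _ h2

/-- large elementary abelian subgroup of `A_n` centralizing `α` -/
theorem exists_elem (α : Perm (Fin n)) (hα : α * α = 1) :
    ∃ F : Subgroup (Perm (Fin n)), (∀ f ∈ F, f * f = 1) ∧ (∀ f ∈ F, f ∈ alternatingGroup (Fin n)) ∧
      (∀ f ∈ F, f * α = α * f) ∧ 2 ^ (n / 2) ≤ 2 * Nat.card F := by
  obtain ⟨γ, h1, h2, h3⟩ := exists_full α hα
  have hα' : α ∈ big γ h1 := by
    intro x
    by_cases hx : α x = x
    · exact Or.inl hx
    · exact Or.inr (h2 x hx).symm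
  refine ⟨big γ h1 ⊓ alternatingGroup (Fin n), fun f hf => sq_big hf.1, fun f hf => hf.2, fun f hf => ?_,
    (card_big γ h1 h3).trans (card_even _)⟩
  exact Elem.comm_of_sq (fun f hf => sq_big hf) f hf.1 α hα'

theorem exists_elem_four (hn : 6 ≤ n) (α : Perm (Fin n)) (hα : α * α = 1) :
    ∃ F : Subgroup (Perm (Fin n)), (∀ f ∈ F, f * f = 1) ∧ (∀ f ∈ F, f ∈ alternatingGroup (Fin n)) ∧
      (∀ f ∈ F, f * α = α * f) ∧ 2 ^ n < (Nat.card F) ^ 4 := by
  obtain ⟨F, h1, h2, h3, h4⟩ := exists_elem α hα
  refine ⟨F, h1, h2, h3, ?_⟩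
  obtain ⟨k, hk⟩ : ∃ k, n / 2 = k + 1 := ⟨n / 2 - 1, by omega⟩
  rw [hk, pow_succ, mul_comm] at h4
  have h5 : 2 ^ k ≤ Nat.card F := Nat.le_of_mul_le_mul_left h4 (by norm_num)
  calc 2 ^ n < 2 ^ (k * 4) := Nat.pow_lt_pow_right (by norm_num) (by omega)
    _ = (2 ^ k) ^ 4 := pow_mul _ _ _
    _ ≤ (Nat.card F) ^ 4 := Nat.pow_le_pow_left h5 4

end Cfsg.Agent.OddHalf.D5.ElemEx
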