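import Cfsg.Agent.OddHalf.D5.ElemStd
import Cfsg.Agent.OddHalf.D5.Defs

/-!
# ODD D5, [O1]: `N_G(E)` moves `t` (helper59)

`EE h e = ⟨t⟩ × ι(V₁ ⋯ V_k)`. `exists_norm`: if `t ι(Qe e v)` is conjugate to `t`, `n - 4k ≠ 2`, then some `g` normalizes `EE h e` and maps `t` to `t ι(Qe e v)`.
-/

set_option autoImplicit false

namespace Cfsg.Agent.OddHalf.D5.Elem

open Equiv Subgroup

section perm

variable {β : Type*} [Fintype β] [DecidableEq β]

theorem sign_via {γ : Type*} [Fintype γ] [DecidableEq γ] (e : γ ↪ β) (σ : Perm γ) :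
    Perm.sign (Perm.viaEmbeddingHom e σ) = Perm.sign σ := by
  rw [Perm.viaEmbeddingHom_apply, Perm.viaEmbedding]
  convert Perm.sign_extendDomain σ (ofInjective e.1 e.2)

theorem sign_Qe {k : ℕ} (e : Fin k × Fin 4 ↪ β) (v : Fin k → Fin 4) :
    Perm.sign (Qe e v) = 1 := by
  have hρ : ∀ a : Fin 4, ∃ s : Perm (Fin 4), s * s = κ a := by decide
  choose ρ hρ using hρ
  have h1 : Qe e v = Perm.viaEmbeddingHom e (Equiv.prodCongrRight fun i => ρ (v i)) *
      Perm.viaEmbeddingHom e (Equiv.prodCongrRight fun i => ρ (v i)) := by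
    rw [← map_mul, Perm.viaEmbeddingHom_apply]
    show Perm.viaEmbedding _ _ = _
    congr 1
    refine Equiv.ext fun p => ?_
    show (p.1, κ (v p.1) p.2) = (p.1, ρ (v p.1) (ρ (v p.1) p.2))
    rw [← hρ, Perm.mul_apply]
  rw [h1, Perm.sign_mul]
  exact Int.units_mul_self _

omit [Fintype β] [DecidableEq β] in
/-- permutations with support in the range and off the range commute -/
theorem comm_of_off {f g : Perm β} {S : Set β} (hf : ∀ x ∉ S, f x = x) (hg : ∀ x ∈ S, g x = x) :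
    f * g = g * f := by
  refine Perm.ext fun x => ?_
  rw [Perm.mul_apply, Perm.mul_apply]
  by_cases hx : x ∈ S
  · rw [hg x hx]
    have h1 : f x ∈ S := by
      by_contra h2
      have h3 := hf _ h2
      exact h2 (by rw [f.injective h3]; exact hx)
    rw [hg _ h1]
  · rw [hf x hx]
    have h1 : g x ∉ S := by
      intro h2
      have h3 := hg _ h2
      exact hx (by rw [← g.injective h3]; exact h2)
    rw [hf _ h1]

end perm

variable {G : Type*} [Group G] {n k : ℕ} {t : G} {ι : An n →* G}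

/-- `Qe` as an element of the alternating group -/
noncomputable def QA (e : Fin k × Fin 4 ↪ Fin n) (v : Fin k → Fin 4) : An n :=
  ⟨Qe e v, Perm.mem_alternatingGroup.2 (sign_Qe e v)⟩

theorem QA_coe (e : Fin k × Fin 4 ↪ Fin n) (v : Fin k → Fin 4) : ((QA e v : An n) : Perm (Fin n)) = Qe e v :=
  rfl

theorem QA_mul (e : Fin k × Fin 4 ↪ Fin n) (v w : Fin k → Fin 4) :
    QA e v * QA e w = QA e fun i => κ (v i) (w i) := Subtype.ext (Qe_mul e v w)

theorem QA_sq (e : Fin k × Fin 4 ↪ Fin n) (v : Fin k → Fin 4) : QA e v * QA e v = 1 :=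
  Subtype.ext (Qe_sq e v)

theorem QA_zero (e : Fin k × Fin 4 ↪ Fin n) : QA e (fun _ => 0) = 1 := Subtype.ext (Qe_zero e)

theorem QA_inj (e : Fin k × Fin 4 ↪ Fin n) {v w : Fin k → Fin 4} (h : QA e v = QA e w) : v = w :=
  Qe_inj e (congrArg Subtype.val h)

theorem QA_comm (e : Fin k × Fin 4 ↪ Fin n) (v w : Fin k → Fin 4) :
    QA e v * QA e w = QA e w * QA e v := by
  rw [QA_mul, QA_mul]
  congr 1
  funext i
  exact κ_comm _ _

/-- `⟨t⟩ × ι(V₁ ⋯ V_k)` -/
def EE (h : Spl t (An n) ι) (e : Fin k × Fin 4 ↪ Fin n) : Subgroup G where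
  carrier := {x | ∃ v, x = ι (QA e v) ∨ x = t * ι (QA e v)}
  one_mem' := ⟨fun _ => 0, Or.inl (by rw [QA_zero, map_one])⟩
  mul_mem' := by
    rintro x y ⟨v, hv⟩ ⟨w, hw⟩
    refine ⟨fun i => κ (v i) (w i), ?_⟩
    rw [← QA_mul, map_mul]
    rcases hv with rfl | rfl <;> rcases hw with rfl | rfl
    · exact Or.inl rfl
    · right
      rw [← mul_assoc, h.comm', mul_assoc]
    · right
      rw [mul_assoc]
    · left
      rw [mul_assoc, ← mul_assoc (ι _) t, h.comm', mul_assoc, ← mul_assoc t t, h.tt, one_mul]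
  inv_mem' := by
    rintro x ⟨v, hv⟩
    refine ⟨v, ?_⟩
    have h1 : (ι (QA e v))⁻¹ = ι (QA e v) := by
      rw [inv_eq_iff_mul_eq_one, ← map_mul, QA_sq, map_one]
    rcases hv with rfl | rfl
    · exact Or.inl h1
    · right
      rw [mul_inv_rev, h1, h.t_inv, h.comm']

theorem mem_EE {h : Spl t (An n) ι} {e : Fin k × Fin 4 ↪ Fin n} {x : G} :
    x ∈ EE h e ↔ ∃ v, x = ι (QA e v) ∨ x = t * ι (QA e v) := Iff.rfl

theorem t_mem_EE (h : Spl t (An n) ι) (e : Fin k × Fin 4 ↪ Fin n) : t ∈ EE h e :=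
  ⟨fun _ => 0, Or.inr (by rw [QA_zero, map_one, mul_one])⟩

theorem iota_mem_EE (h : Spl t (An n) ι) (e : Fin k × Fin 4 ↪ Fin n) (v : Fin k → Fin 4) :
    ι (QA e v) ∈ EE h e := ⟨v, Or.inl rfl⟩

theorem tiota_mem_EE (h : Spl t (An n) ι) (e : Fin k × Fin 4 ↪ Fin n) (v : Fin k → Fin 4) :
    t * ι (QA e v) ∈ EE h e := ⟨v, Or.inr rfl⟩

theorem EE_sq (h : Spl t (An n) ι) (e : Fin k × Fin 4 ↪ Fin n) : ∀ x ∈ EE h e, x * x = 1 := by
  rintro x ⟨v, rfl | rfl⟩
  · rw [← map_mul, QA_sq, map_one]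
  · rw [mul_assoc, ← mul_assoc (ι _) t, h.comm', mul_assoc, ← mul_assoc t t, h.tt, one_mul,
      ← map_mul, QA_sq, map_one]

/-- the embedding of the remaining letters -/
theorem exists_rest (e : Fin k × Fin 4 ↪ Fin n) {r : ℕ} (hn : n = 4 * k + r) :
    ∃ e' : Fin r ↪ Fin n, Set.range e' = (Set.range e)ᶜ := by
  classical
  have h1 : Nat.card ((Set.range e)ᶜ : Set (Fin n)) = r := by
    rw [Nat.card_coe_set_eq]
    have h2 := Set.ncard_add_ncard_compl (Set.range e) (Set.toFinite _) (Set.toFinite _)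
    have h3 : (Set.range e).ncard = k * 4 := by
      rw [← Set.image_univ, Set.ncard_image_of_injective _ e.injective, Set.ncard_univ,
        Nat.card_prod, Nat.card_fin, Nat.card_fin]
    rw [Nat.card_fin] at h2
    omega
  let E : Fin r ≃ ((Set.range e)ᶜ : Set (Fin n)) := by
    rw [← h1]
    exact (Finite.equivFin _).symm
  refine ⟨⟨fun i => (E i : Fin n), fun i j hij => E.injective (Subtype.ext hij)⟩, ?_⟩
  ext x
  constructor
  · rintro ⟨i, rfl⟩
    exact (E i).2
  · intro hx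
    exact ⟨E.symm ⟨x, hx⟩, by
      show ((E (E.symm ⟨x, hx⟩) : ((Set.range e)ᶜ : Set (Fin n))) : Fin n) = x
      rw [Equiv.apply_symm_apply]⟩

/-- the alternating group on the letters `e'` -/
noncomputable def restHom {r : ℕ} (e' : Fin r ↪ Fin n) : alternatingGroup (Fin r) →* An n where
  toFun b := ⟨Perm.viaEmbeddingHom e' b, by
    rw [Perm.mem_alternatingGroup, sign_via]
    exact Perm.mem_alternatingGroup.1 b.2⟩
  map_one' := Subtype.ext (by
    show Perm.viaEmbeddingHom e' 1 = 1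
    rw [map_one])
  map_mul' a b := Subtype.ext (by
    show Perm.viaEmbeddingHom e' (a * b) = Perm.viaEmbeddingHom e' a * Perm.viaEmbeddingHom e' b
    rw [map_mul])

theorem restHom_inj {r : ℕ} (e' : Fin r ↪ Fin n) : Function.Injective (restHom e') := by
  intro a b hab
  exact Subtype.ext (Perm.viaEmbeddingHom_injective e' (congrArg Subtype.val hab))

theorem restHom_comm {r : ℕ} {e' : Fin r ↪ Fin n} {e : Fin k × Fin 4 ↪ Fin n}
    (he : Set.range e' = (Set.range e)ᶜ) (b : alternatingGroup (Fin r)) (v : Fin k → Fin 4) :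
    restHom e' b * QA e v = QA e v * restHom e' b := by
  apply Subtype.ext
  show Perm.viaEmbeddingHom e' b * Qe e v = Qe e v * Perm.viaEmbeddingHom e' b
  refine comm_of_off (S := (Set.range e)ᶜ) ?_ ?_
  · intro x hx
    rw [← he] at hx
    exact Perm.viaEmbedding_apply_of_notMem _ _ _ hx
  · intro x hx
    exact Qe_off e v hx

theorem exists_norm (h : Spl t (An n) ι) (e : Fin (k + 1) × Fin 4 ↪ Fin n) {r : ℕ} (hr : r ≠ 2)
    (hn : n = 4 * (k + 1) + r) {v : Fin (k + 1) → Fin 4}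
    (hd : IsConj t (t * ι (QA e v))) :
    ∃ g : G, g * t * g⁻¹ = t * ι (QA e v) ∧ ∀ x, x ∈ EE h e → g * x * g⁻¹ ∈ EE h e := by
  classical
  obtain ⟨g₀, hg₀⟩ := isConj_iff.1 hd
  set d := t * ι (QA e v) with hdef
  let j : An n →* G := (MulAut.conj g₀).toMonoidHom.comp ι
  have hS : Spl d (An n) j := by rw [← hg₀]; exact h.conj g₀
  have hjinj : Function.Injective j := hS.inj
  have hdE : d ∈ EE h e := tiota_mem_EE h e v
  have hEc : ∀ x ∈ EE h e, x * d = d * x := fun x hx => comm_of_sq (EE_sq h e) x hx d hdE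
  -- `A v`
  have hdj : ∀ a, j a ≠ d := hS.ne
  have hA : ∀ w, ∃ a, j a = ι (QA e w) ∨ j a = d * ι (QA e w) := by
    intro w
    obtain ⟨a, ha | ha⟩ := hS.cases (hEc _ (iota_mem_EE h e w))
    · exact ⟨a, Or.inl ha.symm⟩
    · exact ⟨a, Or.inr (by rw [ha, ← mul_assoc, hS.tt, one_mul])⟩
  choose A hA using hA
  have hAE : ∀ w, j (A w) ∈ EE h e := by
    intro w
    rcases hA w with h1 | h1
    · rw [h1]; exact iota_mem_EE h e w
    · rw [h1]; exact mul_mem hdE (iota_mem_EE h e w)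
  let F : Subgroup (Perm (Fin n)) := ((EE h e).comap j).map (An n).subtype
  have hF : ∀ f, f ∈ F ↔ ∃ a : An n, (a : Perm (Fin n)) = f ∧ j a ∈ EE h e := by
    intro f
    constructor
    · rintro ⟨a, ha, rfl⟩
      exact ⟨a, rfl, ha⟩
    · rintro ⟨a, rfl, ha⟩
      exact ⟨a, ha, rfl⟩
  have hdv : ∀ w, t * ι (QA e w) = d * ι (QA e v * QA e w) := by
    intro w
    rw [hdef, map_mul, mul_assoc, ← mul_assoc (ι (QA e v)), ← map_mul, QA_sq, map_one, one_mul]
  have hsurj : ∀ a : An n, j a ∈ EE h e → ∃ w, A w = a := by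
    intro a ha
    have key : ∀ w, (j a = ι (QA e w) ∨ j a = d * ι (QA e w)) → A w = a := by
      intro w hw
      rcases hA w with h1 | h1 <;> rcases hw with h2 | h2
      · exact hjinj (h1.trans h2.symm)
      · exfalso
        apply hdj (a * (A w)⁻¹)
        rw [map_mul, map_inv, h1, h2, mul_inv_cancel_right]
      · exfalso
        apply hdj ((A w) * a⁻¹)
        rw [map_mul, map_inv, h1, h2, mul_inv_cancel_right]
      · exact hjinj (h1.trans h2.symm)
    obtain ⟨w, hw | hw⟩ := ha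
    · exact ⟨w, key w (Or.inl hw)⟩
    · refine ⟨_, key (fun i => κ (v i) (w i)) (Or.inr ?_)⟩
      rw [hw, hdv, QA_mul]
  have hAinj : Function.Injective A := by
    intro w w' hww
    have h3 : ∀ u u', ι (QA e u) = d * ι (QA e u') → False := by
      intro u u' h4
      rw [hdef, mul_assoc, ← map_mul] at h4
      exact h.tne _ _ h4
    rcases hA w with h1 | h1 <;> rcases hA w' with h2 | h2 <;> rw [hww, h2] at h1
    · exact (QA_inj e (h.inj h1)).symm
    · exact (h3 _ _ h1.symm).elim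
    · exact (h3 _ _ h1).elim
    · exact (QA_inj e (h.inj (mul_left_cancel h1))).symm
  have hFcard : Nat.card F = 4 ^ (k + 1) := by
    have h1 : Function.Bijective (fun w : Fin (k + 1) → Fin 4 =>
        (⟨(A w : Perm (Fin n)), (hF _).2 ⟨A w, rfl, hAE w⟩⟩ : F)) := by
      constructor
      · intro w w' hww
        have h9 : ((A w : An n) : Perm (Fin n)) = A w' :=
          congrArg (Subtype.val : F → Perm (Fin n)) hww
        exact hAinj (Subtype.ext h9)
      · rintro ⟨f, hf⟩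
        obtain ⟨a, rfl, ha⟩ := (hF f).1 hf
        obtain ⟨w, rfl⟩ := hsurj a ha
        exact ⟨w, rfl⟩
    rw [← Nat.card_congr (Equiv.ofBijective _ h1), Nat.card_fun, Nat.card_fin, Nat.card_fin]
  have hF2 : ∀ f ∈ F, f * f = 1 := by
    intro f hf
    obtain ⟨a, rfl, ha⟩ := (hF f).1 hf
    have h1 : a * a = 1 := hjinj (by rw [map_mul, EE_sq h e _ ha, map_one])
    exact congrArg Subtype.val h1
  have hFs : ∀ f ∈ F, Perm.sign f = 1 := by
    intro f hf
    obtain ⟨a, rfl, ha⟩ := (hF f).1 hf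
    exact Perm.mem_alternatingGroup.1 a.2
  -- the letters outside
  obtain ⟨e', he'⟩ := exists_rest e hn
  have hcomm : ∀ b : alternatingGroup (Fin r), ∀ x ∈ EE h e,
      ι (restHom e' b) * x = x * ι (restHom e' b) := by
    rintro b x ⟨w, rfl | rfl⟩
    · rw [← map_mul, restHom_comm he', map_mul]
    · rw [← mul_assoc, h.comm', mul_assoc, ← map_mul, restHom_comm he', map_mul, mul_assoc]
  have hrange : ∀ b : alternatingGroup (Fin r), ι (restHom e' b) ∈ j.range := by
    intro b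
    have h1 : Subgroup.closure {g : alternatingGroup (Fin r) | Equiv.Perm.IsThreeCycle (g : Perm (Fin r))}
        ≤ (j.range).comap (ι.comp (restHom e')) := by
      rw [Subgroup.closure_le]
      intro b hb
      obtain ⟨a, ha | ha⟩ := hS.cases (hcomm b d hdE)
      · exact ⟨a, ha.symm⟩
      · exfalso
        have h3 : b ^ 3 = 1 := by
          apply Subtype.ext
          rw [Subgroup.coe_pow, Subgroup.coe_one, ← (show orderOf (b : Perm (Fin r)) = 3 from
            Perm.IsThreeCycle.orderOf hb)]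
          exact pow_orderOf_eq_one _
        have h4 : ι (restHom e' b) ^ 3 = 1 := by rw [← map_pow, ← map_pow, h3, map_one, map_one]
        have h5 : (d * j a) ^ 3 = d ^ 3 * (j a) ^ 3 :=
          (show Commute d (j a) from hS.comm a).mul_pow 3
        rw [ha, h5, pow_succ, pow_two, hS.tt, one_mul, ← map_pow] at h4
        apply hdj ((a ^ 3)⁻¹)
        rw [map_inv]
        exact (eq_inv_of_mul_eq_one_left h4).symm
    rw [alternatingGroup.closure_isThreeCycles_eq_top] at h1
    exact h1 (Subgroup.mem_top b)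
  let ψ : alternatingGroup (Fin r) →* An n :=
    (MonoidHom.ofInjective hjinj).symm.toMonoidHom.comp
      ((ι.comp (restHom e')).codRestrict j.range hrange)
  have hψ : ∀ b, j (ψ b) = ι (restHom e' b) := by
    intro b
    have h1 := (MonoidHom.ofInjective hjinj).apply_symm_apply
      ⟨ι (restHom e' b), hrange b⟩
    exact congrArg Subtype.val h1
  let ψ' : alternatingGroup (Fin r) →* Perm (Fin n) := (An n).subtype.comp ψ
  have hψinj : Function.Injective ψ' := by
    intro b b' hbb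
    apply restHom_inj e'
    apply h.inj
    rw [← hψ, ← hψ]
    congr 1
    exact Subtype.ext hbb
  obtain ⟨e₁, he₁⟩ := exists_std_of_comm (L := ψ'.range) hF2 hFs (by
    rintro _ ⟨b, rfl⟩ f hf
    obtain ⟨a, rfl, ha⟩ := (hF f).1 hf
    have h1 : ψ b * a = a * ψ b := by
      apply hjinj
      rw [map_mul, map_mul, hψ]
      exact hcomm b _ ha
    exact congrArg Subtype.val h1) hr (by rw [Nat.card_fin]; exact hn) hFcard
    (MonoidHom.ofInjective hψinj).symm
  -- conjugation
  let F₀ : Subgroup (Perm (Fin n)) :=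
    { carrier := {f | ∃ w, f = Qe e w}
      one_mem' := ⟨fun _ => 0, (Qe_zero e).symm⟩
      mul_mem' := by
        rintro _ _ ⟨w, rfl⟩ ⟨w', rfl⟩
        exact ⟨_, Qe_mul e w w'⟩
      inv_mem' := by
        rintro _ ⟨w, rfl⟩
        exact ⟨w, inv_eq_of_mul_eq_one_left (Qe_sq e w)⟩ }
  have hF₀ : IsStd e F₀ := fun f => Iff.rfl
  obtain ⟨σ, hσ1, hσ⟩ := hF₀.exists_conj he₁
  let s : An n := ⟨σ, Perm.mem_alternatingGroup.2 hσ1⟩
  refine ⟨g₀ * ι s, ?_, ?_⟩
  · calc g₀ * ι s * t * (g₀ * ι s)⁻¹ = g₀ * (ι s * t * (ι s)⁻¹) * g₀⁻¹ := by group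
      _ = d := by rw [h.comm', mul_inv_cancel_right, hg₀]
  · have h1 : ∀ w, g₀ * ι s * ι (QA e w) * (g₀ * ι s)⁻¹ ∈ EE h e := by
      intro w
      obtain ⟨a, ha, ha'⟩ := (hF _).1 (hσ _ (hF₀.mem w))
      have h2 : a = s * QA e w * s⁻¹ := Subtype.ext ha
      have h3 : g₀ * ι s * ι (QA e w) * (g₀ * ι s)⁻¹ = j a := by
        rw [h2]
        show _ = g₀ * ι (s * QA e w * s⁻¹) * g₀⁻¹
        rw [map_mul, map_mul, map_inv]
        group
      rw [h3]
      exact ha'
    rintro x ⟨w, rfl | rfl⟩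
    · exact h1 w
    · have h2 : g₀ * ι s * (t * ι (QA e w)) * (g₀ * ι s)⁻¹ =
          d * (g₀ * ι s * ι (QA e w) * (g₀ * ι s)⁻¹) := by
        have h3 : g₀ * ι s * t = d * (g₀ * ι s) := by
          rw [mul_assoc, h.comm', ← mul_assoc, ← hg₀]
          group
        rw [← mul_assoc (g₀ * ι s), h3]
        group
      rw [h2]
      exact mul_mem hdE (h1 w)

end Cfsg.Agent.OddHalf.D5.Elem
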