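import Cfsg.Agent.OddHalf.D5.ElemT

/-!
# ODD D5, [O1]: the standard product of `k` four-groups (helper59)

`κ a` : the element of `V₄ ≤ Perm (Fin 4)` mapping `0` to `a`. `Qe e v` : the permutation of `β` acting as `κ (v i)` on
the block `e (i, ·)`, `e : Fin k × Fin 4 ↪ β`. `IsStd e F` : `F = {Qe e v}`.
`exists_std`: `F` even, elementary abelian of order `4^k` moving `4k` points is standard.
`IsStd.exists_conj`: two standard groups are conjugate by an even permutation.
-/

set_option autoImplicit false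

namespace Cfsg.Agent.OddHalf.D5.Elem

open Equiv Subgroup

/-- the four-group -/
def κ : Fin 4 → Perm (Fin 4) := ![1, swap 0 1 * swap 2 3, swap 0 2 * swap 1 3, swap 0 3 * swap 1 2]

theorem κ_zero (a : Fin 4) : κ a 0 = a := by revert a; decide
theorem κ_mul (a b : Fin 4) : κ a * κ b = κ (κ a b) := by revert a b; decide
theorem κ_apply (a b c : Fin 4) : κ (κ a b) c = κ a (κ b c) := by revert a b c; decide
theorem κ_comm (a b : Fin 4) : κ a b = κ b a := by revert a b; decide
theorem κ_self (a : Fin 4) : κ a a = 0 := by revert a; decide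
theorem κ_inj {a b : Fin 4} (h : κ a = κ b) : a = b := by revert a b; decide
theorem κ_zero' : κ 0 = 1 := by decide

section enum

/-- enumeration of an elementary abelian group of order four -/
theorem klein_enum {G : Type*} [Group G] (K : Subgroup G) (h2 : ∀ f ∈ K, f * f = 1)
    (h4 : Nat.card K = 4) : ∃ c : Fin 4 → G, (∀ a, c a ∈ K) ∧ (∀ a b, c a * c b = c (κ a b)) ∧
      (∀ g ∈ K, ∃ a, g = c a) ∧ Function.Injective c ∧ c 0 = 1 := by
  have hfin : Finite K := Nat.finite_of_card_ne_zero (by rw [h4]; norm_num)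
  obtain ⟨p, hp⟩ : ∃ p : K, p ≠ 1 := by
    have : Nontrivial K := Finite.one_lt_card_iff_nontrivial.1 (by omega)
    exact exists_ne 1
  obtain ⟨q, hq1, hqp⟩ : ∃ q : K, q ≠ 1 ∧ q ≠ p := by
    by_contra hno
    push Not at hno
    have h5 : (Set.univ : Set K) ⊆ {1, p} := by
      intro x _
      by_cases hx : x = 1
      · exact Or.inl hx
      · exact Or.inr (hno x hx)
    have h6 := Set.ncard_le_ncard h5 (Set.toFinite _)
    rw [Set.ncard_univ, h4] at h6
    have h7 := Set.ncard_insert_le (1 : K) {p}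
    rw [Set.ncard_singleton] at h7
    omega
  have hpp : (p : G) * p = 1 := h2 _ p.2
  have hqq : (q : G) * q = 1 := h2 _ q.2
  have hpq : (p : G) * q = q * p := comm_of_sq h2 _ p.2 _ q.2
  have hp' : (p : G) ≠ 1 := fun h => hp (Subtype.ext h)
  have hq' : (q : G) ≠ 1 := fun h => hq1 (Subtype.ext h)
  have hpq' : (p : G) ≠ q := fun h => hqp (Subtype.ext h.symm)
  have hpi : (p : G)⁻¹ = p := inv_eq_of_mul_eq_one_left hpp
  have hqi : (q : G)⁻¹ = q := inv_eq_of_mul_eq_one_left hqq
  have hm : (p : G) * q ≠ 1 := fun h => hpq' (by rw [mul_eq_one_iff_eq_inv.1 h, hqi])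
  have hmp : (p : G) * q ≠ p := fun h => hq' (mul_eq_left.1 h)
  have hmq : (p : G) * q ≠ q := fun h => hp' (mul_eq_right.1 h)
  have hr1 : (p : G) * (p * q) = q := by rw [← mul_assoc, hpp, one_mul]
  have hr2 : (q : G) * (p * q) = p := by rw [hpq, ← mul_assoc, hqq, one_mul]
  have hr3 : (p : G) * q * p = q := by rw [hpq, mul_assoc, hpp, mul_one]
  have hr4 : (p : G) * q * q = p := by rw [mul_assoc, hqq, mul_one]
  have hr5 : (p : G) * q * (p * q) = 1 := by rw [mul_assoc, hr2, hpp]
  have hmem : ∀ a : Fin 4, (![(1 : G), p, q, p * q] : Fin 4 → G) a ∈ K := by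
    intro a
    fin_cases a
    · exact one_mem _
    · exact p.2
    · exact q.2
    · exact mul_mem p.2 q.2
  have hinj : Function.Injective (![(1 : G), p, q, p * q] : Fin 4 → G) := by
    intro a b hab
    fin_cases a <;> fin_cases b
    · rfl
    · exact (hp' hab.symm).elim
    · exact (hq' hab.symm).elim
    · exact (hm hab.symm).elim
    · exact (hp' hab).elim
    · rfl
    · exact (hpq' hab).elim
    · exact (hmp hab.symm).elim
    · exact (hq' hab).elim
    · exact (hpq' hab.symm).elim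
    · rfl
    · exact (hmq hab.symm).elim
    · exact (hm hab).elim
    · exact (hmp hab).elim
    · exact (hmq hab).elim
    · rfl
  refine ⟨![1, p, q, p * q], hmem, ?_, ?_, hinj, rfl⟩
  · intro a b
    have hk : ∀ a b : Fin 4, κ a b = ![![0, 1, 2, 3], ![1, 0, 3, 2], ![2, 3, 0, 1], ![3, 2, 1, 0]] a b := by
      decide
    rw [hk]
    fin_cases a <;> fin_cases b
    · exact one_mul _
    · exact one_mul _
    · exact one_mul _
    · exact one_mul _
    · exact mul_one _
    · exact hpp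
    · exact rfl
    · exact hr1
    · exact mul_one _
    · exact hpq.symm
    · exact hqq
    · exact hr2
    · exact mul_one _
    · exact hr3
    · exact hr4
    · exact hr5
  · intro g hg
    have hbij : Function.Bijective
        (fun a : Fin 4 => (⟨_, hmem a⟩ : K)) := by
      have : Fintype K := Fintype.ofFinite K
      rw [Fintype.bijective_iff_injective_and_card]
      refine ⟨fun a b h => hinj (congrArg Subtype.val h), ?_⟩
      rw [Fintype.card_fin, ← Nat.card_eq_fintype_card, h4]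
    obtain ⟨a, ha⟩ := hbij.2 ⟨g, hg⟩
    exact ⟨a, (congrArg Subtype.val ha).symm⟩

end enum

variable {β : Type*}

/-- the element acting as `κ (v i)` on the block `e (i, ·)` -/
noncomputable def Qe {k : ℕ} (e : Fin k × Fin 4 ↪ β) (v : Fin k → Fin 4) : Perm β :=
  Perm.viaEmbedding (Equiv.prodCongrRight fun i => κ (v i)) e

theorem Qe_apply {k : ℕ} (e : Fin k × Fin 4 ↪ β) (v : Fin k → Fin 4) (i : Fin k) (w : Fin 4) :
    Qe e v (e (i, w)) = e (i, κ (v i) w) :=
  Perm.viaEmbedding_apply _ _ _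

theorem Qe_off {k : ℕ} (e : Fin k × Fin 4 ↪ β) (v : Fin k → Fin 4) {x : β}
    (hx : x ∉ Set.range e) : Qe e v x = x :=
  Perm.viaEmbedding_apply_of_notMem _ _ _ hx

theorem eq_Qe {k : ℕ} {e : Fin k × Fin 4 ↪ β} {v : Fin k → Fin 4} {f : Perm β}
    (h1 : ∀ i w, f (e (i, w)) = e (i, κ (v i) w)) (h2 : ∀ x ∉ Set.range e, f x = x) :
    f = Qe e v := by
  refine Perm.ext fun x => ?_
  by_cases hx : x ∈ Set.range e
  · obtain ⟨⟨i, w⟩, rfl⟩ := hx
    rw [h1, Qe_apply]
  · rw [h2 x hx, Qe_off e v hx]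

theorem Qe_mul {k : ℕ} (e : Fin k × Fin 4 ↪ β) (v w : Fin k → Fin 4) :
    Qe e v * Qe e w = Qe e fun i => κ (v i) (w i) := by
  refine eq_Qe (fun i x => ?_) fun x hx => ?_
  · rw [Perm.mul_apply, Qe_apply, Qe_apply, κ_apply]
  · rw [Perm.mul_apply, Qe_off e w hx, Qe_off e v hx]

theorem Qe_inj {k : ℕ} (e : Fin k × Fin 4 ↪ β) {v w : Fin k → Fin 4} (h : Qe e v = Qe e w) :
    v = w := by
  funext i
  have h1 : Qe e v (e (i, 0)) = Qe e w (e (i, 0)) := by rw [h]
  rw [Qe_apply, Qe_apply, κ_zero, κ_zero] at h1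
  exact (Prod.ext_iff.1 (e.injective h1)).2

theorem Qe_zero {k : ℕ} (e : Fin k × Fin 4 ↪ β) : Qe e (fun _ => 0) = 1 := by
  refine (eq_Qe (fun i w => ?_) fun x _ => ?_).symm
  · rw [κ_zero']
    rfl
  · rfl

theorem Qe_sq {k : ℕ} (e : Fin k × Fin 4 ↪ β) (v : Fin k → Fin 4) : Qe e v * Qe e v = 1 := by
  rw [Qe_mul, ← Qe_zero e]
  congr 1
  funext i
  exact κ_self _

/-- the standard product of `k` four-groups -/
def IsStd {k : ℕ} (e : Fin k × Fin 4 ↪ β) (F : Subgroup (Perm β)) : Prop :=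
  ∀ f, f ∈ F ↔ ∃ v, f = Qe e v

theorem IsStd.mem {k : ℕ} {e : Fin k × Fin 4 ↪ β} {F : Subgroup (Perm β)} (h : IsStd e F)
    (v : Fin k → Fin 4) : Qe e v ∈ F := (h _).2 ⟨v, rfl⟩

theorem IsStd.range_subset {k : ℕ} {e : Fin k × Fin 4 ↪ β} {F : Subgroup (Perm β)}
    (h : IsStd e F) : Set.range e ⊆ mv F := by
  rintro _ ⟨⟨i, w⟩, rfl⟩
  refine ⟨_, h.mem fun _ => 1, fun h1 => ?_⟩
  rw [Qe_apply] at h1
  have h2 := (Prod.ext_iff.1 (e.injective h1)).2
  revert h2
  exact (by decide : ∀ w : Fin 4, κ 1 w = w → False) w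

/-- classification -/
theorem exists_std [Fintype β] [DecidableEq β] : ∀ (k : ℕ) (F : Subgroup (Perm β))
    (_ : ∀ f ∈ F, f * f = 1) (_ : ∀ f ∈ F, Perm.sign f = 1) (_ : Nat.card F = 4 ^ k)
    (_ : (mv F).ncard = 4 * k), ∃ e : Fin k × Fin 4 ↪ β, IsStd e F
  | 0, F, h2, hev, hc, hm => by
    refine ⟨⟨fun p => p.1.elim0, fun p => p.1.elim0⟩, fun f => ?_⟩
    rw [pow_zero, Subgroup.card_eq_one] at hc
    rw [hc, Subgroup.mem_bot]
    constructor
    · rintro rfl
      exact ⟨fun i => i.elim0, (eq_Qe (fun i => i.elim0) fun _ _ => rfl)⟩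
    · rintro ⟨v, rfl⟩
      refine Perm.ext fun x => Qe_off _ _ ?_
      rintro ⟨⟨i, _⟩, _⟩
      exact i.elim0
  | k + 1, F, h2, hev, hc, hm => by
    obtain ⟨x, hx⟩ : (mv F).Nonempty := by
      rw [← Set.ncard_pos (Set.toFinite _), hm]
      omega
    have hcb : ∀ l ∈ (⊥ : Subgroup (Perm β)), ∀ f ∈ F, l * f = f * l := by
      intro l hl f _
      rw [Subgroup.mem_bot.1 hl, one_mul, mul_one]
    have hsat : sat F ⊥ x = orb F x := by
      ext y
      constructor
      · rintro ⟨l, hl, f, hf, rfl⟩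
        rw [Subgroup.mem_bot.1 hl]
        exact ⟨f, hf, rfl⟩
      · rintro ⟨f, hf, rfl⟩
        exact ⟨1, one_mem _, f, hf, rfl⟩
    obtain ⟨a, ha1, hao, ha⟩ := key_ineq (d := 0) h2 hcb hc (by rw [hm, add_zero]) hx
    rw [Subgroup.relIndex_bot_right, one_mul] at ha
    have ha2 : a ≤ 2 := by
      by_contra h0
      obtain ⟨b, rfl⟩ : ∃ b, a = b + 3 := ⟨a - 3, by omega⟩
      have h3 : b + 1 ≤ 2 ^ b := Nat.lt_two_pow_self
      rw [pow_add] at ha
      omega
    have hkey := key h2 hcb hx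
    have hup := card_fx_compl_le h2 hcb x
    rw [hsat] at hkey hup
    rw [hao] at hkey hup
    have h5 : (Nat.card F) ^ 2 = 2 ^ (4 * (k + 1)) := by
      rw [hc, ← pow_mul, show (4 : ℕ) = 2 ^ 2 by norm_num, ← pow_mul]
      congr 1
      omega
    rw [hm, h5, mul_comm] at hkey
    have hlow := Nat.le_of_mul_le_mul_right hkey (by positivity)
    set K := fx F (orb F x)ᶜ with hK
    have hK2 : ∀ f ∈ K, f * f = 1 := fun f hf => h2 f hf.1
    -- `a = 2`
    have ha3 : a = 2 := by
      by_contra h0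
      have ha4 : a = 1 := by omega
      subst ha4
      have h8 : 1 < Nat.card K := by
        by_contra h9
        have h10 : Nat.card K ^ 2 ≤ 1 ^ 2 := Nat.pow_le_pow_left (by omega) 2
        rw [one_pow] at h10
        have h11 : (2 : ℕ) ^ 2 ^ 1 = 4 := by norm_num
        rw [h11] at hlow
        omega
      obtain ⟨⟨f, hf⟩, hf1⟩ : ∃ f : K, f ≠ 1 := by
        have : Nontrivial K := Finite.one_lt_card_iff_nontrivial.1 h8
        exact exists_ne 1
      have hfx : f x ≠ x := by
        intro h9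
        apply hf1
        apply Subtype.ext
        refine Perm.ext fun y => ?_
        by_cases hy : y ∈ orb F x
        · rw [← hsat] at hy
          exact (fix_sat h2 hcb hy hf.1).2 h9
        · exact hf.2 y hy
      have hmoved : ∀ y, f y ≠ y ↔ y ∈ orb F x := by
        intro y
        constructor
        · intro h9
          by_contra h10
          exact h9 (hf.2 y h10)
        · intro h9 h10
          rw [← hsat] at h9
          exact hfx ((fix_sat h2 hcb h9 hf.1).1 h10)
      have hs := sign_of_moved (h2 f hf.1) hmoved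
      rw [hao, hev f hf.1] at hs
      exact absurd hs (by decide)
    subst ha3
    have hK4 : Nat.card K = 4 := by
      have h9 : (4 : ℕ) ^ 2 ≤ Nat.card K ^ 2 := by
        norm_num at hlow ⊢
        exact hlow
      have h10 := (Nat.pow_le_pow_iff_left (by norm_num)).1 h9
      norm_num at hup
      omega
    obtain ⟨c, hcK, hcm, hcs, hci, hc0⟩ := klein_enum K hK2 hK4
    have hKx : ∀ f ∈ K, f x = x → f = 1 := by
      intro f hf h9
      refine Perm.ext fun y => ?_
      by_cases hy : y ∈ orb F x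
      · rw [← hsat] at hy
        exact (fix_sat h2 hcb hy hf.1).2 h9
      · exact hf.2 y hy
    have hcx : Function.Injective fun w => c w x := by
      intro w w' hww
      apply hci
      have h9 : (c w')⁻¹ * c w = 1 := hKx _ (mul_mem (inv_mem (hcK _)) (hcK _)) (by
        have h10 : c w x = c w' x := hww
        rw [Perm.mul_apply, h10, inv_self])
      exact (inv_mul_eq_one.1 h9).symm
    have horb : ∀ y, y ∈ orb F x ↔ ∃ w, c w x = y := by
      have h9 : Set.range (fun w => c w x) = orb F x := by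
        apply Set.eq_of_subset_of_ncard_le
        · rintro _ ⟨w, rfl⟩
          exact ⟨c w, (hcK w).1, rfl⟩
        · rw [hao, ← Set.image_univ, Set.ncard_image_of_injective _ hcx, Set.ncard_univ]
          simp
        · exact Set.toFinite _
      intro y
      rw [← h9]
      exact Iff.rfl
    -- the stabilizer
    have hFx := card_eq F x
    rw [hao, hc, pow_succ, mul_comm] at hFx
    have hFx' : Nat.card (fx F {x}) = 4 ^ k := by
      have := Nat.eq_of_mul_eq_mul_left (by norm_num) (hFx : 4 * 4 ^ k = 4 * Nat.card (fx F {x}))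
      exact this.symm
    have hm1 : (mv (fx F {x})).ncard ≤ (mv F \ orb F x).ncard :=
      Set.ncard_le_ncard (fun y hy => ⟨mv_mono (fx_le F _) hy, fun h => disjoint_mv_fx h2 h hy⟩)
        (Set.toFinite _)
    have hm2 := Set.ncard_sdiff_add_ncard_of_subset (orb_subset_mv h2 hx) (Set.toFinite _)
    have hm3 := four_mul_le (fun f hf => h2 f hf.1 : ∀ f ∈ fx F {x}, f * f = 1) hFx'
    rw [hm, hao] at hm2
    obtain ⟨e', he'⟩ := exists_std k (fx F {x}) (fun f hf => h2 f hf.1) (fun f hf => hev f hf.1)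
      hFx' (by norm_num at hm2; omega)
    have hdis : ∀ i w, e' (i, w) ∉ orb F x := fun i w h =>
      disjoint_mv_fx h2 h (he'.range_subset ⟨(i, w), rfl⟩)
    let g : Fin (k + 1) × Fin 4 → β := fun p => Fin.cases (c p.2 x) (fun i => e' (i, p.2)) p.1
    have hg0 : ∀ w, g (0, w) = c w x := fun _ => rfl
    have hgs : ∀ i w, g (Fin.succ i, w) = e' (i, w) := fun _ _ => rfl
    have hginj : Function.Injective g := by
      rintro ⟨i, w⟩ ⟨j, w'⟩ h
      refine Fin.cases ?_ (fun i => ?_) i h <;> refine Fin.cases ?_ (fun j => ?_) j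
      · intro h
        rw [hg0, hg0] at h
        rw [hcx h]
      · intro h
        rw [hg0, hgs] at h
        exact absurd ((horb _).2 ⟨w, h⟩) (hdis j w')
      · intro h
        rw [hg0, hgs] at h
        exact absurd ((horb _).2 ⟨w', h.symm⟩) (hdis i w)
      · intro h
        rw [hgs, hgs] at h
        have h9 := Prod.ext_iff.1 (e'.injective h)
        have h10 : i = j := h9.1
        have h11 : w = w' := h9.2
        rw [h10, h11]
    have hprod : ∀ (b : Fin 4) (v : Fin k → Fin 4),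
        c b * Qe e' v = Qe ⟨g, hginj⟩ (Fin.cons b v : Fin (k + 1) → Fin 4) := by
      intro b v
      refine eq_Qe (fun i w => ?_) fun y hy => ?_
      · show (c b * Qe e' v) (g (i, w)) = g (i, κ ((Fin.cons b v : Fin (k + 1) → Fin 4) i) w)
        refine Fin.cases ?_ (fun i => ?_) i
        · rw [hg0, hg0, Fin.cons_zero, ← hcm, Perm.mul_apply, Perm.mul_apply, Qe_off]
          rintro ⟨⟨i, w'⟩, h⟩
          exact hdis i w' ((horb _).2 ⟨w, h.symm⟩)
        · rw [hgs, hgs, Fin.cons_succ, Perm.mul_apply, Qe_apply]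
          exact (hcK b).2 _ (hdis _ _)
      · rw [Perm.mul_apply, Qe_off]
        · refine (hcK b).2 y fun h => hy ?_
          obtain ⟨w, hw⟩ := (horb _).1 h
          exact ⟨(0, w), hw⟩
        · rintro ⟨⟨i, w⟩, h⟩
          exact hy ⟨(Fin.succ i, w), h⟩
    refine ⟨⟨g, hginj⟩, fun f => ⟨fun hf => ?_, ?_⟩⟩
    · obtain ⟨b, hb⟩ := (horb (f x)).1 ⟨f, hf, rfl⟩
      have h9 : (c b)⁻¹ * f ∈ fx F {x} := by
        refine ⟨mul_mem (inv_mem (hcK b).1) hf, fun y hy => ?_⟩
        rw [Set.mem_singleton_iff.1 hy, Perm.mul_apply, ← hb, inv_self]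
      obtain ⟨v, hv⟩ := (he' _).1 h9
      exact ⟨(Fin.cons b v : Fin (k + 1) → Fin 4), by rw [← hprod, ← hv, mul_inv_cancel_left]⟩
    · rintro ⟨v, rfl⟩
      have h9 : v = (Fin.cons (v 0) (fun i => v (Fin.succ i)) : Fin (k + 1) → Fin 4) :=
        (Fin.cons_self_tail v).symm
      rw [h9, ← hprod]
      exact mul_mem (hcK _).1 (he'.mem _).1

/-- two embeddings differ by a permutation -/
theorem exists_perm_of_emb {γ : Type*} [Fintype β] [DecidableEq β] [Finite γ] (e e' : γ ↪ β) :
    ∃ σ : Perm β, ∀ x, σ (e x) = e' x := by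
  classical
  have : Fintype γ := Fintype.ofFinite γ
  let E : {x // x ∈ Set.range e} ≃ {x // x ∈ Set.range e'} :=
    (Equiv.ofInjective e e.injective).symm.trans (Equiv.ofInjective e' e'.injective)
  refine ⟨E.extendSubtype, fun x => ?_⟩
  rw [Equiv.extendSubtype_apply_of_mem _ _ ⟨x, rfl⟩]
  show ((Equiv.ofInjective e' e'.injective)
    ((Equiv.ofInjective e e.injective).symm ⟨e x, ⟨x, rfl⟩⟩) : β) = e' x
  rw [Equiv.ofInjective_symm_apply]
  rfl

theorem Qe_conj {k : ℕ} {e e' : Fin k × Fin 4 ↪ β} {σ : Perm β} (h : ∀ x, σ (e x) = e' x)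
    (v : Fin k → Fin 4) : σ * Qe e v * σ⁻¹ = Qe e' v := by
  refine eq_Qe (fun i w => ?_) fun x hx => ?_
  · rw [← h, Perm.mul_apply, inv_self, Perm.mul_apply, Qe_apply, h]
  · rw [Perm.mul_apply, Perm.mul_apply, Qe_off, self_inv]
    rintro ⟨y, hy⟩
    exact hx ⟨y, by rw [← h, hy, self_inv]⟩

theorem IsStd.exists_conj [Fintype β] [DecidableEq β] {k : ℕ} {e e' : Fin (k + 1) × Fin 4 ↪ β}
    {F F' : Subgroup (Perm β)} (h : IsStd e F) (h' : IsStd e' F') :
    ∃ σ : Perm β, Perm.sign σ = 1 ∧ ∀ f, f ∈ F → σ * f * σ⁻¹ ∈ F' := by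
  obtain ⟨σ, hσ⟩ := exists_perm_of_emb e e'
  rcases Int.units_eq_one_or (Perm.sign σ) with hs | hs
  · refine ⟨σ, hs, fun f hf => ?_⟩
    obtain ⟨v, rfl⟩ := (h f).1 hf
    rw [Qe_conj hσ]
    exact h'.mem v
  · -- correct by a transposition inside a block
    have hne : e' (0, 0) ≠ e' (0, 1) := fun h1 => by
      have h2 := (Prod.ext_iff.1 (e'.injective h1)).2
      exact absurd h2 (by decide : ¬ (0 : Fin 4) = 1)
    set τ : Perm β := swap (e' (0, 0)) (e' (0, 1)) with hτ
    have hτe : ∀ p : Fin (k + 1) × Fin 4, τ (e' p) = e' (swap (0, 0) (0, 1) p) := by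
      intro p
      rw [hτ]
      exact (e'.injective.map_swap (f := e') _ _ _).symm
    have hττ : τ * τ = 1 := swap_mul_self _ _
    have hτi : τ⁻¹ = τ := inv_eq_of_mul_eq_one_left hττ
    refine ⟨τ * σ, by rw [Perm.sign_mul, hs, hτ, Perm.sign_swap hne]; decide, fun f hf => ?_⟩
    obtain ⟨v, rfl⟩ := (h f).1 hf
    have h1 : τ * σ * Qe e v * (τ * σ)⁻¹ = τ * (σ * Qe e v * σ⁻¹) * τ := by
      rw [mul_inv_rev, hτi]
      group
    rw [h1, Qe_conj hσ]
    have hπ : ∀ a : Fin 4, ∃ b : Fin 4, ∀ w, swap 0 1 (κ a (swap 0 1 w)) = κ b w := by decide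
    obtain ⟨b, hb⟩ := hπ (v 0)
    have h2 : τ * Qe e' v * τ = Qe e' (Function.update v 0 b) := by
      have hoff : ∀ x, x ∉ Set.range e' → τ x = x := by
        intro x hx
        rw [hτ]
        exact swap_apply_of_ne_of_ne (fun h3 => hx ⟨_, h3.symm⟩) (fun h3 => hx ⟨_, h3.symm⟩)
      refine eq_Qe (fun i w => ?_) fun x hx => ?_
      · by_cases hi : i = 0
        · subst hi
          have h3 : ∀ w : Fin 4, swap ((0 : Fin (k + 1)), (0 : Fin 4)) (0, 1) (0, w) =
              (0, swap 0 1 w) := by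
            intro w
            have := (show Function.Injective (fun w : Fin 4 => ((0 : Fin (k + 1)), w)) from
              fun a b h => (Prod.ext_iff.1 h).2).map_swap 0 1 w
            exact this.symm
          rw [Function.update_self, Perm.mul_apply, Perm.mul_apply, hτe, h3, Qe_apply, hτe, h3, hb]
        · have h3 : ∀ w : Fin 4, swap ((0 : Fin (k + 1)), (0 : Fin 4)) (0, 1) (i, w) = (i, w) :=
            fun w => swap_apply_of_ne_of_ne (fun h => hi (Prod.ext_iff.1 h).1)
              (fun h => hi (Prod.ext_iff.1 h).1)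
          rw [Function.update_of_ne hi, Perm.mul_apply, Perm.mul_apply, hτe, h3, Qe_apply, hτe, h3]
      · rw [Perm.mul_apply, Perm.mul_apply, hoff x hx, Qe_off _ _ hx, hoff x hx]
    rw [h2]
    exact h'.mem _

/-- LEMMA T, final form: an even elementary abelian group of order `4^k` on `4k + r` points, `r ≠ 2`,
centralized by a copy of `A_r`, is standard. -/
theorem exists_std_of_comm [Fintype β] [DecidableEq β] {F L : Subgroup (Perm β)}
    (h2 : ∀ f ∈ F, f * f = 1) (hev : ∀ f ∈ F, Perm.sign f = 1)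
    (hc : ∀ l ∈ L, ∀ f ∈ F, l * f = f * l) {k r : ℕ} (hr : r ≠ 2)
    (hα : Nat.card β = 4 * k + r) (hk : Nat.card F = 4 ^ k)
    (e : L ≃* alternatingGroup (Fin r)) : ∃ e : Fin k × Fin 4 ↪ β, IsStd e F :=
  exists_std k F h2 hev hk (card_mv_eq h2 hev hc hr hα hk e)

end Cfsg.Agent.OddHalf.D5.Elem
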