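import Cfsg.Agent.OddHalf.D5.ElemAlt

/-!
# ODD D5, [O1]: Lemma T (helper59)

`card_mv_eq`: `F ≤ Alt(α)` elementary abelian of order `4^k`, `|α| = 4k + r`, `r ≤ 1` or `r ≥ 3` and a copy of
`A_r` centralizes `F`: then `F` moves exactly `4k` points.
-/

set_option autoImplicit false

namespace Cfsg.Agent.OddHalf.D5.Elem

open Equiv Subgroup
open scoped commutatorElement

variable {α : Type*} [Finite α]

/-- `|F|² ≤ 2^|mv F|` for `|F| = 4^k` -/
theorem four_mul_le {F : Subgroup (Perm α)} (h2 : ∀ f ∈ F, f * f = 1) {k : ℕ}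
    (hk : Nat.card F = 4 ^ k) : 4 * k ≤ (mv F).ncard := by
  have h := sq_card_le h2
  have h1 : (Nat.card F) ^ 2 = 2 ^ (4 * k) := by
    rw [hk, ← pow_mul, show (4 : ℕ) = 2 ^ 2 by norm_num, ← pow_mul]
    congr 1
    omega
  rw [h1] at h
  exact (Nat.pow_le_pow_iff_right (by norm_num)).1 h

theorem even_mv {F : Subgroup (Perm α)} (h2 : ∀ f ∈ F, f * f = 1) : 2 ∣ (mv F).ncard := by
  have : Fact (Nat.Prime 2) := ⟨Nat.prime_two⟩
  have h1 := (isPGroup_of_sq h2).card_modEq_card_fixedPoints α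
  have h3 : MulAction.fixedPoints F α = (mv F)ᶜ := by
    ext x
    constructor
    · rintro h ⟨f, hf, hx⟩
      exact hx (h ⟨f, hf⟩)
    · intro h f
      by_contra hne
      exact h ⟨f, f.2, hne⟩
  rw [h3, Nat.card_coe_set_eq] at h1
  have h4 := Set.ncard_add_ncard_compl (mv F) (Set.toFinite _) (Set.toFinite _)
  have h5 := h1
  rw [Nat.ModEq, ← h4] at h5
  omega

/-- consequence of `key` -/
theorem key_ineq {F L : Subgroup (Perm α)} (h2 : ∀ f ∈ F, f * f = 1)
    (hc : ∀ l ∈ L, ∀ f ∈ F, l * f = f * l) {k d : ℕ} (hk : Nat.card F = 4 ^ k)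
    (hd : (mv F).ncard = 4 * k + d) {x : α} (hx : x ∈ mv F) :
    ∃ a, 1 ≤ a ∧ (orb F x).ncard = 2 ^ a ∧ (Nx F L hc x).relIndex L * 2 ^ a ≤ 2 * a + d := by
  obtain ⟨a, ha⟩ := exists_pow_orb h2 x
  refine ⟨a, ?_, ha, ?_⟩
  · by_contra h0
    have h0 : a = 0 := by omega
    rw [h0, pow_zero, Set.ncard_eq_one] at ha
    obtain ⟨y, hy⟩ := ha
    obtain ⟨f, hf, hfx⟩ := hx
    have h1 : f x ∈ orb F x := ⟨f, hf, rfl⟩
    have h3 := self_mem_orb F x
    rw [hy, Set.mem_singleton_iff] at h1 h3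
    exact hfx (h1.trans h3.symm)
  · have h1 := key h2 hc hx
    have h3 := card_fx_compl_le h2 hc x
    have h4 := le_card_sat h2 hc x
    rw [ha] at h3 h4
    have h5 : (Nat.card F) ^ 2 = 2 ^ (4 * k) := by
      rw [hk, ← pow_mul, show (4 : ℕ) = 2 ^ 2 by norm_num, ← pow_mul]
      congr 1
      omega
    rw [h5, hd, ← pow_add] at h1
    have h6 : 2 ^ (4 * k + (sat F L x).ncard) ≤ 2 ^ (2 * a + (4 * k + d)) := by
      refine h1.trans ?_
      rw [pow_add 2 (2 * a)]
      refine Nat.mul_le_mul_right _ ?_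
      rw [mul_comm 2 a, pow_mul]
      exact Nat.pow_le_pow_left h3 2
    have h7 := (Nat.pow_le_pow_iff_right (by norm_num)).1 h6
    omega

theorem factorial_lt {r u : ℕ} (h3 : 3 ≤ r) (hu : u < r) : 2 * u.factorial < r.factorial := by
  have h1 : u.factorial ≤ (r - 1).factorial := Nat.factorial_le (by omega)
  obtain ⟨m, rfl⟩ : ∃ m, r = m + 1 := ⟨r - 1, by omega⟩
  rw [Nat.add_sub_cancel] at h1
  rw [Nat.factorial_succ]
  have : 0 < m.factorial := Nat.factorial_pos m
  nlinarith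

/-- subgroups of `A_r` -/
theorem le_index {r : ℕ} (h5 : 5 ≤ r) {X : Type*} [Group X] (e : X ≃* alternatingGroup (Fin r))
    (N : Subgroup X) (hN : N ≠ ⊤) : r ≤ N.index := by
  have h1 : IsSimpleGroup (alternatingGroup (Fin r)) :=
    alternatingGroup.isSimpleGroup (by simpa using h5)
  have : Finite X := Finite.of_equiv _ e.symm.toEquiv
  have : Nontrivial X := e.toEquiv.nontrivial
  have h2 : IsSimpleGroup X := IsSimpleGroup.isSimpleGroup_of_surjective e.symm.toMonoidHom
    e.symm.surjective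
  by_contra hlt
  push Not at hlt
  have hcore : N.normalCore = ⊥ := by
    rcases IsSimpleGroup.eq_bot_or_eq_top_of_normal N.normalCore N.normalCore_normal with h | h
    · exact h
    · exact absurd (top_le_iff.mp (h ▸ N.normalCore_le)) hN
  have hinj : Function.Injective (MulAction.toPermHom X (X ⧸ N)) := by
    rw [← MonoidHom.ker_eq_bot_iff, ← Subgroup.normalCore_eq_ker, hcore]
  have hle := Nat.card_le_card_of_injective _ hinj
  classical
  have : Fintype (X ⧸ N) := Fintype.ofFinite _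
  have hc : Nat.card (Equiv.Perm (X ⧸ N)) = N.index.factorial := by
    rw [Nat.card_eq_fintype_card, Fintype.card_perm, Subgroup.index, Nat.card_eq_fintype_card]
  have : Nontrivial (Fin r) := Fin.nontrivial_iff_two_le.2 (by omega)
  have h3 : 2 * Nat.card X = r.factorial := by
    rw [Nat.card_congr e.toEquiv, two_mul_nat_card_alternatingGroup, Nat.card_perm,
      Nat.card_eq_fintype_card, Fintype.card_fin]
  rw [hc] at hle
  have := factorial_lt (by omega : 3 ≤ r) hlt
  omega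

theorem commutator_top {r : ℕ} (h5 : 5 ≤ r) {X : Type*} [Group X]
    (e : X ≃* alternatingGroup (Fin r)) : commutator X = ⊤ := by
  have h := commutator_alternatingGroup_eq_top (α := Fin r) (by simpa using h5)
  rw [eq_top_iff]
  intro x _
  have h1 : e x ∈ commutator (alternatingGroup (Fin r)) := by rw [h]; trivial
  have h2 : x ∈ (commutator (alternatingGroup (Fin r))).map e.symm.toMonoidHom :=
    ⟨e x, h1, e.symm_apply_apply x⟩
  have h3 : (commutator (alternatingGroup (Fin r))).map e.symm.toMonoidHom ≤ commutator X := by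
    rw [commutator_def, commutator_def, Subgroup.map_commutator]
    exact Subgroup.commutator_mono le_top le_top
  exact h3 h2

theorem mv_le_card (F : Subgroup (Perm α)) : (mv F).ncard ≤ Nat.card α :=
  Set.ncard_le_card _

/-- stabilizer of a point in `L`, as subgroup of `L` -/
def st (L : Subgroup (Perm α)) (x : α) : Subgroup L where
  carrier := {l | (l : Perm α) x = x}
  mul_mem' := by
    intro a b ha hb
    have ha' : (a : Perm α) x = x := ha
    have hb' : (b : Perm α) x = x := hb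
    show (((a * b : L)) : Perm α) x = x
    rw [Subgroup.coe_mul, Perm.mul_apply, hb', ha']
  one_mem' := rfl
  inv_mem' := by
    intro a ha
    have ha' : (a : Perm α) x = x := ha
    show (((a⁻¹ : L)) : Perm α) x = x
    rw [Subgroup.coe_inv, Perm.inv_eq_iff_eq]
    exact ha'.symm

omit [Finite α] in
theorem mem_st {L : Subgroup (Perm α)} {x : α} {l : L} : l ∈ st L x ↔ (l : Perm α) x = x := Iff.rfl

omit [Finite α] in
theorem index_st (L : Subgroup (Perm α)) (x : α) : (st L x).index = (orb L x).ncard := by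
  have h1 : st L x = MulAction.stabilizer L x := by
    ext l
    exact Iff.rfl
  rw [h1, MulAction.index_stabilizer]
  congr 1
  ext y
  constructor
  · rintro ⟨f, rfl⟩
    exact ⟨f, f.2, rfl⟩
  · rintro ⟨f, hf, rfl⟩
    exact ⟨⟨f, hf⟩, rfl⟩

omit [Finite α] in
theorem orb_subset_compl {F L : Subgroup (Perm α)} (hc : ∀ l ∈ L, ∀ f ∈ F, l * f = f * l) {x : α}
    (hx : x ∉ mv F) : orb L x ⊆ (mv F)ᶜ := by
  rintro _ ⟨l, hl, rfl⟩ ⟨f, hf, h⟩
  apply h
  rw [← Perm.mul_apply, ← hc l hl f hf, Perm.mul_apply]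
  congr 1
  by_contra hne
  exact hx ⟨f, hf, hne⟩

theorem card_mv_five {F L : Subgroup (Perm α)} (h2 : ∀ f ∈ F, f * f = 1)
    (hc : ∀ l ∈ L, ∀ f ∈ F, l * f = f * l) {k r : ℕ} (h5 : 5 ≤ r) (hα : Nat.card α = 4 * k + r)
    (hk : Nat.card F = 4 ^ k) (e : L ≃* alternatingGroup (Fin r)) : (mv F).ncard = 4 * k := by
  by_contra hne
  have hge := four_mul_le h2 hk
  have hle := mv_le_card F
  rw [hα] at hle
  obtain ⟨d, hd⟩ : ∃ d, (mv F).ncard = 4 * k + d := ⟨(mv F).ncard - 4 * k, by omega⟩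
  have hcompl := Set.ncard_add_ncard_compl (mv F) (Set.toFinite _) (Set.toFinite _)
  rw [hα] at hcompl
  -- moved points
  have hmv : ∀ x ∈ mv F, ∀ l ∈ L, l x = x := by
    intro x hx
    obtain ⟨a, ha1, -, ha⟩ := key_ineq h2 hc hk hd hx
    have h1 : (Nx F L hc x).subgroupOf L = ⊤ := by
      by_contra h0
      have h3 := le_index h5 e _ h0
      have h4 : (Nx F L hc x).relIndex L * 2 ^ a ≤ 2 * a + r := ha.trans (by omega)
      have h6 : r ≤ (Nx F L hc x).relIndex L := h3
      have h7 : a + 1 ≤ 2 ^ a := Nat.lt_two_pow_self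
      have h8 : r * 2 ^ a ≤ 2 * a + r := (Nat.mul_le_mul_right _ h6).trans h4
      have h9 : r * (a + 1) ≤ 2 * a + r := (Nat.mul_le_mul_left _ h7).trans h8
      nlinarith
    have hab : ∀ l₁ l₂ : L, ((l₁ : Perm α) * l₂) x = ((l₂ : Perm α) * l₁) x := by
      intro l₁ l₂
      obtain ⟨-, f₁, hf₁, e₁⟩ : (l₁ : Perm α) ∈ Nx F L hc x := by
        have : l₁ ∈ (Nx F L hc x).subgroupOf L := by rw [h1]; trivial
        exact this
      obtain ⟨-, f₂, hf₂, e₂⟩ : (l₂ : Perm α) ∈ Nx F L hc x := by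
        have : l₂ ∈ (Nx F L hc x).subgroupOf L := by rw [h1]; trivial
        exact this
      calc ((l₁ : Perm α) * l₂) x = ((l₁ : Perm α) * f₂) x := by
            rw [Perm.mul_apply, e₂, Perm.mul_apply]
        _ = (f₂ * f₁) x := by rw [hc _ l₁.2 _ hf₂, Perm.mul_apply, e₁, Perm.mul_apply]
        _ = (f₁ * f₂) x := by rw [comm_of_sq h2 _ hf₂ _ hf₁]
        _ = ((l₂ : Perm α) * f₁) x := by
            rw [hc _ l₂.2 _ hf₁, Perm.mul_apply, Perm.mul_apply, e₂]
        _ = ((l₂ : Perm α) * l₁) x := by rw [Perm.mul_apply, ← e₁, Perm.mul_apply]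
    have h3 : commutator L ≤ st L x := by
      rw [commutator_def, Subgroup.commutator_le]
      intro l₁ _ l₂ _
      rw [mem_st]
      have e₄ : ((⁅l₁, l₂⁆ : L) : Perm α) =
          (((l₂⁻¹ : L) : Perm α) * ((l₁⁻¹ : L) : Perm α))⁻¹ *
            (((l₁⁻¹ : L) : Perm α) * ((l₂⁻¹ : L) : Perm α)) := by
        rw [commutatorElement_def]
        push_cast
        group
      rw [e₄, Perm.mul_apply, hab, inv_self]
    rw [commutator_top h5 e] at h3
    intro l hl
    exact h3 (Subgroup.mem_top (⟨l, hl⟩ : L))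
  have hfix : ∀ x ∉ mv F, ∀ l ∈ L, l x = x := by
    intro x hx
    have h1 : (orb L x).ncard ≤ ((mv F)ᶜ).ncard :=
      Set.ncard_le_ncard (orb_subset_compl hc hx) (Set.toFinite _)
    have h3 : st L x = ⊤ := by
      by_contra h0
      have h4 := le_index h5 e _ h0
      rw [index_st] at h4
      omega
    intro l hl
    exact h3.ge (Subgroup.mem_top (⟨l, hl⟩ : L))
  have hbot : ∀ l : L, l = 1 := by
    intro l
    apply Subtype.ext
    refine Perm.ext fun x => ?_
    by_cases hx : x ∈ mv F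
    · exact hmv x hx l l.2
    · exact hfix x hx l l.2
  have h6 := le_index h5 e ⊥ (by
    intro h0
    have h7 := Subgroup.card_top (G := L)
    rw [← h0, Subgroup.card_bot] at h7
    have : Nontrivial (Fin r) := Fin.nontrivial_iff_two_le.2 (by omega)
    have h8 : 2 * Nat.card L = r.factorial := by
      rw [Nat.card_congr e.toEquiv, two_mul_nat_card_alternatingGroup, Nat.card_perm,
        Nat.card_eq_fintype_card, Fintype.card_fin]
    have h9 := factorial_lt (u := 1) (by omega : 3 ≤ r) (by omega)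
    rw [Nat.factorial_one] at h9
    omega)
  rw [Subgroup.index_bot] at h6
  have : Subsingleton L := ⟨fun a b => (hbot a).trans (hbot b).symm⟩
  rw [Nat.card_of_subsingleton (1 : L)] at h6
  omega

theorem card_sat_le (F L : Subgroup (Perm α)) (x : α) :
    (sat F L x).ncard ≤ Nat.card L * (orb F x).ncard := by
  rw [← Nat.card_coe_set_eq (orb F x), ← Nat.card_coe_set_eq (sat F L x), ← Nat.card_prod]
  refine Nat.card_le_card_of_surjective
    (fun p : L × orb F x =>
      (⟨(p.1 : Perm α) p.2.1, by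
        obtain ⟨f, hf, h⟩ := p.2.2
        exact ⟨_, p.1.2, f, hf, by rw [h]⟩⟩ : sat F L x)) ?_
  rintro ⟨_, l, hl, f, hf, rfl⟩
  exact ⟨⟨⟨l, hl⟩, ⟨f x, f, hf, rfl⟩⟩, rfl⟩

/-- the sign of an involution moving exactly the points of `B` -/
theorem sign_of_moved {β : Type*} [Fintype β] [DecidableEq β] {f : Perm β} (hf : f * f = 1)
    {B : Set β} (hB : ∀ x, f x ≠ x ↔ x ∈ B) : Perm.sign f = (-1) ^ (B.ncard / 2) := by
  rw [Perm.sign_of_pow_two_eq_one (by rw [pow_two]; exact hf)]
  congr 2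
  have h1 : Function.fixedPoints f = Bᶜ := by
    ext x
    rw [Set.mem_compl_iff, ← hB, not_not]
    exact Iff.rfl
  have h2 := Set.ncard_add_ncard_compl B (Set.toFinite _) (Set.toFinite _)
  rw [Nat.card_eq_fintype_card] at h2
  have h3 : Fintype.card (Function.fixedPoints f) = Bᶜ.ncard := by
    rw [← Nat.card_eq_fintype_card, h1, Nat.card_coe_set_eq]
  omega

theorem card_mv_three {β : Type*} [Fintype β] [DecidableEq β] {F : Subgroup (Perm β)}
    (h2 : ∀ f ∈ F, f * f = 1) (hev : ∀ f ∈ F, Perm.sign f = 1) {ρ : Perm β} (h3 : ρ ^ 3 = 1)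
    (h1 : ρ ≠ 1) (hρ : ∀ f ∈ F, ρ * f = f * ρ) {k r : ℕ} (hr : r = 3 ∨ r = 4)
    (hα : Nat.card β = 4 * k + r) (hk : Nat.card F = 4 ^ k) : (mv F).ncard = 4 * k := by
  by_contra hne
  have hc : ∀ l ∈ zpowers ρ, ∀ f ∈ F, l * f = f * l := by
    rintro _ ⟨i, rfl⟩ f hf
    exact ((show Commute ρ f from hρ f hf).zpow_left i).eq
  have hge := four_mul_le h2 hk
  have hle := mv_le_card F
  rw [hα] at hle
  have heven := even_mv h2
  obtain ⟨d, hd⟩ : ∃ d, (mv F).ncard = 4 * k + d := ⟨(mv F).ncard - 4 * k, by omega⟩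
  have hcompl := Set.ncard_add_ncard_compl (mv F) (Set.toFinite _) (Set.toFinite _)
  rw [hα] at hcompl
  have hcL : Nat.card (zpowers ρ) = 3 := by
    rw [Nat.card_zpowers]
    exact orderOf_eq_prime h3 h1
  have hprime : Nat.Prime 3 := Nat.prime_three
  -- a moved point moved by `ρ`
  obtain ⟨x, hx, hρx⟩ : ∃ x ∈ mv F, ρ x ≠ x := by
    by_contra hno
    push Not at hno
    apply h1
    refine Perm.ext fun x => ?_
    by_cases hx : x ∈ mv F
    · exact hno x hx
    · have h4 : (orb (zpowers ρ) x).ncard ≤ ((mv F)ᶜ).ncard :=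
        Set.ncard_le_ncard (orb_subset_compl hc hx) (Set.toFinite _)
      rw [← index_st] at h4
      have h5 : (st (zpowers ρ) x).index ∣ 3 := by
        rw [← hcL]
        exact Subgroup.index_dvd_card _
      rcases (Nat.dvd_prime hprime).1 h5 with h6 | h6
      · rw [Subgroup.index_eq_one] at h6
        exact h6.ge (Subgroup.mem_top (⟨ρ, mem_zpowers ρ⟩ : zpowers ρ))
      · omega
  obtain ⟨a, ha1, hao, ha⟩ := key_ineq h2 hc hk hd hx
  have hidx : (Nx F (zpowers ρ) hc x).relIndex (zpowers ρ) = 3 := by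
    have h5 : (Nx F (zpowers ρ) hc x).relIndex (zpowers ρ) ∣ 3 := by
      rw [← hcL]
      exact Subgroup.relIndex_dvd_card _ _
    rcases (Nat.dvd_prime hprime).1 h5 with h6 | h6
    · exfalso
      rw [Subgroup.relIndex_eq_one] at h6
      obtain ⟨-, f, hf, e⟩ := h6 (mem_zpowers ρ)
      apply hρx
      have e2 : (ρ * ρ) x = x := by
        calc (ρ * ρ) x = (ρ * f) x := by rw [Perm.mul_apply, e, Perm.mul_apply]
          _ = (f * f) x := by rw [hρ f hf, Perm.mul_apply, e, Perm.mul_apply]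
          _ = x := by rw [h2 f hf, Perm.one_apply]
      calc ρ x = ρ ((ρ * ρ) x) := by rw [e2]
        _ = (ρ ^ 3) x := by rw [pow_succ, pow_two]; rfl
        _ = x := by rw [h3, Perm.one_apply]
    · exact h6
  rw [hidx] at ha
  have h7 : a + 1 ≤ 2 ^ a := Nat.lt_two_pow_self
  have ha' : a = 1 ∧ d = 4 := by
    have : d ≤ 4 := by omega
    omega
  obtain ⟨rfl, rfl⟩ := ha'
  rw [pow_one] at hao
  have hkey := key h2 hc hx
  have hlow := le_card_sat h2 hc x
  have hup := card_sat_le F (zpowers ρ) x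
  rw [hidx, hao] at hlow
  rw [hcL, hao] at hup
  have hsat : (sat F (zpowers ρ) x).ncard = 6 := by omega
  have h5 : (Nat.card F) ^ 2 = 2 ^ (4 * k) := by
    rw [hk, ← pow_mul, show (4 : ℕ) = 2 ^ 2 by norm_num, ← pow_mul]
    congr 1
    omega
  rw [hsat, h5, hd] at hkey
  have h8 : 1 < Nat.card (fx F (sat F (zpowers ρ) x)ᶜ) := by
    by_contra h9
    have h10 : Nat.card (fx F (sat F (zpowers ρ) x)ᶜ) ^ 2 ≤ 1 := by
      rw [show (1 : ℕ) = 1 ^ 2 by norm_num]
      exact Nat.pow_le_pow_left (by omega) 2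
    have h11 : (2 : ℕ) ^ (4 * k) * 2 ^ 6 ≤ 1 * 2 ^ (4 * k + 4) :=
      hkey.trans (Nat.mul_le_mul_right _ h10)
    rw [pow_add, one_mul] at h11
    have : 0 < (2 : ℕ) ^ (4 * k) := by positivity
    omega
  obtain ⟨⟨f, hf⟩, hf1⟩ : ∃ f : fx F (sat F (zpowers ρ) x)ᶜ, f ≠ 1 := by
    have : Nontrivial (fx F (sat F (zpowers ρ) x)ᶜ) := Finite.one_lt_card_iff_nontrivial.1 h8
    exact exists_ne 1
  have hfx : f x ≠ x := by
    intro h9
    apply hf1
    apply Subtype.ext
    refine Perm.ext fun y => ?_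
    by_cases hy : y ∈ sat F (zpowers ρ) x
    · exact (fix_sat h2 hc hy hf.1).2 h9
    · exact hf.2 y hy
  have hmoved : ∀ y, f y ≠ y ↔ y ∈ sat F (zpowers ρ) x := by
    intro y
    constructor
    · intro h9
      by_contra h10
      exact h9 (hf.2 y h10)
    · intro h9 h10
      exact hfx ((fix_sat h2 hc h9 hf.1).1 h10)
  have hs := sign_of_moved (h2 f hf.1) hmoved
  rw [hsat, hev f hf.1] at hs
  exact absurd hs (by decide)

/-- Lemma T -/
theorem card_mv_eq {β : Type*} [Fintype β] [DecidableEq β] {F L : Subgroup (Perm β)}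
    (h2 : ∀ f ∈ F, f * f = 1) (hev : ∀ f ∈ F, Perm.sign f = 1)
    (hc : ∀ l ∈ L, ∀ f ∈ F, l * f = f * l) {k r : ℕ} (hr : r ≠ 2)
    (hα : Nat.card β = 4 * k + r) (hk : Nat.card F = 4 ^ k)
    (e : L ≃* alternatingGroup (Fin r)) : (mv F).ncard = 4 * k := by
  have hge := four_mul_le h2 hk
  have hle := mv_le_card F
  rw [hα] at hle
  have heven := even_mv h2
  rcases Nat.lt_or_ge r 3 with hr3 | hr3
  · omega
  rcases Nat.lt_or_ge r 5 with hr5 | hr5
  · -- an element of order three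
    obtain ⟨σ, hσ3, hσ1⟩ : ∃ σ : alternatingGroup (Fin r), σ ^ 3 = 1 ∧ σ ≠ 1 := by
      have h34 : r = 3 ∨ r = 4 := by omega
      rcases h34 with rfl | rfl
      · exact ⟨⟨swap 0 1 * swap 1 2, Perm.mem_alternatingGroup.2 (by decide)⟩,
          by decide, by decide⟩
      · exact ⟨⟨swap 0 1 * swap 1 2, Perm.mem_alternatingGroup.2 (by decide)⟩,
          by decide, by decide⟩
    refine card_mv_three (ρ := (e.symm σ : L)) h2 hev ?_ ?_
      (fun f hf => hc _ (e.symm σ).2 f hf) (by omega) hα hk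
    · have h : (e.symm σ) ^ 3 = 1 := by rw [← map_pow, hσ3, map_one]
      have h' := congrArg (Subtype.val : L → Perm β) h
      exact h'
    · intro h
      apply hσ1
      have h' : e.symm σ = 1 := Subtype.ext h
      rw [← e.apply_symm_apply σ, h', map_one]
  · exact card_mv_five h2 hc hr5 hα hk e

end Cfsg.Agent.OddHalf.D5.Elem
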