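import Cfsg.Agent.OddHalf.D5.PlugAll
import Cfsg.Agent.OddHalf.D5.SixAut.FinalOf
import Cfsg.Agent.OddHalf.D5.SixAut.SymList
import Cfsg.Agent.OddHalf.D6.SixU.Row

/-!
# ODD D5: the node, from its two last rows
-/

set_option autoImplicit false

namespace Cfsg.Agent.OddHalf.D5

open Cfsg.Agent.OddHalf.Iface

universe u

/-- **D5** from the two cases of `n = 6` -/
theorem d5_of (hS : SixAut.SSixRow.{u}) (hA : SixAut.AutRow.{u}) (I : Intr.{u}) : D5.{u} (fun n => 6 ≤ n) :=
  d5_of_six (SixAut.sixRow_of hS hA) I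

/-- **D5** from the listed theorems and the rows used in the symplectic case of `n = 6` -/
theorem d5_of_sym (R : SixAut.SymRows.{u}) (L : SixAut.SymListed.{u}) (I : Intr.{u}) : D5.{u} (fun n => 6 ≤ n) :=
  d5_of D6.SixU.ssixRow (SixAut.C3b.autRow_of fun _ _ C _ _ hT hS => SixAut.sym_false_of R L C hT hS) I

end Cfsg.Agent.OddHalf.D5
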