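import Cfsg.Agent.OddHalf.D5.Sym.MatchPerm

/-!
# ODD D5: counting involutions of `S_n`

`cc n m`: the number of the `a` in `S_n` with `a² = 1` moving `2 m` letters. `card_pred`: the number of the elements of a
set of such `a` that is closed under conjugation.
-/

set_option autoImplicit false
set_option linter.unusedSectionVars false

namespace Cfsg.Agent.OddHalf.D5.InvCount

open Equiv Cfsg.Agent.OddHalf.D5.Sym

variable {n : ℕ}

/-- the number of the `a` in `S_n` with `a² = 1` moving `2 m` letters -/
noncomputable def cc (n m : ℕ) : ℕ := Nat.card {a : Perm (Fin n) // a * a = 1 ∧ a.support.card = 2 * m}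

theorem even_support {a : Perm (Fin n)} (ha : a * a = 1) : a.support.card = 2 * (a.support.card / 2) := by
  have h2 := Perm.sum_cycleType a
  rw [cycleType_of_sq ha, Multiset.sum_replicate, smul_eq_mul] at h2
  omega

theorem iff_cycleType {a : Perm (Fin n)} {m : ℕ} :
    (a * a = 1 ∧ a.support.card = 2 * m) ↔ a.cycleType = Multiset.replicate m 2 := by
  constructor
  · rintro ⟨h1, h2⟩
    rw [cycleType_of_sq h1, h2, Nat.mul_div_cancel_left _ (by norm_num)]
  · intro h
    constructor
    · rw [← pow_two, Perm.pow_prime_eq_one_iff]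
      intro c hc
      rw [h] at hc
      exact Multiset.eq_of_mem_replicate hc
    · have h2 := Perm.sum_cycleType a
      rw [h, Multiset.sum_replicate, smul_eq_mul] at h2
      omega

theorem cc_eq (m : ℕ) (hm : 2 * m ≤ n) :
    cc n m = n.factorial / ((n - 2 * m).factorial * 2 ^ m * m.factorial) := by
  classical
  have h1 : cc n m = (Finset.univ.filter fun g : Perm (Fin n) => g.cycleType = Multiset.replicate m 2).card := by
    rw [cc, Nat.card_congr (Equiv.subtypeEquivRight fun a => iff_cycleType (m := m)), Nat.card_eq_fintype_card,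
      Fintype.card_subtype]
  rw [h1, Perm.card_of_cycleType, Fintype.card_fin, Multiset.sum_replicate, Multiset.prod_replicate, smul_eq_mul,
    if_pos ⟨by omega, fun a ha => (Multiset.eq_of_mem_replicate ha).ge⟩, mul_comm m 2]
  congr 2
  rcases Nat.eq_zero_or_pos m with rfl | hpos
  · rfl
  · rw [Multiset.toFinset_replicate, if_neg (by omega), Finset.prod_singleton, Multiset.count_replicate_self]

theorem card_pred (P : Perm (Fin n) → Prop) (h1 : ∀ a, P a → a * a = 1)
    (h2 : ∀ a b, a * a = 1 → b * b = 1 → a.support.card = b.support.card → P a → P b) (Q : ℕ → Prop) [DecidablePred Q]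
    (hQ : ∀ m, Q m ↔ ∃ a, P a ∧ a.support.card = 2 * m) :
    Nat.card {a // P a} = ∑ m ∈ Finset.range (n / 2 + 1), if Q m then cc n m else 0 := by
  classical
  rw [Nat.card_eq_fintype_card, Fintype.card_subtype]
  have hmap : ∀ a ∈ Finset.univ.filter P, a.support.card / 2 ∈ Finset.range (n / 2 + 1) := by
    intro a _
    have h3 := Finset.card_le_univ a.support
    rw [Fintype.card_fin] at h3
    rw [Finset.mem_range]
    omega
  rw [Finset.card_eq_sum_card_fiberwise (f := fun a : Perm (Fin n) => a.support.card / 2) hmap]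
  refine Finset.sum_congr rfl fun m _ => ?_
  split_ifs with h
  · obtain ⟨b, hb, hbm⟩ := (hQ m).1 h
    rw [cc, Nat.card_eq_fintype_card, Fintype.card_subtype]
    congr 1
    ext a
    simp only [Finset.mem_filter, Finset.mem_univ, true_and]
    constructor
    · rintro ⟨ha, hm⟩
      exact ⟨h1 a ha, by have := even_support (h1 a ha); omega⟩
    · rintro ⟨ha, hm⟩
      exact ⟨h2 b a (h1 b hb) ha (by rw [hbm, hm]) hb, by omega⟩
  · rw [Finset.card_eq_zero, Finset.filter_eq_empty_iff]
    intro a ha hm
    rw [Finset.mem_filter] at ha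
    apply h
    exact (hQ m).2 ⟨a, ha.2, by have := even_support (h1 a ha.2); omega⟩

end Cfsg.Agent.OddHalf.D5.InvCount
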