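import Mathlib

/-!
# Permutation lemmas for the isoclinic case (ODD D5)

`exists_elem`: every involution of `Sym(Ω)` lies in an elementary abelian subgroup `E` with `2^|Ω| ≤ 2|E|²`, containing odd
permutations. `card_le`: abelian 2-subgroups moving only points of `S` satisfy `|P|² ≤ 2^|S|`. `type_two`: if `P` is an
abelian 2-group with `2^|Ω| ≤ 2|P|²` all of whose squares are `1` or `z = σ²`, then `z` moves only four points.
-/

set_option autoImplicit false
set_option linter.unusedSectionVars false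
set_option linter.unusedVariables false
set_option linter.style.haveILetI false

namespace Cfsg.Agent.OddHalf.D5.IsoPerm

open Equiv Subgroup

variable {Ω : Type*} [Fintype Ω] [DecidableEq Ω]

/-- The permutations `σ` with `σ x ∈ {x, w x}` for all `x`. -/
def EE (w : Perm Ω) (hw : w * w = 1) : Subgroup (Perm Ω) where
  carrier := {σ | ∀ x, σ x = x ∨ σ x = w x}
  one_mem' := fun x => Or.inl rfl
  mul_mem' := by
    intro a b ha hb x
    have hww : ∀ x, w (w x) = x := fun x => DFunLike.congr_fun hw x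
    show a (b x) = x ∨ a (b x) = w x
    rcases hb x with h | h
    · rw [h]; exact ha x
    · rw [h]
      rcases ha (w x) with h2 | h2
      · exact Or.inr h2
      · left; rw [h2, hww]
  inv_mem' := by
    intro a ha x
    have hww : ∀ x, w (w x) = x := fun x => DFunLike.congr_fun hw x
    have h := ha (a⁻¹ x)
    have h0 : a (a⁻¹ x) = x := by rw [← Perm.mul_apply, mul_inv_cancel, Perm.one_apply]
    rw [h0] at h
    rcases h with h | h
    · exact Or.inl h.symm
    · right
      have := congrArg w h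
      rw [hww] at this
      exact this.symm

theorem mem_EE {w : Perm Ω} {hw : w * w = 1} {σ : Perm Ω} : σ ∈ EE w hw ↔ ∀ x, σ x = x ∨ σ x = w x := Iff.rfl

theorem EE_sq {w : Perm Ω} {hw : w * w = 1} {σ : Perm Ω} (h : σ ∈ EE w hw) : σ * σ = 1 := by
  have hww : ∀ x, w (w x) = x := fun x => DFunLike.congr_fun hw x
  ext x
  show σ (σ x) = x
  rcases h x with h1 | h1
  · rw [h1, h1]
  · rcases h (w x) with h2 | h2
    · -- `σ (w x) = w x = σ x`
      have h3 : σ (w x) = σ x := by rw [h2, h1]
      have h4 := σ.injective h3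
      rw [h1, h4, h1, h4]
    · rw [h1, h2, hww]

/-- Removing a transposition from an involution. -/
theorem mul_swap_sq {w : Perm Ω} (hw : w * w = 1) (a : Ω) : w * swap a (w a) * (w * swap a (w a)) = 1 := by
  have hww : ∀ x, w (w x) = x := fun x => DFunLike.congr_fun hw x
  have h : w * swap a (w a) = swap a (w a) * w := by
    rw [Equiv.mul_swap_eq_swap_mul, hww, swap_comm]
  calc w * swap a (w a) * (w * swap a (w a)) = w * (swap a (w a) * w) * swap a (w a) := by simp only [mul_assoc]
    _ = w * (w * swap a (w a)) * swap a (w a) := by rw [h]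
    _ = (w * w) * (swap a (w a) * swap a (w a)) := by simp only [mul_assoc]
    _ = 1 := by rw [hw, swap_mul_self, one_mul]

theorem mul_swap_apply {w : Perm Ω} (hw : w * w = 1) (a x : Ω) (h1 : x ≠ a) (h2 : x ≠ w a) :
    (w * swap a (w a)) x = w x := by
  rw [Perm.mul_apply, swap_apply_of_ne_of_ne h1 h2]

theorem mul_swap_apply_left {w : Perm Ω} (hw : w * w = 1) (a : Ω) : (w * swap a (w a)) a = a := by
  rw [Perm.mul_apply, swap_apply_left]
  exact DFunLike.congr_fun hw a

theorem mul_swap_apply_right {w : Perm Ω} (a : Ω) : (w * swap a (w a)) (w a) = w a := by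
  rw [Perm.mul_apply, swap_apply_right]

theorem card_EE (m : ℕ) : ∀ (w : Perm Ω) (hw : w * w = 1), w.support.card = m →
    2 ^ m ≤ (Nat.card (EE w hw)) ^ 2 := by
  induction m using Nat.strong_induction_on with
  | _ m ih =>
    intro w hw hm
    have hww : ∀ x, w (w x) = x := fun x => DFunLike.congr_fun hw x
    by_cases h0 : w = 1
    · have : m = 0 := by rw [← hm, h0, Perm.support_one, Finset.card_empty]
      rw [this, pow_zero]
      exact Nat.one_le_iff_ne_zero.2 (pow_ne_zero _ Nat.card_pos.ne')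
    obtain ⟨a, ha⟩ : ∃ a, w a ≠ a := by
      by_contra hcon
      push Not at hcon
      exact h0 (Equiv.ext hcon)
    set w' := w * swap a (w a) with hw'
    have hw'2 : w' * w' = 1 := mul_swap_sq hw a
    have hsupp : w.support = insert a (insert (w a) w'.support) := by
      ext x
      rw [Finset.mem_insert, Finset.mem_insert, Perm.mem_support, Perm.mem_support]
      by_cases h1 : x = a
      · simp [h1, ha]
      by_cases h2 : x = w a
      · rw [h2, hww]
        simp [ha.symm]
      · rw [mul_swap_apply hw a x h1 h2]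
        simp [h1, h2]
    have hcard : m = w'.support.card + 2 := by
      rw [← hm, hsupp, Finset.card_insert_of_notMem, Finset.card_insert_of_notMem]
      · rw [Perm.mem_support, not_not]; exact mul_swap_apply_right a
      · rw [Finset.mem_insert, not_or]
        refine ⟨ha.symm, ?_⟩
        rw [Perm.mem_support, not_not]; exact mul_swap_apply_left hw a
    have hih := ih w'.support.card (by omega) w' hw'2 rfl
    -- the map `(b, σ) ↦ σ * swap^b`
    have hsub : ∀ σ ∈ EE w' hw'2, σ ∈ EE w hw := by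
      intro σ hσ x
      by_cases h1 : x = a
      · left
        have := hσ x
        rw [h1, hw', mul_swap_apply_left hw] at this
        rw [h1]; tauto
      by_cases h2 : x = w a
      · left
        have := hσ x
        rw [h2, hw', mul_swap_apply_right] at this
        rw [h2]; tauto
      · have := hσ x
        rwa [hw', mul_swap_apply hw a x h1 h2] at this
    have hsw : swap a (w a) ∈ EE w hw := by
      intro x
      by_cases h1 : x = a
      · right; rw [h1, swap_apply_left]
      by_cases h2 : x = w a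
      · right; rw [h2, swap_apply_right, hww]
      · left; exact swap_apply_of_ne_of_ne h1 h2
    have hfix : ∀ σ ∈ EE w' hw'2, σ a = a := by
      intro σ hσ
      have := hσ a
      rw [hw', mul_swap_apply_left hw] at this
      tauto
    let F : EE w' hw'2 × Bool → EE w hw := fun p =>
      ⟨p.1.1 * (if p.2 then swap a (w a) else 1), (EE w hw).mul_mem (hsub _ p.1.2) (by
        split_ifs
        · exact hsw
        · exact one_mem _)⟩
    have hF : Function.Injective F := by
      rintro ⟨⟨σ, hσ⟩, b⟩ ⟨⟨τ, hτ⟩, c⟩ h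
      have h1 : σ * (if b then swap a (w a) else 1) = τ * (if c then swap a (w a) else 1) :=
        congrArg Subtype.val h
      have hne : ∀ ρ ∈ EE w' hw'2, ρ (w a) ≠ a := by
        intro ρ hρ h2
        exact ha (ρ.injective (h2.trans (hfix ρ hρ).symm))
      cases b <;> cases c
      · simp only [Bool.false_eq_true, if_false, mul_one] at h1
        rw [Prod.mk.injEq]
        exact ⟨Subtype.ext h1, rfl⟩
      · exfalso
        have h2 := DFunLike.congr_fun h1 a
        simp only [Bool.false_eq_true, if_false, mul_one, if_true, Perm.mul_apply, swap_apply_left] at h2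
        rw [hfix σ hσ] at h2
        exact hne τ hτ h2.symm
      · exfalso
        have h2 := DFunLike.congr_fun h1 a
        simp only [Bool.false_eq_true, if_false, mul_one, if_true, Perm.mul_apply, swap_apply_left] at h2
        rw [hfix τ hτ] at h2
        exact hne σ hσ h2
      · simp only [if_true] at h1
        rw [Prod.mk.injEq]
        exact ⟨Subtype.ext (mul_right_cancel h1), rfl⟩
    have hc := Nat.card_le_card_of_injective F hF
    rw [Nat.card_prod, Nat.card_eq_fintype_card (α := Bool), Fintype.card_bool] at hc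
    rw [hcard, pow_add]
    calc 2 ^ w'.support.card * 2 ^ 2 ≤ (Nat.card (EE w' hw'2)) ^ 2 * 2 ^ 2 := Nat.mul_le_mul_right _ hih
      _ = (Nat.card (EE w' hw'2) * 2) ^ 2 := by ring
      _ ≤ (Nat.card (EE w hw)) ^ 2 := Nat.pow_le_pow_left hc 2

/-- An involution extends to an involution with at most one fixed point. -/
theorem exists_ext (m : ℕ) : ∀ z : Perm Ω, z * z = 1 → Fintype.card Ω - z.support.card = m →
    ∃ w : Perm Ω, w * w = 1 ∧ (∀ x, z x = x ∨ z x = w x) ∧ Fintype.card Ω ≤ w.support.card + 1 := by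
  induction m using Nat.strong_induction_on with
  | _ m ih =>
    intro z hz hm
    by_cases h : Fintype.card Ω ≤ z.support.card + 1
    · exact ⟨z, hz, fun x => Or.inr rfl, h⟩
    push Not at h
    -- two fixed points
    obtain ⟨a, ha, b, hb, hab⟩ : ∃ a, z a = a ∧ ∃ b, z b = b ∧ a ≠ b := by
      have h1 : 1 < (z.supportᶜ).card := by
        rw [Finset.card_compl]; omega
      obtain ⟨a, ha, b, hb, hab⟩ := Finset.one_lt_card.1 h1
      rw [Finset.mem_compl, Perm.mem_support, not_not] at ha hb
      exact ⟨a, ha, b, hb, hab⟩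
    have hc : z * swap a b = swap a b * z := by
      rw [Equiv.mul_swap_eq_swap_mul, ha, hb]
    have hz' : z * swap a b * (z * swap a b) = 1 := by
      calc z * swap a b * (z * swap a b) = z * (swap a b * z) * swap a b := by simp only [mul_assoc]
        _ = (z * z) * (swap a b * swap a b) := by rw [← hc]; simp only [mul_assoc]
        _ = 1 := by rw [hz, swap_mul_self, one_mul]
    have hx : ∀ x, x ≠ a → x ≠ b → (z * swap a b) x = z x := fun x h1 h2 => by
      rw [Perm.mul_apply, swap_apply_of_ne_of_ne h1 h2]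
    have hsupp : (z * swap a b).support = insert a (insert b z.support) := by
      ext x
      rw [Finset.mem_insert, Finset.mem_insert, Perm.mem_support, Perm.mem_support]
      by_cases h1 : x = a
      · rw [h1, Perm.mul_apply, swap_apply_left, hb]
        simp [hab.symm]
      by_cases h2 : x = b
      · rw [h2, Perm.mul_apply, swap_apply_right, ha]
        simp [hab]
      · rw [hx x h1 h2]
        simp [h1, h2]
    have hcard : (z * swap a b).support.card = z.support.card + 2 := by
      rw [hsupp, Finset.card_insert_of_notMem, Finset.card_insert_of_notMem]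
      · rw [Perm.mem_support, not_not]; exact hb
      · rw [Finset.mem_insert, not_or]
        refine ⟨hab, ?_⟩
        rw [Perm.mem_support, not_not]; exact ha
    obtain ⟨w, hw, hzw, hwc⟩ := ih (Fintype.card Ω - (z * swap a b).support.card) (by omega) _ hz' rfl
    refine ⟨w, hw, fun x => ?_, hwc⟩
    by_cases h1 : x = a
    · left; rw [h1, ha]
    by_cases h2 : x = b
    · left; rw [h2, hb]
    · rw [← hx x h1 h2]
      exact hzw x

/-- Every involution lies in an elementary abelian subgroup `E` with `2^|Ω| ≤ 2|E|²` containing odd permutations. -/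
theorem exists_elem (hΩ : 2 ≤ Fintype.card Ω) (z : Perm Ω) (hz : z * z = 1) :
    ∃ E : Subgroup (Perm Ω), z ∈ E ∧ (∀ a ∈ E, a * a = 1) ∧ 2 ^ Fintype.card Ω ≤ 2 * (Nat.card E) ^ 2 ∧
      ∃ a ∈ E, Perm.sign a = -1 := by
  obtain ⟨w, hw, hzw, hc⟩ := exists_ext _ z hz rfl
  refine ⟨EE w hw, hzw, fun a ha => EE_sq ha, ?_, ?_⟩
  · calc 2 ^ Fintype.card Ω ≤ 2 ^ (w.support.card + 1) := Nat.pow_le_pow_right (by norm_num) hc
      _ = 2 * 2 ^ w.support.card := by rw [pow_succ, mul_comm]
      _ ≤ _ := Nat.mul_le_mul_left _ (card_EE _ w hw rfl)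
  · obtain ⟨a, ha⟩ : ∃ a, w a ≠ a := by
      have h1 : w.support.Nonempty := by
        rw [← Finset.card_pos]; omega
      obtain ⟨a, ha⟩ := h1
      exact ⟨a, Perm.mem_support.1 ha⟩
    refine ⟨swap a (w a), ?_, Perm.sign_swap ha.symm⟩
    intro x
    have hww : ∀ x, w (w x) = x := fun x => DFunLike.congr_fun hw x
    by_cases h1 : x = a
    · right; rw [h1, swap_apply_left]
    by_cases h2 : x = w a
    · right; rw [h2, swap_apply_right, hww]
    · left; exact swap_apply_of_ne_of_ne h1 h2

/-! ### Abelian 2-groups -/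

theorem two_mul_le_two_pow (a : ℕ) (ha : 1 ≤ a) : 2 * a ≤ 2 ^ a := by
  induction a with
  | zero => omega
  | succ a ih =>
    rcases Nat.eq_zero_or_pos a with h | h
    · subst h; norm_num
    · rw [pow_succ]
      have := ih h
      omega

/-- The points fixed by an abelian group. -/
theorem fix_orbit {P : Subgroup (Perm Ω)} (hc : ∀ p ∈ P, ∀ q ∈ P, p * q = q * p) {ω : Ω} {p : Perm Ω} (hp : p ∈ P)
    (h : p ω = ω) {q : Perm Ω} (hq : q ∈ P) : p (q ω) = q ω := by
  have h1 := DFunLike.congr_fun (hc p hp q hq) ω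
  rw [Perm.mul_apply, Perm.mul_apply, h] at h1
  exact h1

/-- The stabilizer of a point as a subgroup of `Perm Ω`. -/
def stab (P : Subgroup (Perm Ω)) (ω : Ω) : Subgroup (Perm Ω) where
  carrier := {p | p ∈ P ∧ p ω = ω}
  one_mem' := ⟨P.one_mem, rfl⟩
  mul_mem' := by
    rintro a b ⟨ha, ha'⟩ ⟨hb, hb'⟩
    exact ⟨P.mul_mem ha hb, by rw [Perm.mul_apply, hb', ha']⟩
  inv_mem' := by
    rintro a ⟨ha, ha'⟩
    exact ⟨P.inv_mem ha, by rw [Perm.inv_eq_iff_eq, ha']⟩

theorem mem_stab {P : Subgroup (Perm Ω)} {ω : Ω} {p : Perm Ω} : p ∈ stab P ω ↔ p ∈ P ∧ p ω = ω := Iff.rfl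

theorem stab_le (P : Subgroup (Perm Ω)) (ω : Ω) : stab P ω ≤ P := fun _ h => h.1

/-- The orbit as a finset. -/
noncomputable def orb (P : Subgroup (Perm Ω)) (ω : Ω) : Finset Ω :=
  open Classical in Finset.univ.filter (fun x => ∃ p ∈ P, p ω = x)

theorem mem_orb {P : Subgroup (Perm Ω)} {ω x : Ω} : x ∈ orb P ω ↔ ∃ p ∈ P, p ω = x := by
  classical
  simp [orb]

theorem card_orb_mul (P : Subgroup (Perm Ω)) (ω : Ω) :
    (orb P ω).card * Nat.card (stab P ω) = Nat.card P := by
  classical
  have h1 := MulAction.card_orbit_mul_card_stabilizer_eq_card_group P ω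
  have h2 : (MulAction.orbit P ω) = ((orb P ω : Finset Ω) : Set Ω) := by
    ext x
    rw [Finset.mem_coe, mem_orb, MulAction.mem_orbit_iff]
    constructor
    · rintro ⟨p, hp⟩
      exact ⟨p.1, p.2, hp⟩
    · rintro ⟨p, hp, hx⟩
      exact ⟨⟨p, hp⟩, hx⟩
  have h3 : Nat.card (MulAction.stabilizer P ω) = Nat.card (stab P ω) := by
    refine Nat.card_congr ⟨fun p => ⟨p.1.1, p.1.2, p.2⟩, fun p => ⟨⟨p.1, p.2.1⟩, p.2.2⟩, fun p => rfl, fun p => rfl⟩
  rw [← h3, Nat.card_eq_fintype_card, Nat.card_eq_fintype_card, ← h1]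
  congr 1
  rw [← Set.toFinset_card]
  congr 1
  ext x
  rw [Set.mem_toFinset, h2, Finset.mem_coe]

theorem comm_mono {P Q : Subgroup (Perm Ω)} (h : Q ≤ P) (hc : ∀ p ∈ P, ∀ q ∈ P, p * q = q * p) :
    ∀ p ∈ Q, ∀ q ∈ Q, p * q = q * p := fun p hp q hq => hc p (h hp) q (h hq)

/-- An abelian 2-group moving only points of `S` has order at most `2^(|S|/2)`. -/
theorem card_le (m : ℕ) : ∀ (P : Subgroup (Perm Ω)) (S : Finset Ω), (∀ p ∈ P, ∀ q ∈ P, p * q = q * p) →
    IsPGroup 2 P → (∀ p ∈ P, ∀ x ∉ S, p x = x) → S.card = m → (Nat.card P) ^ 2 ≤ 2 ^ m := by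
  classical
  haveI : Fact (Nat.Prime 2) := ⟨Nat.prime_two⟩
  induction m using Nat.strong_induction_on with
  | _ m ih =>
    intro P S hc hP hS hm
    by_cases h0 : P = ⊥
    · rw [h0, Subgroup.card_bot]
      exact Nat.one_le_two_pow
    obtain ⟨p, hp, hp1⟩ := (Subgroup.bot_or_exists_ne_one P).resolve_left h0
    obtain ⟨ω, hω⟩ : ∃ ω, p ω ≠ ω := by
      by_contra hcon
      push Not at hcon
      exact hp1 (Equiv.ext hcon)
    have hoS : orb P ω ⊆ S := by
      intro x hx
      obtain ⟨q, hq, hqx⟩ := mem_orb.1 hx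
      by_contra hxS
      have h1 := hS q⁻¹ (P.inv_mem hq) x hxS
      have h2 : x = ω := by
        rw [← h1, ← hqx, ← Perm.mul_apply, inv_mul_cancel, Perm.one_apply]
      rw [h2] at hxS
      exact hω (hS p hp ω hxS)
    obtain ⟨k, hk⟩ := IsPGroup.iff_card.1 hP
    have h1 := card_orb_mul P ω
    obtain ⟨a, ha, ha2⟩ : ∃ a ≤ k, (orb P ω).card = 2 ^ a := by
      rw [hk] at h1
      exact (Nat.dvd_prime_pow Nat.prime_two).1 (Dvd.intro _ h1)
    have ha1 : 1 ≤ a := by
      by_contra h
      have : a = 0 := by omega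
      rw [this, pow_zero, Finset.card_eq_one] at ha2
      obtain ⟨x, hx⟩ := ha2
      have h2 : ω ∈ orb P ω := mem_orb.2 ⟨1, P.one_mem, rfl⟩
      have h3 : p ω ∈ orb P ω := mem_orb.2 ⟨p, hp, rfl⟩
      rw [hx, Finset.mem_singleton] at h2 h3
      exact hω (h3.trans h2.symm)
    have h2 := ih (S \ orb P ω).card (by
      have h3 := Finset.card_sdiff_add_card_eq_card hoS
      have h4 : 0 < (orb P ω).card := by rw [ha2]; positivity
      omega) (stab P ω) (S \ orb P ω) (comm_mono (stab_le P ω) hc) (hP.to_le (stab_le P ω)) (by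
      intro q hq x hx
      rw [Finset.mem_sdiff, not_and_not_right] at hx
      by_cases hxS : x ∈ S
      · obtain ⟨r, hr, hrx⟩ := mem_orb.1 (hx hxS)
        rw [← hrx]
        exact fix_orbit hc hq.1 hq.2 hr
      · exact hS q hq.1 x hxS) rfl
    rw [← h1, mul_pow]
    have h3 := Finset.card_sdiff_add_card_eq_card hoS
    have h4 : ((orb P ω).card) ^ 2 ≤ 2 ^ (orb P ω).card := by
      rw [ha2, ← pow_mul]
      apply Nat.pow_le_pow_right (by norm_num)
      have := two_mul_le_two_pow a ha1
      omega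
    calc ((orb P ω).card) ^ 2 * (Nat.card (stab P ω)) ^ 2 ≤ 2 ^ (orb P ω).card * 2 ^ (S \ orb P ω).card :=
          Nat.mul_le_mul h4 h2
      _ = 2 ^ m := by rw [← pow_add, ← hm, ← h3, add_comm]

/-- **Type 2**: `P` abelian 2-group with `2^|Ω| ≤ 2|P|²`, all the squares in `{1, z}`, `z = σ²`: the orbit
`{a, σ a, z a, σ z a}` contains all the points moved by `z`. -/
theorem type_two {P : Subgroup (Perm Ω)} (hc : ∀ p ∈ P, ∀ q ∈ P, p * q = q * p) (hP : IsPGroup 2 P)
    (hcard : 2 ^ Fintype.card Ω ≤ 2 * (Nat.card P) ^ 2) {σ z : Perm Ω} (hσ : σ ∈ P) (hσz : σ * σ = z)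
    (hzz : z * z = 1) (hsq : ∀ p ∈ P, p * p = 1 ∨ p * p = z) {a : Ω} (ha : z a ≠ a) {x : Ω} (hx : z x ≠ x) :
    x = a ∨ x = σ a ∨ x = z a ∨ x = σ (z a) := by
  classical
  haveI : Fact (Nat.Prime 2) := ⟨Nat.prime_two⟩
  have hσσ : ∀ y, σ (σ y) = z y := fun y => by rw [← hσz]; rfl
  have hzP : z ∈ P := by rw [← hσz]; exact P.mul_mem hσ hσ
  have hz2 : ∀ y, z (z y) = y := fun y => DFunLike.congr_fun hzz y
  have hσc : ∀ y, σ (z y) = z (σ y) := fun y => by rw [← hσσ, ← hσσ]
  obtain ⟨k, hk⟩ := IsPGroup.iff_card.1 hP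
  -- four distinct points
  have hσa : ∀ y, z y ≠ y → σ y ≠ y := fun y hy h => hy (by rw [← hσσ, h, h])
  have hfour : ∀ y, z y ≠ y → ({y, σ y, z y, σ (z y)} : Finset Ω).card = 4 := by
    intro y hy
    have h1 := hσa y hy
    have h2 : z (z y) ≠ z y := fun h => hy (z.injective h)
    have h3 := hσa _ h2
    have h4 : σ y ≠ z y := fun h => h1 (σ.injective (by rw [hσσ, h]))
    have h5 : σ (z y) ≠ y := fun h => by
      apply h4
      have h6 := congrArg z h
      rw [← hσc, hz2] at h6
      exact h6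
    have h6 : σ (z y) ≠ σ y := fun h => hy (σ.injective h)
    rw [Finset.card_insert_of_notMem, Finset.card_insert_of_notMem, Finset.card_insert_of_notMem,
      Finset.card_singleton]
    · rw [Finset.mem_singleton]; exact h3.symm
    · rw [Finset.mem_insert, Finset.mem_singleton, not_or]; exact ⟨h4, h6.symm⟩
    · rw [Finset.mem_insert, Finset.mem_insert, Finset.mem_singleton, not_or, not_or]
      exact ⟨h1.symm, hy.symm, h5.symm⟩
  have hsub : ∀ y, ({y, σ y, z y, σ (z y)} : Finset Ω) ⊆ orb P y := by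
    intro y w hw
    simp only [Finset.mem_insert, Finset.mem_singleton] at hw
    rw [mem_orb]
    rcases hw with rfl | rfl | rfl | rfl
    · exact ⟨1, P.one_mem, rfl⟩
    · exact ⟨σ, hσ, rfl⟩
    · exact ⟨z, hzP, rfl⟩
    · exact ⟨σ * z, P.mul_mem hσ hzP, rfl⟩
  -- the orbits of moved points have length 4
  have horb : ∀ y, z y ≠ y → (orb P y).card = 4 := by
    intro y hy
    have h1 := card_orb_mul P y
    obtain ⟨b, hb, hb2⟩ : ∃ b ≤ k, (orb P y).card = 2 ^ b := by
      rw [hk] at h1
      exact (Nat.dvd_prime_pow Nat.prime_two).1 (Dvd.intro _ h1)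
    have h2 : 4 ≤ (orb P y).card := by
      rw [← hfour y hy]
      exact Finset.card_le_card (hsub y)
    have h3 := card_le _ (stab P y) (Finset.univ \ orb P y) (comm_mono (stab_le P y) hc)
      (hP.to_le (stab_le P y)) (by
      intro q hq x hx
      rw [Finset.mem_sdiff, not_and_not_right] at hx
      obtain ⟨r, hr, hrx⟩ := mem_orb.1 (hx (Finset.mem_univ _))
      rw [← hrx]
      exact fix_orbit hc hq.1 hq.2 hr) rfl
    have h4 := Finset.card_sdiff_add_card_eq_card (Finset.subset_univ (orb P y))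
    rw [Finset.card_univ] at h4
    have h5 : 2 ^ Fintype.card Ω ≤ 2 * ((orb P y).card ^ 2 * 2 ^ (Finset.univ \ orb P y).card) := by
      calc 2 ^ Fintype.card Ω ≤ 2 * (Nat.card P) ^ 2 := hcard
        _ = 2 * ((orb P y).card ^ 2 * Nat.card (stab P y) ^ 2) := by rw [← h1, mul_pow]
        _ ≤ _ := Nat.mul_le_mul_left _ (Nat.mul_le_mul_left _ h3)
    rw [← h4, pow_add] at h5
    have h6 : 0 < 2 ^ (Finset.univ \ orb P y).card := by positivity
    have h7 : 2 ^ (orb P y).card ≤ 2 * (orb P y).card ^ 2 := by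
      by_contra hlt
      push Not at hlt
      nlinarith
    rw [hb2] at h7 h2 ⊢
    -- `2^(2^b) ≤ 2 * 4^b`, so `b ≤ 2`
    have h8 : 2 ^ b ≤ 2 * b + 1 := by
      have h9 : 2 * (2 ^ b) ^ 2 = 2 ^ (2 * b + 1) := by rw [← pow_mul, pow_succ]; ring
      rw [h9] at h7
      exact (Nat.pow_le_pow_iff_right (by norm_num)).1 h7
    have h9 : b ≤ 2 := by
      by_contra hlt
      have h10 : 2 * b + 1 < 2 ^ b := by
        obtain ⟨c, rfl⟩ : ∃ c, b = c + 3 := ⟨b - 3, by omega⟩
        clear * -
        induction c with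
        | zero => norm_num
        | succ c ih => rw [show c + 1 + 3 = (c + 3) + 1 by ring, pow_succ]; omega
      omega
    interval_cases b <;> omega
  have heq : ∀ y, z y ≠ y → orb P y = {y, σ y, z y, σ (z y)} := fun y hy =>
    (Finset.eq_of_subset_of_card_le (hsub y) (by rw [horb y hy, hfour y hy])).symm
  by_contra hcon
  push Not at hcon
  obtain ⟨c1, c2, c3, c4⟩ := hcon
  have hxo : x ∉ orb P a := by
    rw [heq a ha]
    simp only [Finset.mem_insert, Finset.mem_singleton, not_or]
    exact ⟨c1, c2, c3, c4⟩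
  have hdisj : Disjoint (orb P a) (orb P x) := by
    rw [Finset.disjoint_left]
    intro y hy hy2
    apply hxo
    obtain ⟨p, hp, hpy⟩ := mem_orb.1 hy
    obtain ⟨q, hq, hqy⟩ := mem_orb.1 hy2
    rw [mem_orb]
    refine ⟨q⁻¹ * p, P.mul_mem (P.inv_mem hq) hp, ?_⟩
    rw [Perm.mul_apply, hpy, ← hqy, ← Perm.mul_apply, inv_mul_cancel, Perm.one_apply]
  -- the stabilizer of `a` has orbits of length at most 2 on the orbit of `x`
  have h2orb : (orb (stab P a) x).card ≤ 2 := by
    have h1 : orb (stab P a) x ⊆ {x, z x} := by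
      intro y hy
      obtain ⟨p, hp, hpy⟩ := mem_orb.1 hy
      have hpp : p * p = 1 := by
        rcases hsq p hp.1 with h | h
        · exact h
        · exfalso
          apply ha
          rw [← h, Perm.mul_apply, hp.2, hp.2]
      have hpp' : ∀ w, p (p w) = w := fun w => DFunLike.congr_fun hpp w
      have hpσ : ∀ w, p (σ w) = σ (p w) := fun w => DFunLike.congr_fun (hc p hp.1 σ hσ) w
      have hpz : ∀ w, p (z w) = z (p w) := fun w => DFunLike.congr_fun (hc p hp.1 z hzP) w
      have hyo : y ∈ orb P x := mem_orb.2 ⟨p, hp.1, hpy⟩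
      rw [heq x hx] at hyo
      simp only [Finset.mem_insert, Finset.mem_singleton] at hyo ⊢
      rcases hyo with h | h | h | h
      · exact Or.inl h
      · exfalso
        have h1 := hpp' x
        rw [hpy, h, hpσ, hpy, h, hσσ] at h1
        exact hx h1
      · exact Or.inr h
      · exfalso
        have h1 := hpp' x
        rw [hpy, h, hpσ, hpz, hpy, h, hσc (σ (z x)), hσσ, hz2] at h1
        exact hx h1
    exact (Finset.card_le_card h1).trans Finset.card_le_two
  have h3 := card_orb_mul P a
  have h4 := card_orb_mul (stab P a) x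
  rw [horb a ha] at h3
  have h5 := card_le _ (stab (stab P a) x) (Finset.univ \ (orb P a ∪ orb P x))
    (comm_mono ((stab_le _ _).trans (stab_le _ _)) hc) (hP.to_le ((stab_le _ _).trans (stab_le _ _))) (by
    intro q hq y hy
    rw [Finset.mem_sdiff, not_and_not_right] at hy
    rcases Finset.mem_union.1 (hy (Finset.mem_univ _)) with h | h
    · obtain ⟨r, hr, hrx⟩ := mem_orb.1 h
      rw [← hrx]
      exact fix_orbit hc hq.1.1 hq.1.2 hr
    · obtain ⟨r, hr, hrx⟩ := mem_orb.1 h
      rw [← hrx]
      exact fix_orbit hc hq.1.1 hq.2 hr) rfl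
  have h6 := Finset.card_sdiff_add_card_eq_card (Finset.subset_univ (orb P a ∪ orb P x))
  rw [Finset.card_univ, Finset.card_union_of_disjoint hdisj, horb a ha, horb x hx] at h6
  have h7 : Nat.card P ≤ 8 * Nat.card (stab (stab P a) x) := by
    rw [← h3, ← h4]
    nlinarith
  have h8 : (Nat.card P) ^ 2 ≤ 64 * 2 ^ (Finset.univ \ (orb P a ∪ orb P x)).card := by
    calc (Nat.card P) ^ 2 ≤ (8 * Nat.card (stab (stab P a) x)) ^ 2 := Nat.pow_le_pow_left h7 2
      _ = 64 * (Nat.card (stab (stab P a) x)) ^ 2 := by ring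
      _ ≤ _ := Nat.mul_le_mul_left _ h5
  rw [← h6, pow_add] at hcard
  have h9 : 0 < 2 ^ (Finset.univ \ (orb P a ∪ orb P x)).card := by positivity
  rw [show (2 : ℕ) ^ (4 + 4) = 256 by norm_num] at hcard
  nlinarith

end Cfsg.Agent.OddHalf.D5.IsoPerm
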