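import Mathlib
import Cfsg.Agent.OddHalf.D5.IsoPerm

/-!
# Permutation lemmas for the isoclinic case, part 2 (ODD D5)
-/

set_option autoImplicit false
set_option linter.unusedSectionVars false
set_option linter.unusedVariables false

namespace Cfsg.Agent.OddHalf.D5.IsoPerm

open Equiv Subgroup

variable {Ω : Type*} [Fintype Ω] [DecidableEq Ω]

/-- An element of order 3 commuting with a double transposition fixes its points. -/
theorem fix_of_three {z γ : Perm Ω} (hz : z * z = 1) (h4 : z.support.card ≤ 4) (hγ : γ * γ * γ = 1)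
    (hc : γ * z = z * γ) {x : Ω} (hx : z x ≠ x) : γ x = x := by
  by_contra hne
  have hz2 : ∀ y, z (z y) = y := fun y => DFunLike.congr_fun hz y
  have hγ3 : ∀ y, γ (γ (γ y)) = y := fun y => DFunLike.congr_fun hγ y
  have hcc : ∀ y, γ (z y) = z (γ y) := fun y => DFunLike.congr_fun hc y
  have h2 : γ (γ x) ≠ x := by
    intro h
    have := hγ3 x
    rw [h] at this
    exact hne this
  have h3 : γ (γ x) ≠ γ x := fun h => hne (γ.injective h)
  have h5 : z x ≠ γ x := by
    intro h
    apply h2
    rw [← h, hcc, ← h, hz2]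
  have h6 : z x ≠ γ (γ x) := by
    intro h
    have h7 : z (γ x) = x := by rw [← hcc, h, hγ3]
    apply h3
    rw [← h, ← hz2 (γ x), h7]
  have h7 : z (γ x) ≠ z x := fun h => hne (z.injective h)
  have h8 : z (γ x) ≠ γ x := fun h => hx (γ.injective (by rw [hcc, h]))
  have h9 : z (γ x) ≠ x := fun h => h5 (by rw [← hz2 (γ x), h])
  have h10 : z (γ x) ≠ γ (γ x) := fun h => h5 (γ.injective (by rw [hcc, h]))
  have h11 : z (γ (γ x)) ≠ γ (γ x) := fun h => h8 (γ.injective (by rw [hcc, h]))
  have hsub : ({x, γ x, γ (γ x), z x, z (γ x)} : Finset Ω) ⊆ z.support := by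
    intro y hy
    simp only [Finset.mem_insert, Finset.mem_singleton] at hy
    rw [Perm.mem_support]
    rcases hy with rfl | rfl | rfl | rfl | rfl
    · exact hx
    · exact h8
    · exact h11
    · rw [hz2]; exact hx.symm
    · rw [hz2]; exact h8.symm
  have hcard : ({x, γ x, γ (γ x), z x, z (γ x)} : Finset Ω).card = 5 := by
    rw [Finset.card_insert_of_notMem, Finset.card_insert_of_notMem, Finset.card_insert_of_notMem,
      Finset.card_insert_of_notMem, Finset.card_singleton]
    · rw [Finset.mem_singleton]; exact h7.symm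
    · simp only [Finset.mem_insert, Finset.mem_singleton, not_or]; exact ⟨h6.symm, h10.symm⟩
    · simp only [Finset.mem_insert, Finset.mem_singleton, not_or]; exact ⟨h3.symm, h5.symm, h8.symm⟩
    · simp only [Finset.mem_insert, Finset.mem_singleton, not_or]
      exact ⟨Ne.symm hne, h2.symm, hx.symm, h9.symm⟩
  have := Finset.card_le_card hsub
  omega

/-- The even permutations fixing the points of `S` are generated by elements of order 3 fixing the points of `S`. -/
theorem mem_closure_three (S : Finset Ω) {τ : Perm Ω} (h1 : Perm.sign τ = 1) (h2 : ∀ x ∈ S, τ x = x) :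
    τ ∈ closure {γ : Perm Ω | γ * γ * γ = 1 ∧ ∀ x ∈ S, γ x = x} := by
  classical
  have hp : ∀ x, (x ∉ S) ↔ (τ x ∉ S) := by
    intro x
    constructor
    · intro hx h
      have := h2 _ h
      exact hx ((τ.injective this) ▸ h)
    · intro hx h
      exact hx (by rw [h2 x h]; exact h)
  have hne : ∀ x, τ x ≠ x → x ∉ S := fun x hx h => hx (h2 x h)
  have h3 : τ.subtypePerm (fun x => (hp x).symm) ∈ alternatingGroup {x // x ∉ S} := by
    rw [Perm.mem_alternatingGroup, Perm.sign_subtypePerm _ _ hne, h1]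
  rw [← Perm.closure_three_cycles_eq_alternating] at h3
  have h4 := mem_map_of_mem (Perm.ofSubtype (p := fun x => x ∉ S)) h3
  rw [MonoidHom.map_closure, Perm.ofSubtype_subtypePerm _ hne] at h4
  refine closure_mono ?_ h4
  rintro _ ⟨γ, hγ, rfl⟩
  have hγ3 : γ ^ 3 = 1 := by
    rw [← Perm.IsThreeCycle.orderOf hγ]; exact pow_orderOf_eq_one γ
  refine ⟨?_, fun x hx => Perm.ofSubtype_apply_of_not_mem γ (not_not.2 hx)⟩
  rw [← map_mul, ← map_mul, ← pow_two, ← pow_succ, hγ3, map_one]

/-- An odd permutation fixing the points of `S` does not centralize all the elements of order 3 fixing the points of `S`,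
if `|Ω| ≥ |S| + 3`. -/
theorem exists_three (S : Finset Ω) (hS : S.card + 3 ≤ Fintype.card Ω) {ρ : Perm Ω} (h1 : Perm.sign ρ = -1)
    (h2 : ∀ x ∈ S, ρ x = x) :
    ∃ γ : Perm Ω, γ * γ * γ = 1 ∧ (∀ x ∈ S, γ x = x) ∧ ρ * γ ≠ γ * ρ := by
  classical
  by_contra hcon
  push Not at hcon
  obtain ⟨x, hx⟩ : ∃ x, ρ x ≠ x := by
    by_contra h
    push Not at h
    have : ρ = 1 := Equiv.ext h
    rw [this, Perm.sign_one] at h1
    exact absurd h1 (by decide)
  have hxS : x ∉ S := fun h => hx (h2 x h)
  have hρS : ρ x ∉ S := fun h => hx (ρ.injective (h2 _ h))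
  have key : ∀ y, y ∉ S → y ≠ x → y ≠ ρ x → ρ (ρ x) = y ∧ ρ y = x := by
    intro y hyS hyx hyρ
    have h3 := (Perm.isThreeCycle_swap_mul_swap_same hx.symm hyx.symm hyρ.symm).orderOf
    have h4 := hcon (swap x (ρ x) * swap x y) (by
      have h5 : (swap x (ρ x) * swap x y) ^ 3 = 1 := by rw [← h3]; exact pow_orderOf_eq_one _
      rwa [pow_succ, pow_two] at h5) (by
      intro w hw
      have e1 : w ≠ x := fun h => hxS (h ▸ hw)
      have e2 : w ≠ y := fun h => hyS (h ▸ hw)
      have e3 : w ≠ ρ x := fun h => hρS (h ▸ hw)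
      rw [Perm.mul_apply, swap_apply_of_ne_of_ne e1 e2, swap_apply_of_ne_of_ne e1 e3])
    have h5 : ∀ w, ρ ((swap x (ρ x) * swap x y) w) = (swap x (ρ x) * swap x y) (ρ w) := fun w =>
      DFunLike.congr_fun h4 w
    have g1 : (swap x (ρ x) * swap x y) x = y := by
      rw [Perm.mul_apply, swap_apply_left, swap_apply_of_ne_of_ne hyx hyρ]
    have g2 : (swap x (ρ x) * swap x y) y = ρ x := by
      rw [Perm.mul_apply, swap_apply_right, swap_apply_left]
    have g3 : (swap x (ρ x) * swap x y) (ρ x) = x := by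
      rw [Perm.mul_apply, swap_apply_of_ne_of_ne hx hyρ.symm, swap_apply_right]
    have h6 := h5 x
    rw [g1, g3] at h6
    have h7 := h5 (ρ x)
    rw [g3] at h7
    have h8 : ρ (ρ x) = y := by
      apply (swap x (ρ x) * swap x y).injective
      rw [← h7, g2]
    exact ⟨h8, h6⟩
  -- a third point
  obtain ⟨y, hy⟩ : ∃ y, y ∉ S ∪ {x, ρ x} := by
    by_contra h
    push Not at h
    have h3 : S ∪ {x, ρ x} = Finset.univ := Finset.eq_univ_of_forall h
    have h4 := Finset.card_union_le S {x, ρ x}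
    rw [h3, Finset.card_univ] at h4
    have h5 : ({x, ρ x} : Finset Ω).card ≤ 2 := Finset.card_le_two
    omega
  simp only [Finset.mem_union, Finset.mem_insert, Finset.mem_singleton, not_or] at hy
  obtain ⟨hyS, hyx, hyρ⟩ := hy
  obtain ⟨k1, k2⟩ := key y hyS hyx hyρ
  have hρ : ρ = swap x y * swap x (ρ x) := by
    refine Equiv.ext fun w => ?_
    by_cases w1 : w = x
    · rw [w1, Perm.mul_apply, swap_apply_left, swap_apply_of_ne_of_ne hx (Ne.symm hyρ)]
    by_cases w2 : w = ρ x
    · rw [w2, Perm.mul_apply, swap_apply_right, swap_apply_left, k1]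
    by_cases w3 : w = y
    · rw [w3, Perm.mul_apply, swap_apply_of_ne_of_ne hyx hyρ, swap_apply_right, k2]
    · by_cases hwS : w ∈ S
      · rw [h2 w hwS, Perm.mul_apply, swap_apply_of_ne_of_ne w1 w2, swap_apply_of_ne_of_ne w1 w3]
      · exfalso
        exact w3 (((key w hwS w1 w2).1).symm.trans k1)
  rw [hρ, Perm.sign_mul, Perm.sign_swap (Ne.symm hyx), Perm.sign_swap (Ne.symm hx)] at h1
  exact absurd h1 (by decide)

end Cfsg.Agent.OddHalf.D5.IsoPerm
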