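import Mathlib
import Cfsg.Agent.OddHalf.D5.IsoPerm2
import Cfsg.Agent.OddHalf.UQ4

/-!
# ODD D5: the isoclinic case, `n ≥ 7`

`IsoD n t f K`: `C(t)/⟨t⟩ ≅ S_n` through `f`, `K ≅ A_n` normal in `C(t)`, `C(t)/K ≅ Z₄` (the elements `g ∈ C(t)` with
`f g` an odd involution satisfy `g² = t`). `IsoD.false`: this is impossible if `t` commutes with a conjugate different from
`t` and no conjugate of `t` lies in `K`.
-/

set_option autoImplicit false
set_option linter.unusedSectionVars false
set_option linter.unusedVariables false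

namespace Cfsg.Agent.OddHalf.D5

open Equiv Subgroup IsoPerm
open Cfsg.Agent.OddHalf.UQ4 (mem_map_conj conj_mem_map comm_conj comm_conj')

/-- A permutation agreeing with the odd square root `σ` of a double transposition outside its support, up to
a 4-cycle. -/
theorem IsoPerm.exists_even {Ω : Type*} [Fintype Ω] [DecidableEq Ω] {σ z : Perm Ω} (h1 : Perm.sign σ = -1)
    (hσz : σ * σ = z) (hzz : z * z = 1) (hz1 : z ≠ 1) (h4 : z.support.card ≤ 4) :
    ∃ σ' : Perm Ω, Perm.sign σ' = 1 ∧ (∀ x ∈ z.support, σ' x = x) ∧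
      ∀ γ : Perm Ω, (∀ x ∈ z.support, γ x = x) → σ * γ * σ⁻¹ = σ' * γ * σ'⁻¹ := by
  classical
  have hσσ : ∀ y, σ (σ y) = z y := fun y => by rw [← hσz]; rfl
  have hz2 : ∀ y, z (z y) = y := fun y => DFunLike.congr_fun hzz y
  have hσc : ∀ y, σ (z y) = z (σ y) := fun y => by rw [← hσσ, ← hσσ]
  obtain ⟨a, ha⟩ : ∃ a, z a ≠ a := by
    by_contra hcon
    push Not at hcon
    exact hz1 (Equiv.ext hcon)
  obtain ⟨b, hb⟩ : ∃ b, σ a = b := ⟨_, rfl⟩
  obtain ⟨c, hc⟩ : ∃ c, σ b = c := ⟨_, rfl⟩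
  obtain ⟨d, hd⟩ : ∃ d, σ c = d := ⟨_, rfl⟩
  have hzac : z a = c := by rw [← hσσ, hb, hc]
  have hda : σ d = a := by rw [← hd, hσσ, ← hzac, hz2]
  have hca : c ≠ a := by rw [← hzac]; exact ha
  have hba : b ≠ a := by
    intro h
    apply hca
    rw [← hc, h, hb, h]
  have hcb : c ≠ b := fun h => hba (σ.injective (by rw [hc, hb, h]))
  have hdc : d ≠ c := fun h => hcb (σ.injective (by rw [hd, hc, h]))
  have hdb : d ≠ b := fun h => hca (σ.injective (by rw [hd, hb, h]))
  have had : a ≠ d := fun h => hdc (σ.injective (by rw [hda, hd, h]))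
  have hsupp : z.support = {a, b, c, d} := by
    symm
    apply Finset.eq_of_subset_of_card_le
    · intro y hy
      simp only [Finset.mem_insert, Finset.mem_singleton] at hy
      rw [Perm.mem_support, ← hσσ]
      rcases hy with rfl | rfl | rfl | rfl
      · rw [hb, hc]; exact hca
      · rw [hc, hd]; exact hdb
      · rw [hd, hda]; exact hca.symm
      · rw [hda, hb]; exact hdb.symm
    · rw [Finset.card_insert_of_notMem, Finset.card_insert_of_notMem, Finset.card_insert_of_notMem,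
        Finset.card_singleton]
      · exact h4
      · rw [Finset.mem_singleton]; exact hdc.symm
      · simp only [Finset.mem_insert, Finset.mem_singleton, not_or]; exact ⟨hcb.symm, hdb.symm⟩
      · simp only [Finset.mem_insert, Finset.mem_singleton, not_or]; exact ⟨hba.symm, hca.symm, had⟩
  set c4 : Perm Ω := swap a b * (swap b c * swap c d) with hc4
  have c4a : c4 a = b := by
    rw [hc4, Perm.mul_apply, Perm.mul_apply, swap_apply_of_ne_of_ne (Ne.symm hca) had,
      swap_apply_of_ne_of_ne hba.symm hca.symm, swap_apply_left]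
  have c4b : c4 b = c := by
    rw [hc4, Perm.mul_apply, Perm.mul_apply, swap_apply_of_ne_of_ne (Ne.symm hcb) (Ne.symm hdb),
      swap_apply_left, swap_apply_of_ne_of_ne hca hcb]
  have c4c : c4 c = d := by
    rw [hc4, Perm.mul_apply, Perm.mul_apply, swap_apply_left, swap_apply_of_ne_of_ne hdb hdc,
      swap_apply_of_ne_of_ne had.symm hdb]
  have c4d : c4 d = a := by
    rw [hc4, Perm.mul_apply, Perm.mul_apply, swap_apply_right, swap_apply_right, swap_apply_right]
  have c4x : ∀ x ∉ z.support, c4 x = x := by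
    intro x hx
    rw [hsupp] at hx
    simp only [Finset.mem_insert, Finset.mem_singleton, not_or] at hx
    obtain ⟨xa, xb, xc, xd⟩ := hx
    rw [hc4, Perm.mul_apply, Perm.mul_apply, swap_apply_of_ne_of_ne xc xd, swap_apply_of_ne_of_ne xb xc,
      swap_apply_of_ne_of_ne xa xb]
  have hagree : ∀ x ∈ z.support, c4 x = σ x := by
    intro x hx
    rw [hsupp] at hx
    simp only [Finset.mem_insert, Finset.mem_singleton] at hx
    rcases hx with rfl | rfl | rfl | rfl
    · rw [c4a, hb]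
    · rw [c4b, hc]
    · rw [c4c, hd]
    · rw [c4d, hda]
  have hfix : ∀ x ∈ z.support, (c4⁻¹ * σ) x = x := by
    intro x hx
    rw [Perm.mul_apply, ← hagree x hx, ← Perm.mul_apply, inv_mul_cancel, Perm.one_apply]
  refine ⟨c4⁻¹ * σ, ?_, hfix, ?_⟩
  · rw [Perm.sign_mul, Perm.sign_inv, h1, hc4, Perm.sign_mul, Perm.sign_mul, Perm.sign_swap hba.symm,
      Perm.sign_swap hcb.symm, Perm.sign_swap hdc.symm]
    rfl
  · intro γ hγ
    have hfixinv : ∀ x ∈ z.support, (c4⁻¹ * σ)⁻¹ x = x := fun x hx => by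
      rw [Perm.inv_eq_iff_eq]; exact (hfix x hx).symm
    have h5 : Perm.Disjoint c4 ((c4⁻¹ * σ) * γ * (c4⁻¹ * σ)⁻¹) := by
      intro x
      by_cases hx : x ∈ z.support
      · right
        rw [Perm.mul_apply, Perm.mul_apply, hfixinv x hx, hγ x hx, hfix x hx]
      · left
        exact c4x x hx
    have h6 := h5.commute.eq
    calc σ * γ * σ⁻¹ = c4 * ((c4⁻¹ * σ) * γ * (c4⁻¹ * σ)⁻¹) * c4⁻¹ := by group
      _ = (c4⁻¹ * σ) * γ * (c4⁻¹ * σ)⁻¹ := by rw [h6]; group

variable {G : Type*} [Group G]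

/-- The isoclinic case. -/
structure IsoD (n : ℕ) (t : G) (f : G → Perm (Fin n)) (K : Subgroup G) : Prop where
  tt : t * t = 1
  t1 : t ≠ 1
  mul : ∀ g h, g * t = t * g → h * t = t * h → f (g * h) = f g * f h
  ker : ∀ g, g * t = t * g → (f g = 1 ↔ g = 1 ∨ g = t)
  le : ∀ g ∈ K, g * t = t * g
  norm : ∀ x, x * t = t * x → ∀ k ∈ K, x * k * x⁻¹ ∈ K
  notMem : t ∉ K
  even : ∀ g ∈ K, Perm.sign (f g) = 1
  surj : ∀ σ, ∃ g, g * t = t * g ∧ f g = σ
  mem : ∀ g, g * t = t * g → Perm.sign (f g) = 1 → g ∈ K ∨ t * g ∈ K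
  sq : ∀ g, g * t = t * g → Perm.sign (f g) = -1 → f g * f g = 1 → g * g = t

namespace IsoD

variable {n : ℕ} {t : G} {f : G → Perm (Fin n)} {K : Subgroup G}

theorem conj (h : IsoD n t f K) (x : G) :
    IsoD n (x * t * x⁻¹) (fun g => f (x⁻¹ * g * x)) (K.map (MulAut.conj x).toMonoidHom) where
  tt := by
    calc x * t * x⁻¹ * (x * t * x⁻¹) = x * (t * t) * x⁻¹ := by group
      _ = 1 := by rw [h.tt]; group
  t1 := fun e => h.t1 (by
    calc t = x⁻¹ * (x * t * x⁻¹) * x := by group
      _ = 1 := by rw [e]; group)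
  mul := by
    intro g k hg hk
    have h1 := h.mul _ _ (comm_conj' x hg) (comm_conj' x hk)
    have h2 : x⁻¹ * g * x * (x⁻¹ * k * x) = x⁻¹ * (g * k) * x := by group
    rw [h2] at h1
    exact h1
  ker := by
    intro g hg
    have h1 := h.ker _ (comm_conj' x hg)
    have e : g = x * (x⁻¹ * g * x) * x⁻¹ := by group
    show f (x⁻¹ * g * x) = 1 ↔ _
    rw [h1]
    constructor
    · rintro (h2 | h2)
      · left
        calc g = x * (x⁻¹ * g * x) * x⁻¹ := e
          _ = 1 := by rw [h2]; group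
      · right
        calc g = x * (x⁻¹ * g * x) * x⁻¹ := e
          _ = x * t * x⁻¹ := by rw [h2]
    · rintro (h2 | h2)
      · left; rw [h2]; group
      · right; rw [h2]; group
  le := by
    intro g hg
    rw [mem_map_conj] at hg
    have h1 := comm_conj x (h.le _ hg)
    have e : x * (x⁻¹ * g * x) * x⁻¹ = g := by group
    rwa [e] at h1
  norm := by
    intro y hy k hk
    rw [mem_map_conj] at hk ⊢
    have h1 := h.norm _ (comm_conj' x hy) _ hk
    have e : x⁻¹ * y * x * (x⁻¹ * k * x) * (x⁻¹ * y * x)⁻¹ = x⁻¹ * (y * k * y⁻¹) * x := by group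
    rwa [e] at h1
  notMem := by
    rw [mem_map_conj]
    have e : x⁻¹ * (x * t * x⁻¹) * x = t := by group
    rw [e]; exact h.notMem
  even := by
    intro g hg
    rw [mem_map_conj] at hg
    exact h.even _ hg
  surj := by
    intro σ
    obtain ⟨g, hg, hgσ⟩ := h.surj σ
    refine ⟨x * g * x⁻¹, comm_conj x hg, ?_⟩
    show f (x⁻¹ * (x * g * x⁻¹) * x) = σ
    have e : x⁻¹ * (x * g * x⁻¹) * x = g := by group
    rw [e]; exact hgσ
  mem := by
    intro g hg hs
    rw [mem_map_conj, mem_map_conj]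
    have h1 := h.mem _ (comm_conj' x hg) hs
    have e : x⁻¹ * (x * t * x⁻¹ * g) * x = t * (x⁻¹ * g * x) := by group
    rw [e]; exact h1
  sq := by
    intro g hg hs hss
    have h1 := h.sq _ (comm_conj' x hg) hs hss
    calc g * g = x * (x⁻¹ * g * x * (x⁻¹ * g * x)) * x⁻¹ := by group
      _ = x * t * x⁻¹ := by rw [h1]

theorem f_one (h : IsoD n t f K) : f 1 = 1 := (h.ker 1 (by rw [one_mul, mul_one])).2 (Or.inl rfl)

theorem f_t (h : IsoD n t f K) : f t = 1 := (h.ker t rfl).2 (Or.inr rfl)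

theorem inv_comm {x : G} (hx : x * t = t * x) : x⁻¹ * t = t * x⁻¹ := by
  calc x⁻¹ * t = x⁻¹ * (t * x) * x⁻¹ := by group
    _ = t * x⁻¹ := by rw [← hx]; group

theorem mul_comm' {x y : G} (hx : x * t = t * x) (hy : y * t = t * y) : x * y * t = t * (x * y) := by
  calc x * y * t = x * (y * t) := by group
    _ = x * t * y := by rw [hy]; group
    _ = t * (x * y) := by rw [hx]; group

theorem f_inv (h : IsoD n t f K) {x : G} (hx : x * t = t * x) : f x⁻¹ = (f x)⁻¹ := by
  apply eq_inv_of_mul_eq_one_left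
  rw [← h.mul _ _ (inv_comm hx) hx, inv_mul_cancel, h.f_one]

theorem f_conj (h : IsoD n t f K) {x y : G} (hx : x * t = t * x) (hy : y * t = t * y) :
    f (x * y * x⁻¹) = f x * f y * (f x)⁻¹ := by
  rw [h.mul _ _ (mul_comm' hx hy) (inv_comm hx), h.mul _ _ hx hy, h.f_inv hx]

theorem eq_of (h : IsoD n t f K) {x y : G} (hx : x * t = t * x) (hy : y * t = t * y) (e : f x = f y) :
    x = y ∨ x = t * y := by
  have h1 := (h.ker (x * y⁻¹) (mul_comm' hx (inv_comm hy))).1 (by
    rw [h.mul _ _ hx (inv_comm hy), h.f_inv hy, e, mul_inv_cancel])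
  rcases h1 with h1 | h1
  · left; exact mul_inv_eq_one.1 h1
  · right; exact mul_inv_eq_iff_eq_mul.1 h1

/-- `f` is injective on `K`. -/
theorem inj (h : IsoD n t f K) {x y : G} (hx : x ∈ K) (hy : y ∈ K) (e : f x = f y) : x = y := by
  rcases h.eq_of (h.le x hx) (h.le y hy) e with h1 | h1
  · exact h1
  · exfalso
    apply h.notMem
    have : t = x * y⁻¹ := by rw [h1]; group
    rw [this]
    exact K.mul_mem hx (K.inv_mem hy)

/-- Lift of an even permutation. -/
theorem lift (h : IsoD n t f K) {σ : Perm (Fin n)} (hσ : Perm.sign σ = 1) : ∃ g ∈ K, f g = σ := by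
  obtain ⟨g, hg, hgσ⟩ := h.surj σ
  rcases h.mem g hg (by rw [hgσ]; exact hσ) with h1 | h1
  · exact ⟨g, h1, hgσ⟩
  · exact ⟨t * g, h1, by rw [h.mul _ _ rfl hg, h.f_t, one_mul, hgσ]⟩

variable {u : G} {f' : G → Perm (Fin n)} {K' : Subgroup G}

/-- `tu ∈ K` -/
theorem mul_mem (h : IsoD n t f K) (h' : IsoD n u f' K') (hut : u * t = t * u) (hu : u ∉ K) : t * u ∈ K := by
  have huu : f u * f u = 1 := by rw [← h.mul _ _ hut hut, h'.tt, h.f_one]
  rcases Int.units_eq_one_or (Perm.sign (f u)) with h1 | h1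
  · exact (h.mem u hut h1).resolve_left hu
  · exfalso
    have h2 := h.sq u hut h1 huu
    rw [h'.tt] at h2
    exact h.t1 h2.symm

theorem f_mul_left (h : IsoD n t f K) {x : G} (hx : x * t = t * x) : f (t * x) = f x := by
  rw [h.mul _ _ rfl hx, h.f_t, one_mul]

/-- The image of `tu` moves at most four points. -/
theorem card_support_le [Finite G] (hn : 2 ≤ n) (h : IsoD n t f K) (h' : IsoD n u f' K') (hut : u * t = t * u)
    (hne : u ≠ t) (hu : u ∉ K) (ht : t ∉ K') : (f' (t * u)).support.card ≤ 4 := by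
  classical
  have hzK := h.mul_mem h' hut hu
  have hzK' : u * t ∈ K' := h'.mul_mem h hut.symm ht
  have hutc : t * u = u * t := hut.symm
  have fz : f (t * u) = f u := h.f_mul_left hut
  have fz' : f' (t * u) = f' t := by rw [hutc]; exact h'.f_mul_left hut.symm
  have fuu : f u * f u = 1 := by rw [← h.mul _ _ hut hut, h'.tt, h.f_one]
  have ftt : f' t * f' t = 1 := by rw [← h'.mul _ _ hut.symm hut.symm, h.tt, h'.f_one]
  obtain ⟨E, hzE, hE, hEcard, a, haE, ha⟩ := exists_elem (Ω := Fin n) (by rw [Fintype.card_fin]; exact hn) (f u) fuu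
  -- the preimage of `E`
  let A : Subgroup G :=
    { carrier := {g | g * t = t * g ∧ f g ∈ E}
      one_mem' := ⟨by rw [one_mul, mul_one], by rw [h.f_one]; exact E.one_mem⟩
      mul_mem' := by
        rintro x y ⟨hx, hx'⟩ ⟨hy, hy'⟩
        exact ⟨mul_comm' hx hy, by rw [h.mul _ _ hx hy]; exact E.mul_mem hx' hy'⟩
      inv_mem' := by
        rintro x ⟨hx, hx'⟩
        exact ⟨inv_comm hx, by rw [h.f_inv hx]; exact E.inv_mem hx'⟩ }
  have hA : ∀ g, g ∈ A ↔ g * t = t * g ∧ f g ∈ E := fun g => Iff.rfl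
  -- squares
  have hsq1 : ∀ g ∈ A, Perm.sign (f g) = 1 → g * g = 1 := by
    rintro g ⟨hg, hgE⟩ hs
    have h1 : g * g = 1 ∨ g * g = t := (h.ker _ (mul_comm' hg hg)).1 (by rw [h.mul _ _ hg hg, hE _ hgE])
    rcases h1 with h1 | h1
    · exact h1
    · exfalso
      apply h.notMem
      rcases h.mem g hg hs with h2 | h2
      · rw [← h1]; exact K.mul_mem h2 h2
      · have h3 : t * g * (t * g) = t := by
          calc t * g * (t * g) = t * (g * t) * g := by group
            _ = t * t * (g * g) := by rw [hg]; group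
            _ = t := by rw [h.tt, one_mul, h1]
        have h4 := K.mul_mem h2 h2
        rwa [h3] at h4
  have hsq2 : ∀ g ∈ A, Perm.sign (f g) = -1 → g * g = t := by
    rintro g ⟨hg, hgE⟩ hs
    exact h.sq g hg hs (hE _ hgE)
  have hcomm : ∀ x ∈ A, ∀ y ∈ A, x * y = y * x := by
    intro x hx y hy
    have hxt := hx.1
    have hyt := hy.1
    have hxy : x * y ∈ A := A.mul_mem hx hy
    have hs : Perm.sign (f (x * y)) = Perm.sign (f x) * Perm.sign (f y) := by
      rw [h.mul _ _ hxt hyt, Perm.sign_mul]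
    have key2 : x * y * (x * y) = x * x * (y * y) → x * y = y * x := by
      intro h3
      have h4 : y * (x * y) = x * (y * y) := by
        apply mul_left_cancel (a := x)
        simpa only [mul_assoc] using h3
      have h5 : y * x = x * y := by
        apply mul_right_cancel (b := y)
        simpa only [mul_assoc] using h4
      exact h5.symm
    apply key2
    rcases Int.units_eq_one_or (Perm.sign (f x)) with h1 | h1 <;>
    rcases Int.units_eq_one_or (Perm.sign (f y)) with h2 | h2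
    · rw [hsq1 _ hxy (by rw [hs, h1, h2]; rfl), hsq1 _ hx h1, hsq1 _ hy h2, mul_one]
    · rw [hsq2 _ hxy (by rw [hs, h1, h2]; rfl), hsq1 _ hx h1, hsq2 _ hy h2, one_mul]
    · rw [hsq2 _ hxy (by rw [hs, h1, h2]; rfl), hsq2 _ hx h1, hsq1 _ hy h2, mul_one]
    · rw [hsq1 _ hxy (by rw [hs, h1, h2]; rfl), hsq2 _ hx h1, hsq2 _ hy h2, h.tt]
  have huA : u ∈ A := ⟨hut, hzE⟩
  have htA : t ∈ A := ⟨rfl, by rw [h.f_t]; exact E.one_mem⟩
  have hAu : ∀ g ∈ A, g * u = u * g := fun g hg => hcomm g hg u huA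
  -- the two homomorphisms
  let φ : A →* Perm (Fin n) := MonoidHom.mk' (fun g => f g) (fun x y => h.mul _ _ x.2.1 y.2.1)
  let φ' : A →* Perm (Fin n) := MonoidHom.mk' (fun g => f' g) (fun x y => h'.mul _ _ (hAu _ x.2) (hAu _ y.2))
  have hφr : φ.range = E := by
    ext σ
    constructor
    · rintro ⟨g, rfl⟩
      exact g.2.2
    · intro hσ
      obtain ⟨g, hg, hgσ⟩ := h.surj σ
      exact ⟨⟨g, hg, by rw [hgσ]; exact hσ⟩, hgσ⟩
  have hker : ∀ (v : G) (hv1 : v ≠ 1) (hvA : v ∈ A) (ψ : A →* Perm (Fin n)), (∀ g, ψ g = 1 ↔ (g : G) = 1 ∨ (g : G) = v) →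
      Nat.card ψ.ker = 2 := by
    intro v hv1 hvA ψ hψ
    rw [Nat.card_eq_two_iff]
    refine ⟨⟨1, by rw [MonoidHom.mem_ker, map_one]⟩, ⟨⟨v, hvA⟩, by rw [MonoidHom.mem_ker, hψ]; exact Or.inr rfl⟩, ?_, ?_⟩
    · intro e
      exact hv1 (congrArg (fun x : ψ.ker => ((x : A) : G)) e).symm
    · rw [Set.eq_univ_iff_forall]
      rintro ⟨g, hg⟩
      rw [MonoidHom.mem_ker, hψ] at hg
      rcases hg with hg | hg
      · left; exact Subtype.ext (Subtype.ext hg)
      · right; exact Subtype.ext (Subtype.ext hg)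
  have hk1 : Nat.card φ.ker = 2 := hker t h.t1 htA φ (fun g => h.ker g g.2.1)
  have hk2 : Nat.card φ'.ker = 2 := hker u h'.t1 huA φ' (fun g => h'.ker g (hAu g g.2))
  have hcard : Nat.card φ'.range = Nat.card E := by
    have h1 := φ.ker.card_mul_index
    have h2 := φ'.ker.card_mul_index
    rw [Subgroup.index_ker, hk1, hφr] at h1
    rw [Subgroup.index_ker, hk2] at h2
    omega
  have hsqt : ∀ g : A, φ' g * φ' g = 1 ∨ φ' g * φ' g = f' t := by
    intro g
    rw [← map_mul]
    show f' ((g : G) * g) = 1 ∨ f' ((g : G) * g) = f' t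
    rcases Int.units_eq_one_or (Perm.sign (f g)) with h1 | h1
    · left; rw [hsq1 _ g.2 h1, h'.f_one]
    · right; rw [hsq2 _ g.2 h1]
  obtain ⟨s, hs, hsa⟩ := h.surj a
  have hsA : s ∈ A := ⟨hs, by rw [hsa]; exact haE⟩
  have hss : s * s = t := hsq2 s hsA (by rw [hsa]; exact ha)
  have htne : f' t ≠ 1 := by
    intro e
    rcases (h'.ker t hut.symm).1 e with h1 | h1
    · exact h.t1 h1
    · exact hne h1.symm
  obtain ⟨x, hx⟩ : ∃ x, f' t x ≠ x := by
    by_contra hcon
    push Not at hcon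
    exact htne (Equiv.ext hcon)
  have hsub : (f' t).support ⊆ {x, f' s x, f' t x, f' s (f' t x)} := by
    intro y hy
    rw [Perm.mem_support] at hy
    have h1 := type_two (P := φ'.range) (σ := f' s) (z := f' t) (a := x) (x := y) (by
      rintro _ ⟨g, rfl⟩ _ ⟨k, rfl⟩
      rw [← map_mul, ← map_mul]
      congr 1
      exact Subtype.ext (hcomm g g.2 k k.2)) (by
      rintro ⟨_, ⟨g, rfl⟩⟩
      refine ⟨2, Subtype.ext ?_⟩
      show (φ' g) ^ (2 ^ 2) = 1
      have h2 : (φ' g) ^ (2 ^ 2) = (φ' g * φ' g) * (φ' g * φ' g) := by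
        rw [show 2 ^ 2 = 4 by norm_num]
        simp only [pow_succ, pow_zero, one_mul, mul_assoc]
      rw [h2]
      rcases hsqt g with h3 | h3
      · rw [h3, one_mul]
      · rw [h3, ftt]) (by rw [hcard]; exact hEcard) ⟨⟨s, hsA⟩, rfl⟩ (by
      rw [← h'.mul _ _ (hAu s hsA) (hAu s hsA), hss]) ftt (by
      rintro _ ⟨g, rfl⟩
      exact hsqt g) hx hy
    simp only [Finset.mem_insert, Finset.mem_singleton]
    exact h1
  rw [fz']
  exact (Finset.card_le_card hsub).trans Finset.card_le_four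

/-- The elements of order 3 fixing the points moved by `tu` are the same for `t` and `u`. -/
theorem three_mem (h : IsoD n t f K) (h' : IsoD n u f' K') (hut : u * t = t * u) (hu : u ∉ K) (ht : t ∉ K')
    (h4 : (f' (t * u)).support.card ≤ 4) {γ : Perm (Fin n)} (hγ : γ * γ * γ = 1)
    (hfix : ∀ x ∈ (f (t * u)).support, γ x = x) :
    ∃ g, g ∈ K ∧ g ∈ K' ∧ f g = γ ∧ g * g * g = 1 ∧ f' g * f' g * f' g = 1 ∧
      ∀ x ∈ (f' (t * u)).support, f' g x = x := by
  have hzK := h.mul_mem h' hut hu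
  have hzK' : t * u ∈ K' := by
    rw [← hut]; exact h'.mul_mem h hut.symm ht
  have hsγ : Perm.sign γ = 1 := by
    have h1 := congrArg Perm.sign hγ
    rw [Perm.sign_mul, Perm.sign_mul, Perm.sign_one] at h1
    rcases Int.units_eq_one_or (Perm.sign γ) with h2 | h2
    · exact h2
    · rw [h2] at h1
      exact absurd h1 (by decide)
  obtain ⟨g, hgK, hgγ⟩ := h.lift hsγ
  have hgt := h.le g hgK
  have hg3 : g * g * g = 1 := by
    apply h.inj (K.mul_mem (K.mul_mem hgK hgK) hgK) K.one_mem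
    rw [h.mul _ _ (mul_comm' hgt hgt) hgt, h.mul _ _ hgt hgt, hgγ, hγ, h.f_one]
  -- `g` commutes with `tu`
  have hzt := h.le _ hzK
  have hgz : g * (t * u) = t * u * g := by
    apply h.inj (K.mul_mem hgK hzK) (K.mul_mem hzK hgK)
    rw [h.mul _ _ hgt hzt, h.mul _ _ hzt hgt, hgγ]
    have hd : Perm.Disjoint γ (f (t * u)) := by
      intro x
      by_cases hx : x ∈ (f (t * u)).support
      · exact Or.inl (hfix x hx)
      · right
        rwa [Perm.mem_support, not_not] at hx
    exact hd.commute.eq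
  have hgu : g * u = u * g := by
    have e : u = t * (t * u) := by rw [← mul_assoc, h.tt, one_mul]
    calc g * u = g * t * (t * u) := by rw [mul_assoc, ← e]
      _ = t * (g * (t * u)) := by rw [hgt, mul_assoc]
      _ = t * (t * u) * g := by rw [hgz]; simp only [mul_assoc]
      _ = u * g := by rw [← e]
  have f3 : f' g * f' g * f' g = 1 := by
    rw [← h'.mul _ _ hgu hgu, ← h'.mul _ _ (mul_comm' hgu hgu) hgu, hg3, h'.f_one]
  have hs' : Perm.sign (f' g) = 1 := by
    have h1 := congrArg Perm.sign f3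
    rw [Perm.sign_mul, Perm.sign_mul, Perm.sign_one] at h1
    rcases Int.units_eq_one_or (Perm.sign (f' g)) with h2 | h2
    · exact h2
    · rw [h2] at h1
      exact absurd h1 (by decide)
  have hgK' : g ∈ K' := by
    rcases h'.mem g hgu hs' with h1 | h1
    · exact h1
    · exfalso
      apply h'.notMem
      have h2 : u * g * (u * g) * (u * g) = u := by
        calc u * g * (u * g) * (u * g) = u * (g * u) * (g * u) * g := by group
          _ = u * (u * g) * (u * g) * g := by rw [hgu]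
          _ = (u * u) * (g * u) * (g * g) := by group
          _ = (g * u) * (g * g) := by rw [h'.tt, one_mul]
          _ = (u * g) * (g * g) := by rw [hgu]
          _ = u * (g * g * g) := by group
          _ = u := by rw [hg3, mul_one]
      rw [← h2]
      exact K'.mul_mem (K'.mul_mem h1 h1) h1
  refine ⟨g, hgK, hgK', hgγ, hg3, f3, fun x hx => ?_⟩
  have hzu := h'.le _ hzK'
  refine fix_of_three (z := f' (t * u)) ?_ h4 f3 ?_ (Perm.mem_support.1 hx)
  · rw [← h'.mul _ _ hzu hzu]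
    have : t * u * (t * u) = 1 := by
      calc t * u * (t * u) = t * (u * t) * u := by group
        _ = (t * t) * (u * u) := by rw [hut]; group
        _ = 1 := by rw [h.tt, h'.tt, one_mul]
    rw [this, h'.f_one]
  · rw [← h'.mul _ _ hgu hzu, ← h'.mul _ _ hzu hgu, hgz]

/-- Two commuting conjugates. -/
theorem false_of_pair [Finite G] (hn : 7 ≤ n) (h : IsoD n t f K) (h' : IsoD n u f' K') (hut : u * t = t * u)
    (hne : u ≠ t) (hu : u ∉ K) (ht : t ∉ K') : False := by
  classical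
  have c1 := h.card_support_le (by omega) h' hut hne hu ht
  have c2 : (f (t * u)).support.card ≤ 4 := by
    rw [← hut]
    exact h'.card_support_le (by omega) h hut.symm (Ne.symm hne) ht hu
  have hzK := h.mul_mem h' hut hu
  have hzK' : t * u ∈ K' := by
    rw [← hut]; exact h'.mul_mem h hut.symm ht
  have hzt := h.le _ hzK
  have hzu := h'.le _ hzK'
  have hzz : t * u * (t * u) = 1 := by
    calc t * u * (t * u) = t * (u * t) * u := by group
      _ = (t * t) * (u * u) := by rw [hut]; group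
      _ = 1 := by rw [h.tt, h'.tt, one_mul]
  -- two points fixed by `tu`
  obtain ⟨a, ha⟩ : ∃ a, a ∉ (f (t * u)).support := by
    by_contra hcon
    push Not at hcon
    have := Finset.eq_univ_of_forall hcon
    rw [this, Finset.card_univ, Fintype.card_fin] at c2
    omega
  obtain ⟨b, hb⟩ : ∃ b, b ∉ insert a (f (t * u)).support := by
    by_contra hcon
    push Not at hcon
    have h1 := Finset.eq_univ_of_forall hcon
    have h2 := Finset.card_insert_le a (f (t * u)).support
    rw [h1, Finset.card_univ, Fintype.card_fin] at h2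
    omega
  rw [Finset.mem_insert, not_or] at hb
  obtain ⟨hba, hb⟩ := hb
  have hτfix : ∀ x ∈ (f (t * u)).support, swap a b x = x := by
    intro x hx
    exact swap_apply_of_ne_of_ne (fun e => ha (e ▸ hx)) (fun e => hb (e ▸ hx))
  have hτs : Perm.sign (swap a b) = -1 := Perm.sign_swap (Ne.symm hba)
  obtain ⟨s, hst, hsτ⟩ := h.surj (swap a b)
  have hss : s * s = t := h.sq s hst (by rw [hsτ]; exact hτs) (by rw [hsτ, swap_mul_self])
  -- `s` commutes with `tu`
  have hsz : s * (t * u) = t * u * s := by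
    have h1 : s * (t * u) * s⁻¹ = t * u := by
      apply h.inj (h.norm s hst _ hzK) hzK
      rw [h.f_conj hst hzt, hsτ]
      have hd : Perm.Disjoint (swap a b) (f (t * u)) := by
        intro x
        by_cases hx : x ∈ (f (t * u)).support
        · exact Or.inl (hτfix x hx)
        · right
          rwa [Perm.mem_support, not_not] at hx
      rw [hd.commute.eq]
      group
    exact mul_inv_eq_iff_eq_mul.1 h1
  have hsu : s * u = u * s := by
    have e : u = t * (t * u) := by rw [← mul_assoc, h.tt, one_mul]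
    calc s * u = s * t * (t * u) := by rw [mul_assoc, ← e]
      _ = t * (s * (t * u)) := by rw [hst, mul_assoc]
      _ = t * (t * u) * s := by rw [hsz]; simp only [mul_assoc]
      _ = u * s := by rw [← e]
  have ftz : f' t = f' (t * u) := by rw [← hut]; exact (h'.f_mul_left hut.symm).symm
  have hσσ : f' s * f' s = f' (t * u) := by rw [← h'.mul _ _ hsu hsu, hss, ftz]
  have hσs : Perm.sign (f' s) = -1 := by
    rcases Int.units_eq_one_or (Perm.sign (f' s)) with h1 | h1
    · exfalso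
      apply ht
      rcases h'.mem s hsu h1 with h2 | h2
      · rw [← hss]; exact K'.mul_mem h2 h2
      · have h3 : u * s * (u * s) = t := by
          calc u * s * (u * s) = u * (s * u) * s := by group
            _ = (u * u) * (s * s) := by rw [hsu]; group
            _ = t := by rw [h'.tt, hss, one_mul]
        rw [← h3]; exact K'.mul_mem h2 h2
    · exact h1
  have fzz : f' (t * u) * f' (t * u) = 1 := by rw [← h'.mul _ _ hzu hzu, hzz, h'.f_one]
  have fz1 : f' (t * u) ≠ 1 := by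
    rw [← ftz]
    intro e
    rcases (h'.ker t hut.symm).1 e with h1 | h1
    · exact h.t1 h1
    · exact hne h1.symm
  obtain ⟨σ', hσ'1, hσ'2, hσ'3⟩ := IsoPerm.exists_even hσs hσσ fzz fz1 c1
  -- lift `σ'`
  let H : Subgroup (Perm (Fin n)) :=
    { carrier := {σ | ∃ l, l ∈ K ∧ l ∈ K' ∧ f' l = σ ∧ ∀ x ∈ (f (t * u)).support, f l x = x}
      one_mem' := ⟨1, K.one_mem, K'.one_mem, h'.f_one, fun x _ => by rw [h.f_one]; rfl⟩
      mul_mem' := by
        rintro _ _ ⟨l, hl1, hl2, rfl, hl3⟩ ⟨m, hm1, hm2, rfl, hm3⟩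
        refine ⟨l * m, K.mul_mem hl1 hm1, K'.mul_mem hl2 hm2, h'.mul _ _ (h'.le _ hl2) (h'.le _ hm2), ?_⟩
        intro x hx
        rw [h.mul _ _ (h.le _ hl1) (h.le _ hm1), Perm.mul_apply, hm3 x hx, hl3 x hx]
      inv_mem' := by
        rintro _ ⟨l, hl1, hl2, rfl, hl3⟩
        refine ⟨l⁻¹, K.inv_mem hl1, K'.inv_mem hl2, h'.f_inv (h'.le _ hl2), ?_⟩
        intro x hx
        rw [h.f_inv (h.le _ hl1), Perm.inv_eq_iff_eq, hl3 x hx] }
  have hclos : closure {γ : Perm (Fin n) | γ * γ * γ = 1 ∧ ∀ x ∈ (f' (t * u)).support, γ x = x} ≤ H := by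
    rw [closure_le]
    rintro γ ⟨hγ, hγfix⟩
    obtain ⟨g, hg1, hg2, hg3, -, -, hg4⟩ := h'.three_mem h hut.symm ht hu (by rw [hut]; exact c2) hγ
      (by rw [hut]; exact hγfix)
    rw [hut] at hg4
    exact ⟨g, hg2, hg1, hg3, hg4⟩
  obtain ⟨l, hlK, hlK', hlσ, hlfix⟩ := hclos (mem_closure_three _ hσ'1 hσ'2)
  have hlt := h.le _ hlK
  have hlu := h'.le _ hlK'
  -- `l⁻¹ s` centralizes the elements of order 3
  have hρs : Perm.sign ((f l)⁻¹ * swap a b) = -1 := by
    rw [Perm.sign_mul, Perm.sign_inv, h.even l hlK, hτs, one_mul]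
  have hρfix : ∀ x ∈ (f (t * u)).support, ((f l)⁻¹ * swap a b) x = x := by
    intro x hx
    rw [Perm.mul_apply, hτfix x hx, Perm.inv_eq_iff_eq, hlfix x hx]
  obtain ⟨γ, hγ3, hγfix, hγ⟩ := exists_three (f (t * u)).support (by rw [Fintype.card_fin]; omega) hρs hρfix
  apply hγ
  obtain ⟨g, hgK, hgK', hgγ, -, -, hgfix⟩ := h.three_mem h' hut hu ht c1 hγ3 hγfix
  have hgt := h.le _ hgK
  have hgu := h'.le _ hgK'
  have key : s * g * s⁻¹ = l * g * l⁻¹ := by
    apply h'.inj (h'.norm s hsu g hgK') (h'.norm l hlu g hgK')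
    rw [h'.f_conj hsu hgu, h'.f_conj hlu hgu, hlσ]
    exact hσ'3 _ hgfix
  have key2 := congrArg f key
  rw [h.f_conj hst hgt, h.f_conj hlt hgt, hsτ, hgγ] at key2
  generalize swap a b = τ at *
  generalize f l = lam at *
  calc lam⁻¹ * τ * γ = lam⁻¹ * (τ * γ * τ⁻¹) * τ := by group
    _ = γ * (lam⁻¹ * τ) := by rw [key2]; group

/-- **The isoclinic case is impossible**, `n ≥ 7`. -/
theorem false [Finite G] (hn : 7 ≤ n) (h : IsoD n t f K) (hDK : ∀ x : G, x * t * x⁻¹ ∉ K)
    (hz : ∃ x : G, x * t * x⁻¹ ≠ t ∧ x * t * x⁻¹ * t = t * (x * t * x⁻¹)) : False := by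
  obtain ⟨x, hx1, hx2⟩ := hz
  refine h.false_of_pair hn (h.conj x) hx2 hx1 (hDK x) ?_
  rw [mem_map_conj]
  have := hDK x⁻¹
  rwa [inv_inv] at this

end IsoD

end Cfsg.Agent.OddHalf.D5
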