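import Mathlib
import Cfsg.Agent.OddHalf.D5.Defs
import Cfsg.Agent.OddHalf.D5.Disj
import Cfsg.Agent.OddHalf.D5.Iso

/-!
# ODD D5, row (R1): the isoclinic case is impossible, `n ≥ 7`
-/

set_option autoImplicit false

namespace Cfsg.Agent.OddHalf.D5

open Subgroup Equiv

variable {G : Type*} [Group G] {n : ℕ} {t : G} {φ : centralizer ({t} : Set G) →* Perm (Fin n)} {K : Subgroup G}

open Classical in
/-- `φ` as a function on `G`. -/
noncomputable def ext (φ : centralizer ({t} : Set G) →* Perm (Fin n)) (g : G) : Perm (Fin n) :=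
  if hg : g ∈ centralizer ({t} : Set G) then φ ⟨g, hg⟩ else 1

theorem ext_apply {g : G} (hg : g * t = t * g) : ext φ g = φ ⟨g, mem_centralizer_singleton_iff.2 hg⟩ := by
  rw [ext, dif_pos (mem_centralizer_singleton_iff.2 hg)]

theorem Iso.isoD (h : Iso t φ K) : IsoD n t (ext φ) K where
  tt := h.tt
  t1 := h.t1
  mul := by
    intro g k hg hk
    rw [ext_apply hg, ext_apply hk, ext_apply (IsoD.mul_comm' hg hk), ← map_mul]
    rfl
  ker := by
    intro g hg
    rw [ext_apply hg]
    exact h.ker _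
  le := fun g hg => mem_centralizer_singleton_iff.1 (h.le hg)
  norm := h.norm
  notMem := h.notMem
  even := by
    intro g hg
    rw [ext_apply (mem_centralizer_singleton_iff.1 (h.le hg))]
    exact Perm.mem_alternatingGroup.1 (h.even ⟨g, _⟩ hg)
  surj := by
    intro σ
    obtain ⟨g0, hg0⟩ := h.odd
    have key : ∀ τ ∈ An n, ∃ g, g * t = t * g ∧ ext φ g = τ := by
      intro τ hτ
      obtain ⟨g, hg, hgτ⟩ := h.surj τ hτ
      refine ⟨g, mem_centralizer_singleton_iff.1 g.2, ?_⟩
      rw [ext_apply (mem_centralizer_singleton_iff.1 g.2)]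
      exact hgτ
    by_cases hσ : σ ∈ An n
    · exact key σ hσ
    · have h1 : σ * (φ g0)⁻¹ ∈ An n := by
        rw [Perm.mem_alternatingGroup] at hg0 hσ ⊢
        rw [Perm.sign_mul, Perm.sign_inv]
        rcases Int.units_eq_one_or (Perm.sign σ) with h2 | h2
        · exact absurd h2 hσ
        · rcases Int.units_eq_one_or (Perm.sign (φ g0)) with h3 | h3
          · exact absurd h3 hg0
          · rw [h2, h3]; rfl
      obtain ⟨g, hg, hgσ⟩ := key _ h1
      have hg0t := mem_centralizer_singleton_iff.1 g0.2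
      refine ⟨g * g0, IsoD.mul_comm' hg hg0t, ?_⟩
      rw [ext_apply hg] at hgσ
      rw [ext_apply (IsoD.mul_comm' hg hg0t)]
      have h2 : (⟨g * g0, mem_centralizer_singleton_iff.2 (IsoD.mul_comm' hg hg0t)⟩ : centralizer ({t} : Set G)) =
          ⟨g, mem_centralizer_singleton_iff.2 hg⟩ * g0 := rfl
      rw [h2, map_mul, hgσ, inv_mul_cancel_right]
  mem := by
    intro g hg hs
    rw [ext_apply hg] at hs
    exact h.mem _ (Perm.mem_alternatingGroup.2 hs)
  sq := by
    intro g hg hs hss
    rw [ext_apply hg] at hs hss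
    have h1 := h.sq ⟨g, mem_centralizer_singleton_iff.2 hg⟩ (by
      rw [Perm.mem_alternatingGroup, hs]; decide)
    rw [← map_mul] at hss
    rcases (h.ker _).1 hss with h2 | h2
    · exfalso
      apply h1
      show g * g ∈ K
      have h3 : g * g = 1 := h2
      rw [h3]; exact K.one_mem
    · exact h2

/-- **(R1)** The isoclinic case is impossible. -/
theorem Iso.false [Finite G] (h : Iso t φ K) (hn : 7 ≤ n)
    (hz : ∃ x : G, x * t * x⁻¹ ≠ t ∧ x * t * x⁻¹ * t = t * (x * t * x⁻¹)) : False :=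
  h.isoD.false hn (fun g => h.toGen.disj (by omega) g) hz

end Cfsg.Agent.OddHalf.D5
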