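import Cfsg.Agent.OddHalf.D5.Defs
import Cfsg.Agent.OddHalf.D5.TForm

/-!
# ODD D5, `C_G(t) = ⟨t⟩ × S_n`, `n ≥ 8`: `t` is conjugate to `t a` for some even `a ≠ 1`

Otherwise all the conjugates `≠ t` of `t` in `C_G(t) = ⟨t⟩ × S_n` are of the form `a` or `t a`, `a` odd (`D ∩ A_n` is
empty). For `q ∈ D` let `s_q` be the sign character of `C_G(q)`. Then `s_q(k) = -1` for all `k ∈ C(q)`, `k ≠ 1` with
`q k ∈ D`. If `q = t^i a` with `a` a product of at least three transpositions, there are commuting `k, k' ∈ C(q)` with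
`q k`, `q k'`, `q k k'` in `D`: impossible. So `a` is a transposition; the T-formula for the two characters of
`C_G(t)` with `t ↦ -1` gives `t e ∈ D` and `e ∈ D` (`e` a transposition), and `q = t e`, `k = t`, `k' = e f` is
another such triple.
-/

set_option autoImplicit false

namespace Cfsg.Agent.OddHalf.D5.SymOdd

open Subgroup Equiv

variable {G : Type*} [Group G] {n : ℕ} {t : G} {ι : (⊤ : Subgroup (Perm (Fin n))) →* G}

/-- a permutation as an element of `⊤` -/
def up (a : Perm (Fin n)) : (⊤ : Subgroup (Perm (Fin n))) := ⟨a, mem_top a⟩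

theorem up_mul (a b : Perm (Fin n)) : up (a * b) = up a * up b := rfl

theorem up_one : up (1 : Perm (Fin n)) = 1 := rfl

theorem up_inv (a : Perm (Fin n)) : up a⁻¹ = (up a)⁻¹ := rfl

theorem up_coe (a : (⊤ : Subgroup (Perm (Fin n)))) : up (a : Perm (Fin n)) = a := rfl

theorem up_inj {a b : Perm (Fin n)} (h : up a = up b) : a = b := congrArg Subtype.val h

/-- the two projections of `C_G(t) = ⟨t⟩ × S_n` -/
theorem exists_proj (h : Spl t ⊤ ι) :
    ∃ (p : centralizer ({t} : Set G) →* Perm (Fin n)) (τ : centralizer ({t} : Set G) →* ℤˣ),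
      ∀ x : centralizer ({t} : Set G), (x : G) = (if τ x = 1 then 1 else t) * ι (up (p x)) := by
  classical
  have h1 : (-1 : ℤˣ) ≠ 1 := by decide
  have h2 : (-1 : ℤˣ) * -1 = 1 := by decide
  let f : ℤˣ × (⊤ : Subgroup (Perm (Fin n))) →* G :=
    { toFun := fun x => (if x.1 = 1 then 1 else t) * ι x.2
      map_one' := by simp
      map_mul' := by
        rintro ⟨e, a⟩ ⟨e', b⟩
        rcases Int.units_eq_one_or e with he | he <;> rcases Int.units_eq_one_or e' with he' | he'
        · simp [he, he']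
        · simp only [he, he', Prod.mk_mul_mk, one_mul, if_neg h1, if_true, map_mul]
          rw [← mul_assoc, h.comm a, mul_assoc]
        · simp only [he, he', Prod.mk_mul_mk, one_mul, mul_one, if_neg h1, if_true, map_mul, mul_assoc]
        · simp only [he, he', Prod.mk_mul_mk, one_mul, if_neg h1, if_true, map_mul, h2]
          calc ι a * ι b = (t * t) * ι a * ι b := by rw [h.tt, one_mul]
            _ = t * (t * ι a) * ι b := by group
            _ = t * (ι a * t) * ι b := by rw [h.comm a]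
            _ = t * ι a * (t * ι b) := by group }
  have hf : ∀ x, f x = (if x.1 = 1 then 1 else t) * ι x.2 := fun _ => rfl
  have hmem : ∀ x, f x ∈ centralizer ({t} : Set G) := by
    rintro ⟨e, a⟩
    rw [mem_centralizer_singleton_iff, hf]
    rcases Int.units_eq_one_or e with he | he
    · simp only [he, if_true, one_mul]; exact h.comm' a
    · simp only [he, if_neg h1]
      rw [mul_assoc, ← h.comm a]
  let F : ℤˣ × (⊤ : Subgroup (Perm (Fin n))) →* centralizer ({t} : Set G) := f.codRestrict _ hmem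
  have hFc : ∀ x, (F x : G) = (if x.1 = 1 then 1 else t) * ι x.2 := fun _ => rfl
  have hF : Function.Bijective F := by
    constructor
    · rintro ⟨e, a⟩ ⟨e', b⟩ hab
      have hab' : (F (e, a) : G) = F (e', b) := congrArg Subtype.val hab
      rw [hFc, hFc] at hab'
      rcases Int.units_eq_one_or e with he | he <;> rcases Int.units_eq_one_or e' with he' | he'
      · simp only [he, he', if_true, one_mul] at hab'
        rw [he, he', h.inj hab']
      · simp only [he, he', if_true, one_mul, if_neg h1] at hab'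
        exact absurd hab' (h.tne _ _)
      · simp only [he, he', if_true, one_mul, if_neg h1] at hab'
        exact absurd hab'.symm (h.tne _ _)
      · simp only [he, he', if_neg h1] at hab'
        rw [he, he', h.inj (mul_left_cancel hab')]
    · rintro ⟨x, hx⟩
      obtain ⟨a, ha | ha⟩ := h.cases (mem_centralizer_singleton_iff.1 hx)
      · refine ⟨(1, a), Subtype.ext ?_⟩
        rw [hFc, if_pos rfl, one_mul]
        exact ha.symm
      · refine ⟨(-1, a), Subtype.ext ?_⟩
        rw [hFc, if_neg h1]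
        exact ha.symm
  let E := MulEquiv.ofBijective F hF
  refine ⟨(⊤ : Subgroup (Perm (Fin n))).subtype.comp ((MonoidHom.snd _ _).comp E.symm.toMonoidHom),
    (MonoidHom.fst _ _).comp E.symm.toMonoidHom, ?_⟩
  intro x
  have h3 : F (E.symm x) = x := E.apply_symm_apply x
  have h4 : (x : G) = F (E.symm x) := by rw [h3]
  exact h4.trans (hFc _)

/-- The projections. -/
structure Pr (t : G) (ι : (⊤ : Subgroup (Perm (Fin n))) →* G) (p : centralizer ({t} : Set G) →* Perm (Fin n))
    (τ : centralizer ({t} : Set G) →* ℤˣ) : Prop where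
  spl : Spl t ⊤ ι
  eq : ∀ x : centralizer ({t} : Set G), (x : G) = (if τ x = 1 then 1 else t) * ι (up (p x))

namespace Pr

variable {p : centralizer ({t} : Set G) →* Perm (Fin n)} {τ : centralizer ({t} : Set G) →* ℤˣ}

theorem of_iota (P : Pr t ι p τ) {x : centralizer ({t} : Set G)} {a : Perm (Fin n)} (hx : (x : G) = ι (up a)) :
    p x = a ∧ τ x = 1 := by
  have h1 := P.eq x
  rcases Int.units_eq_one_or (τ x) with h | h
  · rw [h, if_pos rfl, one_mul, hx] at h1
    exact ⟨(up_inj (P.spl.inj h1)).symm, h⟩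
  · rw [h, if_neg (by decide), hx] at h1
    exact absurd h1 (P.spl.tne _ _)

theorem of_t_iota (P : Pr t ι p τ) {x : centralizer ({t} : Set G)} {a : Perm (Fin n)}
    (hx : (x : G) = t * ι (up a)) : p x = a ∧ τ x = -1 := by
  have h1 := P.eq x
  rcases Int.units_eq_one_or (τ x) with h | h
  · rw [h, if_pos rfl, one_mul, hx] at h1
    exact absurd h1.symm (P.spl.tne _ _)
  · rw [h, if_neg (by decide), hx] at h1
    exact ⟨(up_inj (P.spl.inj (mul_left_cancel h1))).symm, h⟩

end Pr

/-- hypotheses: all the conjugates `≠ t` of `t` in `C(t)` are odd -/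
structure Odd (t : G) (ι : (⊤ : Subgroup (Perm (Fin n))) →* G) : Prop where
  spl : Spl t ⊤ ι
  hK : ∀ a : Perm (Fin n), Perm.sign a = 1 → ¬ IsConj t (ι (up a))
  hB : ∀ a : Perm (Fin n), Perm.sign a = 1 → a ≠ 1 → ¬ IsConj t (t * ι (up a))

namespace Odd

variable {p : centralizer ({t} : Set G) →* Perm (Fin n)} {τ : centralizer ({t} : Set G) →* ℤˣ}

theorem sign_eq (O : Odd t ι) (P : Pr t ι p τ) {y : centralizer ({t} : Set G)} (hy : IsConj t (y : G))
    (hyt : (y : G) ≠ t) : Perm.sign (p y) = -1 := by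
  rcases Int.units_eq_one_or (Perm.sign (p y)) with hs | hs
  · exfalso
    have h1 := P.eq y
    rcases Int.units_eq_one_or (τ y) with h | h
    · rw [h, if_pos rfl, one_mul] at h1
      rw [h1] at hy
      exact O.hK _ hs hy
    · rw [h, if_neg (by decide)] at h1
      by_cases h2 : p y = 1
      · apply hyt
        rw [h1, h2, up_one, map_one, mul_one]
      · rw [h1] at hy
        exact O.hB _ hs h2 hy
  · exact hs

/-- **the basic contradiction** -/
theorem no_triple (O : Odd t ι) {q k k' : G} (hq : IsConj t q) (hk : k * q = q * k) (hk' : k' * q = q * k')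
    (k1 : k ≠ 1) (k1' : k' ≠ 1) (k1'' : k * k' ≠ 1) (h1 : IsConj t (q * k)) (h2 : IsConj t (q * k'))
    (h3 : IsConj t (q * (k * k'))) : False := by
  obtain ⟨p, τ, hpτ⟩ := exists_proj O.spl
  have P : Pr t ι p τ := ⟨O.spl, hpτ⟩
  obtain ⟨g, hg⟩ := isConj_iff.1 hq.symm
  -- `g q g⁻¹ = t`
  have key : ∀ m : G, m * q = q * m → g * m * g⁻¹ ∈ centralizer ({t} : Set G) := by
    intro m hm
    rw [mem_centralizer_singleton_iff, ← hg]
    calc g * m * g⁻¹ * (g * q * g⁻¹) = g * (m * q) * g⁻¹ := by group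
      _ = g * (q * m) * g⁻¹ := by rw [hm]
      _ = g * q * g⁻¹ * (g * m * g⁻¹) := by group
  have htc : t ∈ centralizer ({t} : Set G) := mem_centralizer_singleton_iff.2 rfl
  have hpt : p ⟨t, htc⟩ = 1 := by
    refine (P.of_t_iota (a := 1) ?_).1
    rw [up_one, map_one, mul_one]
  have main : ∀ m : G, ∀ hm : m * q = q * m, m ≠ 1 → IsConj t (q * m) →
      Perm.sign (p ⟨g * m * g⁻¹, key m hm⟩) = -1 := by
    intro m hm m1 hqm
    have e1 : t * (g * m * g⁻¹) = g * (q * m) * g⁻¹ := by rw [← hg]; group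
    have h4 := O.sign_eq P (y := ⟨t, htc⟩ * ⟨g * m * g⁻¹, key m hm⟩) (by
      show IsConj t (t * (g * m * g⁻¹))
      rw [e1]
      exact hqm.trans (isConj_iff.2 ⟨g, rfl⟩)) (by
      show t * (g * m * g⁻¹) ≠ t
      intro h5
      apply m1
      have h6 : g * m * g⁻¹ = 1 := mul_eq_left.1 h5
      rwa [conj_eq_one_iff] at h6)
    rwa [map_mul, hpt, one_mul] at h4
  have hkk : k * k' * q = q * (k * k') := by rw [mul_assoc, hk', ← mul_assoc, hk, mul_assoc]
  have e1 := main k hk k1 h1
  have e2 := main k' hk' k1' h2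
  have e3 := main (k * k') hkk k1'' h3
  have e4 : (⟨g * (k * k') * g⁻¹, key _ hkk⟩ : centralizer ({t} : Set G)) =
      ⟨g * k * g⁻¹, key k hk⟩ * ⟨g * k' * g⁻¹, key k' hk'⟩ := by
    apply Subtype.ext
    show g * (k * k') * g⁻¹ = g * k * g⁻¹ * (g * k' * g⁻¹)
    group
  rw [e4, map_mul, Perm.sign_mul, e1, e2] at e3
  exact absurd e3 (by decide)

/-- the same for permutations -/
theorem no_perm (O : Odd t ι) {i : G} (hi : i = 1 ∨ i = t) {a c c' u u' w : Perm (Fin n)}
    (hq : IsConj t (i * ι (up a))) (aa : a * a = 1)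
    (cc : c * c = 1) (cc' : c' * c' = 1) (c1 : c ≠ 1) (c1' : c' ≠ 1) (c1'' : c * c' ≠ 1)
    (hu : a * c = u * a * u⁻¹) (hu' : a * c' = u' * a * u'⁻¹) (hw : a * (c * c') = w * a * w⁻¹) : False := by
  have hit : ∀ b, i * ι b = ι b * i := by
    intro b
    rcases hi with rfl | rfl
    · rw [one_mul, mul_one]
    · exact O.spl.comm b
  have hconj : ∀ b v : Perm (Fin n), a * b = v * a * v⁻¹ → IsConj t (i * ι (up a) * ι (up b)) := by
    intro b v hv
    refine hq.trans (isConj_iff.2 ⟨ι (up v), ?_⟩)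
    rw [mul_assoc i, ← map_mul, ← up_mul, hv, up_mul, up_mul, up_inv, map_mul, map_mul, map_inv]
    calc ι (up v) * (i * ι (up a)) * (ι (up v))⁻¹ = (ι (up v) * i) * ι (up a) * (ι (up v))⁻¹ := by group
      _ = (i * ι (up v)) * ι (up a) * (ι (up v))⁻¹ := by rw [hit]
      _ = i * (ι (up v) * ι (up a) * (ι (up v))⁻¹) := by group
  have hcomm : ∀ b v : Perm (Fin n), b * b = 1 → a * b = v * a * v⁻¹ →
      ι (up b) * (i * ι (up a)) = i * ι (up a) * ι (up b) := by
    intro b v hb hv
    have h1 : a * b * (a * b) = 1 := by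
      rw [hv]
      calc v * a * v⁻¹ * (v * a * v⁻¹) = v * (a * a) * v⁻¹ := by group
        _ = 1 := by rw [aa]; group
    have h2 : b * a = a * b := by
      calc b * a = (a * a) * (b * a) * (b * b) := by rw [aa, hb, one_mul, mul_one]
        _ = a * (a * b * (a * b)) * b := by group
        _ = a * b := by rw [h1, mul_one]
    rw [← mul_assoc, ← hit, mul_assoc, mul_assoc, ← map_mul, ← map_mul, ← up_mul, ← up_mul, h2]
  have hne : ∀ b : Perm (Fin n), b ≠ 1 → ι (up b) ≠ 1 := by
    intro b hb h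
    exact hb (up_inj (O.spl.iota_eq_one h))
  refine O.no_triple hq (hcomm c u cc hu) (hcomm c' u' cc' hu') (hne c c1) (hne c' c1') ?_ (hconj c u hu)
    (hconj c' u' hu') ?_
  · rw [← map_mul, ← up_mul]; exact hne _ c1''
  · rw [← map_mul, ← up_mul]; exact hconj _ w hw

end Odd

/-! ### permutations -/

/-- two two-cycles of `a` -/
theorem perm_u {a : Perm (Fin n)} {x y : Fin n} :
    a * (swap x y * swap (a x) (a y)) = swap (a x) (a y) * a * (swap (a x) (a y))⁻¹ := by
  rw [swap_inv, ← mul_assoc, mul_swap_eq_swap_mul a x y]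

/-- a two-cycle and two fixed points -/
theorem perm_f {a : Perm (Fin n)} (aa : ∀ x, a (a x) = x) {x y z : Fin n} (hx : a x ≠ x) (hy : a y = y)
    (hz : a z = z) (hyz : y ≠ z) :
    a * (swap x (a x) * swap y z) = (swap x y * swap (a x) z) * a * (swap x y * swap (a x) z)⁻¹ := by
  have xy : x ≠ y := by rintro rfl; exact hx hy
  have xz : x ≠ z := by rintro rfl; exact hx hz
  have xy' : a x ≠ y := by
    intro h
    apply xy
    rw [← aa x, h, hy]
  have xz' : a x ≠ z := by
    intro h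
    apply xz
    rw [← aa x, h, hz]
  rw [eq_mul_inv_iff_mul_eq]
  have e1 : swap x y * swap (a x) z * swap x (a x) = swap y z * (swap x y * swap (a x) z) := by
    have h1 : (swap x y * swap (a x) z) x = y := by
      rw [Perm.mul_apply, swap_apply_of_ne_of_ne (Ne.symm hx) xz, swap_apply_left]
    have h2 : (swap x y * swap (a x) z) (a x) = z := by
      rw [Perm.mul_apply, swap_apply_left, swap_apply_of_ne_of_ne (Ne.symm xz) (Ne.symm hyz)]
    rw [mul_swap_eq_swap_mul, h1, h2]
  have e2 : (a * swap x (a x)) * (swap x y * swap (a x) z) = (swap x y * swap (a x) z) * (a * swap x (a x)) := by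
    have h1 : (a * swap x (a x)) x = x := by rw [Perm.mul_apply, swap_apply_left, aa]
    have h2 : (a * swap x (a x)) (a x) = a x := by rw [Perm.mul_apply, swap_apply_right]
    have h3 : (a * swap x (a x)) y = y := by
      rw [Perm.mul_apply, swap_apply_of_ne_of_ne (Ne.symm xy) (Ne.symm xy'), hy]
    have h4 : (a * swap x (a x)) z = z := by
      rw [Perm.mul_apply, swap_apply_of_ne_of_ne (Ne.symm xz) (Ne.symm xz'), hz]
    rw [← mul_assoc, mul_swap_eq_swap_mul _ x y, h1, h3, mul_assoc, mul_swap_eq_swap_mul _ (a x) z, h2, h4,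
      mul_assoc]
  calc a * (swap x (a x) * swap y z) * (swap x y * swap (a x) z)
      = a * swap x (a x) * (swap y z * (swap x y * swap (a x) z)) := by group
    _ = a * swap x (a x) * (swap x y * swap (a x) z) * swap x (a x) := by rw [← e1]; group
    _ = swap x y * swap (a x) z * (a * swap x (a x)) * swap x (a x) := by rw [e2]
    _ = swap x y * swap (a x) z * a := by rw [mul_assoc, mul_assoc a, swap_mul_self, mul_one]

/-- combination -/
theorem perm_comb {a c c' u u' : Perm (Fin n)} (hu : a * c = u * a * u⁻¹) (hu' : a * c' = u' * a * u'⁻¹)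
    (h : c' * u = u * c') : a * (c * c') = (u * u') * a * (u * u')⁻¹ := by
  have h1 : u * c' * u⁻¹ = c' := by rw [← h, mul_inv_cancel_right]
  calc a * (c * c') = (a * c) * c' := by group
    _ = u * a * u⁻¹ * c' := by rw [hu]
    _ = u * a * u⁻¹ * (u * c' * u⁻¹) := by rw [h1]
    _ = u * (a * c') * u⁻¹ := by group
    _ = u * (u' * a * u'⁻¹) * u⁻¹ := by rw [hu']
    _ = (u * u') * a * (u * u')⁻¹ := by group

theorem swap_comm4 {x y z w : Fin n} (h1 : x ≠ z) (h2 : x ≠ w) (h3 : y ≠ z) (h4 : y ≠ w) :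
    swap x y * swap z w = swap z w * swap x y := by
  rw [mul_swap_eq_swap_mul, swap_apply_of_ne_of_ne (Ne.symm h1) (Ne.symm h3),
    swap_apply_of_ne_of_ne (Ne.symm h2) (Ne.symm h4)]

theorem exists_not_mem {S : Finset (Fin n)} (h : S.card < n) : ∃ g, g ∉ S := by
  by_contra hcon
  push Not at hcon
  have : S = Finset.univ := Finset.eq_univ_of_forall hcon
  rw [this, Finset.card_univ, Fintype.card_fin] at h
  exact lt_irrefl _ h

namespace Odd

/-- a conjugate of `t` of the form `a` or `t a`, `a` odd, is a transposition up to `t` -/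
theorem is_swap (hn : 8 ≤ n) (O : Odd t ι) {i : G} (hi : i = 1 ∨ i = t) {a : Perm (Fin n)} (aa : a * a = 1)
    (hs : Perm.sign a = -1) (hq : IsConj t (i * ι (up a))) : ∃ x y, x ≠ y ∧ a = swap x y := by
  classical
  have haa : ∀ x, a (a x) = x := fun x => by rw [← Perm.mul_apply, aa, Perm.one_apply]
  have ainj : ∀ {x y}, a x = a y → x = y := fun h => a.injective h
  by_contra hne
  push Not at hne
  -- the first two-cycle
  obtain ⟨x1, h1⟩ : ∃ x, a x ≠ x := by
    by_contra hcon
    push Not at hcon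
    have : a = 1 := Perm.ext hcon
    rw [this, Perm.sign_one] at hs
    exact absurd hs (by decide)
  -- the second
  obtain ⟨x3, h3⟩ : ∃ x, a x ≠ (swap x1 (a x1)) x := by
    by_contra hcon
    push Not at hcon
    exact hne x1 (a x1) (Ne.symm h1) (Perm.ext hcon)
  have h31 : x3 ≠ x1 := by rintro rfl; exact h3 (by rw [swap_apply_left])
  have h32 : x3 ≠ a x1 := by rintro rfl; exact h3 (by rw [swap_apply_right, haa])
  rw [swap_apply_of_ne_of_ne h31 h32] at h3
  have h41 : a x3 ≠ x1 := fun h => h32 (by rw [← h, haa])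
  have h42 : a x3 ≠ a x1 := fun h => h31 (ainj h)
  -- the third
  obtain ⟨x5, h5⟩ : ∃ x, a x ≠ (swap x1 (a x1) * swap x3 (a x3)) x := by
    by_contra hcon
    push Not at hcon
    have : a = swap x1 (a x1) * swap x3 (a x3) := Perm.ext hcon
    rw [this, Perm.sign_mul, Perm.sign_swap (Ne.symm h1), Perm.sign_swap (Ne.symm h3)] at hs
    exact absurd hs (by decide)
  have h53 : x5 ≠ x3 := by
    rintro rfl
    apply h5
    rw [Perm.mul_apply, swap_apply_left, swap_apply_of_ne_of_ne h41 h42]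
  have h54 : x5 ≠ a x3 := by
    rintro rfl
    apply h5
    rw [Perm.mul_apply, swap_apply_right, haa, swap_apply_of_ne_of_ne h31 h32]
  have h51 : x5 ≠ x1 := by
    rintro rfl
    apply h5
    rw [Perm.mul_apply, swap_apply_of_ne_of_ne h53 h54, swap_apply_left]
  have h52 : x5 ≠ a x1 := by
    rintro rfl
    apply h5
    rw [Perm.mul_apply, swap_apply_of_ne_of_ne h53 h54, swap_apply_right, haa]
  rw [Perm.mul_apply, swap_apply_of_ne_of_ne h53 h54, swap_apply_of_ne_of_ne h51 h52] at h5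
  have h61 : a x5 ≠ x1 := fun h => h52 (by rw [← h, haa])
  have h62 : a x5 ≠ a x1 := fun h => h51 (ainj h)
  have h63 : a x5 ≠ x3 := fun h => h54 (by rw [← h, haa])
  have h64 : a x5 ≠ a x3 := fun h => h53 (ainj h)
  -- the first element
  have hu := perm_u (a := a) (x := x1) (y := x3)
  have cc : swap x1 x3 * swap (a x1) (a x3) * (swap x1 x3 * swap (a x1) (a x3)) = 1 := by
    have e := swap_comm4 (x := x1) (y := x3) (z := a x1) (w := a x3) (Ne.symm h1) (Ne.symm h41) h32 (Ne.symm h3)
    calc swap x1 x3 * swap (a x1) (a x3) * (swap x1 x3 * swap (a x1) (a x3))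
        = swap x1 x3 * swap (a x1) (a x3) * (swap (a x1) (a x3) * swap x1 x3) := by rw [e]
      _ = swap x1 x3 * (swap (a x1) (a x3) * swap (a x1) (a x3)) * swap x1 x3 := by group
      _ = 1 := by rw [swap_mul_self, mul_one, swap_mul_self]
  have cx1 : (swap x1 x3 * swap (a x1) (a x3)) x1 = x3 := by
    rw [Perm.mul_apply, swap_apply_of_ne_of_ne (Ne.symm h1) (Ne.symm h41), swap_apply_left]
  have c1 : swap x1 x3 * swap (a x1) (a x3) ≠ 1 := by
    intro h
    rw [h, Perm.one_apply] at cx1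
    exact h31 cx1.symm
  by_cases h7 : ∃ x7, x7 ≠ x1 ∧ x7 ≠ a x1 ∧ x7 ≠ x3 ∧ x7 ≠ a x3 ∧ x7 ≠ x5 ∧ x7 ≠ a x5 ∧ a x7 ≠ x7
  · -- four two-cycles
    obtain ⟨x7, h71, h72, h73, h74, h75, h76, h7⟩ := h7
    have h81 : a x7 ≠ x1 := fun h => h72 (by rw [← h, haa])
    have h82 : a x7 ≠ a x1 := fun h => h71 (ainj h)
    have h83 : a x7 ≠ x3 := fun h => h74 (by rw [← h, haa])
    have h84 : a x7 ≠ a x3 := fun h => h73 (ainj h)
    have h85 : a x7 ≠ x5 := fun h => h76 (by rw [← h, haa])
    have h86 : a x7 ≠ a x5 := fun h => h75 (ainj h)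
    have hu' := perm_u (a := a) (x := x5) (y := x7)
    have e1 : swap x5 x7 * swap (a x1) (a x3) = swap (a x1) (a x3) * swap x5 x7 :=
      swap_comm4 h52 h54 h72 h74
    have e2 : swap (a x5) (a x7) * swap (a x1) (a x3) = swap (a x1) (a x3) * swap (a x5) (a x7) :=
      swap_comm4 h62 h64 h82 h84
    have hcu : swap x5 x7 * swap (a x5) (a x7) * swap (a x1) (a x3) =
        swap (a x1) (a x3) * (swap x5 x7 * swap (a x5) (a x7)) := by
      rw [mul_assoc, e2, ← mul_assoc, e1, mul_assoc]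
    have e := swap_comm4 (x := x5) (y := x7) (z := a x5) (w := a x7) (Ne.symm h5) (Ne.symm h85) h76 (Ne.symm h7)
    have cc' : swap x5 x7 * swap (a x5) (a x7) * (swap x5 x7 * swap (a x5) (a x7)) = 1 := by
      calc swap x5 x7 * swap (a x5) (a x7) * (swap x5 x7 * swap (a x5) (a x7))
          = swap x5 x7 * swap (a x5) (a x7) * (swap (a x5) (a x7) * swap x5 x7) := by rw [e]
        _ = swap x5 x7 * (swap (a x5) (a x7) * swap (a x5) (a x7)) * swap x5 x7 := by group
        _ = 1 := by rw [swap_mul_self, mul_one, swap_mul_self]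
    have cx5 : (swap x5 x7 * swap (a x5) (a x7)) x5 = x7 := by
      rw [Perm.mul_apply, swap_apply_of_ne_of_ne (Ne.symm h5) (Ne.symm h85), swap_apply_left]
    have cx1' : (swap x5 x7 * swap (a x5) (a x7)) x1 = x1 := by
      rw [Perm.mul_apply, swap_apply_of_ne_of_ne (Ne.symm h61) (Ne.symm h81),
        swap_apply_of_ne_of_ne (Ne.symm h51) (Ne.symm h71)]
    refine O.no_perm hi hq aa cc cc' c1 ?_ ?_ hu hu' (perm_comb hu hu' hcu)
    · intro h
      rw [h, Perm.one_apply] at cx5
      exact h75 cx5.symm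
    · intro h
      have h' : (swap x1 x3 * swap (a x1) (a x3) * (swap x5 x7 * swap (a x5) (a x7))) x1 = x1 := by
        rw [h, Perm.one_apply]
      rw [Perm.mul_apply, cx1', cx1] at h'
      exact h31 h'
  · -- three two-cycles and two fixed points
    push Not at h7
    obtain ⟨y, hy⟩ := exists_not_mem (n := n) (S := {x1, a x1, x3, a x3, x5, a x5})
      (lt_of_le_of_lt Finset.card_le_six (by omega))
    simp only [Finset.mem_insert, Finset.mem_singleton, not_or] at hy
    obtain ⟨y1, y2, y3, y4, y5, y6⟩ := hy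
    have hay := h7 y y1 y2 y3 y4 y5 y6
    obtain ⟨z, hz⟩ := exists_not_mem (n := n) (S := insert y {x1, a x1, x3, a x3, x5, a x5}) (by
      have h8 := Finset.card_insert_le y ({x1, a x1, x3, a x3, x5, a x5} : Finset (Fin n))
      have h9 : ({x1, a x1, x3, a x3, x5, a x5} : Finset (Fin n)).card ≤ 6 := Finset.card_le_six
      omega)
    simp only [Finset.mem_insert, Finset.mem_singleton, not_or] at hz
    obtain ⟨zy, z1, z2, z3, z4, z5, z6⟩ := hz
    have haz := h7 z z1 z2 z3 z4 z5 z6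
    have hu' := perm_f haa (x := x5) (y := y) (z := z) h5 hay haz (Ne.symm zy)
    have e1 : swap x5 (a x5) * swap (a x1) (a x3) = swap (a x1) (a x3) * swap x5 (a x5) :=
      swap_comm4 h52 h54 h62 h64
    have e2 : swap y z * swap (a x1) (a x3) = swap (a x1) (a x3) * swap y z :=
      swap_comm4 y2 y4 z2 z4
    have hcu : swap x5 (a x5) * swap y z * swap (a x1) (a x3) =
        swap (a x1) (a x3) * (swap x5 (a x5) * swap y z) := by
      rw [mul_assoc, e2, ← mul_assoc, e1, mul_assoc]
    have e := swap_comm4 (x := x5) (y := a x5) (z := y) (w := z) (Ne.symm y5) (Ne.symm z5) (Ne.symm y6)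
      (Ne.symm z6)
    have cc' : swap x5 (a x5) * swap y z * (swap x5 (a x5) * swap y z) = 1 := by
      calc swap x5 (a x5) * swap y z * (swap x5 (a x5) * swap y z)
          = swap x5 (a x5) * swap y z * (swap y z * swap x5 (a x5)) := by rw [e]
        _ = swap x5 (a x5) * (swap y z * swap y z) * swap x5 (a x5) := by group
        _ = 1 := by rw [swap_mul_self, mul_one, swap_mul_self]
    have cx5 : (swap x5 (a x5) * swap y z) x5 = a x5 := by
      rw [Perm.mul_apply, swap_apply_of_ne_of_ne (Ne.symm y5) (Ne.symm z5), swap_apply_left]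
    have cx1' : (swap x5 (a x5) * swap y z) x1 = x1 := by
      rw [Perm.mul_apply, swap_apply_of_ne_of_ne (Ne.symm y1) (Ne.symm z1),
        swap_apply_of_ne_of_ne (Ne.symm h51) (Ne.symm h61)]
    refine O.no_perm hi hq aa cc cc' c1 ?_ ?_ hu hu' (perm_comb hu hu' hcu)
    · intro h
      rw [h, Perm.one_apply] at cx5
      exact h5 cx5.symm
    · intro h
      have h' : (swap x1 x3 * swap (a x1) (a x3) * (swap x5 (a x5) * swap y z)) x1 = x1 := by
        rw [h, Perm.one_apply]
      rw [Perm.mul_apply, cx1', cx1] at h'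
      exact h31 h'

end Odd

variable [Finite G]

/-- **the odd case is impossible** -/
theorem not_odd (hn : 8 ≤ n) (O : Odd t ι) (hG : ∀ H : Subgroup G, H.index ≠ 2) : False := by
  classical
  obtain ⟨p, τ, hpτ⟩ := exists_proj O.spl
  have P : Pr t ι p τ := ⟨O.spl, hpτ⟩
  have htc : t ∈ centralizer ({t} : Set G) := mem_centralizer_singleton_iff.2 rfl
  have ht : p ⟨t, htc⟩ = 1 ∧ τ ⟨t, htc⟩ = -1 := by
    refine P.of_t_iota (a := 1) ?_
    rw [up_one, map_one, mul_one]
  -- squares
  have hsq : ∀ x : centralizer ({t} : Set G), IsConj t (x : G) → p x * p x = 1 := by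
    intro x hx
    rw [← map_mul]
    have h1 : (x : G) * x = 1 := by
      obtain ⟨g, hg⟩ := isConj_iff.1 hx
      rw [← hg]
      calc g * t * g⁻¹ * (g * t * g⁻¹) = g * (t * t) * g⁻¹ := by group
        _ = 1 := by rw [O.spl.tt]; group
    have h2 : x * x = 1 := Subtype.ext h1
    rw [h2, map_one]
  have hsw : ∀ {x y x' y' : Fin n}, x ≠ y → x' ≠ y' → ∀ {i : G}, (i = 1 ∨ i = t) →
      IsConj t (i * ι (up (swap x y))) → IsConj t (i * ι (up (swap x' y'))) := by
    intro x y x' y' hxy hxy' i hi hc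
    have h1 : IsConj (swap x y) (swap x' y') := Perm.isConj_swap hxy hxy'
    obtain ⟨v, hv⟩ := isConj_iff.1 h1
    have hit : ∀ b, i * ι b = ι b * i := by
      intro b
      rcases hi with rfl | rfl
      · rw [one_mul, mul_one]
      · exact O.spl.comm b
    refine hc.trans (isConj_iff.2 ⟨ι (up v), ?_⟩)
    rw [← hv, up_mul, up_mul, up_inv, map_mul, map_mul, map_inv]
    calc ι (up v) * (i * ι (up (swap x y))) * (ι (up v))⁻¹
        = (ι (up v) * i) * ι (up (swap x y)) * (ι (up v))⁻¹ := by group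
      _ = (i * ι (up v)) * ι (up (swap x y)) * (ι (up v))⁻¹ := by rw [hit]
      _ = i * (ι (up v) * ι (up (swap x y)) * (ι (up v))⁻¹) := by group
  -- `t e ∈ D`
  have hte : ∃ x y, x ≠ y ∧ IsConj t (t * ι (up (swap x y))) := by
    obtain ⟨x, hx1, hx2, hx3⟩ := TForm.exists_conj_hom hG O.spl.tt τ ht.2
    have h1 := P.eq x
    rw [hx1, if_neg (by decide)] at h1
    have h2 := hx3
    rw [h1] at h2
    obtain ⟨y, z, hyz, h3⟩ := O.is_swap hn (Or.inr rfl) (hsq x hx3) (O.sign_eq P hx3 hx2) h2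
    rw [h3] at h2
    exact ⟨y, z, hyz, h2⟩
  -- `e ∈ D`
  have he : ∃ x y, x ≠ y ∧ IsConj t (1 * ι (up (swap x y))) := by
    obtain ⟨x, hx1, hx2, hx3⟩ := TForm.exists_conj_hom hG O.spl.tt (τ * (Perm.sign.comp p)) (by
      rw [MonoidHom.mul_apply, ht.2, MonoidHom.comp_apply, ht.1, map_one]; rfl)
    have h0 := O.sign_eq P hx3 hx2
    rw [MonoidHom.mul_apply, MonoidHom.comp_apply, h0] at hx1
    have hτ : τ x = 1 := by
      rcases Int.units_eq_one_or (τ x) with h | h
      · exact h
      · rw [h] at hx1; exact absurd hx1 (by decide)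
    have h1 := P.eq x
    rw [hτ, if_pos rfl] at h1
    have h2 := hx3
    rw [h1] at h2
    obtain ⟨y, z, hyz, h3⟩ := O.is_swap hn (Or.inl rfl) (hsq x hx3) h0 h2
    rw [h3] at h2
    exact ⟨y, z, hyz, h2⟩
  obtain ⟨x, y, hxy, h1⟩ := hte
  obtain ⟨x', y', hxy', h2⟩ := he
  set l0 : Fin n := ⟨0, by omega⟩
  set l1 : Fin n := ⟨1, by omega⟩
  set l2 : Fin n := ⟨2, by omega⟩
  set l3 : Fin n := ⟨3, by omega⟩
  have d01 : l0 ≠ l1 := by simp [l0, l1]
  have d02 : l0 ≠ l2 := by simp [l0, l2]
  have d03 : l0 ≠ l3 := by simp [l0, l3]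
  have d12 : l1 ≠ l2 := by simp [l1, l2]
  have d13 : l1 ≠ l3 := by simp [l1, l3]
  have d23 : l2 ≠ l3 := by simp [l2, l3]
  have te := hsw hxy d01 (Or.inr rfl) h1
  have tf := hsw hxy d23 (Or.inr rfl) h1
  have e' := hsw hxy' d01 (Or.inl rfl) h2
  have f' := hsw hxy' d23 (Or.inl rfl) h2
  rw [one_mul] at e' f'
  have ef : swap l0 l1 * swap l2 l3 = swap l2 l3 * swap l0 l1 := swap_comm4 d02 d03 d12 d13
  have ne1 : swap l0 l1 * swap l2 l3 ≠ 1 := by
    intro h
    have h' : (swap l0 l1 * swap l2 l3) l0 = l0 := by rw [h, Perm.one_apply]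
    rw [Perm.mul_apply, swap_apply_of_ne_of_ne d02 d03, swap_apply_left] at h'
    exact d01 h'.symm
  have hcm : ι (up (swap l0 l1 * swap l2 l3)) * ι (up (swap l0 l1)) =
      ι (up (swap l0 l1)) * ι (up (swap l0 l1 * swap l2 l3)) := by
    rw [← map_mul, ← map_mul, ← up_mul, ← up_mul, mul_assoc, ← ef]
  have hee : ι (up (swap l0 l1)) * ι (up (swap l0 l1 * swap l2 l3)) = ι (up (swap l2 l3)) := by
    rw [← map_mul, ← up_mul, ← mul_assoc, swap_mul_self, one_mul]
  refine O.no_triple (q := t * ι (up (swap l0 l1))) (k := t) (k' := ι (up (swap l0 l1 * swap l2 l3))) te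
    ?_ ?_ O.spl.t1 ?_ ?_ ?_ ?_ ?_
  · rw [mul_assoc, ← O.spl.comm]
  · rw [← mul_assoc, ← O.spl.comm, mul_assoc, hcm, mul_assoc]
  · intro h
    exact ne1 (up_inj (O.spl.iota_eq_one h))
  · intro h
    apply O.spl.ne (up (swap l0 l1 * swap l2 l3))⁻¹
    rw [map_inv]
    exact (eq_inv_of_mul_eq_one_left h).symm
  · rw [mul_assoc, ← O.spl.comm, ← mul_assoc, O.spl.tt, one_mul]
    exact e'
  · rw [mul_assoc, hee]
    exact tf
  · have e1 : t * ι (up (swap l0 l1)) * (t * ι (up (swap l0 l1 * swap l2 l3))) =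
        (t * t) * (ι (up (swap l0 l1)) * ι (up (swap l0 l1 * swap l2 l3))) := by
      calc t * ι (up (swap l0 l1)) * (t * ι (up (swap l0 l1 * swap l2 l3)))
          = t * (ι (up (swap l0 l1)) * t) * ι (up (swap l0 l1 * swap l2 l3)) := by group
        _ = t * (t * ι (up (swap l0 l1))) * ι (up (swap l0 l1 * swap l2 l3)) := by rw [O.spl.comm]
        _ = _ := by group
    rw [e1, O.spl.tt, one_mul, hee]
    exact f'

/-- **main result**: some `t a`, `a ≠ 1` even, is conjugate to `t` -/
theorem exists_even (hn : 8 ≤ n) (h : Spl t ⊤ ι) (hG : ∀ H : Subgroup G, H.index ≠ 2)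
    (hK : ∀ a : (⊤ : Subgroup (Perm (Fin n))), Perm.sign (a : Perm (Fin n)) = 1 → ¬ IsConj t (ι a)) :
    ∃ a : (⊤ : Subgroup (Perm (Fin n))), Perm.sign (a : Perm (Fin n)) = 1 ∧ a ≠ 1 ∧ IsConj t (t * ι a) := by
  by_contra hcon
  push Not at hcon
  refine not_odd hn (ι := ι) ⟨h, fun a ha => hK (up a) ha, fun a ha h1 => hcon (up a) ha ?_⟩ hG
  intro h2
  exact h1 (up_inj h2)

end Cfsg.Agent.OddHalf.D5.SymOdd
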