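import Cfsg.Agent.OddHalf.D5.NinePerm
import Cfsg.Agent.OddHalf.D5.InvCount
import Cfsg.Agent.OddHalf.D5.Sym.Match
import Cfsg.Agent.SmallSimple.Parity

/-!
# ODD D5, `n = 9`, `C_G(t) = ⟨t⟩ × S_9`, minimal even type four

`|G : C(t)| ≡ 2 mod 4`, so the order of `G` is not divisible by `2^10`. `X` = the elements normalizing the regular
elementary abelian `j(U)` of order 8 and mapping `t` in `t j(U)`: its order is divisible by `2^10`.
-/

set_option autoImplicit false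
set_option linter.unusedSectionVars false
set_option linter.style.haveILetI false

namespace Cfsg.Agent.OddHalf.D5.Nine

open Equiv Subgroup Cfsg.Agent.OddHalf.D5.Sym Cfsg.Agent.OddHalf.D5.InvCount
open scoped commutatorElement

/-- orbits of a subgroup on its conjugates -/
theorem card_conj {G : Type*} [Group G] (X : Subgroup G) (t : G) :
    Nat.card X = Nat.card {y : G // ∃ g ∈ X, g * t * g⁻¹ = y} *
      Nat.card (X ⊓ centralizer ({t} : Set G) : Subgroup G) := by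
  classical
  letI : MulAction X G := MulAction.compHom G ((MulAut.conj : G →* MulAut G).comp X.subtype)
  have hsm : ∀ (g : X) (y : G), g • y = g * y * (g : G)⁻¹ := fun _ _ => rfl
  have h1 := (MulAction.stabilizer X t).card_mul_index
  rw [MulAction.index_stabilizer] at h1
  have h2 : (MulAction.orbit X t).ncard = Nat.card {y : G // ∃ g ∈ X, g * t * g⁻¹ = y} := by
    rw [← Nat.card_coe_set_eq]
    apply Nat.card_congr
    apply Equiv.subtypeEquivRight
    intro y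
    constructor
    · rintro ⟨g, hg⟩
      exact ⟨g, g.2, hg⟩
    · rintro ⟨g, hg, hy⟩
      exact ⟨⟨g, hg⟩, hy⟩
  have h3 : Nat.card (MulAction.stabilizer X t) = Nat.card (X ⊓ centralizer ({t} : Set G) : Subgroup G) := by
    apply Nat.card_congr
    exact
      { toFun := fun g => ⟨(g : X), (g : X).2, mem_centralizer_singleton_iff.2
          (mul_inv_eq_iff_eq_mul.1 (show ((g : X) : G) * t * ((g : X) : G)⁻¹ = t from g.2))⟩
        invFun := fun g => ⟨⟨g, g.2.1⟩, by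
          have h4 := mem_centralizer_singleton_iff.1 g.2.2
          show (g : G) * t * (g : G)⁻¹ = t
          exact mul_inv_eq_iff_eq_mul.2 h4⟩
        left_inv := fun _ => rfl
        right_inv := fun _ => rfl }
  rw [← h1, h2, h3, mul_comm]

section general

variable {G : Type*} [Group G] {n : ℕ} {t : G} {j : Perm (Fin n) →* G}

theorem sq_of_conj {t y : G} (tt : t * t = 1) (hc : IsConj t y) : y * y = 1 := by
  obtain ⟨g, rfl⟩ := isConj_iff.1 hc
  calc g * t * g⁻¹ * (g * t * g⁻¹) = g * (t * t) * g⁻¹ := by group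
    _ = 1 := by rw [tt, mul_one, mul_inv_cancel]

theorem sq_j (h : Sp t j) {a : Perm (Fin n)} (hc : IsConj t (j a)) : a * a = 1 := by
  apply h.inj
  rw [map_mul, map_one]
  exact sq_of_conj h.tt hc

theorem sq_tj (h : Sp t j) {a : Perm (Fin n)} (hc : IsConj t (t * j a)) : a * a = 1 := by
  apply h.inj
  rw [map_mul, map_one]
  have h1 := sq_of_conj h.tt hc
  have h2 : t * j a * (t * j a) = t * t * (j a * j a) := by
    calc t * j a * (t * j a) = t * (j a * t) * j a := by group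
      _ = t * t * (j a * j a) := by rw [← h.comm]; group
  rw [h2, h.tt, one_mul] at h1
  exact h1

/-- conjugation by `j π` -/
theorem isConj_j {a b : Perm (Fin n)} (hab : IsConj a b) : IsConj (j a) (j b) := by
  obtain ⟨c, hc⟩ := isConj_iff.1 hab
  exact isConj_iff.2 ⟨j c, by rw [← hc, map_mul, map_mul, map_inv]⟩

theorem isConj_tj (h : Sp t j) {a b : Perm (Fin n)} (hab : IsConj a b) : IsConj (t * j a) (t * j b) := by
  obtain ⟨c, hc⟩ := isConj_iff.1 hab
  refine isConj_iff.2 ⟨j c, ?_⟩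
  rw [← hc, map_mul, map_mul, map_inv]
  calc j c * (t * j a) * (j c)⁻¹ = (j c * t) * j a * (j c)⁻¹ := by group
    _ = t * (j c * j a * (j c)⁻¹) := by rw [← h.comm]; group

theorem isConj_of_card {a b : Perm (Fin n)} (ha : a * a = 1) (hb : b * b = 1) (h : a.support.card = b.support.card) :
    IsConj a b := by
  obtain ⟨π, hπ⟩ := exists_conj_of_card ha hb h
  exact isConj_iff.2 ⟨π, hπ⟩

/-- the conjugates of `t` in `C(t)` -/
theorem card_fix [Finite G] (h : Sp t j) : Nat.card {g : G // IsConj t g ∧ g * t = t * g} =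
    Nat.card {a // IsConj t (j a)} + Nat.card {a // IsConj t (t * j a)} := by
  rw [← Nat.card_sum]
  let f : {a // IsConj t (j a)} ⊕ {a // IsConj t (t * j a)} → {g : G // IsConj t g ∧ g * t = t * g} := fun s =>
    match s with
    | Sum.inl a => ⟨j a.1, a.2, (h.comm _).symm⟩
    | Sum.inr a => ⟨t * j a.1, a.2, by rw [mul_assoc, ← h.comm]⟩
  apply Nat.card_congr
  apply Equiv.symm
  refine Equiv.ofBijective f ⟨?_, ?_⟩
  · rintro (a | a) (b | b) hab
    · have h1 : j a.1 = j b.1 := congrArg Subtype.val hab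
      rw [Subtype.ext (h.inj h1)]
    · exfalso
      have h1 : j a.1 = t * j b.1 := congrArg Subtype.val hab
      exact h.t1 (h.uniq (Or.inr rfl) h1.symm).1
    · exfalso
      have h1 : t * j a.1 = j b.1 := congrArg Subtype.val hab
      exact h.t1 (h.uniq (Or.inr rfl) h1).1
    · have h1 : t * j a.1 = t * j b.1 := congrArg Subtype.val hab
      rw [Subtype.ext (h.inj (mul_left_cancel h1))]
  · rintro ⟨g, hg1, hg2⟩
    obtain ⟨z, a, hz, ha⟩ := h.cent g hg2
    rcases hz with rfl | rfl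
    · rw [one_mul] at ha
      exact ⟨Sum.inl ⟨a, by rw [← ha]; exact hg1⟩, Subtype.ext ha.symm⟩
    · exact ⟨Sum.inr ⟨a, by rw [← ha]; exact hg1⟩, Subtype.ext ha.symm⟩

/-- the order of `C(t)` -/
theorem card_cent (h : Sp t j) : Nat.card (centralizer ({t} : Set G)) = 2 * n.factorial := by
  have h0 : Nat.card (Perm (Fin n)) = n.factorial := by rw [Nat.card_perm, Nat.card_fin]
  rw [two_mul, ← h0, ← Nat.card_sum]
  let f : Perm (Fin n) ⊕ Perm (Fin n) → centralizer ({t} : Set G) := fun s =>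
    match s with
    | Sum.inl a => ⟨j a, mem_centralizer_singleton_iff.2 (h.comm _).symm⟩
    | Sum.inr a => ⟨t * j a, mem_centralizer_singleton_iff.2 (by rw [mul_assoc, ← h.comm])⟩
  apply Nat.card_congr
  apply Equiv.symm
  refine Equiv.ofBijective f ⟨?_, ?_⟩
  · rintro (a | a) (b | b) hab
    · have h1 : j a = j b := congrArg Subtype.val hab
      rw [h.inj h1]
    · exfalso
      have h1 : j a = t * j b := congrArg Subtype.val hab
      exact h.t1 (h.uniq (Or.inr rfl) h1.symm).1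
    · exfalso
      have h1 : t * j a = j b := congrArg Subtype.val hab
      exact h.t1 (h.uniq (Or.inr rfl) h1).1
    · have h1 : t * j a = t * j b := congrArg Subtype.val hab
      rw [h.inj (mul_left_cancel h1)]
  · rintro ⟨g, hg⟩
    obtain ⟨z, a, hz, ha⟩ := h.cent g (mem_centralizer_singleton_iff.1 hg)
    rcases hz with rfl | rfl
    · rw [one_mul] at ha
      exact ⟨Sum.inl a, Subtype.ext ha.symm⟩
    · exact ⟨Sum.inr a, Subtype.ext ha.symm⟩

end general

variable {G : Type*} [Group G] {t : G} {j : Perm (Fin 9) →* G}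

/-- The situation. -/
structure Four (t : G) (j : Perm (Fin 9) →* G) : Prop where
  h : Sp t j
  hK : ∀ a, Perm.sign a = 1 → ¬ IsConj t (j a)
  hB : ∀ a, Perm.sign a = 1 → a * a = 1 → a ≠ 1 → (IsConj t (t * j a) ↔ a.support.card = 8)

theorem sign_ru (i : Fin 8) : Perm.sign (ru i) = 1 := by
  have h1 : ∀ i, i = 1 ∨ i = 2 ∨ i = 4 → Perm.sign (ru i) = 1 := by
    intro i hi
    obtain ⟨a, b, -, -, hab⟩ := exists_comm i hi
    rw [← hab, Perm.sign_mul, Perm.sign_mul, Perm.sign_mul, Perm.sign_inv, Perm.sign_inv]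
    rcases Int.units_eq_one_or (Perm.sign a) with h1 | h1 <;>
    rcases Int.units_eq_one_or (Perm.sign b) with h2 | h2 <;> rw [h1, h2] <;> decide
  have h2 : ∀ i, ∃ k l m : Fin 8, (k = 0 ∨ k = 1) ∧ (l = 0 ∨ l = 2) ∧ (m = 0 ∨ m = 4) ∧
    i = mu k (mu l m) := by decide +kernel
  have h3 : ∀ i, i = 0 ∨ (i = 1 ∨ i = 2 ∨ i = 4) → Perm.sign (ru i) = 1 := by
    rintro i (rfl | hi)
    · rw [ru_zero, Perm.sign_one]
    · exact h1 i hi
  obtain ⟨k, l, m, hk, hl, hm, rfl⟩ := h2 i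
  rw [← ru_mul, ← ru_mul, Perm.sign_mul, Perm.sign_mul, h3 k (by tauto), h3 l (by tauto), h3 m (by tauto)]
  rfl

theorem support_ru {i : Fin 8} (hi : i ≠ 0) : (ru i).support.card = 8 := by
  have h1 : (ru i).support = Finset.univ.filter fun x => x ≠ 8 := by
    ext x
    rw [Perm.mem_support, Finset.mem_filter]
    constructor
    · rintro h
      refine ⟨Finset.mem_univ _, ?_⟩
      rintro rfl
      apply h
      have : ∀ i, tR i 8 = 8 := by decide +kernel
      exact this i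
    · rintro ⟨-, h⟩ h2
      exact h (tR_fix i x h2 hi)
  rw [h1]
  decide

theorem Four.conj_ru (F : Four t j) (i : Fin 8) : IsConj t (t * j (ru i)) := by
  by_cases hi : i = 0
  · rw [hi, ru_zero, map_one, mul_one]
  · exact (F.hB _ (sign_ru i) (ru_sq i) (ru_ne_one hi)).2 (support_ru hi)

/-- the element `g₁` -/
theorem Four.exists_g (F : Four t j) : ∃ g : G, g * t * g⁻¹ = t * j (ru 1) ∧ ∀ i, g * j (ru i) = j (ru i) * g := by
  classical
  obtain ⟨g₀, hg₀⟩ := isConj_iff.1 (F.conj_ru 1)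
  have h := F.h
  set x := t * j (ru 1) with hx
  have hxc : ∀ a : Perm (Fin 9), a * ru 1 = ru 1 * a → j a * x = x * j a := by
    intro a ha
    rw [hx, ← mul_assoc, ← h.comm, mul_assoc, ← map_mul, ha, map_mul, mul_assoc]
  have hback : ∀ y : G, y * x = x * y → ∃ z a, (z = 1 ∨ z = t) ∧ g₀⁻¹ * y * g₀ = z * j a := by
    intro y hy
    apply h.cent
    have h1 : t = g₀⁻¹ * x * g₀ := by rw [← hg₀]; group
    rw [h1]
    calc g₀⁻¹ * y * g₀ * (g₀⁻¹ * x * g₀) = g₀⁻¹ * (y * x) * g₀ := by group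
      _ = g₀⁻¹ * x * g₀ * (g₀⁻¹ * y * g₀) := by rw [hy]; group
  let P : Subgroup (Perm (Fin 9)) :=
    { carrier := {u | ∃ a, Perm.sign a = 1 ∧ g₀⁻¹ * j u * g₀ = j a}
      one_mem' := ⟨1, Perm.sign_one, by rw [map_one]; group⟩
      mul_mem' := by
        rintro u v ⟨a, ha, hua⟩ ⟨b, hb, hvb⟩
        refine ⟨a * b, by rw [Perm.sign_mul, ha, hb, one_mul], ?_⟩
        rw [map_mul, map_mul, ← hua, ← hvb]
        group
      inv_mem' := by
        rintro u ⟨a, ha, hua⟩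
        refine ⟨a⁻¹, by rw [Perm.sign_inv, ha], ?_⟩
        rw [map_inv, map_inv, ← hua]
        group }
  have hP1 : ∀ i, i = 1 ∨ i = 2 ∨ i = 4 → ru i ∈ P := by
    intro i hi
    obtain ⟨a, b, ha, hb, hab⟩ := exists_comm i hi
    obtain ⟨z, a', hz, ha'⟩ := hback _ (hxc a ha)
    obtain ⟨y, b', hy, hb'⟩ := hback _ (hxc b hb)
    refine ⟨⁅a', b'⁆, ?_, ?_⟩
    · rw [commutatorElement_def, Perm.sign_mul, Perm.sign_mul, Perm.sign_mul, Perm.sign_inv, Perm.sign_inv]
      rcases Int.units_eq_one_or (Perm.sign a') with h1 | h1 <;>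
      rcases Int.units_eq_one_or (Perm.sign b') with h2 | h2 <;> rw [h1, h2] <;> decide
    · rw [← h.comm_j hz hy, ← ha', ← hb', ← hab, commutatorElement_def, map_mul, map_mul, map_mul, map_inv, map_inv]
      group
  have hP : ∀ i, ru i ∈ P := by
    intro i
    have h2 : ∀ i, ∃ k l m : Fin 8, (k = 0 ∨ k = 1) ∧ (l = 0 ∨ l = 2) ∧ (m = 0 ∨ m = 4) ∧
      i = mu k (mu l m) := by decide +kernel
    have h3 : ∀ i, i = 0 ∨ (i = 1 ∨ i = 2 ∨ i = 4) → ru i ∈ P := by
      rintro i (rfl | hi)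
      · rw [ru_zero]; exact one_mem P
      · exact hP1 i hi
    obtain ⟨k, l, m, hk, hl, hm, rfl⟩ := h2 i
    rw [← ru_mul, ← ru_mul]
    exact mul_mem (h3 k (by tauto)) (mul_mem (h3 l (by tauto)) (h3 m (by tauto)))
  -- `ρ'`
  have hrange : ∀ u : U9, ((MulAut.conj g₀⁻¹).toMonoidHom.comp (j.comp U9.subtype)) u ∈ j.range := by
    rintro ⟨_, i, rfl⟩
    obtain ⟨a, -, ha⟩ := hP i
    exact ⟨a, by
      rw [← ha]
      show g₀⁻¹ * j (ru i) * g₀ = g₀⁻¹ * j (ru i) * g₀⁻¹⁻¹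
      rw [inv_inv]⟩
  let ρ : U9 →* Perm (Fin 9) := (MonoidHom.ofInjective h.inj).symm.toMonoidHom.comp
    (((MulAut.conj g₀⁻¹).toMonoidHom.comp (j.comp U9.subtype)).codRestrict j.range hrange)
  have hρ : ∀ u : U9, j (ρ u) = g₀⁻¹ * j u * g₀ := by
    intro u
    have h1 := (MonoidHom.ofInjective h.inj).apply_symm_apply
      ⟨((MulAut.conj g₀⁻¹).toMonoidHom.comp (j.comp U9.subtype)) u, hrange u⟩
    have h2 : j (ρ u) = g₀⁻¹ * j u * g₀⁻¹⁻¹ := congrArg Subtype.val h1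
    rw [h2, inv_inv]
  have hfix : ∀ v : U9, v ≠ 1 → ∀ x y, U9.subtype v x = x → U9.subtype v y = y → x = y := by
    rintro ⟨_, i, rfl⟩ hv x y hx hy
    have hi : i ≠ 0 := by
      rintro rfl
      exact hv (Subtype.ext ru_zero)
    rw [tR_fix i x hx hi, tR_fix i y hy hi]
  have hfix' : ∀ v : U9, v ≠ 1 → ∀ x y, ρ v x = x → ρ v y = y → x = y := by
    rintro ⟨_, i, rfl⟩ hv x y hx hy
    set v : U9 := ⟨ru i, i, rfl⟩ with hvdef
    have hs : Perm.sign (ρ v) = 1 := by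
      obtain ⟨a, ha1, ha2⟩ := hP i
      have h1 : ρ v = a := h.inj ((hρ v).trans ha2)
      rw [h1, ha1]
    have hsq : ρ v * ρ v = 1 := by
      rw [← map_mul, show v * v = 1 from Subtype.ext (ru_sq i), map_one]
    have hne : ρ v ≠ 1 := by
      intro h1
      apply hv
      have h2 := hρ v
      rw [h1, map_one] at h2
      have h3 : j (v : Perm (Fin 9)) = 1 := by
        calc j (v : Perm (Fin 9)) = g₀ * (g₀⁻¹ * j v * g₀) * g₀⁻¹ := by group
          _ = 1 := by rw [← h2]; group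
      exact Subtype.ext (h.inj (h3.trans (map_one j).symm))
    have hcon : IsConj t (t * j (ρ v)) := by
      refine (F.conj_ru (mu 1 i)).trans (isConj_iff.2 ⟨g₀⁻¹, ?_⟩)
      have h0 : g₀ * t * g₀⁻¹ = t * j (ru 1) := hg₀
      have h1 : t = g₀⁻¹ * (t * j (ru 1)) * g₀ := by rw [← h0]; group
      have h2 : t * j (ru (mu 1 i)) = t * j (ru 1) * j (ru i) := by rw [← ru_mul, map_mul, mul_assoc]
      have h3 : t * j (ρ v) = g₀⁻¹ * (t * j (ru 1)) * g₀ * (g₀⁻¹ * j (ru i) * g₀) := by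
        rw [← h1, hρ]
      rw [inv_inv, h2, h3]
      group
    have hcard := (F.hB _ hs hsq hne).1 hcon
    by_contra hxy
    have h1 : ({x, y} : Finset (Fin 9)) ⊆ (ρ v).supportᶜ := by
      intro w hw
      rw [Finset.mem_insert, Finset.mem_singleton] at hw
      rw [Finset.mem_compl, Perm.notMem_support]
      rcases hw with rfl | rfl
      · exact hx
      · exact hy
    have h2 := Finset.card_le_card h1
    rw [Finset.card_pair hxy, Finset.card_compl, Fintype.card_fin, hcard] at h2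
    omega
  obtain ⟨σ, hσ⟩ := exists_conj_of card_U9 U9.subtype ρ hfix hfix'
  refine ⟨g₀ * j σ, ?_, fun i => ?_⟩
  · calc g₀ * j σ * t * (g₀ * j σ)⁻¹ = g₀ * (j σ * t) * (j σ)⁻¹ * g₀⁻¹ := by group
      _ = g₀ * t * g₀⁻¹ := by rw [← h.comm]; group
      _ = x := hg₀
  · have h1 : σ * ru i * σ⁻¹ = ρ ⟨ru i, i, rfl⟩ := hσ ⟨ru i, i, rfl⟩
    have h2 : j σ * j (ru i) * (j σ)⁻¹ = g₀⁻¹ * j (ru i) * g₀ := by
      rw [← map_inv, ← map_mul, ← map_mul, h1, hρ]
    calc g₀ * j σ * j (ru i) = g₀ * (j σ * j (ru i) * (j σ)⁻¹) * j σ := by group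
      _ = j (ru i) * (g₀ * j σ) := by rw [h2]; group

/-- the subgroup `X` -/
def XX (_ : Sp t j) : Subgroup G where
  carrier := {g | (∀ i, ∃ k, g * j (ru i) * g⁻¹ = j (ru k)) ∧ (∀ i, ∃ k, g⁻¹ * j (ru i) * g = j (ru k)) ∧
    (∃ i, g * t * g⁻¹ = t * j (ru i)) ∧ ∃ i, g⁻¹ * t * g = t * j (ru i)}
  one_mem' := by
    refine ⟨fun i => ⟨i, by group⟩, fun i => ⟨i, by group⟩, ⟨0, ?_⟩, ⟨0, ?_⟩⟩
    · rw [ru_zero, map_one]; group
    · rw [ru_zero, map_one]; group
  mul_mem' := by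
    rintro a b ⟨ha1, ha2, ⟨ia, ha3⟩, ⟨ia', ha4⟩⟩ ⟨hb1, hb2, ⟨ib, hb3⟩, ⟨ib', hb4⟩⟩
    refine ⟨fun i => ?_, fun i => ?_, ?_, ?_⟩
    · obtain ⟨k, hk⟩ := hb1 i
      obtain ⟨l, hl⟩ := ha1 k
      exact ⟨l, by rw [← hl, ← hk]; group⟩
    · obtain ⟨k, hk⟩ := ha2 i
      obtain ⟨l, hl⟩ := hb2 k
      exact ⟨l, by rw [← hl, ← hk]; group⟩
    · obtain ⟨l, hl⟩ := ha1 ib
      refine ⟨mu ia l, ?_⟩
      rw [← ru_mul, map_mul, ← mul_assoc, ← ha3, ← hl]
      calc a * b * t * (a * b)⁻¹ = a * (b * t * b⁻¹) * a⁻¹ := by group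
        _ = a * t * a⁻¹ * (a * j (ru ib) * a⁻¹) := by rw [hb3]; group
    · obtain ⟨l, hl⟩ := hb2 ia'
      refine ⟨mu ib' l, ?_⟩
      calc (a * b)⁻¹ * t * (a * b) = b⁻¹ * (a⁻¹ * t * a) * b := by group
        _ = b⁻¹ * t * b * (b⁻¹ * j (ru ia') * b) := by rw [ha4]; group
        _ = t * j (ru (mu ib' l)) := by rw [hb4, hl, ← ru_mul, map_mul, mul_assoc]
  inv_mem' := by
    rintro a ⟨ha1, ha2, ha3, ha4⟩
    exact ⟨by rwa [inv_inv], by rwa [inv_inv], by rwa [inv_inv], by rwa [inv_inv]⟩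

theorem t_mem_XX (h : Sp t j) : t ∈ XX h := by
  have h1 := h.t_inv
  refine ⟨fun i => ⟨i, ?_⟩, fun i => ⟨i, ?_⟩, ⟨0, ?_⟩, ⟨0, ?_⟩⟩
  · rw [h.comm]; group
  · rw [mul_assoc, ← h.comm]; group
  · rw [ru_zero, map_one]; group
  · rw [ru_zero, map_one]; group

theorem j_mem_XX (h : Sp t j) {w : Perm (Fin 9)} (hw : ∀ i, ∃ k, w * ru i * w⁻¹ = ru k)
    (hw' : ∀ i, ∃ k, w⁻¹ * ru i * w = ru k) : j w ∈ XX h := by
  refine ⟨fun i => ?_, fun i => ?_, ⟨0, ?_⟩, ⟨0, ?_⟩⟩
  · obtain ⟨k, hk⟩ := hw i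
    exact ⟨k, by rw [← map_inv, ← map_mul, ← map_mul, hk]⟩
  · obtain ⟨k, hk⟩ := hw' i
    exact ⟨k, by rw [← map_inv, ← map_mul, ← map_mul, hk]⟩
  · rw [ru_zero, map_one, ← h.comm]; group
  · rw [ru_zero, map_one, mul_assoc, h.comm]; group

theorem W9_mem_XX (h : Sp t j) {w : Perm (Fin 9)} (hw : w ∈ W9) : j w ∈ XX h :=
  j_mem_XX h (W9_norm hw) (fun i => by
    obtain ⟨k, hk⟩ := W9_norm (inv_mem hw) i
    rw [inv_inv] at hk
    exact ⟨k, hk⟩)

theorem c2_mem_XX (h : Sp t j) : j c2 ∈ XX h :=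
  j_mem_XX h c2_ru (fun i => by
    have h1 : c2⁻¹ = c2 := inv_eq_of_mul_eq_one_left c2_sq
    obtain ⟨k, hk⟩ := c2_ru i
    exact ⟨k, by rw [← hk, h1]⟩)

theorem c3_mem_XX (h : Sp t j) : j c3 ∈ XX h :=
  j_mem_XX h c3_ru (fun i => by
    have h1 : c3⁻¹ = c3 := inv_eq_of_mul_eq_one_left c3_sq
    obtain ⟨k, hk⟩ := c3_ru i
    exact ⟨k, by rw [← hk, h1]⟩)

/-- the orbit of `t` -/
theorem Four.orbit (F : Four t j) (i : Fin 8) : ∃ g ∈ XX F.h, g * t * g⁻¹ = t * j (ru i) := by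
  have h := F.h
  -- elements centralizing `j(U)`
  let Y : Set (Fin 8) := {i | ∃ g : G, (∀ i, g * j (ru i) = j (ru i) * g) ∧ g * t * g⁻¹ = t * j (ru i)}
  have hY0 : (0 : Fin 8) ∈ Y := ⟨1, fun i => by group, by rw [ru_zero, map_one]; group⟩
  have hY1 : (1 : Fin 8) ∈ Y := by
    obtain ⟨g, h1, h2⟩ := F.exists_g
    exact ⟨g, h2, h1⟩
  have hYmul : ∀ a ∈ Y, ∀ b ∈ Y, mu a b ∈ Y := by
    rintro a ⟨g, hg1, hg2⟩ b ⟨g', hg1', hg2'⟩
    refine ⟨g * g', fun i => ?_, ?_⟩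
    · rw [mul_assoc, hg1', ← mul_assoc, hg1, mul_assoc]
    · rw [← ru_mul, map_mul, ← mul_assoc, ← hg2]
      calc g * g' * t * (g * g')⁻¹ = g * (g' * t * g'⁻¹) * g⁻¹ := by group
        _ = g * t * (j (ru b) * g⁻¹) := by rw [hg2']; group
        _ = g * t * (g⁻¹ * g * j (ru b) * g⁻¹) := by group
        _ = g * t * (g⁻¹ * (j (ru b) * g) * g⁻¹) := by rw [← hg1 b]; group
        _ = g * t * g⁻¹ * j (ru b) := by group
  have hYconj : ∀ (w : Perm (Fin 9)) (a b : Fin 8), (∀ i, ∃ k, w⁻¹ * ru i * w = ru k) → w * ru a * w⁻¹ = ru b →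
      a ∈ Y → b ∈ Y := by
    rintro w a b hw hab ⟨g, hg1, hg2⟩
    refine ⟨j w * g * (j w)⁻¹, fun i => ?_, ?_⟩
    · obtain ⟨k, hk⟩ := hw i
      have h1 : j (ru i) = j w * j (ru k) * (j w)⁻¹ := by
        rw [← hk, map_mul, map_mul, map_inv]; group
      rw [h1]
      calc j w * g * (j w)⁻¹ * (j w * j (ru k) * (j w)⁻¹) = j w * (g * j (ru k)) * (j w)⁻¹ := by group
        _ = j w * j (ru k) * (j w)⁻¹ * (j w * g * (j w)⁻¹) := by rw [hg1]; group
    · have h1 : (j w)⁻¹ * t = t * (j w)⁻¹ := by rw [← map_inv, ← h.comm]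
      calc j w * g * (j w)⁻¹ * t * (j w * g * (j w)⁻¹)⁻¹
          = j w * g * ((j w)⁻¹ * t) * j w * g⁻¹ * (j w)⁻¹ := by group
        _ = j w * (g * t * g⁻¹) * (j w)⁻¹ := by rw [h1]; group
        _ = (j w * t) * j (ru a) * (j w)⁻¹ := by rw [hg2]; group
        _ = t * j (ru b) := by rw [← h.comm, ← hab, map_mul, map_mul, map_inv]; group
  have hY2 : (2 : Fin 8) ∈ Y := hYconj c2 1 2 (fun i => by
    have h1 : c2⁻¹ = c2 := inv_eq_of_mul_eq_one_left c2_sq
    obtain ⟨k, hk⟩ := c2_ru i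
    exact ⟨k, by rw [← hk, h1]⟩) c2_r1 hY1
  have hY4 : (4 : Fin 8) ∈ Y := hYconj c3 1 4 (fun i => by
    have h1 : c3⁻¹ = c3 := inv_eq_of_mul_eq_one_left c3_sq
    obtain ⟨k, hk⟩ := c3_ru i
    exact ⟨k, by rw [← hk, h1]⟩) c3_r1 hY1
  have hY : i ∈ Y := by
    have h2 : ∀ i, ∃ k l m : Fin 8, (k = 0 ∨ k = 1) ∧ (l = 0 ∨ l = 2) ∧ (m = 0 ∨ m = 4) ∧
      i = mu k (mu l m) := by decide +kernel
    obtain ⟨k, l, m, hk, hl, hm, rfl⟩ := h2 i
    refine hYmul _ ?_ _ (hYmul _ ?_ _ ?_)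
    · rcases hk with rfl | rfl
      · exact hY0
      · exact hY1
    · rcases hl with rfl | rfl
      · exact hY0
      · exact hY2
    · rcases hm with rfl | rfl
      · exact hY0
      · exact hY4
  obtain ⟨g, hg1, hg2⟩ := hY
  have hg3 : ∀ i, g⁻¹ * j (ru i) * g = j (ru i) := by
    intro i
    rw [mul_assoc, ← hg1, inv_mul_cancel_left]
  refine ⟨g, ⟨fun i => ⟨i, by rw [hg1, mul_inv_cancel_right]⟩, fun i => ⟨i, hg3 i⟩, ⟨i, hg2⟩, ⟨i, ?_⟩⟩, hg2⟩
  have h1 : t = g⁻¹ * t * g * j (ru i) := by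
    calc t = g⁻¹ * (g * t * g⁻¹) * g := by group
      _ = g⁻¹ * t * (g * g⁻¹) * j (ru i) * g := by rw [hg2]; group
      _ = g⁻¹ * t * g * (g⁻¹ * j (ru i) * g) := by group
      _ = g⁻¹ * t * g * j (ru i) := by rw [hg3]
  calc g⁻¹ * t * g = g⁻¹ * t * g * j (ru i) * j (ru i) := by
        rw [mul_assoc _ (j (ru i)), ← map_mul, ru_sq, map_one, mul_one]
    _ = t * j (ru i) := by rw [← h1]

/-- the subgroup `⟨t⟩ × j(W)` -/
def PP (h : Sp t j) : Subgroup G where
  carrier := {g | ∃ w ∈ W9, g = j w ∨ g = t * j w}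
  one_mem' := ⟨1, one_mem _, Or.inl (map_one j).symm⟩
  mul_mem' := by
    rintro _ _ ⟨a, ha, rfl | rfl⟩ ⟨b, hb, rfl | rfl⟩
    · exact ⟨a * b, mul_mem ha hb, Or.inl (map_mul j a b).symm⟩
    · exact ⟨a * b, mul_mem ha hb, Or.inr (by rw [map_mul, ← mul_assoc, ← h.comm, mul_assoc])⟩
    · exact ⟨a * b, mul_mem ha hb, Or.inr (by rw [map_mul, mul_assoc])⟩
    · exact ⟨a * b, mul_mem ha hb, Or.inl (by
        calc t * j a * (t * j b) = t * (j a * t) * j b := by group
          _ = t * t * (j a * j b) := by rw [← h.comm]; group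
          _ = j (a * b) := by rw [h.tt, one_mul, map_mul])⟩
  inv_mem' := by
    rintro _ ⟨a, ha, rfl | rfl⟩
    · exact ⟨a⁻¹, inv_mem ha, Or.inl (map_inv j a).symm⟩
    · exact ⟨a⁻¹, inv_mem ha, Or.inr (by rw [mul_inv_rev, h.t_inv, ← map_inv, ← h.comm])⟩

theorem card_PP (h : Sp t j) : Nat.card (PP h) = 128 := by
  have h0 : Nat.card W9 + Nat.card W9 = 128 := by rw [card_W9]
  rw [← h0, ← Nat.card_sum]
  let f : W9 ⊕ W9 → PP h := fun s =>
    match s with
    | Sum.inl a => ⟨j a, a, a.2, Or.inl rfl⟩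
    | Sum.inr a => ⟨t * j a, a, a.2, Or.inr rfl⟩
  apply Nat.card_congr
  apply Equiv.symm
  refine Equiv.ofBijective f ⟨?_, ?_⟩
  · rintro (a | a) (b | b) hab
    · have h1 : j a = j b := congrArg Subtype.val hab
      rw [Subtype.ext (h.inj h1)]
    · exfalso
      have h1 : j a = t * j b := congrArg Subtype.val hab
      exact h.t1 (h.uniq (Or.inr rfl) h1.symm).1
    · exfalso
      have h1 : t * j a = j b := congrArg Subtype.val hab
      exact h.t1 (h.uniq (Or.inr rfl) h1).1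
    · have h1 : t * j a = t * j b := congrArg Subtype.val hab
      rw [Subtype.ext (h.inj (mul_left_cancel h1))]
  · rintro ⟨g, w, hw, rfl | rfl⟩
    · exact ⟨Sum.inl ⟨w, hw⟩, rfl⟩
    · exact ⟨Sum.inr ⟨w, hw⟩, rfl⟩

/-- `2^10` divides the order of `G` -/
theorem Four.dvd [Finite G] (F : Four t j) : 1024 ∣ Nat.card G := by
  have h := F.h
  have h1 := card_conj (XX h) t
  have h2 : Nat.card {y : G // ∃ g ∈ XX h, g * t * g⁻¹ = y} = 8 := by
    rw [show 8 = Nat.card (Fin 8) from (Nat.card_fin 8).symm]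
    apply Nat.card_congr
    apply Equiv.symm
    refine Equiv.ofBijective (fun i : Fin 8 => ⟨t * j (ru i), F.orbit i⟩) ⟨?_, ?_⟩
    · intro a b hab
      have h3 : t * j (ru a) = t * j (ru b) := congrArg Subtype.val hab
      exact ru_inj (h.inj (mul_left_cancel h3))
    · rintro ⟨y, g, hg, hy⟩
      obtain ⟨-, -, ⟨i, hi⟩, -⟩ := hg
      exact ⟨i, Subtype.ext (hi.symm.trans hy)⟩
  have h3 : PP h ≤ XX h ⊓ centralizer ({t} : Set G) := by
    rintro _ ⟨w, hw, rfl | rfl⟩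
    · exact ⟨W9_mem_XX h hw, mem_centralizer_singleton_iff.2 (h.comm _).symm⟩
    · exact ⟨mul_mem (t_mem_XX h) (W9_mem_XX h hw),
        mem_centralizer_singleton_iff.2 (by rw [mul_assoc, ← h.comm])⟩
  have h4 := Subgroup.card_dvd_of_le h3
  rw [card_PP] at h4
  have h5 := Subgroup.card_subgroup_dvd_card (XX h)
  rw [h1, h2] at h5
  exact (Nat.mul_dvd_mul (dvd_refl 8) h4).trans h5

/-- the number of the conjugates of `t` -/
theorem Four.card_class [Finite G] (hG : ∀ m : G →* ℤˣ, ∀ g, m g = 1) (F : Four t j) :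
    Nat.card {g : G // IsConj t g} % 4 = 2 := by
  classical
  have h := F.h
  -- action of `t` on its class
  let σ : Perm {g : G // IsConj t g} :=
    ⟨fun g => ⟨t * g * t⁻¹, g.2.trans (isConj_iff.2 ⟨t, rfl⟩)⟩, fun g => ⟨t * g * t⁻¹, g.2.trans (isConj_iff.2 ⟨t, rfl⟩)⟩,
      fun g => Subtype.ext (by
        show t * (t * g * t⁻¹) * t⁻¹ = (g : G)
        calc t * (t * g * t⁻¹) * t⁻¹ = (t * t) * g * (t * t)⁻¹ := by group
          _ = g := by rw [h.tt]; group),
      fun g => Subtype.ext (by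
        show t * (t * g * t⁻¹) * t⁻¹ = (g : G)
        calc t * (t * g * t⁻¹) * t⁻¹ = (t * t) * g * (t * t)⁻¹ := by group
          _ = g := by rw [h.tt]; group)⟩
  letI : MulAction G {g : G // IsConj t g} :=
    { smul := fun x g => ⟨x * g * x⁻¹, g.2.trans (isConj_iff.2 ⟨x, rfl⟩)⟩
      one_smul := fun g => Subtype.ext (by show 1 * (g : G) * 1⁻¹ = g; group)
      mul_smul := fun x y g => Subtype.ext (by
        show x * y * (g : G) * (x * y)⁻¹ = x * (y * g * y⁻¹) * x⁻¹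
        group) }
  have := Fintype.ofFinite {g : G // IsConj t g}
  have hs : Perm.sign (MulAction.toPermHom G {g : G // IsConj t g} t) = 1 :=
    hG (Perm.sign.comp (MulAction.toPermHom G {g : G // IsConj t g})) t
  have h2 : (MulAction.toPermHom G {g : G // IsConj t g} t) ^ 2 = 1 := by
    rw [← map_pow, pow_two, h.tt, map_one]
  obtain ⟨k, hk⟩ := SmallSimple.Parity.card_modEq_four_of_sign _ h2 hs
  have h3 : Nat.card {x : {g : G // IsConj t g} // MulAction.toPermHom G {g : G // IsConj t g} t x = x} =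
      Nat.card {g : G // IsConj t g ∧ g * t = t * g} := by
    apply Nat.card_congr
    exact
      { toFun := fun x => ⟨x.1.1, x.1.2, by
          have h4 : t * x.1.1 * t⁻¹ = x.1.1 := congrArg Subtype.val x.2
          exact (mul_inv_eq_iff_eq_mul.1 h4).symm⟩
        invFun := fun x => ⟨⟨x.1, x.2.1⟩, Subtype.ext (by
          show t * x.1 * t⁻¹ = x.1
          exact mul_inv_eq_iff_eq_mul.2 x.2.2.symm)⟩
        left_inv := fun _ => rfl
        right_inv := fun _ => rfl }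
  rw [h3, card_fix h] at hk
  -- counts
  have sgn : ∀ a : Perm (Fin 9), a * a = 1 → Perm.sign a ≠ 1 → a.support.card = 2 ∨ a.support.card = 6 := by
    intro a ha hsa
    have h4 := even_support ha
    have h5 := Finset.card_le_univ a.support
    rw [Fintype.card_fin] at h5
    have h6 : ¬ (4 ∣ a.support.card) := by
      intro h7
      apply hsa
      obtain ⟨m, hm⟩ := h7
      rw [Perm.sign_of_cycleType, cycleType_of_sq ha, Multiset.sum_replicate, Multiset.card_replicate, smul_eq_mul, hm]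
      have : 4 * m / 2 * 2 + 4 * m / 2 = 2 * (3 * m) := by omega
      rw [this, pow_mul]
      simp
    omega
  have c1 := card_pred (fun a : Perm (Fin 9) => IsConj t (j a)) (fun a ha => sq_j h ha)
    (fun a b ha hb hab hc => hc.trans (isConj_j (isConj_of_card ha hb hab))) (fun m => ∃ a, IsConj t (j a) ∧
      a.support.card = 2 * m) (fun m => Iff.rfl)
  have c2 := card_pred (fun a : Perm (Fin 9) => IsConj t (t * j a)) (fun a ha => sq_tj h ha)
    (fun a b ha hb hab hc => hc.trans (isConj_tj h (isConj_of_card ha hb hab))) (fun m => ∃ a, IsConj t (t * j a) ∧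
      a.support.card = 2 * m) (fun m => Iff.rfl)
  have n0 : cc 9 0 = 1 := by rw [cc_eq 0 (by norm_num)]; decide
  have n1 : cc 9 1 = 36 := by rw [cc_eq 1 (by norm_num)]; decide
  have n2 : cc 9 2 = 378 := by rw [cc_eq 2 (by norm_num)]; decide
  have n3 : cc 9 3 = 1260 := by rw [cc_eq 3 (by norm_num)]; decide
  have n4 : cc 9 4 = 945 := by rw [cc_eq 4 (by norm_num)]; decide
  have r5 : Finset.range (9 / 2 + 1) = Finset.range 5 := rfl
  rw [r5, Finset.sum_range_succ, Finset.sum_range_succ, Finset.sum_range_succ, Finset.sum_range_succ,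
    Finset.sum_range_one, n0, n1, n2, n3, n4] at c1 c2
  -- even types
  have e1 : ∀ m, m = 0 ∨ m = 2 ∨ m = 4 → ¬ ∃ a, IsConj t (j a) ∧ a.support.card = 2 * m := by
    rintro m hm ⟨a, ha1, ha2⟩
    by_cases hsa : Perm.sign a = 1
    · exact F.hK a hsa ha1
    · have := sgn a (sq_j h ha1) hsa
      omega
  have e2 : ¬ ∃ a, IsConj t (t * j a) ∧ a.support.card = 2 * 2 := by
    rintro ⟨a, ha1, ha2⟩
    by_cases hsa : Perm.sign a = 1
    · have h4 := (F.hB a hsa (sq_tj h ha1) (by rintro rfl; simp at ha2)).1 ha1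
      omega
    · have := sgn a (sq_tj h ha1) hsa
      omega
  have e3 : ∃ a, IsConj t (t * j a) ∧ a.support.card = 2 * 0 :=
    ⟨1, by rw [map_one, mul_one], by simp⟩
  have e4 : ∃ a, IsConj t (t * j a) ∧ a.support.card = 2 * 4 :=
    ⟨ru 1, F.conj_ru 1, support_ru (by decide)⟩
  rw [if_neg (e1 0 (by omega)), if_neg (e1 2 (by omega)), if_neg (e1 4 (by omega))] at c1
  rw [if_pos e3, if_neg e2, if_pos e4] at c2
  rw [hk, c1, c2]
  split_ifs <;> omega

/-- **`n = 9`, minimal even type four** -/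
theorem Four.false [Finite G] (hG : ∀ m : G →* ℤˣ, ∀ g, m g = 1) (F : Four t j) : False := by
  have h1 := F.dvd
  have h2 := F.card_class hG
  have h3 := card_conj (⊤ : Subgroup G) t
  rw [top_inf_eq, card_cent F.h, Subgroup.card_top] at h3
  have h4 : Nat.card {y : G // ∃ g ∈ (⊤ : Subgroup G), g * t * g⁻¹ = y} = Nat.card {g : G // IsConj t g} := by
    apply Nat.card_congr
    apply Equiv.subtypeEquivRight
    intro y
    rw [isConj_iff]
    constructor
    · rintro ⟨g, -, hg⟩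
      exact ⟨g, hg⟩
    · rintro ⟨g, hg⟩
      exact ⟨g, mem_top g, hg⟩
  rw [h4, show Nat.factorial 9 = 362880 from rfl] at h3
  rw [h3] at h1
  omega

/-- **`n = 9`**: the minimal even `k ≠ 1` with `t ~ t k` do not move eight letters -/
theorem nine_false [Finite G] (hG : ∀ m : G →* ℤˣ, ∀ g, m g = 1) (h : Sp t j)
    (hK : ∀ a, Perm.sign a = 1 → ¬ IsConj t (j a)) {k : Perm (Fin 9)} (kk : k * k = 1) (k1 : k ≠ 1)
    (ks : Perm.sign k = 1) (hc : IsConj t (t * j k))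
    (hmin : ∀ a, Perm.sign a = 1 → a * a = 1 → a ≠ 1 → IsConj t (t * j a) → 8 ≤ a.support.card) : False := by
  have h8 : ∀ a, Perm.sign a = 1 → a * a = 1 → a ≠ 1 → IsConj t (t * j a) → a.support.card = 8 := by
    intro a hs ha h1 hca
    have h2 := hmin a hs ha h1 hca
    have h3 := Finset.card_le_univ a.support
    rw [Fintype.card_fin] at h3
    have h4 := even_support ha
    omega
  have F : Four t j := ⟨h, hK, fun a hs ha h1 => ⟨h8 a hs ha h1, fun h9 =>
    hc.trans (isConj_tj h (isConj_of_card kk ha (by rw [h9]; exact h8 k ks kk k1 hc)))⟩⟩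
  exact F.false hG

end Cfsg.Agent.OddHalf.D5.Nine
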