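import Cfsg.Agent.OddHalf.D5.Sym.MatchPerm

/-!
# ODD D5, `n = 9`: permutations of nine letters

`ru i`, `i : Fin 8`: the regular elementary abelian group of order 8 on the letters `0, …, 7` (`x ↦ x xor i`), fixing
`8`; `dd i`: the Sylow 2-subgroup of `GL₃(2)` normalizing it. `W9`: the product, of order 64. `exists_conj_of`: two
embeddings of a group of order 8 into `S₉` all of whose nonidentity elements have exactly one fixed letter are
conjugate.
-/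

set_option autoImplicit false
set_option linter.unusedSectionVars false
set_option linter.style.haveILetI false

namespace Cfsg.Agent.OddHalf.D5.Nine

open Equiv Subgroup

/-- `x ↦ x xor i` -/
def tR : Fin 8 → Fin 9 → Fin 9 :=
  ![![0, 1, 2, 3, 4, 5, 6, 7, 8], ![1, 0, 3, 2, 5, 4, 7, 6, 8], ![2, 3, 0, 1, 6, 7, 4, 5, 8],
    ![3, 2, 1, 0, 7, 6, 5, 4, 8], ![4, 5, 6, 7, 0, 1, 2, 3, 8], ![5, 4, 7, 6, 1, 0, 3, 2, 8],
    ![6, 7, 4, 5, 2, 3, 0, 1, 8], ![7, 6, 5, 4, 3, 2, 1, 0, 8]]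
/-- the unitriangular matrices -/
def tD : Fin 8 → Fin 9 → Fin 9 :=
  ![![0, 1, 2, 3, 4, 5, 6, 7, 8], ![0, 1, 3, 2, 4, 5, 7, 6, 8], ![0, 1, 2, 3, 5, 4, 7, 6, 8],
    ![0, 1, 3, 2, 5, 4, 6, 7, 8], ![0, 1, 2, 3, 6, 7, 4, 5, 8], ![0, 1, 3, 2, 6, 7, 5, 4, 8],
    ![0, 1, 2, 3, 7, 6, 5, 4, 8], ![0, 1, 3, 2, 7, 6, 4, 5, 8]]
/-- xor -/
def mu : Fin 8 → Fin 8 → Fin 8 :=
  ![![0, 1, 2, 3, 4, 5, 6, 7], ![1, 0, 3, 2, 5, 4, 7, 6], ![2, 3, 0, 1, 6, 7, 4, 5],
    ![3, 2, 1, 0, 7, 6, 5, 4], ![4, 5, 6, 7, 0, 1, 2, 3], ![5, 4, 7, 6, 1, 0, 3, 2],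
    ![6, 7, 4, 5, 2, 3, 0, 1], ![7, 6, 5, 4, 3, 2, 1, 0]]
/-- inverses of the matrices -/
def vd : Fin 8 → Fin 8 := ![0, 1, 2, 3, 4, 7, 6, 5]
/-- products of the matrices -/
def md : Fin 8 → Fin 8 → Fin 8 :=
  ![![0, 1, 2, 3, 4, 5, 6, 7], ![1, 0, 3, 2, 7, 6, 5, 4], ![2, 3, 0, 1, 6, 7, 4, 5],
    ![3, 2, 1, 0, 5, 4, 7, 6], ![4, 5, 6, 7, 0, 1, 2, 3], ![5, 4, 7, 6, 3, 2, 1, 0],
    ![6, 7, 4, 5, 2, 3, 0, 1], ![7, 6, 5, 4, 1, 0, 3, 2]]
/-- action of the matrices -/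
def ac : Fin 8 → Fin 8 → Fin 8 :=
  ![![0, 1, 2, 3, 4, 5, 6, 7], ![0, 1, 3, 2, 4, 5, 7, 6], ![0, 1, 2, 3, 5, 4, 7, 6],
    ![0, 1, 3, 2, 5, 4, 6, 7], ![0, 1, 2, 3, 6, 7, 4, 5], ![0, 1, 3, 2, 6, 7, 5, 4],
    ![0, 1, 2, 3, 7, 6, 5, 4], ![0, 1, 3, 2, 7, 6, 4, 5]]

theorem tR_tR : ∀ i x, tR i (tR i x) = x := by decide +kernel
theorem tD_vd : ∀ i x, tD i (tD (vd i) x) = x := by decide +kernel
theorem vd_tD : ∀ i x, tD (vd i) (tD i x) = x := by decide +kernel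
theorem tR_mul : ∀ i j x, tR i (tR j x) = tR (mu i j) x := by decide +kernel
theorem tD_mul : ∀ i j x, tD i (tD j x) = tD (md i j) x := by decide +kernel
theorem tD_tR : ∀ i j x, tD i (tR j x) = tR (ac i j) (tD i x) := by decide +kernel
theorem tR_fix : ∀ i x, tR i x = x → i ≠ 0 → x = 8 := by decide +kernel
theorem tR_inj : ∀ i j, tR i 0 = tR j 0 → i = j := by decide +kernel
theorem tD_zero : ∀ i, tD i 0 = 0 := by decide +kernel
theorem tD_inj : ∀ i j, tD i 2 = tD j 2 → tD i 4 = tD j 4 → i = j := by decide +kernel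
theorem mu_comm : ∀ i j, mu i j = mu j i := by decide +kernel
theorem mu_self : ∀ i, mu i i = 0 := by decide +kernel
theorem mu_zero : ∀ i, mu i 0 = i := by decide +kernel
theorem mu_eq_zero : ∀ i j, mu i j = 0 → i = j := by decide +kernel

/-- the regular group -/
def ru (i : Fin 8) : Perm (Fin 9) := ⟨tR i, tR i, tR_tR i, tR_tR i⟩
/-- the matrices -/
def dd (i : Fin 8) : Perm (Fin 9) := ⟨tD i, tD (vd i), vd_tD i, tD_vd i⟩
/-- bit2 += bit1 -/
def b7 : Perm (Fin 9) :=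
  ⟨![0, 1, 6, 7, 4, 5, 2, 3, 8], ![0, 1, 6, 7, 4, 5, 2, 3, 8], by decide +kernel, by decide +kernel⟩
/-- bit0 ↔ bit1 -/
def c2 : Perm (Fin 9) :=
  ⟨![0, 2, 1, 3, 4, 6, 5, 7, 8], ![0, 2, 1, 3, 4, 6, 5, 7, 8], by decide +kernel, by decide +kernel⟩
/-- bit0 ↔ bit2 -/
def c3 : Perm (Fin 9) :=
  ⟨![0, 4, 2, 6, 1, 5, 3, 7, 8], ![0, 4, 2, 6, 1, 5, 3, 7, 8], by decide +kernel, by decide +kernel⟩

theorem ru_apply (i : Fin 8) (x : Fin 9) : ru i x = tR i x := rfl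
theorem dd_apply (i : Fin 8) (x : Fin 9) : dd i x = tD i x := rfl

theorem ru_zero : ru 0 = 1 := Perm.ext (by decide +kernel)
theorem dd_zero : dd 0 = 1 := Perm.ext (by decide +kernel)
theorem ru_mul (i j : Fin 8) : ru i * ru j = ru (mu i j) := Perm.ext fun x => tR_mul i j x
theorem dd_mul (i j : Fin 8) : dd i * dd j = dd (md i j) := Perm.ext fun x => tD_mul i j x
theorem dd_ru (i j : Fin 8) : dd i * ru j = ru (ac i j) * dd i := Perm.ext fun x => tD_tR i j x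
theorem dd_inv (i : Fin 8) : (dd i)⁻¹ = dd (vd i) := by
  rw [inv_eq_iff_mul_eq_one]
  exact Perm.ext fun x => tD_vd i x
theorem ru_sq (i : Fin 8) : ru i * ru i = 1 := Perm.ext fun x => tR_tR i x
theorem ru_inv (i : Fin 8) : (ru i)⁻¹ = ru i := inv_eq_of_mul_eq_one_left (ru_sq i)
theorem ru_comm (i j : Fin 8) : ru i * ru j = ru j * ru i := by rw [ru_mul, ru_mul, mu_comm]
theorem ru_inj {i j : Fin 8} (h : ru i = ru j) : i = j := tR_inj i j (congrArg (fun f : Perm (Fin 9) => f 0) h)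
theorem dd_inj {i j : Fin 8} (h : dd i = dd j) : i = j :=
  tD_inj i j (congrArg (fun f : Perm (Fin 9) => f 2) h) (congrArg (fun f : Perm (Fin 9) => f 4) h)
theorem ru_ne_one {i : Fin 8} (h : i ≠ 0) : ru i ≠ 1 := fun e => h (ru_inj (e.trans ru_zero.symm))

theorem c2_ru : ∀ i, ∃ j, c2 * ru i * c2⁻¹ = ru j := by
  intro i
  have h : ∀ i, ∃ j, ∀ x, c2 (ru i x) = ru j (c2 x) := by decide +kernel
  obtain ⟨j, hj⟩ := h i
  exact ⟨j, mul_inv_eq_iff_eq_mul.2 (Perm.ext hj)⟩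
theorem c3_ru : ∀ i, ∃ j, c3 * ru i * c3⁻¹ = ru j := by
  intro i
  have h : ∀ i, ∃ j, ∀ x, c3 (ru i x) = ru j (c3 x) := by decide +kernel
  obtain ⟨j, hj⟩ := h i
  exact ⟨j, mul_inv_eq_iff_eq_mul.2 (Perm.ext hj)⟩
theorem c2_r1 : c2 * ru 1 * c2⁻¹ = ru 2 := mul_inv_eq_iff_eq_mul.2 (Perm.ext (by decide +kernel))
theorem c3_r1 : c3 * ru 1 * c3⁻¹ = ru 4 := mul_inv_eq_iff_eq_mul.2 (Perm.ext (by decide +kernel))
theorem c2_sq : c2 * c2 = 1 := Perm.ext (by decide +kernel)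
theorem c3_sq : c3 * c3 = 1 := Perm.ext (by decide +kernel)

/-- `ru 1`, `ru 2`, `ru 4` are commutators of elements commuting with `ru 1` -/
theorem exists_comm : ∀ i : Fin 8, (i = 1 ∨ i = 2 ∨ i = 4) → ∃ a b : Perm (Fin 9), a * ru 1 = ru 1 * a ∧
    b * ru 1 = ru 1 * b ∧ a * b * a⁻¹ * b⁻¹ = ru i := by
  rintro i (rfl | rfl | rfl)
  · refine ⟨dd 1, ru 2, Perm.ext (by decide +kernel), ru_comm _ _, ?_⟩
    rw [mul_inv_eq_iff_eq_mul, mul_inv_eq_iff_eq_mul]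
    exact Perm.ext (by decide +kernel)
  · refine ⟨dd 4, ru 4, Perm.ext (by decide +kernel), ru_comm _ _, ?_⟩
    rw [mul_inv_eq_iff_eq_mul, mul_inv_eq_iff_eq_mul]
    exact Perm.ext (by decide +kernel)
  · refine ⟨b7, ru 2, Perm.ext (by decide +kernel), ru_comm _ _, ?_⟩
    rw [mul_inv_eq_iff_eq_mul, mul_inv_eq_iff_eq_mul]
    exact Perm.ext (by decide +kernel)

/-- the regular group `U` -/
def U9 : Subgroup (Perm (Fin 9)) where
  carrier := {σ | ∃ i, σ = ru i}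
  one_mem' := ⟨0, ru_zero.symm⟩
  mul_mem' := by
    rintro _ _ ⟨i, rfl⟩ ⟨j, rfl⟩
    exact ⟨_, ru_mul i j⟩
  inv_mem' := by
    rintro _ ⟨i, rfl⟩
    exact ⟨i, ru_inv i⟩

theorem mem_U9 {σ : Perm (Fin 9)} : σ ∈ U9 ↔ ∃ i, σ = ru i := Iff.rfl
theorem ru_mem (i : Fin 8) : ru i ∈ U9 := ⟨i, rfl⟩

theorem card_U9 : Nat.card U9 = 8 := by
  have h1 : Function.Bijective (fun i : Fin 8 => (⟨ru i, ru_mem i⟩ : U9)) := by
    constructor
    · intro i j hij
      exact ru_inj (congrArg (Subtype.val : U9 → Perm (Fin 9)) hij)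
    · rintro ⟨_, i, rfl⟩
      exact ⟨i, rfl⟩
  rw [← Nat.card_congr (Equiv.ofBijective _ h1), Nat.card_fin]

/-- `U` extended by the matrices -/
def W9 : Subgroup (Perm (Fin 9)) where
  carrier := {σ | ∃ i j, σ = ru i * dd j}
  one_mem' := ⟨0, 0, by rw [ru_zero, dd_zero, mul_one]⟩
  mul_mem' := by
    rintro _ _ ⟨i, j, rfl⟩ ⟨k, l, rfl⟩
    refine ⟨mu i (ac j k), md j l, ?_⟩
    rw [← ru_mul, ← dd_mul]
    calc ru i * dd j * (ru k * dd l) = ru i * (dd j * ru k) * dd l := by group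
      _ = ru i * ru (ac j k) * (dd j * dd l) := by rw [dd_ru]; group
  inv_mem' := by
    rintro _ ⟨i, j, rfl⟩
    refine ⟨ac (vd j) i, vd j, ?_⟩
    rw [mul_inv_rev, ru_inv, dd_inv, dd_ru]

theorem mem_W9 {σ : Perm (Fin 9)} : σ ∈ W9 ↔ ∃ i j, σ = ru i * dd j := Iff.rfl

theorem card_W9 : Nat.card W9 = 64 := by
  have h1 : Function.Bijective (fun p : Fin 8 × Fin 8 => (⟨ru p.1 * dd p.2, ⟨p.1, p.2, rfl⟩⟩ : W9)) := by
    constructor
    · rintro ⟨i, j⟩ ⟨k, l⟩ hij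
      have h2 : ru i * dd j = ru k * dd l := congrArg (Subtype.val : W9 → Perm (Fin 9)) hij
      have h3 : tR i (tD j 0) = tR k (tD l 0) := congrArg (fun f : Perm (Fin 9) => f 0) h2
      rw [tD_zero, tD_zero] at h3
      obtain rfl := tR_inj _ _ h3
      obtain rfl := dd_inj (mul_left_cancel h2)
      rfl
    · rintro ⟨_, i, j, rfl⟩
      exact ⟨(i, j), rfl⟩
  rw [← Nat.card_congr (Equiv.ofBijective _ h1), Nat.card_prod, Nat.card_fin]

theorem W9_norm {w : Perm (Fin 9)} (hw : w ∈ W9) (i : Fin 8) : ∃ j, w * ru i * w⁻¹ = ru j := by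
  obtain ⟨k, l, rfl⟩ := hw
  refine ⟨mu (mu k (ac l i)) k, ?_⟩
  rw [mul_inv_eq_iff_eq_mul, ← ru_mul, ← ru_mul]
  calc ru k * dd l * ru i = ru k * (dd l * ru i) := by group
    _ = ru k * ru (ac l i) * (ru k * ru k) * dd l := by rw [dd_ru, ru_sq]; group
    _ = ru k * ru (ac l i) * ru k * (ru k * dd l) := by group

/-! ### embeddings of a group of order eight -/

variable {V : Type*} [Group V]

/-- a group of order 8 all of whose nonidentity elements have at most one fixed letter, common to all: it acts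
regularly on the remaining eight letters -/
theorem exists_option [Finite V] (hV : Nat.card V = 8) (ρ : V →* Perm (Fin 9))
    (h : ∀ v, v ≠ 1 → ∀ x y, ρ v x = x → ρ v y = y → x = y) :
    ∃ e : Option V ≃ Fin 9, (∀ v, ρ v (e none) = e none) ∧ ∀ v w, ρ v (e (some w)) = e (some (v * w)) := by
  classical
  -- a common fixed letter
  have hp : ∃ p, ∀ v, ρ v p = p := by
    letI : MulAction V (Fin 9) := MulAction.compHom (Fin 9) ρ
    have hpg : IsPGroup 2 V := IsPGroup.of_card (n := 3) (by rw [hV]; norm_num)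
    have := Fact.mk Nat.prime_two
    have hm := hpg.card_modEq_card_fixedPoints (Fin 9)
    rw [Nat.card_fin] at hm
    have hne : Nat.card (MulAction.fixedPoints V (Fin 9)) ≠ 0 := by
      intro h0
      rw [h0] at hm
      exact absurd hm (by decide)
    have : Nonempty (MulAction.fixedPoints V (Fin 9)) := by
      by_contra hcon
      rw [not_nonempty_iff] at hcon
      exact hne Nat.card_of_isEmpty
    obtain ⟨p, hp⟩ := this
    exact ⟨p, fun v => hp v⟩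
  obtain ⟨p, hp⟩ := hp
  obtain ⟨a, ha⟩ : ∃ a : Fin 9, a ≠ p := ⟨if p = 0 then 1 else 0, by
    split_ifs with h0
    · rw [h0]; decide
    · exact Ne.symm h0⟩
  let f : Option V → Fin 9 := fun o => o.elim p fun v => ρ v a
  have hmove : ∀ v, ρ v a ≠ p := by
    intro v hv
    apply ha
    apply (ρ v).injective
    rw [hv, hp]
  have hf : Function.Injective f := by
    intro o o' hoo
    match o, o' with
    | none, none => rfl
    | none, some v => exact (hmove v hoo.symm).elim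
    | some v, none => exact (hmove v hoo).elim
    | some v, some w =>
      have h1 : ρ v a = ρ w a := hoo
      by_contra hne
      have h2 : w⁻¹ * v ≠ 1 := fun e => hne (congrArg some (inv_mul_eq_one.1 e).symm)
      apply ha
      apply h _ h2 a p
      · rw [map_mul, Perm.mul_apply, h1, ← Perm.mul_apply, ← map_mul, inv_mul_cancel, map_one, Perm.one_apply]
      · exact hp _
  have hcard : Nat.card (Option V) = Nat.card (Fin 9) := by
    rw [Finite.card_option, hV, Nat.card_fin]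
  have hbij : Function.Bijective f := (Nat.bijective_iff_injective_and_card f).2 ⟨hf, hcard⟩
  refine ⟨Equiv.ofBijective f hbij, hp, fun v w => ?_⟩
  show ρ v (ρ w a) = ρ (v * w) a
  rw [map_mul, Perm.mul_apply]

/-- two such embeddings are conjugate -/
theorem exists_conj_of [Finite V] (hV : Nat.card V = 8) (ρ ρ' : V →* Perm (Fin 9))
    (h : ∀ v, v ≠ 1 → ∀ x y, ρ v x = x → ρ v y = y → x = y)
    (h' : ∀ v, v ≠ 1 → ∀ x y, ρ' v x = x → ρ' v y = y → x = y) :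
    ∃ σ : Perm (Fin 9), ∀ v, σ * ρ v * σ⁻¹ = ρ' v := by
  obtain ⟨e, he1, he2⟩ := exists_option hV ρ h
  obtain ⟨e', he1', he2'⟩ := exists_option hV ρ' h'
  refine ⟨e.symm.trans e', fun v => ?_⟩
  rw [mul_inv_eq_iff_eq_mul]
  refine Perm.ext fun x => ?_
  obtain ⟨o, rfl⟩ := e.surjective x
  show e' (e.symm (ρ v (e o))) = ρ' v (e' (e.symm (e o)))
  match o with
  | none => rw [he1, Equiv.symm_apply_apply, he1']
  | some w => rw [he2, Equiv.symm_apply_apply, Equiv.symm_apply_apply, he2']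

end Cfsg.Agent.OddHalf.D5.Nine
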