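import Cfsg.Agent.OddHalf.D5.ElemAct

/-!
# ODD D5, [O1] (2): `t k₄ ~ t`, `t k₂ ≁ t` is impossible for `C_G(t) = ⟨t⟩ × A_n`, `n - 8 ≠ 2` (helper59)

`E = ⟨t⟩V₁V₂`. `N_G(E)` acts on the six elements `S i = t v`, `v ∈ V₁# ∪ V₂#`. `N₂` = elements of `N_G(E)` centralizing
`C_G(E)/E`. The permutations of `Fin 6` induced by `N₂` contain the alternating group.
-/

set_option autoImplicit false

namespace Cfsg.Agent.OddHalf.D5.Elem

open Equiv Subgroup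

/-- the six vectors of weight one -/
def s6 : Fin 6 → Fin 2 → Fin 4 := ![![1, 0], ![2, 0], ![3, 0], ![0, 1], ![0, 2], ![0, 3]]

/-- sum of two vectors -/
def vadd {k : ℕ} (v w : Fin k → Fin 4) : Fin k → Fin 4 := fun i => κ (v i) (w i)

/-- sum of three weight one vectors, in components -/
def s3 (a b c : Fin 6) (i : Fin 2) : Fin 4 := κ (s6 a i) (κ (s6 b i) (s6 c i))

def c₁ : Perm (Fin 6) := swap 0 1 * swap 1 2
def c₂ : Perm (Fin 6) := swap 3 4 * swap 4 5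
def d₁ : Perm (Fin 6) := swap 1 2 * swap 2 3
def d₂ : Perm (Fin 6) := swap 0 4 * swap 4 5
def w₀ : Perm (Fin 6) := swap 0 1 * (swap 0 3 * swap 1 4 * swap 2 5)

theorem w₀_eq : w₀ = c₂ * d₁ * d₂ * c₁ * d₂ := by decide

/-- the permutations of the eight letters -/
def P₁ : Perm (Fin 2 × Fin 4) := Equiv.prodCongrRight ![swap 1 2 * swap 2 3, 1]
def P₂ : Perm (Fin 2 × Fin 4) := Equiv.prodCongrRight ![1, swap 1 2 * swap 2 3]
def T₀ : Perm (Fin 2 × Fin 4) :=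
  Equiv.prodCongrRight ![swap 1 2, 1] * Equiv.prodCongrLeft (fun _ => swap 0 1)

theorem sign_P₁ : Perm.sign P₁ = 1 := by
  rw [P₁, Perm.sign_prodCongrRight]
  decide
theorem sign_P₂ : Perm.sign P₂ = 1 := by
  rw [P₂, Perm.sign_prodCongrRight]
  decide
theorem sign_T₀ : Perm.sign T₀ = -1 := by
  rw [T₀, Perm.sign_mul, Perm.sign_prodCongrRight, Perm.sign_prodCongrLeft]
  decide

theorem P₁_s6 : ∀ (i : Fin 6) (p : Fin 2 × Fin 4),
    P₁ (p.1, κ (s6 i p.1) p.2) = ((P₁ p).1, κ (s6 (c₁ i) (P₁ p).1) (P₁ p).2) := by decide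
theorem P₂_s6 : ∀ (i : Fin 6) (p : Fin 2 × Fin 4),
    P₂ (p.1, κ (s6 i p.1) p.2) = ((P₂ p).1, κ (s6 (c₂ i) (P₂ p).1) (P₂ p).2) := by decide
theorem T₀_s6 : ∀ (i : Fin 6) (p : Fin 2 × Fin 4),
    T₀ (p.1, κ (s6 i p.1) p.2) = ((T₀ p).1, κ (s6 (w₀ i) (T₀ p).1) (T₀ p).2) := by decide

theorem triples : ∀ a b c : Fin 6, a ≠ b → b ≠ c → a ≠ c → s3 a b c 0 = 1 → s3 a b c 1 = 1 →
    (((a = 1 ∨ a = 2 ∨ a = 3) ∧ (b = 1 ∨ b = 2 ∨ b = 3) ∧ (c = 1 ∨ c = 2 ∨ c = 3)) ∧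
      (swap a b * swap b c = d₁ ∨ swap a b * swap b c = d₁⁻¹)) ∨
    (((a = 0 ∨ a = 4 ∨ a = 5) ∧ (b = 0 ∨ b = 4 ∨ b = 5) ∧ (c = 0 ∨ c = 4 ∨ c = 5)) ∧
      (swap a b * swap b c = d₂ ∨ swap a b * swap b c = d₂⁻¹)) := by decide

variable {G : Type*} [Group G] {n : ℕ} {t : G} {ι : An n →* G}

/-- `N₂` -/
def N2 {k : ℕ} (h : Spl t (An n) ι) (e : Fin k × Fin 4 ↪ Fin n) : Subgroup G where
  carrier := {m | (∀ x ∈ EE h e, m * x * m⁻¹ ∈ EE h e) ∧ (∀ x ∈ EE h e, m⁻¹ * x * m ∈ EE h e) ∧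
    ∀ x, (∀ y ∈ EE h e, x * y = y * x) → m * x * m⁻¹ * x⁻¹ ∈ EE h e}
  one_mem' := by
    refine ⟨fun x hx => ?_, fun x hx => ?_, fun x _ => ?_⟩
    · simpa using hx
    · simpa using hx
    · have : 1 * x * 1⁻¹ * x⁻¹ = 1 := by group
      rw [this]; exact one_mem _
  mul_mem' := by
    rintro a b ⟨ha1, ha2, ha3⟩ ⟨hb1, hb2, hb3⟩
    refine ⟨fun x hx => ?_, fun x hx => ?_, fun x hx => ?_⟩
    · have : a * b * x * (a * b)⁻¹ = a * (b * x * b⁻¹) * a⁻¹ := by group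
      rw [this]; exact ha1 _ (hb1 x hx)
    · have : (a * b)⁻¹ * x * (a * b) = b⁻¹ * (a⁻¹ * x * a) * b := by group
      rw [this]; exact hb2 _ (ha2 x hx)
    · have : a * b * x * (a * b)⁻¹ * x⁻¹ =
          (a * (b * x * b⁻¹ * x⁻¹) * a⁻¹) * (a * x * a⁻¹ * x⁻¹) := by group
      rw [this]; exact mul_mem (ha1 _ (hb3 x hx)) (ha3 x hx)
  inv_mem' := by
    rintro a ⟨ha1, ha2, ha3⟩
    refine ⟨fun x hx => ?_, fun x hx => ?_, fun x hx => ?_⟩
    · rw [inv_inv]; exact ha2 x hx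
    · rw [inv_inv]; exact ha1 x hx
    · rw [inv_inv]
      have h1 := ha3 (a⁻¹ * x * a) (fun z hz => by
        calc a⁻¹ * x * a * z = a⁻¹ * (x * (a * z * a⁻¹)) * a := by group
          _ = a⁻¹ * ((a * z * a⁻¹) * x) * a := by rw [hx _ (ha1 z hz)]
          _ = z * (a⁻¹ * x * a) := by group)
      have h2 : a⁻¹ * x * a * x⁻¹ = (a * (a⁻¹ * x * a) * a⁻¹ * (a⁻¹ * x * a)⁻¹)⁻¹ := by group
      rw [h2]
      exact inv_mem h1

/-- the six elements -/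
noncomputable def S6 (t : G) (ι : An n →* G) (e : Fin 2 × Fin 4 ↪ Fin n) (i : Fin 6) : G :=
  t * ι (QA e (s6 i))

theorem S6_inj (h : Spl t (An n) ι) (e : Fin 2 × Fin 4 ↪ Fin n) :
    Function.Injective (S6 t ι e) := by
  intro i j hij
  have h1 := QA_inj e (h.inj (mul_left_cancel hij))
  revert h1
  revert i j
  have : ∀ i j : Fin 6, s6 i = s6 j → i = j := by decide
  exact fun i j _ => this i j

/-- the permutations of `Fin 6` induced by `N₂` -/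
def Y6 (h : Spl t (An n) ι) (e : Fin 2 × Fin 4 ↪ Fin n) : Subgroup (Perm (Fin 6)) where
  carrier := {p | ∃ m ∈ N2 h e, ∀ i, m * S6 t ι e i * m⁻¹ = S6 t ι e (p i)}
  one_mem' := ⟨1, one_mem _, fun i => by simp⟩
  mul_mem' := by
    rintro p q ⟨m, hm, hp⟩ ⟨m', hm', hq⟩
    refine ⟨m * m', mul_mem hm hm', fun i => ?_⟩
    calc m * m' * S6 t ι e i * (m * m')⁻¹ = m * (m' * S6 t ι e i * m'⁻¹) * m⁻¹ := by group
      _ = S6 t ι e ((p * q) i) := by rw [hq, hp, Perm.mul_apply]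
  inv_mem' := by
    rintro p ⟨m, hm, hp⟩
    refine ⟨m⁻¹, inv_mem hm, fun i => ?_⟩
    have h1 := hp (p⁻¹ i)
    rw [self_inv] at h1
    rw [← h1]
    group

theorem S6_mul (h : Spl t (An n) ι) (e : Fin 2 × Fin 4 ↪ Fin n) (a b c : Fin 6) :
    S6 t ι e a * S6 t ι e b * S6 t ι e c = t * ι (QA e (s3 a b c)) := by
  have h1 : QA e (s6 a) * (QA e (s6 b) * QA e (s6 c)) = QA e (s3 a b c) := by
    rw [QA_mul, QA_mul]
    rfl
  rw [← h1, map_mul, map_mul]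
  unfold S6
  calc t * ι (QA e (s6 a)) * (t * ι (QA e (s6 b))) * (t * ι (QA e (s6 c)))
      = t * (ι (QA e (s6 a)) * t) * (ι (QA e (s6 b)) * t) * ι (QA e (s6 c)) := by group
    _ = t * (t * ι (QA e (s6 a))) * (t * ι (QA e (s6 b))) * ι (QA e (s6 c)) := by
        rw [h.comm', h.comm']
    _ = (t * t) * (ι (QA e (s6 a)) * t) * ι (QA e (s6 b)) * ι (QA e (s6 c)) := by group
    _ = t * (ι (QA e (s6 a)) * (ι (QA e (s6 b)) * ι (QA e (s6 c)))) := by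
        rw [h.comm', h.tt]; group

/-- conjugation by elements of `ι(A_n)` coming from the eight letters -/
theorem iota_conj (h : Spl t (An n) ι) {k : ℕ} (e : Fin k × Fin 4 ↪ Fin n) {P : Perm (Fin k × Fin 4)}
    (hs : Perm.sign P = 1) {v v' : Fin k → Fin 4}
    (hP : ∀ p : Fin k × Fin 4, P (p.1, κ (v p.1) p.2) = ((P p).1, κ (v' (P p).1) (P p).2)) :
    ι ⟨Perm.viaEmbeddingHom e P, Perm.mem_alternatingGroup.2 (by rw [sign_via, hs])⟩ *
      (t * ι (QA e v)) * (ι ⟨Perm.viaEmbeddingHom e P, Perm.mem_alternatingGroup.2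
        (by rw [sign_via, hs])⟩)⁻¹ = t * ι (QA e v') := by
  set a : An n := ⟨Perm.viaEmbeddingHom e P, Perm.mem_alternatingGroup.2 (by rw [sign_via, hs])⟩
  have h1 : a * QA e v * a⁻¹ = QA e v' := Subtype.ext (via_conj e hP)
  calc ι a * (t * ι (QA e v)) * (ι a)⁻¹ = (ι a * t) * ι (QA e v) * (ι a)⁻¹ := by group
    _ = t * (ι a * ι (QA e v) * (ι a)⁻¹) := by rw [h.comm']; group
    _ = t * ι (QA e v') := by rw [← map_inv, ← map_mul, ← map_mul, h1]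

/-- elements of `A_n` fixing the remaining letters lie in `N₂` if they normalize `V₁ ⋯ V_k` -/
theorem iota_mem_N2 (h : Spl t (An n) ι) {k : ℕ} (e : Fin k × Fin 4 ↪ Fin n) {P : Perm (Fin k × Fin 4)}
    (hs : Perm.sign P = 1) (hP : ∀ v : Fin k → Fin 4, ∃ v' : Fin k → Fin 4, ∀ p : Fin k × Fin 4,
      P (p.1, κ (v p.1) p.2) = ((P p).1, κ (v' (P p).1) (P p).2))
    (hP' : ∀ v : Fin k → Fin 4, ∃ v' : Fin k → Fin 4, ∀ p : Fin k × Fin 4,
      P⁻¹ (p.1, κ (v p.1) p.2) = ((P⁻¹ p).1, κ (v' (P⁻¹ p).1) (P⁻¹ p).2)) :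
    ι ⟨Perm.viaEmbeddingHom e P, Perm.mem_alternatingGroup.2 (by rw [sign_via, hs])⟩ ∈ N2 h e := by
  set a : An n := ⟨Perm.viaEmbeddingHom e P, Perm.mem_alternatingGroup.2 (by rw [sign_via, hs])⟩
    with ha
  have h1 : ∀ v, ∃ v', a * QA e v * a⁻¹ = QA e v' := fun v => by
    obtain ⟨v', hv'⟩ := hP v
    exact ⟨v', Subtype.ext (via_conj e hv')⟩
  have h1' : ∀ v, ∃ v', a⁻¹ * QA e v * a = QA e v' := fun v => by
    obtain ⟨v', hv'⟩ := hP' v
    refine ⟨v', Subtype.ext ?_⟩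
    have h2 := via_conj e hv'
    rw [map_inv, inv_inv] at h2
    exact h2
  have hE : ∀ b : An n, (∀ v, ∃ v', b * QA e v * b⁻¹ = QA e v') →
      ∀ x ∈ EE h e, ι b * x * (ι b)⁻¹ ∈ EE h e := by
    rintro b hb x ⟨v, rfl | rfl⟩
    · obtain ⟨v', hv'⟩ := hb v
      rw [← map_inv, ← map_mul, ← map_mul, hv']
      exact iota_mem_EE h e v'
    · obtain ⟨v', hv'⟩ := hb v
      have h3 : ι b * (t * ι (QA e v)) * (ι b)⁻¹ = t * ι (QA e v') := by
        calc ι b * (t * ι (QA e v)) * (ι b)⁻¹ = (ι b * t) * ι (QA e v) * (ι b)⁻¹ := by group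
          _ = t * (ι b * ι (QA e v) * (ι b)⁻¹) := by rw [h.comm']; group
          _ = t * ι (QA e v') := by rw [← map_inv, ← map_mul, ← map_mul, hv']
      rw [h3]
      exact tiota_mem_EE h e v'
  refine ⟨hE a h1, ?_, ?_⟩
  · intro x hx
    have h3 := hE a⁻¹ (fun v => by rw [inv_inv]; exact h1' v) x hx
    rwa [map_inv, inv_inv] at h3
  · intro x hx
    -- `x ∈ C(t)`
    have hxt := hx t (t_mem_EE h e)
    obtain ⟨b, hb⟩ := h.cases hxt
    have hcomm : ∀ v, b * QA e v = QA e v * b := by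
      intro v
      have h3 := hx _ (iota_mem_EE h e v)
      apply h.inj
      rw [map_mul, map_mul]
      rcases hb with rfl | rfl
      · exact h3
      · have h4 : t * (ι b * ι (QA e v)) = t * (ι (QA e v) * ι b) := by
          rw [← mul_assoc, h3, ← mul_assoc, ← mul_assoc, h.comm']
        exact mul_left_cancel h4
    have h5 : ι a * x * (ι a)⁻¹ * x⁻¹ = ι (a * b * a⁻¹ * b⁻¹) := by
      rw [map_mul, map_mul, map_mul, map_inv, map_inv]
      rcases hb with rfl | rfl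
      · rfl
      · have h6 : ι a * ι b * (ι a)⁻¹ * (ι b)⁻¹ = ι (a * b * a⁻¹ * b⁻¹) := by
          rw [map_mul, map_mul, map_mul, map_inv, map_inv]
        calc ι a * (t * ι b) * (ι a)⁻¹ * (t * ι b)⁻¹
            = (ι a * t) * ι b * (ι a)⁻¹ * (ι b)⁻¹ * t⁻¹ := by group
          _ = t * (ι a * ι b * (ι a)⁻¹ * (ι b)⁻¹) * t⁻¹ := by rw [h.comm']; group
          _ = ι a * ι b * (ι a)⁻¹ * (ι b)⁻¹ := by
              rw [h6, h.comm, mul_inv_cancel_right]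
    rw [h5]
    -- decompose `b`
    obtain ⟨c, hc⟩ := exists_eq_on e (f := (b : Perm (Fin n))) (fun i x =>
      congrArg Subtype.val (hcomm (Function.update (fun _ => 0) i x)))
    have hb2 : ∀ x ∈ Set.range e, ((QA e c)⁻¹ * b : An n).1 x = x := by
      intro x hx
      rw [Subgroup.coe_mul, Subgroup.coe_inv, Perm.mul_apply, hc x hx, QA_coe, inv_self]
    have hcom2 : a * ((QA e c)⁻¹ * b) = ((QA e c)⁻¹ * b) * a := by
      apply Subtype.ext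
      exact comm_of_off (S := Set.range e) (fun x hx => via_off e P hx) hb2
    obtain ⟨v', hv'⟩ := h1 c
    have h6 : a * b * a⁻¹ * b⁻¹ = QA e v' * QA e c := by
      have h7 : b = QA e c * ((QA e c)⁻¹ * b) := by rw [mul_inv_cancel_left]
      have h8 : a * b * a⁻¹ = (a * QA e c * a⁻¹) * ((QA e c)⁻¹ * b) := by
        calc a * b * a⁻¹ = a * (QA e c * ((QA e c)⁻¹ * b)) * a⁻¹ := by rw [mul_inv_cancel_left]
          _ = (a * QA e c * a⁻¹) * (a * ((QA e c)⁻¹ * b)) * a⁻¹ := by group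
          _ = _ := by rw [hcom2]; group
      have h9 : (QA e c)⁻¹ = QA e c := inv_eq_of_mul_eq_one_left (QA_sq e c)
      rw [h8, hv', mul_assoc, mul_assoc, mul_inv_cancel, mul_one, h9]
    rw [h6, map_mul]
    exact mul_mem (iota_mem_EE h e v') (iota_mem_EE h e c)

theorem norm_inv_of_finite {H : Subgroup G} [Finite H] {g : G}
    (hg : ∀ x ∈ H, g * x * g⁻¹ ∈ H) : ∀ x ∈ H, g⁻¹ * x * g ∈ H := by
  have h1 : Function.Injective (fun x : H => (⟨g * x * g⁻¹, hg x x.2⟩ : H)) := by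
    intro x y hxy
    have h2 : g * (x : G) * g⁻¹ = g * y * g⁻¹ := congrArg Subtype.val hxy
    exact Subtype.ext (mul_left_cancel (mul_right_cancel h2))
  have h3 := Finite.surjective_of_injective h1
  intro x hx
  obtain ⟨y, hy⟩ := h3 ⟨x, hx⟩
  have h4 : g * (y : G) * g⁻¹ = x := congrArg Subtype.val hy
  rw [← h4]
  have h5 : g⁻¹ * (g * (y : G) * g⁻¹) * g = y := by group
  rw [h5]
  exact y.2

theorem ncard_compl_range {k r : ℕ} (e : Fin k × Fin 4 ↪ Fin n) (hn : n = 4 * k + r) :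
    ((Set.range e)ᶜ).ncard = r := by
  have h2 := Set.ncard_add_ncard_compl (Set.range e) (Set.toFinite _) (Set.toFinite _)
  have h3 : (Set.range e).ncard = k * 4 := by
    rw [← Set.image_univ, Set.ncard_image_of_injective _ e.injective, Set.ncard_univ,
      Nat.card_prod, Nat.card_fin, Nat.card_fin]
  rw [Nat.card_fin] at h2
  omega

/-- `N₂` is normalized by the normalizer of `EE` -/
theorem conj_mem_N2 {k : ℕ} {h : Spl t (An n) ι} {e : Fin k × Fin 4 ↪ Fin n} {g m : G}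
    (hg : ∀ x ∈ EE h e, g * x * g⁻¹ ∈ EE h e) (hg' : ∀ x ∈ EE h e, g⁻¹ * x * g ∈ EE h e)
    (hm : m ∈ N2 h e) : g * m * g⁻¹ ∈ N2 h e := by
  obtain ⟨h1, h2, h3⟩ := hm
  refine ⟨fun x hx => ?_, fun x hx => ?_, fun x hx => ?_⟩
  · have e1 : g * m * g⁻¹ * x * (g * m * g⁻¹)⁻¹ = g * (m * (g⁻¹ * x * g) * m⁻¹) * g⁻¹ := by group
    rw [e1]
    exact hg _ (h1 _ (hg' x hx))
  · have e1 : (g * m * g⁻¹)⁻¹ * x * (g * m * g⁻¹) = g * (m⁻¹ * (g⁻¹ * x * g) * m) * g⁻¹ := by group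
    rw [e1]
    exact hg _ (h2 _ (hg' x hx))
  · have e1 : g * m * g⁻¹ * x * (g * m * g⁻¹)⁻¹ * x⁻¹ =
        g * (m * (g⁻¹ * x * g) * m⁻¹ * (g⁻¹ * x * g)⁻¹) * g⁻¹ := by group
    rw [e1]
    refine hg _ (h3 _ fun z hz => ?_)
    calc g⁻¹ * x * g * z = g⁻¹ * (x * (g * z * g⁻¹)) * g := by group
      _ = g⁻¹ * ((g * z * g⁻¹) * x) * g := by rw [hx _ (hg z hz)]
      _ = z * (g⁻¹ * x * g) := by group

/-- the permutation of the remaining letters is even -/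
theorem sign_rest {k r : ℕ} (h : Spl t (An n) ι) (e : Fin k × Fin 4 ↪ Fin n) (hn : n = 4 * k + r)
    (hr : r ≠ 2) {σ : An n} {A : Perm (Fin n)} (hA : ∀ x ∉ Set.range e, A x = x)
    (hσA : ∀ x ∈ Set.range e, (A⁻¹ * σ) x = x)
    (hσ : ∀ x, (∀ y ∈ EE h e, x * y = y * x) → ι σ * x * (ι σ)⁻¹ * x⁻¹ ∈ EE h e) :
    Perm.sign A = 1 := by
  set f := A⁻¹ * (σ : Perm (Fin n)) with hf
  have hσf : (σ : Perm (Fin n)) = A * f := by rw [hf, mul_inv_cancel_left]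
  have hfs : Perm.sign f = 1 := by
    refine sign_eq_one (S := Set.range e) hσA (fun b hb hbS => ?_) (by
      rw [ncard_compl_range e hn]; exact hr)
    let b₀ : An n := ⟨b, Perm.mem_alternatingGroup.2 hb⟩
    have hbE : ∀ y ∈ EE h e, ι b₀ * y = y * ι b₀ := by
      have hbQ : ∀ v, b₀ * QA e v = QA e v * b₀ := by
        intro v
        apply Subtype.ext
        exact (comm_of_off (S := Set.range e) (fun x hx => Qe_off e v hx) hbS).symm
      rintro y ⟨v, rfl | rfl⟩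
      · rw [← map_mul, hbQ, map_mul]
      · rw [← mul_assoc, h.comm', mul_assoc, ← map_mul, hbQ, map_mul, mul_assoc]
    have h1 := hσ _ hbE
    rw [← map_inv, ← map_inv, ← map_mul, ← map_mul, ← map_mul] at h1
    obtain ⟨v, hv | hv⟩ := h1
    · have h2 : (σ : Perm (Fin n)) * b * (σ : Perm (Fin n))⁻¹ * b⁻¹ = Qe e v :=
        congrArg Subtype.val (h.inj hv)
      have hb' : ∀ x ∈ Set.range e, (f * b * f⁻¹) x = x := by
        intro x hx
        have h3 : f⁻¹ x = x := by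
          rw [Perm.inv_eq_iff_eq]
          exact (hσA x hx).symm
        rw [Perm.mul_apply, Perm.mul_apply, h3, hbS x hx]
        exact hσA x hx
      have hcom := comm_of_off (S := Set.range e) hA hb'
      have h3 : (σ : Perm (Fin n)) * b * (σ : Perm (Fin n))⁻¹ = f * b * f⁻¹ := by
        calc (σ : Perm (Fin n)) * b * (σ : Perm (Fin n))⁻¹ = (A * (f * b * f⁻¹)) * A⁻¹ := by
              rw [hσf]; group
          _ = f * b * f⁻¹ := by rw [hcom, mul_inv_cancel_right]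
      rw [h3] at h2
      have hv0 : v = fun _ => 0 := by
        funext i
        have h4 : (f * b * f⁻¹ * b⁻¹) (e (i, 0)) = e (i, 0) := by
          have h5 : b⁻¹ (e (i, 0)) = e (i, 0) := by
            rw [Perm.inv_eq_iff_eq]
            exact (hbS _ ⟨_, rfl⟩).symm
          rw [Perm.mul_apply, h5]
          exact hb' _ ⟨_, rfl⟩
        rw [h2, Qe_apply, κ_zero] at h4
        exact (Prod.ext_iff.1 (e.injective h4)).2
      rw [hv0, Qe_zero, mul_inv_eq_one] at h2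
      exact mul_inv_eq_iff_eq_mul.1 h2
    · exact (h.tne _ _ hv).elim
  have h1 : Perm.sign (σ : Perm (Fin n)) = 1 := Perm.mem_alternatingGroup.1 σ.2
  rw [hσf, Perm.sign_mul, hfs, mul_one] at h1
  exact h1

theorem sum_of_good : ∀ v : Fin 2 → Fin 4, ∃ u u' : Fin 2 → Fin 4,
    (u = (fun _ => 0) ∨ (u 0 ≠ 0 ∧ u 1 ≠ 0)) ∧ (u' = (fun _ => 0) ∨ (u' 0 ≠ 0 ∧ u' 1 ≠ 0)) ∧
      v = fun i => κ (u i) (u' i) := by decide

theorem cases_v : ∀ u : Fin 2 → Fin 4, u = (fun _ => 0) ∨ (u 0 ≠ 0 ∧ u 1 ≠ 0) ∨ ∃ j, u = s6 j := by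
  decide

theorem P₁_norm : ∀ v : Fin 2 → Fin 4, ∃ v' : Fin 2 → Fin 4, ∀ p : Fin 2 × Fin 4,
    P₁ (p.1, κ (v p.1) p.2) = ((P₁ p).1, κ (v' (P₁ p).1) (P₁ p).2) := by decide
theorem P₁_norm' : ∀ v : Fin 2 → Fin 4, ∃ v' : Fin 2 → Fin 4, ∀ p : Fin 2 × Fin 4,
    P₁⁻¹ (p.1, κ (v p.1) p.2) = ((P₁⁻¹ p).1, κ (v' (P₁⁻¹ p).1) (P₁⁻¹ p).2) := by decide
theorem P₂_norm : ∀ v : Fin 2 → Fin 4, ∃ v' : Fin 2 → Fin 4, ∀ p : Fin 2 × Fin 4,
    P₂ (p.1, κ (v p.1) p.2) = ((P₂ p).1, κ (v' (P₂ p).1) (P₂ p).2) := by decide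
theorem P₂_norm' : ∀ v : Fin 2 → Fin 4, ∃ v' : Fin 2 → Fin 4, ∀ p : Fin 2 × Fin 4,
    P₂⁻¹ (p.1, κ (v p.1) p.2) = ((P₂⁻¹ p).1, κ (v' (P₂⁻¹ p).1) (P₂⁻¹ p).2) := by decide

theorem update_s6 : ∀ (i : Fin 2) (a : Fin 4),
    (Function.update (fun _ => 0) i a : Fin 2 → Fin 4) = (fun _ => 0) ∨
      ∃ j, (Function.update (fun _ => 0) i a : Fin 2 → Fin 4) = s6 j := by decide

/-- the permutation of the six elements induced by an element `g` of `N_G(E)`, `t^g = t v₁ v₂` -/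
theorem exists_perm6 (h : Spl t (An n) ι) (e : Fin 2 × Fin 4 ↪ Fin n)
    (hK : ∀ a, ¬ IsConj t (ι a))
    (h4 : ∀ v : Fin 2 → Fin 4, v 0 ≠ 0 → v 1 ≠ 0 → IsConj t (t * ι (QA e v)))
    (h2 : ∀ i, ¬ IsConj t (S6 t ι e i)) {g : G} {v₀ : Fin 2 → Fin 4}
    (hgt : g * t * g⁻¹ = t * ι (QA e v₀)) (hgE : ∀ x ∈ EE h e, g * x * g⁻¹ ∈ EE h e) :
    ∃ P₀ : Perm (Fin 6), ∀ i, g * S6 t ι e i * g⁻¹ = S6 t ι e (P₀ i) := by
  have hconj : ∀ x : G, IsConj x (g * x * g⁻¹) := fun x => isConj_iff.2 ⟨g, rfl⟩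
  -- elements of `D ∩ E`
  have hP : ∀ x ∈ EE h e, IsConj t x → ∃ u, x = t * ι (QA e u) := by
    rintro x ⟨u, rfl | rfl⟩ hx
    · exact (hK _ hx).elim
    · exact ⟨u, rfl⟩
  have hgood : ∀ u : Fin 2 → Fin 4, (u = (fun _ => 0) ∨ (u 0 ≠ 0 ∧ u 1 ≠ 0)) →
      IsConj t (t * ι (QA e u)) := by
    rintro u (rfl | ⟨h0, h1⟩)
    · rw [QA_zero, map_one, mul_one]
    · exact h4 u h0 h1
  have hι : ∀ v, ∃ v', g * ι (QA e v) * g⁻¹ = ι (QA e v') := by
    intro v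
    obtain ⟨u, u', hu, hu', rfl⟩ := sum_of_good v
    obtain ⟨w, hw⟩ := hP _ (hgE _ (tiota_mem_EE h e u)) ((hgood u hu).trans (hconj _))
    obtain ⟨w', hw'⟩ := hP _ (hgE _ (tiota_mem_EE h e u')) ((hgood u' hu').trans (hconj _))
    refine ⟨fun i => κ (w i) (w' i), ?_⟩
    have h1 : ∀ a b : Fin 2 → Fin 4, (t * ι (QA e a)) * (t * ι (QA e b)) = ι (QA e a * QA e b) := by
      intro a b
      rw [mul_assoc, ← mul_assoc (ι _) t, h.comm', mul_assoc, ← mul_assoc t t, h.tt, one_mul,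
        ← map_mul]
    rw [← QA_mul, ← h1, ← QA_mul, ← h1, ← hw, ← hw']
    group
  have hS : ∀ i, ∃ j, g * S6 t ι e i * g⁻¹ = S6 t ι e j := by
    intro i
    obtain ⟨v', hv'⟩ := hι (s6 i)
    have h1 : g * S6 t ι e i * g⁻¹ = t * ι (QA e fun j => κ (v₀ j) (v' j)) := by
      rw [← QA_mul, map_mul, ← mul_assoc, ← hgt, ← hv']
      unfold S6
      group
    rcases cases_v (fun j => κ (v₀ j) (v' j)) with hu | hu | ⟨j, hj⟩
    · exfalso
      rw [hu, QA_zero, map_one, mul_one] at h1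
      have h3 := (hconj (S6 t ι e i)).symm
      rw [h1] at h3
      exact h2 i h3
    · exfalso
      have h3 := h4 (fun j => κ (v₀ j) (v' j)) hu.1 hu.2
      rw [← h1] at h3
      exact h2 i (h3.trans (hconj _).symm)
    · exact ⟨j, by rw [h1, hj]; rfl⟩
  choose f hf using hS
  have hinj : Function.Injective f := by
    intro i j hij
    apply S6_inj h e
    have h1 := hf i
    rw [hij, ← hf j] at h1
    exact mul_left_cancel (mul_right_cancel h1)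
  exact ⟨Equiv.ofBijective f (Finite.injective_iff_bijective.1 hinj), hf⟩

/-- conjugates of three-cycles -/
theorem conj_cyc (P : Perm (Fin 6)) (a b c : Fin 6) :
    P * (swap a b * swap b c) * P⁻¹ = swap (P a) (P b) * swap (P b) (P c) := by
  have h1 : ∀ x y : Fin 6, P * swap x y = swap (P x) (P y) * P := fun x y => mul_swap_eq_swap_mul P x y
  rw [← mul_assoc, h1, mul_assoc (swap _ _) P, h1, ← mul_assoc, mul_inv_cancel_right]

/-- `Y` contains `w₀` -/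
theorem w₀_mem {Y : Subgroup (Perm (Fin 6))} (h1 : c₁ ∈ Y) (h2 : c₂ ∈ Y) {P : Perm (Fin 6)}
    (hP : ∀ p ∈ Y, P * p * P⁻¹ ∈ Y) (ha : s3 (P 0) (P 1) (P 2) = fun _ => 1)
    (hb : s3 (P 3) (P 4) (P 5) = fun _ => 1) : w₀ ∈ Y := by
  have hne : ∀ i j : Fin 6, i ≠ j → P i ≠ P j := fun i j hij h => hij (P.injective h)
  have hA := hP _ h1
  have hB := hP _ h2
  rw [c₁, conj_cyc] at hA
  rw [c₂, conj_cyc] at hB
  have hinv : ∀ {x y : Perm (Fin 6)}, (x = y ∨ x = y⁻¹) → x ∈ Y → y ∈ Y := by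
    rintro x y (rfl | rfl) hx
    · exact hx
    · exact inv_inv y ▸ Y.inv_mem hx
  have t1 := triples (P 0) (P 1) (P 2) (hne _ _ (by decide)) (hne _ _ (by decide))
    (hne _ _ (by decide)) (by rw [ha]) (by rw [ha])
  have t2 := triples (P 3) (P 4) (P 5) (hne _ _ (by decide)) (hne _ _ (by decide))
    (hne _ _ (by decide)) (by rw [hb]) (by rw [hb])
  have n01 := hne 0 1 (by decide)
  have n02 := hne 0 2 (by decide)
  have n12 := hne 1 2 (by decide)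
  have n03 := hne 0 3 (by decide)
  have n13 := hne 1 3 (by decide)
  have n23 := hne 2 3 (by decide)
  have pig : ∀ a b c d x y z : Fin 6, a ≠ b → a ≠ c → b ≠ c → a ≠ d → b ≠ d → c ≠ d →
      (a = x ∨ a = y ∨ a = z) → (b = x ∨ b = y ∨ b = z) → (c = x ∨ c = y ∨ c = z) →
      (d = x ∨ d = y ∨ d = z) → False := by
    intro a b c d x y z
    rintro q1 q2 q3 q4 q5 q6 (rfl | rfl | rfl) (rfl | rfl | rfl) (rfl | rfl | rfl) (rfl | rfl | rfl) <;>
      first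
        | exact q1 rfl
        | exact q2 rfl
        | exact q3 rfl
        | exact q4 rfl
        | exact q5 rfl
        | exact q6 rfl
  have hd : d₁ ∈ Y ∧ d₂ ∈ Y := by
    rcases t1 with ⟨⟨a1, a2, a3⟩, a4⟩ | ⟨⟨a1, a2, a3⟩, a4⟩ <;>
    rcases t2 with ⟨⟨b1, b2, b3⟩, b4⟩ | ⟨⟨b1, b2, b3⟩, b4⟩
    · exact (pig _ _ _ _ _ _ _ n01 n02 n12 n03 n13 n23 a1 a2 a3 b1).elim
    · exact ⟨hinv a4 hA, hinv b4 hB⟩
    · exact ⟨hinv b4 hB, hinv a4 hA⟩
    · exact (pig _ _ _ _ _ _ _ n01 n02 n12 n03 n13 n23 a1 a2 a3 b1).elim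
  rw [w₀_eq]
  exact Y.mul_mem (Y.mul_mem (Y.mul_mem (Y.mul_mem h2 hd.1) hd.2) h1) hd.2

/-- **#8953 (2), `Σ = A_n`, `n - 8 ≠ 2`** -/
theorem false_of_four [Finite G] (h : Spl t (An n) ι) (e : Fin 2 × Fin 4 ↪ Fin n) {r : ℕ}
    (hn : n = 4 * 2 + r) (hr : r ≠ 2) (hK : ∀ a, ¬ IsConj t (ι a))
    (h4 : ∀ v : Fin 2 → Fin 4, v 0 ≠ 0 → v 1 ≠ 0 → IsConj t (t * ι (QA e v)))
    (h2 : ∀ i, ¬ IsConj t (S6 t ι e i)) : False := by
  obtain ⟨g, hgt, hgE⟩ := exists_norm (k := 1) (v := fun _ => 1) h e hr hn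
    (h4 _ (by decide) (by decide))
  have hgE' := norm_inv_of_finite hgE
  obtain ⟨P₀, hP₀⟩ := exists_perm6 h e hK h4 h2 hgt hgE
  -- `t` as a product
  have ht3 : ∀ a b c : Fin 6, s3 a b c = (fun _ => 0) →
      S6 t ι e a * S6 t ι e b * S6 t ι e c = t := by
    intro a b c habc
    rw [S6_mul h, habc, QA_zero, map_one, mul_one]
  have hPs : ∀ a b c : Fin 6, s3 a b c = (fun _ => 0) → s3 (P₀ a) (P₀ b) (P₀ c) = fun _ => 1 := by
    intro a b c habc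
    have h1 := hgt
    rw [← ht3 a b c habc] at h1
    have h3 : g * (S6 t ι e a * S6 t ι e b * S6 t ι e c) * g⁻¹ =
        (g * S6 t ι e a * g⁻¹) * (g * S6 t ι e b * g⁻¹) * (g * S6 t ι e c * g⁻¹) := by group
    rw [h3, hP₀, hP₀, hP₀, S6_mul h, ht3 a b c habc] at h1
    exact QA_inj e (h.inj (mul_left_cancel h1))
  -- three-cycles
  have hc1 : c₁ ∈ Y6 h e :=
    ⟨_, iota_mem_N2 h e sign_P₁ P₁_norm P₁_norm', fun i => iota_conj h e sign_P₁ (P₁_s6 i)⟩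
  have hc2 : c₂ ∈ Y6 h e :=
    ⟨_, iota_mem_N2 h e sign_P₂ P₂_norm P₂_norm', fun i => iota_conj h e sign_P₂ (P₂_s6 i)⟩
  have hPY : ∀ p ∈ Y6 h e, P₀ * p * P₀⁻¹ ∈ Y6 h e := by
    rintro p ⟨m, hm, hmp⟩
    refine ⟨g * m * g⁻¹, conj_mem_N2 hgE hgE' hm, fun i => ?_⟩
    have h1 : g⁻¹ * S6 t ι e i * g = S6 t ι e (P₀⁻¹ i) := by
      have h3 := hP₀ (P₀⁻¹ i)
      rw [self_inv] at h3
      rw [← h3]
      group
    calc g * m * g⁻¹ * S6 t ι e i * (g * m * g⁻¹)⁻¹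
        = g * (m * (g⁻¹ * S6 t ι e i * g) * m⁻¹) * g⁻¹ := by group
      _ = S6 t ι e ((P₀ * p * P₀⁻¹) i) := by rw [h1, hmp, hP₀]; rfl
  obtain ⟨m, ⟨hm1, hm2, hm3⟩, hm⟩ := w₀_mem hc1 hc2 hPY (hPs 0 1 2 (by decide)) (hPs 3 4 5 (by decide))
  -- `m` centralizes `t`
  have hmt : m * t = t * m := by
    have h1 : m * t * m⁻¹ = t := by
      have h3 : m * (S6 t ι e 0 * S6 t ι e 1 * S6 t ι e 2) * m⁻¹ =
          (m * S6 t ι e 0 * m⁻¹) * (m * S6 t ι e 1 * m⁻¹) * (m * S6 t ι e 2 * m⁻¹) := by group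
      rw [ht3 0 1 2 (by decide), hm, hm, hm, ht3 _ _ _ (by decide)] at h3
      exact h3
    exact mul_inv_eq_iff_eq_mul.1 h1
  obtain ⟨σ, hσ⟩ := h.cases hmt
  -- the conjugation action of `m` and `ι σ` agree on `C(t)`
  have hact : ∀ x, x * t = t * x → m * x * m⁻¹ = ι σ * x * (ι σ)⁻¹ := by
    intro x hx
    rcases hσ with rfl | rfl
    · rfl
    · calc t * ι σ * x * (t * ι σ)⁻¹ = t * (ι σ * x * (ι σ)⁻¹) * t⁻¹ := by group
        _ = (ι σ * x * (ι σ)⁻¹) * t * t⁻¹ := by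
            congr 1
            calc t * (ι σ * x * (ι σ)⁻¹) = (t * ι σ) * x * (ι σ)⁻¹ := by group
              _ = ι σ * (t * x) * (ι σ)⁻¹ := by rw [h.comm]; group
              _ = ι σ * x * (t * (ι σ)⁻¹) := by rw [← hx]; group
              _ = ι σ * x * ((ι σ)⁻¹ * t) := by rw [← map_inv, h.comm]
              _ = ι σ * x * (ι σ)⁻¹ * t := by group
        _ = _ := by rw [mul_inv_cancel_right]
  have hS6t : ∀ i, S6 t ι e i * t = t * S6 t ι e i := by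
    intro i
    unfold S6
    rw [mul_assoc, h.comm']
  have hσ6 : ∀ i, (σ : Perm (Fin n)) * Qe e (s6 i) * (σ : Perm (Fin n))⁻¹ = Qe e (s6 (w₀ i)) := by
    intro i
    have h1 := hm i
    rw [hact _ (hS6t i)] at h1
    have h3 : ι σ * S6 t ι e i * (ι σ)⁻¹ = t * ι (σ * QA e (s6 i) * σ⁻¹) := by
      unfold S6
      rw [map_mul, map_mul, map_inv, ← mul_assoc, h.comm']
      group
    rw [h3] at h1
    exact congrArg Subtype.val (h.inj (mul_left_cancel h1))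
  set T : Perm (Fin n) := Perm.viaEmbeddingHom e T₀ with hT
  have hT6 : ∀ i, T * Qe e (s6 i) * T⁻¹ = Qe e (s6 (w₀ i)) := fun i => via_conj e (T₀_s6 i)
  obtain ⟨c, hc⟩ := exists_eq_on e (f := T⁻¹ * (σ : Perm (Fin n))) (by
    intro i a
    rcases update_s6 i a with hu | ⟨j, hj⟩
    · rw [hu, Qe_zero, mul_one, one_mul]
    · rw [hj]
      have h1 := (hσ6 j).trans (hT6 j).symm
      calc T⁻¹ * (σ : Perm (Fin n)) * Qe e (s6 j)
          = T⁻¹ * ((σ : Perm (Fin n)) * Qe e (s6 j) * (σ : Perm (Fin n))⁻¹) * σ := by group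
        _ = Qe e (s6 j) * (T⁻¹ * (σ : Perm (Fin n))) := by rw [h1]; group)
  have hsA := sign_rest h e hn hr (σ := σ) (A := T * Qe e c) (fun x hx => by
      rw [Perm.mul_apply, Qe_off e c hx]
      exact via_off e T₀ hx) (fun x hx => by
      rw [mul_inv_rev, mul_assoc, Perm.mul_apply, hc x hx, inv_self]) (fun x hx => by
      have h1 := hm3 x hx
      rw [hact x (hx t (t_mem_EE h e))] at h1
      exact h1)
  rw [Perm.sign_mul, sign_Qe, mul_one, hT, sign_via, sign_T₀] at hsA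
  exact absurd hsA (by decide)

end Cfsg.Agent.OddHalf.D5.Elem
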