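import Cfsg.Agent.OddHalf.Iface
import Cfsg.Agent.OddHalf.UQ4Alt
import Cfsg.Agent.OddHalf.D5.Defs
import Cfsg.Agent.StdAlt.Lab
import Cfsg.Agent.S1754
import Cfsg.Agent.S0502
import Cfsg.Agent.Lib.PComponents

/-!
# ODD D5: the front end

`front`: the general facts on an involution `t` centralizing the standard subgroup `K ≅ A_n`, `n ≥ 5`, `C(K)` with
cyclic Sylow 2-subgroups. `front_gen`: for `n ≥ 7` the group `C_G(t) ∩ C_G(K)` is `⟨t⟩` and `Gen t φ K` holds for
some `φ : C_G(t) →* Perm (Fin n)`.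
-/

set_option autoImplicit false

namespace Cfsg.Agent.OddHalf.D5

open Subgroup Equiv Cfsg Cfsg.Agent.OddHalf.Iface Cfsg.Agent.OddHalf.UQ4

universe u

/-- the general facts -/
structure Front {G : Type u} [Group G] (t : G) (K : Subgroup G) : Prop where
  t1 : t ≠ 1
  tt : t * t = 1
  tK : t ∉ K
  le : ∀ k ∈ K, t * k = k * t
  norm : ∀ x, x * t = t * x → ∀ k ∈ K, x * k * x⁻¹ ∈ K
  uni : ∀ x, x * t = t * x → (∀ k ∈ K, x * k = k * x) → x * x = 1 → x = 1 ∨ x = t
  odd : ∀ N : Subgroup G, N ≤ K → (∀ k ∈ K, ∀ n ∈ N, k * n * k⁻¹ ∈ N) → Odd (Nat.card N) → N = ⊥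
  /-- Glauberman's theorem -/
  hz : ∃ g : G, g * t * g⁻¹ ≠ t ∧ g * t * g⁻¹ * t = t * (g * t * g⁻¹)
  cyc : IsCyclic ↥(RR t K)
  p2 : IsPGroup 2 ↥(RR t K)

variable {G : Type u} [Group G]

theorem even_card_alt {n : ℕ} (hn : 5 ≤ n) : Even (Nat.card (alternatingGroup (Fin n))) := by
  have hnt : Nontrivial (Fin n) := Fin.nontrivial_iff_two_le.2 (by omega)
  have h1 : 2 * Nat.card (alternatingGroup (Fin n)) = Nat.card (Perm (Fin n)) :=
    two_mul_nat_card_alternatingGroup
  rw [Nat.card_perm, Nat.card_fin] at h1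
  have h2 : 4 ∣ n.factorial := (by decide : 4 ∣ Nat.factorial 4).trans (Nat.factorial_dvd_factorial (by omega))
  rw [even_iff_two_dvd]
  omega

theorem center_eq_bot {n : ℕ} (hn : 5 ≤ n) {K : Subgroup G} (e : ↥K ≃* ↥(alternatingGroup (Fin n))) :
    center ↥K = ⊥ := by
  have hs : IsSimpleGroup (alternatingGroup (Fin n)) := alternatingGroup.isSimpleGroup (by simpa using hn)
  have hc : center (alternatingGroup (Fin n)) = ⊥ := by
    exact alternatingGroup.center_eq_bot (α := Fin n) (by simp; omega)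
  rw [eq_bot_iff]
  intro x hx
  have : e x ∈ center (alternatingGroup (Fin n)) := by
    rw [mem_center_iff] at hx ⊢
    intro g
    obtain ⟨y, rfl⟩ := e.surjective g
    rw [← map_mul, hx y, map_mul]
  rw [hc, mem_bot] at this
  rw [mem_bot]
  exact e.injective (this.trans (map_one e).symm)

theorem isSimple_of {n : ℕ} (hn : 5 ≤ n) {K : Subgroup G} (e : ↥K ≃* ↥(alternatingGroup (Fin n))) :
    IsSimpleGroup ↥K := by
  have hs : IsSimpleGroup (alternatingGroup (Fin n)) := alternatingGroup.isSimpleGroup (by simpa using hn)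
  exact (MulEquiv.isSimpleGroup_congr e).2 hs

/-- the general facts hold for every involution centralizing `K` -/
theorem front_of (C : Ctx G) {K : Subgroup G} (S : IsStandardSubgroup K) (hcyc : Cyc K) {n : ℕ} (hn : 5 ≤ n)
    (e : ↥K ≃* ↥(alternatingGroup (Fin n))) {t : G} (ht : orderOf t = 2)
    (htK : t ∈ centralizer (K : Set G)) : Front t K := by
  have := C.fin
  have hsG := C.simple
  have : Fact (Nat.Prime 2) := ⟨Nat.prime_two⟩
  have hsK : IsSimpleGroup ↥K := isSimple_of hn e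
  have hcK : center ↥K = ⊥ := center_eq_bot hn e
  have ht1 : t ≠ 1 := by rintro rfl; rw [orderOf_one] at ht; norm_num at ht
  have htt : t * t = 1 := by rw [← pow_two, ← ht, pow_orderOf_eq_one]
  have hle : ∀ k ∈ K, t * k = k * t := fun k hk => (mem_centralizer_iff.1 htK k hk).symm
  have hCN := (Cfsg.Agent.S1754.result K S t ht htK).1
  have hnorm : ∀ x, x * t = t * x → ∀ k ∈ K, x * k * x⁻¹ ∈ K := by
    intro x hx k hk
    exact (mem_normalizer_iff.1 (hCN (mem_centralizer_singleton_iff.2 hx)) k).1 hk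
  have htnK : t ∉ K := by
    intro h
    have h1 : (⟨t, h⟩ : K) ∈ center ↥K := by
      rw [mem_center_iff]
      intro k
      exact Subtype.ext (hle k k.2).symm
    rw [hcK, mem_bot] at h1
    exact ht1 (congrArg Subtype.val h1)
  have huni : ∀ x, x * t = t * x → (∀ k ∈ K, x * k = k * x) → x * x = 1 → x = 1 ∨ x = t := by
    intro x hx hxK hxx
    by_contra hne
    push Not at hne
    have hxC : x ∈ centralizer (K : Set G) := mem_centralizer_iff.2 fun k hk => (hxK k hk).symm
    obtain ⟨W, hW, -⟩ := Cfsg.Agent.S0502.exists_klein (a := (⟨x, hxC⟩ : ↥(centralizer (K : Set G))))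
      (b := ⟨t, htK⟩) (Subtype.ext (by rw [← pow_two] at hxx; exact hxx))
      (Subtype.ext (by rw [← pow_two] at htt; exact htt))
      (fun h => hne.1 (congrArg Subtype.val h)) (fun h => ht1 (congrArg Subtype.val h))
      (fun h => hne.2 (congrArg Subtype.val h)) (Subtype.ext hx)
    have hWp : IsPGroup 2 W := IsPGroup.of_card (n := 2) (by rw [hW.card_four]; norm_num)
    obtain ⟨P, hP⟩ := hWp.exists_le_sylow
    have hPc := hcyc P
    have hWc : IsCyclic W :=
      isCyclic_of_injective (Subgroup.inclusion hP) (Subgroup.inclusion_injective hP)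
    exact hW.not_isCyclic hWc
  have hodd : ∀ N : Subgroup G, N ≤ K → (∀ k ∈ K, ∀ n ∈ N, k * n * k⁻¹ ∈ N) → Odd (Nat.card N) → N = ⊥ := by
    intro N hNK hN hNo
    have h1 : (N.subgroupOf K).Normal := ⟨fun x hx k => by
      rw [mem_subgroupOf] at hx ⊢
      exact hN k k.2 _ hx⟩
    rcases hsK.eq_bot_or_eq_top_of_normal _ h1 with h2 | h2
    · rw [subgroupOf_eq_bot] at h2
      exact (disjoint_iff.1 h2) ▸ (inf_eq_left.2 hNK).symm
    · exfalso
      have h3 : K ≤ N := by rwa [subgroupOf_eq_top] at h2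
      have h4 : N = K := le_antisymm hNK h3
      rw [h4, Nat.card_congr e.toEquiv] at hNo
      exact (Nat.not_even_iff_odd.2 hNo) (even_card_alt hn)
  have hz : ∃ g : G, g * t * g⁻¹ ≠ t ∧ g * t * g⁻¹ * t = t * (g * t * g⁻¹) := by
    rcases zstar ht1 htt with h | ⟨N, hN, hNo, hNt⟩
    · exact h
    exfalso
    rcases hsG.eq_bot_or_eq_top_of_normal N hN with h1 | h1
    · -- `t` is central
      have h2 : ∀ g, t * g = g * t := by
        intro g
        have h3 := hNt g
        rw [h1, mem_bot, mul_inv_eq_one, mul_inv_eq_iff_eq_mul] at h3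
        exact h3
      have h3 : t ∈ center G := mem_center_iff.2 fun g => (h2 g).symm
      rcases hsG.eq_bot_or_eq_top_of_normal (center G) inferInstance with h4 | h4
      · rw [h4, mem_bot] at h3
        exact ht1 h3
      · apply C.na
        refine ⟨⟨fun a b => ?_⟩⟩
        have : b ∈ center G := by rw [h4]; trivial
        exact (mem_center_iff.1 this) a
    · rw [h1, card_top] at hNo
      have h2 : 2 ∣ Nat.card G := by rw [← ht]; exact orderOf_dvd_natCard t
      exact (Nat.not_even_iff_odd.2 hNo) (even_iff_two_dvd.2 h2)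
  have hRRn : ((RR t K).subgroupOf (centralizer ({t} : Set G))).Normal := by
    refine ⟨fun x hx g => ?_⟩
    rw [mem_subgroupOf, mem_RR] at hx ⊢
    have hg := mem_centralizer_singleton_iff.1 g.2
    refine ⟨mem_centralizer_singleton_iff.1 (g * x * g⁻¹).2, fun k hk => ?_⟩
    have hg' : (g : G)⁻¹ * t = t * (g : G)⁻¹ := by
      rw [inv_mul_eq_iff_eq_mul, ← mul_assoc, hg, mul_inv_cancel_right]
    have h1 := hnorm _ hg' k hk
    rw [inv_inv] at h1
    have h2 := hx.2 _ h1
    show (g : G) * x * (g : G)⁻¹ * k = k * (g * x * (g : G)⁻¹)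
    calc (g : G) * x * (g : G)⁻¹ * k = g * (x * ((g : G)⁻¹ * k * g)) * (g : G)⁻¹ := by group
      _ = k * (g * x * (g : G)⁻¹) := by rw [h2]; group
  have hcore : pPrimeCore 2 ↥(RR t K) = ⊥ := by
    have h3 := Lib.PComponents.map_pPrimeCore_le_of_isSubnormal (p := 2) hRRn.isSubnormal
    have h4 : pPrimeCore 2 ↥(centralizer ({t} : Set G)) = ⊥ := by
      have hb := C.bal t ht
      unfold centralizerPPrimeCore at hb
      exact (Subgroup.map_eq_bot_iff_of_injective _ (Subgroup.subtype_injective _)).1 hb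
    rw [h4, le_bot_iff, Subgroup.map_eq_bot_iff_of_injective _ (Subgroup.subtype_injective _)] at h3
    have e' : ↥((RR t K).subgroupOf (centralizer ({t} : Set G))) ≃* ↥(RR t K) :=
      Subgroup.subgroupOfEquivOfLe inf_le_left
    have h5 := Lib.Cores.map_equiv_pPrimeCore e' 2
    rw [h3, Subgroup.map_bot] at h5
    exact h5.symm
  have hmin : (Nat.card ↥(RR t K)).minFac = 2 := by
    rw [Nat.minFac_eq_two_iff]
    have : orderOf (⟨t, mem_RR.2 ⟨rfl, hle⟩⟩ : RR t K) = 2 := by rw [Subgroup.orderOf_mk]; exact ht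
    rw [← this]
    exact orderOf_dvd_natCard _
  have hSyl : ∀ P : Sylow 2 ↥(RR t K), IsCyclic P := by
    intro P
    have hle' : RR t K ≤ centralizer (K : Set G) := inf_le_right
    have h1 : IsPGroup 2 ((P : Subgroup (RR t K)).map (Subgroup.inclusion hle')) := P.isPGroup'.map _
    obtain ⟨Q, hQ⟩ := h1.exists_le_sylow
    have hQc := hcyc Q
    have h2 : IsCyclic ((P : Subgroup (RR t K)).map (Subgroup.inclusion hle')) :=
      isCyclic_of_injective (Subgroup.inclusion hQ) (Subgroup.inclusion_injective hQ)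
    exact isCyclic_of_injective
      ((P : Subgroup (RR t K)).equivMapOfInjective _ (Subgroup.inclusion_injective hle')).toMonoidHom
      (MulEquiv.injective _)
  obtain ⟨P⟩ : Nonempty (Sylow 2 ↥(RR t K)) := inferInstance
  have hPc := hSyl P
  have hcomp := IsCyclic.isComplement' hmin (P := P) hPc
  have hker : (MonoidHom.transferSylow P (hPc.normalizer_le_centralizer hmin)).ker = ⊥ := by
    rw [eq_bot_iff, ← hcore]
    refine Lib.Cores.le_pPrimeCore inferInstance ?_
    have h1 : Nat.card (MonoidHom.transferSylow P (hPc.normalizer_le_centralizer hmin)).ker =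
        (P : Subgroup ↥(RR t K)).index := by
      rw [hcomp.index_eq_card]
    rw [h1]
    exact (Nat.Prime.coprime_iff_not_dvd Nat.prime_two).2 P.not_dvd_index |>.symm
  rw [hker] at hcomp
  have hPtop : (P : Subgroup ↥(RR t K)) = ⊤ := isComplement'_bot_left.1 hcomp
  refine ⟨ht1, htt, htnK, hle, hnorm, huni, hodd, hz, ?_, ?_⟩
  · have h1 : IsCyclic (⊤ : Subgroup ↥(RR t K)) := by rw [← hPtop]; exact hPc
    exact isCyclic_of_injective (Subgroup.topEquiv.symm : ↥(RR t K) ≃* _).toMonoidHom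
      (MulEquiv.injective _)
  · have h1 : IsPGroup 2 (⊤ : Subgroup ↥(RR t K)) := by rw [← hPtop]; exact P.isPGroup'
    exact h1.of_injective (Subgroup.topEquiv.symm : ↥(RR t K) ≃* _).toMonoidHom (MulEquiv.injective _)

/-- an involution `t` as in `Front` exists -/
theorem exists_front (C : Ctx G) {K : Subgroup G} (S : IsStandardSubgroup K)
    (hcomp : ∃ t : G, orderOf t = 2 ∧ CompOf t K) (hcyc : Cyc K) {n : ℕ} (hn : 5 ≤ n)
    (e : ↥K ≃* ↥(alternatingGroup (Fin n))) : ∃ t : G, Front t K := by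
  obtain ⟨t, ht, h1, -⟩ := hcomp
  exact ⟨t, front_of C S hcyc hn e ht (mem_centralizer_iff.2 fun k hk =>
    mem_centralizer_singleton_iff.1 (h1 hk))⟩

namespace Front

variable {t : G} {K : Subgroup G}

/-- `t` is not a square in `C(K)`: `C_G(t) ∩ C_G(K) = ⟨t⟩` -/
theorem eq_of_mem_RR (F : Front t K) (h : ¬ ∃ r, (∀ k ∈ K, r * k = k * r) ∧ r * r = t) {x : G}
    (hx : x ∈ RR t K) : x = 1 ∨ x = t := by
  obtain ⟨hxt, hxK⟩ := mem_RR.1 hx
  obtain ⟨k, hk⟩ := (IsPGroup.iff_orderOf.1 F.p2) ⟨x, hx⟩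
  rcases Nat.lt_or_ge k 1 with h0 | h0
  · left
    obtain rfl : k = 0 := by omega
    rw [pow_zero, orderOf_eq_one_iff] at hk
    exact congrArg Subtype.val hk
  · -- the power `x ^ (2 ^ (k - 1))` is the involution `t`
    obtain ⟨m, rfl⟩ : ∃ m, k = m + 1 := ⟨k - 1, by omega⟩
    rw [Subgroup.orderOf_mk] at hk
    have h1 : x ^ (2 ^ m) * x ^ (2 ^ m) = 1 := by
      rw [← pow_add, ← two_mul, ← pow_succ', ← hk, pow_orderOf_eq_one]
    have hcomm : ∀ j : ℕ, x ^ j * t = t * x ^ j := fun j => ((show Commute x t from hxt).pow_left j).eq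
    have hcommK : ∀ j : ℕ, ∀ k ∈ K, x ^ j * k = k * x ^ j := fun j k hk =>
      ((show Commute x k from hxK k hk).pow_left j).eq
    rcases F.uni _ (hcomm _) (hcommK _) h1 with h2 | h2
    · exfalso
      have h3 := orderOf_dvd_of_pow_eq_one h2
      rw [hk, Nat.pow_dvd_pow_iff_le_right (by norm_num)] at h3
      omega
    · rcases Nat.eq_zero_or_pos m with rfl | hm
      · rw [pow_zero, pow_one] at h2
        exact Or.inr h2
      · exfalso
        obtain ⟨j, rfl⟩ : ∃ j, m = j + 1 := ⟨m - 1, by omega⟩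
        apply h
        refine ⟨x ^ (2 ^ j), hcommK _, ?_⟩
        rw [← pow_add, ← two_mul, ← pow_succ']
        exact h2

/-- with `four` -/
theorem fr (F : Front t K) (h : ∃ r, (∀ k ∈ K, r * k = k * r) ∧ r * r = t) : Fr t K :=
  ⟨F.t1, F.tt, F.tK, F.le, F.norm, F.uni, F.odd, h⟩

/-- `|R| = 2` for `n ≥ 7` -/
theorem not_four [Finite G] (F : Front t K) {n : ℕ} (hn : 7 ≤ n) (e : ↥K ≃* ↥(alternatingGroup (Fin n))) :
    ¬ ∃ r, (∀ k ∈ K, r * k = k * r) ∧ r * r = t :=
  fun h => (F.fr h).main_alt F.hz F.cyc hn e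

/-- `Gen t φ K` for `n ≥ 7` -/
theorem gen [Finite G] (F : Front t K) {n : ℕ} (hn : 7 ≤ n) (e : ↥K ≃* ↥(alternatingGroup (Fin n))) :
    ∃ φ : centralizer ({t} : Set G) →* Perm (Fin n), Gen t φ K := by
  have h4 := F.not_four hn e
  obtain ⟨L, hL⟩ := StdAlt.Lab.exists_lab n hn e
  have hN : ∀ x, x * t = t * x → x ∈ normalizer (K : Set G) := by
    intro x hx
    exact StdAlt.Conj.mem_N_of (F.norm x hx)
  have hN' : ∀ x : centralizer ({t} : Set G), (x : G) ∈ normalizer (K : Set G) := fun x =>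
    hN x (mem_centralizer_singleton_iff.1 x.2)
  let φ : centralizer ({t} : Set G) →* Perm (Fin n) :=
    { toFun := fun x => L.φ x
      map_one' := L.one
      map_mul' := fun x y => L.mul _ _ (hN' x) (hN' y) }
  have hφ : ∀ x : centralizer ({t} : Set G), φ x = L.φ x := fun _ => rfl
  have hker : ∀ g : centralizer ({t} : Set G), φ g = 1 ↔ (g : G) = 1 ∨ (g : G) = t := by
    intro g
    rw [hφ, L.ker _ (hN' g)]
    constructor
    · intro h
      apply F.eq_of_mem_RR h4
      rw [mem_RR]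
      exact ⟨mem_centralizer_singleton_iff.1 g.2, StdAlt.Conj.mem_C.1 h⟩
    · rintro (h | h)
      · rw [h]; exact one_mem _
      · rw [h]; exact StdAlt.Conj.mem_C.2 F.le
  have hle : K ≤ centralizer ({t} : Set G) := fun k hk =>
    mem_centralizer_singleton_iff.2 (F.le k hk).symm
  have hsurj : ∀ a ∈ An n, ∃ g : centralizer ({t} : Set G), (g : G) ∈ K ∧ φ g = a := by
    intro a ha
    obtain ⟨x, hx, hxa⟩ := L.lift a ha
    exact ⟨⟨x, hle hx⟩, hx, hxa⟩
  refine ⟨φ, F.tt, F.t1, hker, hle, F.norm, F.tK, hsurj, fun g hg => L.even _ hg, ?_⟩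
  intro g hg
  obtain ⟨x, hx, hxa⟩ := hsurj _ hg
  have h1 : φ (g * x⁻¹) = 1 := by rw [map_mul, map_inv, hxa, mul_inv_cancel]
  rcases (hker _).1 h1 with h2 | h2
  · left
    have h3 : (g : G) = x := mul_inv_eq_one.1 h2
    rw [h3]; exact hx
  · right
    have h3 : (g : G) * (x : G)⁻¹ = t := h2
    have h5 : (g : G) = t * x := mul_inv_eq_iff_eq_mul.1 h3
    rw [h5, ← mul_assoc, F.tt, one_mul]; exact hx

end Front

/-- **the front end** for `n ≥ 7` -/
theorem front_gen (C : Ctx G) {K : Subgroup G} (S : IsStandardSubgroup K)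
    (hcomp : ∃ t : G, orderOf t = 2 ∧ CompOf t K) (hcyc : Cyc K) {n : ℕ} (hn : 7 ≤ n)
    (e : ↥K ≃* ↥(alternatingGroup (Fin n))) :
    ∃ (t : G) (φ : centralizer ({t} : Set G) →* Perm (Fin n)), Front t K ∧ Gen t φ K := by
  have := C.fin
  obtain ⟨t, F⟩ := exists_front C S hcomp hcyc (by omega) e
  obtain ⟨φ, h⟩ := F.gen hn e
  exact ⟨t, φ, F, h⟩

end Cfsg.Agent.OddHalf.D5
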