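import Cfsg.Agent.OddHalf.D5.Sym.Final
import Cfsg.Agent.OddHalf.D5.DblClean
import Cfsg.Agent.OddHalf.D5.CleanTwo
import Cfsg.Agent.OddHalf.D5.IsoRow
import Cfsg.Agent.OddHalf.D5.Seven.Row
import Cfsg.Agent.OddHalf.D5.EightFinalA
import Cfsg.Agent.OddHalf.D5.EightFinalS

/-!
# ODD D5: all the rows `n ≥ 7`

`d5_of_six : SixRow → Intr → D5 (6 ≤ ·)`.
-/

set_option autoImplicit false

namespace Cfsg.Agent.OddHalf.D5

open Subgroup Equiv Cfsg Cfsg.Agent.OddHalf.Iface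

universe u

theorem isoRow : IsoRow.{u} (7 ≤ ·) := by
  intro G _ n t φ K hn R h
  have := R.ctx.fin
  exact h.false hn R.front.hz

theorem cleanRow9 : CleanRow.{u} (9 ≤ ·) := by
  intro G _ n t φ K hn R ι h hιK _
  have := R.ctx.fin
  have hn' : 9 ≤ n := hn
  have hK : ∀ c, ¬ IsConj t (ι c) := by
    intro c hc
    obtain ⟨g, hg⟩ := isConj_iff.1 hc
    apply R.disj g
    rw [hg]
    exact hιK c
  have hB := CleanTwo.exists_four_fin R.index (by omega) h hK
  obtain ⟨m, hm⟩ := Dbl.clean (α := Fin n) (by rw [Fintype.card_fin]; exact hn') h.tt h.inj h.comm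
    (fun g hg => h.cases hg) h.ne hK hB
  rw [R.hom m t] at hm
  exact absurd hm (by decide)

theorem cleanRow7 : CleanRow.{u} (7 ≤ ·) := CleanRow.of_three clean7 Eight.clean8 cleanRow9

theorem symRow7 : SymRow.{u} (7 ≤ ·) := SymRow.of_three sym7 Eight.sym8 Sym.symRow

/-- **D5 from `n = 6`** -/
theorem d5_of_six (h6 : SixRow.{u}) (I : Intr.{u}) : D5.{u} (fun n => 6 ≤ n) :=
  d5_of_rows isoRow cleanRow7 symRow7 h6 I

end Cfsg.Agent.OddHalf.D5
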