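import Cfsg.Agent.OddHalf.D5.QFrame

/-!
# ODD half, D5, `C(K)` cyclic of order at least four: the characters of `C(t)` which are `-1` on `q`
-/

set_option autoImplicit false
set_option linter.unusedSectionVars false

namespace Cfsg.Agent.OddHalf.D5.QFrame.Fr

open Equiv Equiv.Perm Subgroup

variable {G : Type*} [Group G] {α : Type*} [Fintype α] [DecidableEq α]
variable {k : ℕ} {t q : G} {e : alternatingGroup α →* G} {p : G → Perm α}

/-- the decomposition of an inner element is unique -/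
theorem uniq (F : Fr k t q e p) {i j : ℤ} {a b : alternatingGroup α} (h : q ^ i * e a = q ^ j * e b) :
    a = b ∧ q ^ i = q ^ j := by
  have h1 := congrArg p h
  rw [F.pm _ _ (F.ctq i) (F.et a), F.pm _ _ (F.ctq j) (F.et b), F.p_qz, F.p_qz, F.pe, F.pe, one_mul,
    one_mul] at h1
  have h2 : a = b := Subtype.ext h1
  refine ⟨h2, ?_⟩
  rw [h2] at h
  exact mul_right_cancel h

theorem qz_eq (F : Fr k t q e p) {i j : ℤ} : q ^ i = q ^ j ↔ (2 : ℤ) ^ (k + 1) ∣ i - j := by
  rw [← F.qz_eq_one, zpow_sub, mul_inv_eq_one]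

theorem pow_parity (F : Fr k t q e p) {i j : ℤ} (h : q ^ i = q ^ j) : (-1 : ℤˣ) ^ i = (-1 : ℤˣ) ^ j := by
  rw [F.qz_eq] at h
  obtain ⟨c, hc⟩ := h
  have h1 : i = j + 2 * (2 ^ k * c) := by rw [pow_succ] at hc; linarith
  rw [h1, zpow_add, zpow_mul]
  have : (-1 : ℤˣ) ^ (2 : ℤ) = 1 := by decide
  rw [this, one_zpow, mul_one]

theorem tn_inv {x : G} (hx : x * t = t * x) {y : G} (hy : y * t = t * y) : x * y * x⁻¹ * t = t * (x * y * x⁻¹) :=
  cm (cm hx hy) (ci hx)

open Classical in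
/-- parity of the `Q`-part -/
noncomputable def par (q : G) (e : alternatingGroup α →* G) (x : G) : ℤˣ :=
  if h : ∃ (i : ℤ) (a : alternatingGroup α), x = q ^ i * e a then (-1) ^ h.choose else 1

theorem par_eq (F : Fr k t q e p) (i : ℤ) (a : alternatingGroup α) : par q e (q ^ i * e a) = (-1) ^ i := by
  classical
  have h : ∃ (j : ℤ) (b : alternatingGroup α), q ^ i * e a = q ^ j * e b := ⟨i, a, rfl⟩
  unfold par
  rw [dif_pos h]
  obtain ⟨b, hb⟩ := h.choose_spec
  exact (F.pow_parity (F.uniq hb).2).symm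

theorem par_mul (F : Fr k t q e p) {x y : G} (hx : x * t = t * x) (hxs : sign (p x) = 1)
    (hy : y * t = t * y) (hys : sign (p y) = 1) : par q e (x * y) = par q e x * par q e y := by
  obtain ⟨i, a, rfl, -⟩ := F.inner hx hxs
  obtain ⟨j, b, rfl, -⟩ := F.inner hy hys
  have : q ^ i * e a * (q ^ j * e b) = q ^ (i + j) * e (a * b) := by
    calc q ^ i * e a * (q ^ j * e b) = q ^ i * (e a * q ^ j) * e b := by group
      _ = q ^ i * (q ^ j * e a) * e b := by rw [F.qez]
      _ = q ^ (i + j) * e (a * b) := by rw [zpow_add, map_mul]; group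
  rw [this, F.par_eq, F.par_eq, F.par_eq, zpow_add]

/-- the exponent of the action is odd -/
theorem exp_odd (F : Fr k t q e p) {x : G} {j : ℤ} (h : x * q * x⁻¹ = q ^ j) : Odd j := by
  by_contra hj
  rw [Int.not_odd_iff_even] at hj
  obtain ⟨c, hc⟩ := hj
  have h1 : (x * q * x⁻¹) ^ (2 ^ k) = 1 := by
    rw [h, ← zpow_natCast, ← zpow_mul, F.qz_eq_one, hc]
    exact ⟨c, by push_cast; rw [pow_succ]; ring⟩
  rw [conj_pow, F.qt] at h1
  apply F.t_ne
  calc t = x⁻¹ * (x * t * x⁻¹) * x := by group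
    _ = 1 := by rw [h1]; group

theorem par_conj (F : Fr k t q e p) {x y : G} (hx : x * t = t * x) (hy : y * t = t * y)
    (hys : sign (p y) = 1) : par q e (x * y * x⁻¹) = par q e y := by
  obtain ⟨i, a, rfl, -⟩ := F.inner hy hys
  obtain ⟨j, hj⟩ := F.norm hx
  have h1 : x * (q ^ i * e a) * x⁻¹ = q ^ (j * i) * e (cj (p x) a) := by
    calc x * (q ^ i * e a) * x⁻¹ = (x * q ^ i * x⁻¹) * (x * e a * x⁻¹) := by group
      _ = q ^ (j * i) * e (cj (p x) a) := by rw [← conj_zpow, hj, F.pc x hx, ← zpow_mul]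
  rw [h1, F.par_eq, F.par_eq]
  obtain ⟨c, hc⟩ := F.exp_odd hj
  have h2 : j * i = i + 2 * (c * i) := by rw [hc]; ring
  rw [h2, zpow_add, zpow_mul]
  have : (-1 : ℤˣ) ^ (2 : ℤ) = 1 := by decide
  rw [this, one_zpow, mul_one]

theorem sign_one_or (x : G) (p : G → Perm α) : sign (p x) = 1 ∨ sign (p x) = -1 :=
  Int.units_eq_one_or _

/-- the square of an outer element not commuting with `q` -/
theorem par_sq (F : Fr k t q e p) {s : G} (hs : s * t = t * s) (hss : sign (p s) = -1)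
    (hsq : s * q ≠ q * s) : par q e (s * s) = 1 := by
  have hs2 : sign (p (s * s)) = 1 := by rw [F.pm _ _ hs hs, map_mul, hss]; decide
  obtain ⟨l, c, hl, -⟩ := F.inner (cm hs hs) hs2
  obtain ⟨j, hj⟩ := F.norm hs
  have h1 : s * (q ^ l * e c) * s⁻¹ = q ^ l * e c := by rw [← hl]; group
  have h2 : s * (q ^ l * e c) * s⁻¹ = q ^ (j * l) * e (cj (p s) c) := by
    calc s * (q ^ l * e c) * s⁻¹ = (s * q ^ l * s⁻¹) * (s * e c * s⁻¹) := by group
      _ = q ^ (j * l) * e (cj (p s) c) := by rw [← conj_zpow, hj, F.pc s hs, ← zpow_mul]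
  rw [h2] at h1
  have h3 := (F.uniq h1).2
  rw [hl, F.par_eq]
  rcases Int.even_or_odd l with h4 | h4
  · exact h4.neg_one_zpow
  · exfalso
    rw [F.qz_eq] at h3
    have h5 : (2 : ℤ) ^ (k + 1) ∣ (j - 1) * l := by
      have : (j - 1) * l = j * l - l := by ring
      rw [this]; exact h3
    have h6 : IsCoprime ((2 : ℤ) ^ (k + 1)) l := by
      apply IsCoprime.pow_left
      obtain ⟨c, hc⟩ := h4
      exact ⟨-c, 1, by rw [hc]; ring⟩
    have h7 := h6.dvd_of_dvd_mul_right h5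
    have h8 : q ^ j = q ^ (1 : ℤ) := F.qz_eq.2 h7
    rw [h8, zpow_one, mul_inv_eq_iff_eq_mul] at hj
    exact hsq hj

open Classical in
/-- the function of the character -/
noncomputable def chf (q s : G) (e : alternatingGroup α →* G) (p : G → Perm α) (x : G) : ℤˣ :=
  if sign (p x) = 1 then par q e x else par q e (s⁻¹ * x)

/-- **The character** with `q ↦ -1`, `s ↦ 1`, trivial on `K`. -/
theorem exists_char (F : Fr k t q e p) {s : G} (hs : s * t = t * s) (hss : sign (p s) = -1)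
    (hsq : s * q ≠ q * s) : ∃ l : centralizer ({t} : Set G) →* ℤˣ,
      (∀ (i : ℤ) (a : alternatingGroup α) (h : q ^ i * e a ∈ centralizer ({t} : Set G)),
        l ⟨q ^ i * e a, h⟩ = (-1) ^ i) ∧
      (∀ (i : ℤ) (a : alternatingGroup α) (h : s * (q ^ i * e a) ∈ centralizer ({t} : Set G)),
        l ⟨s * (q ^ i * e a), h⟩ = (-1) ^ i) := by
  have hsi : sign (p s⁻¹) = -1 := by rw [F.p_inv hs, map_inv, hss]; decide
  have key : ∀ x y : G, x * t = t * x → y * t = t * y →
      chf q s e p (x * y) = chf q s e p x * chf q s e p y := by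
    intro x y hx hy
    have hsx : s⁻¹ * x * t = t * (s⁻¹ * x) := cm (ci hs) hx
    have hsy : s⁻¹ * y * t = t * (s⁻¹ * y) := cm (ci hs) hy
    unfold chf
    rcases sign_one_or x p with h1 | h1 <;> rcases sign_one_or y p with h2 | h2
    · have h3 : sign (p (x * y)) = 1 := by rw [F.pm _ _ hx hy, map_mul, h1, h2, one_mul]
      rw [if_pos h3, if_pos h1, if_pos h2, F.par_mul hx h1 hy h2]
    · have h3 : sign (p (x * y)) = -1 := by rw [F.pm _ _ hx hy, map_mul, h1, h2, one_mul]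
      have h4 : sign (p (s⁻¹ * y)) = 1 := by rw [F.pm _ _ (ci hs) hy, map_mul, hsi, h2]; decide
      have h5 : sign (p (s⁻¹ * x * s⁻¹⁻¹)) = 1 := by
        rw [F.pm _ _ hsx (ci (ci hs)), F.pm _ _ (ci hs) hx, F.p_inv (ci hs), map_mul, map_mul, map_inv,
          h1, mul_one, mul_inv_cancel]
      rw [if_neg (by rw [h3]; decide), if_pos h1, if_neg (by rw [h2]; decide)]
      have h6 : s⁻¹ * (x * y) = s⁻¹ * x * s⁻¹⁻¹ * (s⁻¹ * y) := by group
      rw [h6, F.par_mul (tn_inv (ci hs) hx) h5 hsy h4, F.par_conj (ci hs) hx h1]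
    · have h3 : sign (p (x * y)) = -1 := by rw [F.pm _ _ hx hy, map_mul, h1, h2, mul_one]
      have h4 : sign (p (s⁻¹ * x)) = 1 := by rw [F.pm _ _ (ci hs) hx, map_mul, hsi, h1]; decide
      rw [if_neg (by rw [h3]; decide), if_pos h2, if_neg (by rw [h1]; decide)]
      have h6 : s⁻¹ * (x * y) = s⁻¹ * x * y := by group
      rw [h6, F.par_mul hsx h4 hy h2]
    · have h3 : sign (p (x * y)) = 1 := by rw [F.pm _ _ hx hy, map_mul, h1, h2]; decide
      have h4 : sign (p (s⁻¹ * x)) = 1 := by rw [F.pm _ _ (ci hs) hx, map_mul, hsi, h1]; decide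
      have h4' : sign (p (s⁻¹ * y)) = 1 := by rw [F.pm _ _ (ci hs) hy, map_mul, hsi, h2]; decide
      have h5 : sign (p (s⁻¹ * (s⁻¹ * x) * s⁻¹⁻¹)) = 1 := by
        rw [F.pm _ _ (cm (ci hs) hsx) (ci (ci hs)), F.pm _ _ (ci hs) hsx, F.p_inv (ci hs), map_mul, map_mul,
          map_inv, h4, mul_one, mul_inv_cancel]
      have h7 : sign (p (s * s)) = 1 := by rw [F.pm _ _ hs hs, map_mul, hss]; decide
      rw [if_pos h3, if_neg (by rw [h1]; decide), if_neg (by rw [h2]; decide)]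
      have h6 : x * y = s * s * (s⁻¹ * (s⁻¹ * x) * s⁻¹⁻¹ * (s⁻¹ * y)) := by group
      have h8 : sign (p (s⁻¹ * (s⁻¹ * x) * s⁻¹⁻¹ * (s⁻¹ * y))) = 1 := by
        rw [F.pm _ _ (tn_inv (ci hs) hsx) hsy, map_mul, h5, h4', one_mul]
      rw [h6, F.par_mul (cm hs hs) h7 (cm (tn_inv (ci hs) hsx) hsy) h8, F.par_sq hs hss hsq, one_mul,
        F.par_mul (tn_inv (ci hs) hsx) h5 hsy h4', F.par_conj (ci hs) hsx h4]
  refine ⟨MonoidHom.mk' (fun x => chf q s e p x) (fun x y => key _ _ (mem_centralizer_singleton_iff.1 x.2)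
    (mem_centralizer_singleton_iff.1 y.2)), ?_, ?_⟩
  · intro i a h
    change chf q s e p (q ^ i * e a) = _
    have h1 : sign (p (q ^ i * e a)) = 1 := by
      rw [F.pm _ _ (F.ctq i) (F.et a), F.p_qz, one_mul, F.pe]; exact mem_alternatingGroup.1 a.2
    unfold chf
    rw [if_pos h1, F.par_eq]
  · intro i a h
    change chf q s e p (s * (q ^ i * e a)) = _
    have h1 : sign (p (s * (q ^ i * e a))) = -1 := by
      rw [F.pm _ _ hs (cm (F.ctq i) (F.et a)), F.pm _ _ (F.ctq i) (F.et a), F.p_qz, one_mul, F.pe,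
        map_mul, hss, mem_alternatingGroup.1 a.2, mul_one]
    unfold chf
    rw [if_neg (by rw [h1]; decide), inv_mul_cancel_left, F.par_eq]

end Cfsg.Agent.OddHalf.D5.QFrame.Fr
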