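import Cfsg.Agent.OddHalf.D5.QKill
import Cfsg.Agent.OddHalf.Front.FE
import Cfsg.Agent.StandardComponent.AltAut

/-!
# ODD half, D5: `K = A_n`, `n ≥ 7`: `C(K) ∩ C(t) = ⟨t⟩`

`exists_base`: from the hypotheses of the node D5, `n ≥ 7`, an involution `t`, the embedding `e : A_n → G` with
image `K` and the action `p : C_G(t) → S_n` with kernel `⟨t⟩`.
-/

set_option autoImplicit false

namespace Cfsg.Agent.OddHalf.D5.QFinal

open Equiv Equiv.Perm Subgroup Cfsg.Agent.OddHalf.D5.QFrame

universe u

/-- The frame with `C(K) ∩ C(t) = ⟨t⟩`. -/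
structure Base {G : Type*} [Group G] {α : Type*} [Fintype α] [DecidableEq α] (t : G)
    (e : alternatingGroup α →* G) (p : G → Perm α) : Prop where
  c7 : 7 ≤ Fintype.card α
  tt : t * t = 1
  t1 : t ≠ 1
  inj : Function.Injective e
  et : ∀ a, e a * t = t * e a
  pe : ∀ a, p (e a) = a
  pt : p t = 1
  pm : ∀ x y, x * t = t * x → y * t = t * y → p (x * y) = p x * p y
  pc : ∀ x, x * t = t * x → ∀ a, x * e a * x⁻¹ = e (cj (p x) a)
  ker : ∀ x, x * t = t * x → p x = 1 → x = 1 ∨ x = t

/-- the centralizer of `A_n` in `S_n`, `n ≥ 4`, is trivial -/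
theorem eq_of_conj {n : ℕ} (hn : 7 ≤ n) {σ τ : Perm (Fin n)}
    (h : ∀ a : alternatingGroup (Fin n), σ * (a : Perm (Fin n)) * σ⁻¹ = τ * a * τ⁻¹) : σ = τ := by
  obtain ⟨m, rfl⟩ : ∃ m, n = m + 2 := ⟨n - 2, by omega⟩
  exact StandardComponent.AltAut.conj_unique (m := m) (by omega) h

theorem exists_data {G : Type u} [Group G] [Finite G] {K : Subgroup G} {t q : G}
    (h : Front.FE.Start K t q) {n : ℕ} (hn : 7 ≤ n) (φ : ↥K ≃* ↥(alternatingGroup (Fin n))) :
    ∃ (e : alternatingGroup (Fin n) →* G) (p : G → Perm (Fin n)), Function.Injective e ∧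
      e.range = K ∧ (∀ a, e a * t = t * e a) ∧ (∀ a, e a * q = q * e a) ∧ (∀ a, p (e a) = a) ∧
      (∀ y ∈ zpowers q, p y = 1) ∧
      (∀ x y, x * t = t * x → y * t = t * y → p (x * y) = p x * p y) ∧
      (∀ x, x * t = t * x → ∀ a, x * e a * x⁻¹ = e (cj (p x) a)) ∧
      ∀ x, x * t = t * x → p x = 1 → x ∈ zpowers q := by
  classical
  set e : alternatingGroup (Fin n) →* G := K.subtype.comp φ.symm.toMonoidHom with he
  have heK : ∀ a, e a ∈ K := fun a => (φ.symm a).2
  have hinj : Function.Injective e := by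
    intro a b hab
    exact φ.symm.injective (Subtype.ext hab)
  have hrange : e.range = K := by
    ext x
    constructor
    · rintro ⟨a, rfl⟩; exact heK a
    · intro hx
      refine ⟨φ ⟨x, hx⟩, ?_⟩
      show ((φ.symm (φ ⟨x, hx⟩) : ↥K) : G) = x
      rw [MulEquiv.symm_apply_apply]
  obtain ⟨ψ, hψ⟩ := StandardComponent.AltAut.exists_autHom n hn
  -- existence of the permutation
  have hex : ∀ x : G, x * t = t * x → ∃ σ : Perm (Fin n), ∀ a, x * e a * x⁻¹ = e (cj σ a) := by
    intro x hx
    have hxN := h.nK x hx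
    set f1 : MulAut ↥K := MulAut.conjNormal (H := K.subgroupOf (normalizer (K : Set G)))
      ⟨x, hxN⟩ |>.trans (MulEquiv.refl _) |> fun g =>
        ((subgroupOfEquivOfLe (le_normalizer (H := K))).symm.trans g).trans
          (subgroupOfEquivOfLe (le_normalizer (H := K))) with hf1
    have hf1a : ∀ y : ↥K, ((f1 y : ↥K) : G) = x * y * x⁻¹ := by
      intro y
      rfl
    refine ⟨ψ ((φ.symm.trans f1).trans φ), ?_⟩
    intro a
    have h1 := hψ ((φ.symm.trans f1).trans φ) a
    have h2 : cj (ψ ((φ.symm.trans f1).trans φ)) a = φ (f1 (φ.symm a)) := Subtype.ext h1.symm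
    rw [h2]
    show x * ((φ.symm a : ↥K) : G) * x⁻¹ = ((φ.symm (φ (f1 (φ.symm a))) : ↥K) : G)
    rw [MulEquiv.symm_apply_apply, hf1a]
  set p : G → Perm (Fin n) := fun x => if hx : x * t = t * x then (hex x hx).choose else 1 with hp
  have hpc : ∀ x, x * t = t * x → ∀ a, x * e a * x⁻¹ = e (cj (p x) a) := by
    intro x hx
    simp only [hp]
    rw [dif_pos hx]
    exact (hex x hx).choose_spec
  have hu : ∀ x (σ : Perm (Fin n)), x * t = t * x → (∀ a, x * e a * x⁻¹ = e (cj σ a)) → p x = σ := by
    intro x σ hx hσ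
    apply eq_of_conj hn
    intro a
    have h1 := (hpc x hx a).symm.trans (hσ a)
    exact congrArg Subtype.val (hinj h1)
  have het : ∀ a, e a * t = t * e a := fun a => h.Kt _ (heK a)
  refine ⟨e, p, hinj, hrange, het, fun a => h.qK _ (heK a), ?_, ?_, ?_, hpc, ?_⟩
  · intro a
    apply hu _ _ (het a)
    intro b
    rw [← map_inv, ← map_mul, ← map_mul]
    congr 1
  · intro y hy
    apply hu _ _ (h.Qt y hy)
    intro b
    have h1 : cj (1 : Perm (Fin n)) b = b := by
      apply Subtype.ext
      rw [coe_cj, one_mul, inv_one, mul_one]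
    rw [h1, ← h.QK y hy _ (heK b), mul_inv_cancel_right]
  · intro x y hx hy
    apply hu _ _ (Fr.cm hx hy)
    intro a
    have h1 : cj (p x * p y) a = cj (p x) (cj (p y) a) := by
      apply Subtype.ext
      simp only [coe_cj]
      group
    rw [h1, ← hpc x hx, ← hpc y hy]
    group
  · intro x hx hpx
    apply h.cK x hx
    intro y hy
    rw [← hrange] at hy
    obtain ⟨a, rfl⟩ := hy
    have h1 := hpc x hx a
    rw [hpx] at h1
    have h2 : cj (1 : Perm (Fin n)) a = a := by
      apply Subtype.ext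
      rw [coe_cj, one_mul, inv_one, mul_one]
    rw [h2, mul_inv_eq_iff_eq_mul] at h1
    exact h1.symm

/-- **The starting position of D5, `n ≥ 7`: `C(K) ∩ C(t) = ⟨t⟩`.** -/
theorem exists_base {G : Type u} [Group G] (C : Iface.Ctx G) {K : Subgroup G} (S : Iface.Std G K)
    (hcyc : Iface.Cyc K) {n : ℕ} (hn : 7 ≤ n) (φ : ↥K ≃* ↥(alternatingGroup (Fin n))) :
    ∃ (t : G) (e : alternatingGroup (Fin n) →* G) (p : G → Perm (Fin n)), Base t e p ∧ e.range = K ∧
      Front.FE.Start K t t := by
  have := C.fin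
  -- the centre of `K`
  have hcen : center ↥K = ⊥ := by
    have h5 : IsSimpleGroup ↥(alternatingGroup (Fin n)) :=
      alternatingGroup.isSimpleGroup (by rw [Nat.card_eq_fintype_card, Fintype.card_fin]; omega)
    have h6 : IsSimpleGroup ↥K := φ.isSimpleGroup
    have h7 : (center ↥K).Normal := inferInstance
    rcases h7.eq_bot_or_eq_top with h8 | h8
    · exact h8
    · exfalso
      have h10 : Nontrivial (↥K ⧸ center ↥K) := S.simple.toNontrivial
      have h11 : Subsingleton (↥K ⧸ center ↥K) := by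
        rw [h8]; exact QuotientGroup.subsingleton_quotient_top
      exact not_subsingleton _ h11
  obtain ⟨t, q, h⟩ := Front.FE.exists_start C S hcyc hcen
  obtain ⟨e, p, hinj, hrange, het, heq, hpe, hpq, hpm, hpc, hker⟩ := exists_data h hn φ
  obtain ⟨m, hm⟩ := (IsPGroup.iff_card.1 h.pQ)
  rw [Nat.card_zpowers] at hm
  have hm1 : m = 1 := by
    by_contra hne
    have hm0 : m ≠ 0 := by
      rintro rfl
      rw [pow_zero, orderOf_eq_one_iff] at hm
      have h1 := h.tQ
      rw [hm, zpowers_one_eq_bot, mem_bot] at h1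
      exact h.t1 h1
    obtain ⟨k, rfl⟩ : ∃ k, m = k + 1 := ⟨m - 1, by omega⟩
    have hk : 1 ≤ k := by omega
    have hqk : q ^ (2 ^ k) = t := by
      apply h.toStart0.uniq (pow_mem (mem_zpowers q) _)
      · rw [← pow_add, ← two_mul, ← pow_succ', ← hm, pow_orderOf_eq_one]
      · intro h1
        have h2 := orderOf_dvd_of_pow_eq_one h1
        rw [hm] at h2
        have h3 := Nat.pow_dvd_pow_iff_le_right (Nat.one_lt_two) |>.1 h2
        omega
    have F : Fr k t q e p :=
      { c7 := by rw [Fintype.card_fin]; exact hn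
        k1 := hk
        ord := hm
        qt := hqk
        inj := hinj
        et := het
        qe := heq
        pe := hpe
        pq := hpq q (mem_zpowers q)
        pm := hpm
        pc := hpc
        ker := hker }
    exact F.false_of_simple (Front.FE.commutator_eq_top C) (Front.FE.index_ne_two C)
  rw [hm1, pow_one] at hm
  have hqt : q = t := by
    apply h.toStart0.uniq (mem_zpowers q)
    · rw [← pow_two, ← hm, pow_orderOf_eq_one]
    · intro h1
      rw [h1, orderOf_one] at hm
      exact absurd hm (by decide)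
  subst hqt
  refine ⟨q, e, p, ?_, hrange, h⟩
  exact
    { c7 := by rw [Fintype.card_fin]; exact hn
      tt := h.tt
      t1 := h.t1
      inj := hinj
      et := het
      pe := hpe
      pt := hpq q (mem_zpowers q)
      pm := hpm
      pc := hpc
      ker := by
        intro x hx hpx
        obtain ⟨i, rfl⟩ := mem_zpowers_iff.1 (hker x hx hpx)
        rcases Int.even_or_odd i with ⟨c, hc⟩ | ⟨c, hc⟩
        · left
          rw [hc, ← two_mul, zpow_mul, zpow_two, h.tt, one_zpow]
        · right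
          rw [hc, zpow_add, zpow_mul, zpow_two, h.tt, one_zpow, one_mul, zpow_one] }

end Cfsg.Agent.OddHalf.D5.QFinal
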