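import Mathlib

/-!
# ODD half, D5, `C(K)` cyclic of order at least four: the frame

`t` an involution of `G`, `K = e(A_n)`, `n ≥ 7`, normal in `C_G(t)`, `C_{C(t)}(K) = ⟨q⟩` of order `2^(k+1) ≥ 4`
with `q^(2^k) = t`; `p : C_G(t) → S_n` the action on `K`.
-/

set_option autoImplicit false

namespace Cfsg.Agent.OddHalf.D5.QFrame

open Equiv Equiv.Perm

variable {G : Type*} [Group G] {α : Type*} [Fintype α] [DecidableEq α]

/-- conjugation of an even permutation -/
def cj (σ : Perm α) (a : alternatingGroup α) : alternatingGroup α :=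
  ⟨σ * a * σ⁻¹, by
    have ha := a.2
    rw [mem_alternatingGroup] at ha ⊢
    rw [map_mul, map_mul, map_inv, ha, mul_one, mul_inv_cancel]⟩

@[simp] theorem coe_cj (σ : Perm α) (a : alternatingGroup α) : (cj σ a : Perm α) = σ * a * σ⁻¹ := rfl

/-- The frame. -/
structure Fr (k : ℕ) (t q : G) (e : alternatingGroup α →* G) (p : G → Perm α) : Prop where
  c7 : 7 ≤ Fintype.card α
  k1 : 1 ≤ k
  ord : orderOf q = 2 ^ (k + 1)
  qt : q ^ (2 ^ k) = t
  inj : Function.Injective e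
  et : ∀ a, e a * t = t * e a
  qe : ∀ a, e a * q = q * e a
  pe : ∀ a, p (e a) = a
  pq : p q = 1
  pm : ∀ x y, x * t = t * x → y * t = t * y → p (x * y) = p x * p y
  pc : ∀ x, x * t = t * x → ∀ a, x * e a * x⁻¹ = e (cj (p x) a)
  ker : ∀ x, x * t = t * x → p x = 1 → x ∈ Subgroup.zpowers q

namespace Fr

variable {k : ℕ} {t q : G} {e : alternatingGroup α →* G} {p : G → Perm α}

theorem qtc (F : Fr k t q e p) : q * t = t * q := by
  rw [← F.qt, ← pow_succ', ← pow_succ]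

theorem t_ne (F : Fr k t q e p) : t ≠ 1 := by
  intro h
  have h1 : orderOf q ∣ 2 ^ k := by
    rw [orderOf_dvd_iff_pow_eq_one, F.qt, h]
  rw [F.ord] at h1
  have h2 := Nat.le_of_dvd (by positivity) h1
  rw [pow_succ] at h2
  have : 0 < 2 ^ k := by positivity
  omega

theorem tt (F : Fr k t q e p) : t * t = 1 := by
  rw [← F.qt, ← pow_add, ← two_mul, ← pow_succ', ← F.ord, pow_orderOf_eq_one]

/-- the subgroup `C_G(t)`, elementwise closure -/
theorem cm {x y : G} (hx : x * t = t * x) (hy : y * t = t * y) : x * y * t = t * (x * y) := by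
  rw [mul_assoc, hy, ← mul_assoc, hx, mul_assoc]

theorem ci {x : G} (hx : x * t = t * x) : x⁻¹ * t = t * x⁻¹ := by
  calc x⁻¹ * t = x⁻¹ * (t * x) * x⁻¹ := by group
    _ = x⁻¹ * (x * t) * x⁻¹ := by rw [hx]
    _ = t * x⁻¹ := by group

theorem cp {x : G} (hx : x * t = t * x) (i : ℕ) : x ^ i * t = t * x ^ i := by
  induction i with
  | zero => simp
  | succ i ih => rw [pow_succ]; exact cm ih hx

theorem cz {x : G} (hx : x * t = t * x) (i : ℤ) : x ^ i * t = t * x ^ i := by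
  cases i with
  | ofNat i => rw [Int.ofNat_eq_natCast, zpow_natCast]; exact cp hx i
  | negSucc i => rw [zpow_negSucc]; exact ci (cp hx _)

theorem p_one (F : Fr k t q e p) : p 1 = 1 := by
  have h := F.pm 1 1 (by simp) (by simp)
  rw [mul_one] at h
  exact left_eq_mul.1 h

theorem p_inv (F : Fr k t q e p) {x : G} (hx : x * t = t * x) : p x⁻¹ = (p x)⁻¹ := by
  have h := F.pm x x⁻¹ hx (ci hx)
  rw [mul_inv_cancel, F.p_one] at h
  exact (inv_eq_of_mul_eq_one_right h.symm).symm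

theorem p_pow (F : Fr k t q e p) {x : G} (hx : x * t = t * x) (i : ℕ) : p (x ^ i) = p x ^ i := by
  induction i with
  | zero => rw [pow_zero, pow_zero]; exact F.p_one
  | succ i ih => rw [pow_succ, pow_succ, F.pm _ _ (cp hx i) hx, ih]

theorem p_zpow (F : Fr k t q e p) {x : G} (hx : x * t = t * x) (i : ℤ) : p (x ^ i) = p x ^ i := by
  cases i with
  | ofNat i => rw [Int.ofNat_eq_natCast, zpow_natCast, zpow_natCast]; exact F.p_pow hx i
  | negSucc i => rw [zpow_negSucc, zpow_negSucc, F.p_inv (cp hx _), F.p_pow hx]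

theorem p_qz (F : Fr k t q e p) (i : ℤ) : p (q ^ i) = 1 := by
  rw [F.p_zpow F.qtc, F.pq, one_zpow]

theorem p_t (F : Fr k t q e p) : p t = 1 := by
  rw [← F.qt, F.p_pow F.qtc, F.pq, one_pow]

theorem ctq (F : Fr k t q e p) (i : ℤ) : q ^ i * t = t * q ^ i := cz F.qtc i

theorem qez (F : Fr k t q e p) (i : ℤ) (a : alternatingGroup α) : e a * q ^ i = q ^ i * e a :=
  ((show Commute (e a) q from F.qe a).zpow_right i)

/-- inner elements -/
theorem inner (F : Fr k t q e p) {x : G} (hx : x * t = t * x) (hs : sign (p x) = 1) :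
    ∃ (i : ℤ) (a : alternatingGroup α), x = q ^ i * e a ∧ (a : Perm α) = p x := by
  have ha : p x ∈ alternatingGroup α := mem_alternatingGroup.2 hs
  have h1 : x * (e ⟨p x, ha⟩)⁻¹ * t = t * (x * (e ⟨p x, ha⟩)⁻¹) := cm hx (ci (F.et _))
  have h2 : p (x * (e ⟨p x, ha⟩)⁻¹) = 1 := by
    rw [F.pm _ _ hx (ci (F.et _)), F.p_inv (F.et _), F.pe, mul_inv_cancel]
  obtain ⟨i, hi⟩ := Subgroup.mem_zpowers_iff.1 (F.ker _ h1 h2)
  exact ⟨i, ⟨p x, ha⟩, by rw [hi, inv_mul_cancel_right], rfl⟩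

theorem inner_comm (F : Fr k t q e p) {x : G} (hx : x * t = t * x) (hs : sign (p x) = 1) :
    x * q = q * x := by
  obtain ⟨i, a, rfl, -⟩ := F.inner hx hs
  calc q ^ i * e a * q = q ^ i * (e a * q) := by group
    _ = q ^ i * (q * e a) := by rw [F.qe]
    _ = q * (q ^ i * e a) := by group

/-- `⟨q⟩` is normal in `C(t)` -/
theorem norm (F : Fr k t q e p) {x : G} (hx : x * t = t * x) : ∃ j : ℤ, x * q * x⁻¹ = q ^ j := by
  have h2 : p (x * q * x⁻¹) = 1 := by
    rw [F.pm _ _ (cm hx F.qtc) (ci hx), F.pm _ _ hx F.qtc, F.pq, F.p_inv hx, mul_one, mul_inv_cancel]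
  obtain ⟨j, hj⟩ := Subgroup.mem_zpowers_iff.1 (F.ker _ (cm (cm hx F.qtc) (ci hx)) h2)
  exact ⟨j, hj.symm⟩

/-- `q ^ i = 1` -/
theorem qz_eq_one (F : Fr k t q e p) {i : ℤ} : q ^ i = 1 ↔ ((2 : ℤ) ^ (k + 1)) ∣ i := by
  rw [← orderOf_dvd_iff_zpow_eq_one, F.ord]
  norm_cast

/-- involutions of `⟨q⟩` -/
theorem qz_sq (F : Fr k t q e p) {i : ℤ} (h : q ^ i * q ^ i = 1) : q ^ i = 1 ∨ q ^ i = t := by
  rw [← zpow_add, F.qz_eq_one, ← two_mul, pow_succ'] at h
  have h1 : (2 : ℤ) ^ k ∣ i := by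
    rcases h with ⟨c, hc⟩
    exact ⟨c, by
      have : (2 : ℤ) * i = 2 * (2 ^ k * c) := by rw [hc]; ring
      exact mul_left_cancel₀ two_ne_zero this⟩
  obtain ⟨c, rfl⟩ := h1
  have h2 : q ^ ((2 : ℤ) ^ k * c) = t ^ c := by
    rw [zpow_mul, ← F.qt]
    congr 1
    rw [← zpow_natCast]; norm_cast
  rw [h2]
  have h3 : t ^ (2 : ℤ) = 1 := by rw [zpow_two]; exact F.tt
  rcases Int.even_or_odd c with ⟨d, rfl⟩ | ⟨d, rfl⟩
  · left
    rw [← two_mul, zpow_mul, h3, one_zpow]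
  · right
    rw [zpow_add, zpow_mul, h3, one_zpow, one_mul, zpow_one]

/-- elements of odd order of `C(t)` lie in `K` -/
theorem odd_mem (F : Fr k t q e p) {x : G} (hx : x * t = t * x) {m : ℕ} (hm : Odd m) (h : x ^ m = 1) :
    ∃ a, x = e a := by
  have hs : sign (p x) = 1 := by
    have h1 : sign (p x) ^ m = 1 := by rw [← map_pow, ← F.p_pow hx, h, F.p_one, map_one]
    rcases Int.units_eq_one_or (sign (p x)) with h2 | h2
    · exact h2
    · rw [h2, hm.neg_one_pow] at h1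
      exact absurd h1 (by decide)
  obtain ⟨i, a, rfl, ha⟩ := F.inner hx hs
  have hc : Commute (q ^ i) (e a) := (F.qez i a).symm
  rw [hc.mul_pow] at h
  have h2 : (q ^ i) ^ m = 1 := by
    have h3 : p ((q ^ i) ^ m * e a ^ m) = 1 := by rw [h, F.p_one]
    rw [F.pm _ _ (cp (F.ctq i) m) (cp (F.et a) m), F.p_pow (F.ctq i), F.p_qz, one_pow, one_mul,
      F.p_pow (F.et a), F.pe] at h3
    have h4 : a ^ m = 1 := by
      apply Subtype.ext
      rw [Subgroup.coe_pow, h3]; rfl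
    rwa [← map_pow, h4, map_one, mul_one] at h
  have h3 : q ^ i = 1 := by
    rw [← zpow_natCast, ← zpow_mul, F.qz_eq_one] at h2
    rw [F.qz_eq_one]
    have h4 : IsCoprime ((2 : ℤ) ^ (k + 1)) (m : ℤ) := by
      apply IsCoprime.pow_left
      obtain ⟨c, hc⟩ := hm
      exact ⟨-c, 1, by rw [hc]; push_cast; ring⟩
    exact h4.dvd_of_dvd_mul_right h2
  exact ⟨a, by rw [h3, one_mul]⟩

/-- the element of order four of `⟨q⟩` -/
def f (q : G) (k : ℕ) : G := q ^ (2 ^ (k - 1))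

theorem ff (F : Fr k t q e p) : f q k * f q k = t := by
  have h := F.k1
  unfold f
  rw [← pow_add, ← two_mul, ← pow_succ']
  have : k - 1 + 1 = k := by omega
  rw [this, F.qt]

theorem ftc (F : Fr k t q e p) : f q k * t = t * f q k := cp F.qtc _

theorem p_f (F : Fr k t q e p) : p (f q k) = 1 := by
  unfold f
  rw [F.p_pow F.qtc, F.pq, one_pow]

theorem fe (F : Fr k t q e p) (a : alternatingGroup α) : e a * f q k = f q k * e a :=
  ((show Commute (e a) q from F.qe a).pow_right _)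

theorem finv (F : Fr k t q e p) : (f q k)⁻¹ = t * f q k := by
  rw [inv_eq_iff_mul_eq_one]
  calc f q k * (t * f q k) = f q k * (f q k * t) := by rw [F.ftc]
    _ = t * t := by rw [← mul_assoc, F.ff]
    _ = 1 := F.tt

/-- `C(t)` normalises `⟨f⟩` -/
theorem normf (F : Fr k t q e p) {x : G} (hx : x * t = t * x) :
    x * f q k * x⁻¹ = f q k ∨ x * f q k * x⁻¹ = (f q k)⁻¹ := by
  obtain ⟨j, hj⟩ := F.norm hx
  have h1 : x * f q k * x⁻¹ = (f q k) ^ j := by
    have h2 : x * f q k * x⁻¹ = (x * q * x⁻¹) ^ (2 ^ (k - 1)) := by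
      unfold f; rw [conj_pow]
    rw [h2, hj]
    unfold f
    rw [← zpow_natCast, ← zpow_natCast, ← zpow_mul, ← zpow_mul, mul_comm]
  have h6 : (f q k) ^ (2 : ℤ) = t := by rw [zpow_two, F.ff]
  have h4 : (f q k) ^ (4 : ℤ) = 1 := by
    have : (4 : ℤ) = 2 * 2 := by norm_num
    rw [this, zpow_mul, h6, zpow_two, F.tt]
  have h5 : ((f q k) ^ j) ^ (2 : ℤ) = t := by
    rw [← h1, zpow_two]
    calc x * f q k * x⁻¹ * (x * f q k * x⁻¹) = x * (f q k * f q k) * x⁻¹ := by group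
      _ = x * t * x⁻¹ := by rw [F.ff]
      _ = t := by rw [hx, mul_inv_cancel_right]
  rw [← zpow_mul, mul_comm, zpow_mul, h6] at h5
  rw [h1]
  rcases Int.even_or_odd' j with ⟨c, rfl | rfl⟩
  · exfalso
    rw [zpow_mul, zpow_two, F.tt, one_zpow] at h5
    exact F.t_ne h5.symm
  · rcases Int.even_or_odd' c with ⟨d, rfl | rfl⟩
    · left
      have : (f q k) ^ (2 * (2 * d) + 1) = ((f q k) ^ (4 : ℤ)) ^ d * f q k := by
        rw [← zpow_mul, ← zpow_add_one]; congr 1; ring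
      rw [this, h4, one_zpow, one_mul]
    · right
      have : (f q k) ^ (2 * (2 * d + 1) + 1) = ((f q k) ^ (4 : ℤ)) ^ (d + 1) * (f q k)⁻¹ := by
        rw [← zpow_mul, ← zpow_sub_one]; congr 1; ring
      rw [this, h4, one_zpow, one_mul]

end Fr

end Cfsg.Agent.OddHalf.D5.QFrame
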