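import Cfsg.Agent.OddHalf.D5.QPerm

/-!
# ODD half, D5: for every involution `z` there is a root `x` with `z ~ z x` under `C(x)`
-/

set_option autoImplicit false
set_option linter.unusedSectionVars false

namespace Cfsg.Agent.OddHalf.D5.QPair

open Equiv Equiv.Perm Cfsg.Agent.OddHalf.D5.QPerm

variable {α : Type*} [Fintype α] [DecidableEq α]

theorem exists_notMem (s : Finset α) (h : s.card < Fintype.card α) : ∃ l, l ∉ s := by
  by_contra hcon
  push Not at hcon
  have : Fintype.card α ≤ s.card := by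
    rw [← Finset.card_univ]; exact Finset.card_le_card fun y _ => hcon y
  omega

theorem comm_v4 {a b c d : α} (h : Four a b c d) :
    rt a c b d * rt a b c d = rt a b c d * rt a c b d := by
  ext x
  refine cases5 (a := a) (b := b) (c := c) (d := d)
    (P := fun x => (rt a c b d * rt a b c d) x = (rt a b c d * rt a c b d) x) ?_ ?_ ?_ ?_ ?_ x
  · rw [Perm.mul_apply, Perm.mul_apply, rt_a h, rt_a h.s3, rt_c h.s3, rt_c h]
  · rw [Perm.mul_apply, Perm.mul_apply, rt_b h, rt_c h.s3, rt_a h.s3, rt_d h]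
  · rw [Perm.mul_apply, Perm.mul_apply, rt_c h, rt_d h.s3, rt_b h.s3, rt_a h]
  · rw [Perm.mul_apply, Perm.mul_apply, rt_d h, rt_d h.s3, rt_b h.s3, rt_b h]
  · intro x x1 x2 x3 x4
    rw [Perm.mul_apply, Perm.mul_apply, rt_o x1 x2 x3 x4, rt_o x1 x3 x2 x4, rt_o x1 x2 x3 x4]

/-- **The pair**: a root `x` commuting with `z` and an even `κ` commuting with `x`, `κ z κ⁻¹ = z x`. -/
theorem exists_pair (h7 : 7 ≤ Fintype.card α) {z : Perm α} (hz : z * z = 1) (hz1 : z ≠ 1) :
    ∃ a b c d, Four a b c d ∧ ∃ κ : Perm α, κ ∈ alternatingGroup α ∧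
      rt a b c d * z = z * rt a b c d ∧ κ * rt a b c d = rt a b c d * κ ∧
      κ * z * κ⁻¹ = z * rt a b c d := by
  have hz' : ∀ x, z (z x) = x := by
    intro x
    have := congrArg (fun g : Perm α => g x) hz
    simpa using this
  obtain ⟨i, hi⟩ : ∃ i, z i ≠ i := by
    by_contra hcon
    push Not at hcon
    exact hz1 (by ext x; simpa using hcon x)
  by_cases hB : ∃ m, m ≠ i ∧ m ≠ z i ∧ z m ≠ m
  · -- two 2-cycles
    obtain ⟨m, hmi, hmz, hm⟩ := hB
    have F : Four i (z i) m (z m) := by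
      refine ⟨hi.symm, hmi.symm, ?_, hmz.symm, ?_, hm.symm⟩
      · intro h; exact hmz (by rw [h, hz'])
      · intro h; exact hmi (z.injective h).symm
    -- the transposition `σ`
    obtain ⟨a, b, hab, ha, hb, hσ⟩ : ∃ a b : α, a ≠ b ∧ (a ≠ i ∧ a ≠ z i ∧ a ≠ m ∧ a ≠ z m) ∧
        (b ≠ i ∧ b ≠ z i ∧ b ≠ m ∧ b ≠ z m) ∧ z * swap a b = swap a b * z := by
      by_cases hC : ∃ a, (a ≠ i ∧ a ≠ z i ∧ a ≠ m ∧ a ≠ z m) ∧ z a ≠ a
      · obtain ⟨a, ha, haz⟩ := hC
        refine ⟨a, z a, haz.symm, ha, ?_, ?_⟩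
        · refine ⟨?_, ?_, ?_, ?_⟩
          · intro h; exact ha.2.1 (by rw [← h, hz'])
          · intro h; exact ha.1 (z.injective h)
          · intro h; exact ha.2.2.2 (by rw [← h, hz'])
          · intro h; exact ha.2.2.1 (z.injective h)
        · rw [mul_swap_eq_swap_mul, hz', swap_comm]
      · push Not at hC
        obtain ⟨a, ha⟩ := exists_notMem ({i, z i, m, z m} : Finset α)
          (lt_of_le_of_lt Finset.card_le_four (by omega))
        obtain ⟨b, hb⟩ := exists_notMem ({i, z i, m, z m, a} : Finset α)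
          (lt_of_le_of_lt Finset.card_le_five (by omega))
        simp only [Finset.mem_insert, Finset.mem_singleton, not_or] at ha hb
        have e1 := hC a ⟨ha.1, ha.2.1, ha.2.2.1, ha.2.2.2⟩
        have e2 := hC b ⟨hb.1, hb.2.1, hb.2.2.1, hb.2.2.2.1⟩
        refine ⟨a, b, Ne.symm hb.2.2.2.2, ⟨ha.1, ha.2.1, ha.2.2.1, ha.2.2.2⟩,
          ⟨hb.1, hb.2.1, hb.2.2.1, hb.2.2.2.1⟩, ?_⟩
        rw [mul_swap_eq_swap_mul, e1, e2]
    refine ⟨i, m, z i, z m, F.s3, swap (z i) (z m) * swap a b, ?_, ?_, ?_, ?_⟩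
    · rw [mem_alternatingGroup, map_mul, sign_swap F.bd, sign_swap hab]; decide
    · -- `x` commutes with `z`
      symm
      unfold rt
      rw [← mul_assoc, mul_swap_eq_swap_mul z i m, mul_assoc, mul_swap_eq_swap_mul z (z i) (z m), hz', hz',
        ← mul_assoc]
      congr 1
      exact rt_s2 F.s3
    · -- `κ` commutes with `x`
      have c1 : swap a b * rt i m (z i) (z m) = rt i m (z i) (z m) * swap a b := by
        rw [mul_swap_eq_swap_mul, rt_o ha.1 ha.2.2.1 ha.2.1 ha.2.2.2, rt_o hb.1 hb.2.2.1 hb.2.1 hb.2.2.2]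
      have c2 : swap (z i) (z m) * rt i m (z i) (z m) = rt i m (z i) (z m) * swap (z i) (z m) := by
        rw [mul_swap_eq_swap_mul, rt_c F.s3, rt_d F.s3, swap_comm]
      rw [mul_assoc, c1, ← mul_assoc, c2, mul_assoc]
    · -- `κ z κ⁻¹ = z x`
      have hκ : (swap (z i) (z m) * swap a b)⁻¹ = swap a b * swap (z i) (z m) := by
        rw [mul_inv_rev, swap_inv, swap_inv]
      have c1 : swap a b * z * swap a b = z := by
        rw [← hσ, mul_assoc, swap_mul_self, mul_one]
      have c3 : z * rt i m (z i) (z m) = swap (z i) (z m) * swap i m * z := by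
        unfold rt
        rw [← mul_assoc, mul_swap_eq_swap_mul z i m, mul_assoc, mul_swap_eq_swap_mul z (z i) (z m), hz',
          hz', mul_assoc]
      calc swap (z i) (z m) * swap a b * z * (swap (z i) (z m) * swap a b)⁻¹
          = swap (z i) (z m) * (swap a b * z * swap a b) * swap (z i) (z m) := by
            rw [hκ]; simp only [mul_assoc]
        _ = swap (z i) (z m) * (z * swap (z i) (z m)) := by rw [c1, mul_assoc]
        _ = swap (z i) (z m) * (swap i m * z) := by
            rw [mul_swap_eq_swap_mul, hz', hz']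
        _ = z * rt i m (z i) (z m) := by rw [c3, mul_assoc]
  · -- one transposition
    push Not at hB
    have hzs : z = swap i (z i) := by
      ext x
      by_cases h1 : x = i
      · rw [h1, swap_apply_left]
      by_cases h2 : x = z i
      · rw [h2, swap_apply_right, hz']
      rw [swap_apply_of_ne_of_ne h1 h2, hB x h1 h2]
    obtain ⟨m, hm⟩ := exists_notMem ({i, z i} : Finset α)
      (lt_of_le_of_lt Finset.card_le_two (by omega))
    obtain ⟨l, hl⟩ := exists_notMem ({i, z i, m} : Finset α)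
      (lt_of_le_of_lt Finset.card_le_three (by omega))
    simp only [Finset.mem_insert, Finset.mem_singleton, not_or] at hm hl
    have F : Four i (z i) m l := ⟨hi.symm, Ne.symm hm.1, Ne.symm hl.1, Ne.symm hm.2, Ne.symm hl.2.1,
      Ne.symm hl.2.2⟩
    set j := z i with hj
    refine ⟨i, j, m, l, F, rt i m j l, rt_mem F.s3, ?_, comm_v4 F, ?_⟩
    · rw [hzs, mul_swap_eq_swap_mul, rt_a F, rt_b F, swap_comm]
    · rw [hzs, mul_inv_eq_iff_eq_mul, mul_swap_eq_swap_mul, rt_a F.s3, rt_c F.s3]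
      have : swap i j * rt i j m l = swap m l := by
        unfold rt; rw [← mul_assoc, swap_mul_self, one_mul]
      rw [this]

end Cfsg.Agent.OddHalf.D5.QPair
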