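import Cfsg.Agent.OddHalf.D5.QRoot
import Cfsg.Agent.OddHalf.D5.QPair

/-!
# ODD half, D5, `C(K)` cyclic of order at least four: fusion

`Fr.no_outer`: there is no conjugate `u = g t g⁻¹` of `t` in `C(t)`, such that `u` is outer in `C(t)` and `t` is
outer in `C(u)`, if the outer elements of `C(t)` invert `q`.
-/

set_option autoImplicit false

namespace Cfsg.Agent.OddHalf.D5.QFrame.Fr

open Equiv Equiv.Perm Cfsg.Agent.OddHalf.D5.QPerm

variable {G : Type*} [Group G] {α : Type*} [Fintype α] [DecidableEq α]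
variable {k : ℕ} {t q : G} {e : alternatingGroup α →* G} {p : G → Perm α}

theorem invf (_F : Fr k t q e p) {x : G} (h : x * q * x⁻¹ = q⁻¹) :
    x * f q k * x⁻¹ = (f q k)⁻¹ := by
  unfold f
  rw [← conj_pow, h, inv_pow]

theorem no_outer (F : Fr k t q e p)
    (hinv : ∀ x, x * t = t * x → sign (p x) = -1 → x * q * x⁻¹ = q⁻¹) {g : G}
    (hu : g * t * g⁻¹ * t = t * (g * t * g⁻¹)) (hus : sign (p (g * t * g⁻¹)) = -1)
    (hw : g⁻¹ * t * g * t = t * (g⁻¹ * t * g)) (hws : sign (p (g⁻¹ * t * g)) = -1) : False := by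
  set u := g * t * g⁻¹ with hu_def
  set h := g * f q k * g⁻¹ with hh_def
  have huu : u * u = 1 := by
    calc u * u = g * (t * t) * g⁻¹ := by rw [hu_def]; group
      _ = 1 := by rw [F.tt]; group
  have hhh : h * h = u := by
    calc h * h = g * (f q k * f q k) * g⁻¹ := by rw [hh_def]; group
      _ = u := by rw [F.ff]
  -- `u` inverts `f`, `t` inverts `h`
  have h1 : u * f q k * u⁻¹ = (f q k)⁻¹ := F.invf (hinv u hu hus)
  have h2 : t * h * t⁻¹ = h⁻¹ := by
    have h3 := F.invf (hinv _ hw hws)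
    calc t * h * t⁻¹ = g * (g⁻¹ * t * g * f q k * (g⁻¹ * t * g)⁻¹) * g⁻¹ := by rw [hh_def]; group
      _ = g * (f q k)⁻¹ * g⁻¹ := by rw [h3]
      _ = h⁻¹ := by rw [hh_def]; group
  -- general: `y x y⁻¹ = x⁻¹` gives `x y x⁻¹ = y (x x)⁻¹`
  have gen : ∀ x y : G, y * x * y⁻¹ = x⁻¹ → x * y * x⁻¹ = y * (x * x)⁻¹ := by
    intro x y hxy
    have h3 : y * x = x⁻¹ * y := by rw [← hxy]; group
    calc x * y * x⁻¹ = x * (y * x) * (x * x)⁻¹ := by group
      _ = x * (x⁻¹ * y) * (x * x)⁻¹ := by rw [h3]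
      _ = y * (x * x)⁻¹ := by group
  have uinv : u⁻¹ = u := inv_eq_of_mul_eq_one_left huu
  have tinv : t⁻¹ = t := inv_eq_of_mul_eq_one_left F.tt
  have fu : f q k * u * (f q k)⁻¹ = u * t := by rw [gen _ _ h1, F.ff, tinv]
  have ht : h * t * h⁻¹ = t * u := by rw [gen _ _ h2, hhh, uinv]
  have hhu : h * u * h⁻¹ = u := by rw [← hhh]; group
  have ft : f q k * t * (f q k)⁻¹ = t := by rw [F.ftc]; group
  -- the root
  have hz : p u * p u = 1 := by rw [← F.pm _ _ hu hu, huu, F.p_one]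
  have hz1 : p u ≠ 1 := by
    intro h3; rw [h3, map_one] at hus; exact absurd hus (by decide)
  obtain ⟨a, b, c, d, h4, κ, hκ, hxz, hκx, hκz⟩ := QPair.exists_pair F.c7 hz hz1
  set x : alternatingGroup α := ⟨rt a b c d, rt_mem h4⟩ with hx_def
  set κ' : alternatingGroup α := ⟨κ, hκ⟩ with hκ_def
  have hxx : x * x = 1 := Subtype.ext (by rw [Subgroup.coe_mul]; exact rt_mul_self h4)
  have eXX : e x * e x = 1 := by rw [← map_mul, hxx, map_one]
  have hx1 : x ≠ 1 := by
    intro h3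
    have h5 := congrArg (fun w : alternatingGroup α => (w : Perm α) a) h3
    simp only [hx_def] at h5
    rw [rt_a h4] at h5
    exact h4.ab h5.symm
  have Xt : e x * t = t * e x := F.et x
  have Xu : e x * u = u * e x := by
    have h3 := F.pc u hu x
    have h5 : cj (p u) x = x := by
      apply Subtype.ext
      rw [coe_cj, hx_def]
      simp only
      rw [← hxz, mul_inv_cancel_right]
    rw [h5, mul_inv_eq_iff_eq_mul] at h3
    exact h3.symm
  have κt : e κ' * t * (e κ')⁻¹ = t := by rw [F.et]; group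
  have κX : e κ' * e x * (e κ')⁻¹ = e x := by
    rw [← map_mul, ← map_inv, ← map_mul]
    congr 1
    apply Subtype.ext
    rw [Subgroup.coe_mul, Subgroup.coe_mul, Subgroup.coe_inv, hκ_def, hx_def]
    simp only
    rw [hκx, mul_inv_cancel_right]
  have κu : e κ' * u * (e κ')⁻¹ = u * e x := by
    have h3 := F.pc u⁻¹ (ci hu) κ'
    rw [inv_inv] at h3
    calc e κ' * u * (e κ')⁻¹ = u * (u⁻¹ * e κ' * u) * (e κ')⁻¹ := by group
      _ = u * (e (cj (p u⁻¹) κ') * (e κ')⁻¹) := by rw [h3]; group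
      _ = u * e x := by
          rw [← map_inv, ← map_mul]
          congr 2
          apply Subtype.ext
          rw [Subgroup.coe_mul, coe_cj, Subgroup.coe_inv, F.p_inv hu, inv_inv, hκ_def, hx_def]
          simp only
          calc (p u)⁻¹ * κ * p u * κ⁻¹ = (p u)⁻¹ * (κ * p u * κ⁻¹) := by group
            _ = rt a b c d := by rw [hκz]; group
  have fX : f q k * e x * (f q k)⁻¹ = e x := by rw [← F.fe]; group
  have ut : u * t = t * u := hu
  -- the two cases
  rcases F.normf' (g := g) (x := e x) Xu with h5 | h5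
  · -- `x` commutes with `h`
    have hX : h * e x * h⁻¹ = e x := by
      have h6 : e x * h = h * e x := by rwa [mul_inv_eq_iff_eq_mul] at h5
      rw [← h6]; group
    have g1 : h * e κ' * h * t * (h * e κ' * h)⁻¹ = t * e x := by
      calc h * e κ' * h * t * (h * e κ' * h)⁻¹ = h * (e κ' * (h * t * h⁻¹) * (e κ')⁻¹) * h⁻¹ := by group
        _ = h * (e κ' * (t * u) * (e κ')⁻¹) * h⁻¹ := by rw [ht]
        _ = h * ((e κ' * t * (e κ')⁻¹) * (e κ' * u * (e κ')⁻¹)) * h⁻¹ := by group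
        _ = h * (t * (u * e x)) * h⁻¹ := by rw [κt, κu]
        _ = (h * t * h⁻¹) * (h * u * h⁻¹) * (h * e x * h⁻¹) := by group
        _ = t * u * u * e x := by rw [ht, hhu, hX]
        _ = t * e x := by rw [mul_assoc t u u, huu, mul_one]
    have g2 : h * e κ' * h * e x * (h * e κ' * h)⁻¹ = e x := by
      calc h * e κ' * h * e x * (h * e κ' * h)⁻¹ = h * (e κ' * (h * e x * h⁻¹) * (e κ')⁻¹) * h⁻¹ := by group
        _ = e x := by rw [hX, κX, hX]
    have g3 := F.root_fix h4 (r := x) rfl (g := h * e κ' * h) (Or.inr (Or.inr g1)) (Or.inr (Or.inl g2))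
    rw [g1] at g3
    have g4 : e x = 1 := mul_eq_left.1 g3
    exact hx1 (F.inj (by rw [g4, map_one]))
  · -- `x` inverts `h`
    have hX : h * e x * h⁻¹ = e x * u := by rw [gen _ _ h5, hhh, uinv]
    have g1 : h * f q k * e κ' * h * t * (h * f q k * e κ' * h)⁻¹ = e x := by
      calc h * f q k * e κ' * h * t * (h * f q k * e κ' * h)⁻¹
          = h * (f q k * (e κ' * (h * t * h⁻¹) * (e κ')⁻¹) * (f q k)⁻¹) * h⁻¹ := by group
        _ = h * (f q k * ((e κ' * t * (e κ')⁻¹) * (e κ' * u * (e κ')⁻¹)) * (f q k)⁻¹) * h⁻¹ := by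
            rw [ht]; group
        _ = h * ((f q k * t * (f q k)⁻¹) * (f q k * u * (f q k)⁻¹) * (f q k * e x * (f q k)⁻¹)) * h⁻¹ := by
            rw [κt, κu]; group
        _ = h * (t * (u * t) * e x) * h⁻¹ := by rw [ft, fu, fX]
        _ = h * (u * e x) * h⁻¹ := by rw [ut, ← mul_assoc t t u, F.tt, one_mul]
        _ = (h * u * h⁻¹) * (h * e x * h⁻¹) := by group
        _ = e x := by rw [hhu, hX, Xu, ← mul_assoc, huu, one_mul]
    have g2 : h * f q k * e κ' * h * e x * (h * f q k * e κ' * h)⁻¹ = t := by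
      calc h * f q k * e κ' * h * e x * (h * f q k * e κ' * h)⁻¹
          = h * (f q k * (e κ' * (h * e x * h⁻¹) * (e κ')⁻¹) * (f q k)⁻¹) * h⁻¹ := by group
        _ = h * (f q k * ((e κ' * e x * (e κ')⁻¹) * (e κ' * u * (e κ')⁻¹)) * (f q k)⁻¹) * h⁻¹ := by
            rw [hX]; group
        _ = h * (f q k * (e x * (u * e x)) * (f q k)⁻¹) * h⁻¹ := by rw [κX, κu]
        _ = h * (f q k * u * (f q k)⁻¹) * h⁻¹ := by
            have : e x * (u * e x) = u := by rw [← Xu, ← mul_assoc, eXX, one_mul]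
            rw [this]
        _ = (h * u * h⁻¹) * (h * t * h⁻¹) := by rw [fu]; group
        _ = t := by rw [hhu, ht, ← ut, ← mul_assoc, huu, one_mul]
    have g3 := F.root_fix h4 (r := x) rfl (g := h * f q k * e κ' * h) (Or.inr (Or.inl g1)) (Or.inl g2)
    rw [g1] at g3
    have g4 := F.pe x
    rw [g3, F.p_t] at g4
    exact hx1 (Subtype.ext g4.symm)

end Cfsg.Agent.OddHalf.D5.QFrame.Fr
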