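import Cfsg.Agent.OddHalf.D9.Outer

/-!
# ODD half: transfer of a character of `C(t)` at a generator `q` of a normal cyclic subgroup

`G` without subgroups of index two, `l : C_G(t) → {±1}` with `l q = -1`, `T` a `2`-subgroup of `C_G(t)` normalising
`⟨q⟩`. Then there is a conjugate `u = g t g⁻¹ ≠ t` such that the `⟨q⟩`-orbit of `u` is `T`-invariant and `q^r`
(`r` the length of the orbit) has the sign `-1` in `C(u)`.
-/

set_option autoImplicit false

namespace Cfsg.Agent.OddHalf.D5.QTransfer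

open MulAction Subgroup Cfsg.Agent.OddHalf.D9.TransferGen Cfsg.Agent.OddHalf.D9.Outer

variable {G : Type*} [Group G]

theorem val_conj {A : Type*} [CommGroup A] (H : Subgroup G) (φ : H →* A) (y x : G) (w : G ⧸ H)
    (hw : y • w = w) : val H φ (x * y * x⁻¹) (x • w) = val H φ y w := by
  obtain ⟨g, rfl⟩ := QuotientGroup.mk_surjective w
  have h := (smul_mk_eq H y g).1 hw
  have h1 : (x * g)⁻¹ * (x * y * x⁻¹) * (x * g) = g⁻¹ * y * g := by group
  have h2 : (x * g)⁻¹ * (x * y * x⁻¹) * (x * g) ∈ H := by rw [h1]; exact h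
  rw [MulAction.Quotient.smul_mk, smul_eq_mul, val_mk H φ _ _ h2, val_mk H φ _ _ h]
  congr 1
  exact Subtype.ext h1

theorem val_pow {A : Type*} [CommGroup A] (H : Subgroup G) (φ : H →* A) (y : G) (w : G ⧸ H)
    (hw : y • w = w) (j : ℤ) : val H φ (y ^ j) w = (val H φ y w) ^ j := by
  obtain ⟨g, rfl⟩ := QuotientGroup.mk_surjective w
  have h := (smul_mk_eq H y g).1 hw
  have h1 : g⁻¹ * y ^ j * g = (g⁻¹ * y * g) ^ j := by
    have := conj_zpow (i := j) (a := g⁻¹) (b := y)
    simpa using this.symm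
  have h2 : g⁻¹ * y ^ j * g ∈ H := by rw [h1]; exact H.zpow_mem h j
  rw [val_mk H φ _ _ h2, val_mk H φ _ _ h, ← map_zpow]
  congr 1
  exact Subtype.ext h1

theorem pow_smul_iff (H : Subgroup G) (q : G) (w : G ⧸ H) (i : ℕ) :
    q ^ i • w = w ↔ Function.minimalPeriod (q • ·) w ∣ i := by
  rw [← Function.isPeriodicPt_iff_minimalPeriod_dvd]
  change _ ↔ (q • ·)^[i] w = w
  rw [smul_iterate]

theorem zpow_smul_iff [Finite G] (H : Subgroup G) (q : G) (w : G ⧸ H) (i : ℤ) :
    q ^ i • w = w ↔ (Function.minimalPeriod (q • ·) w : ℤ) ∣ i := by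
  cases i with
  | ofNat i =>
    rw [Int.ofNat_eq_natCast, zpow_natCast, pow_smul_iff, Int.natCast_dvd_natCast]
  | negSucc i =>
    rw [zpow_negSucc, inv_smul_eq_iff, eq_comm, pow_smul_iff, Int.negSucc_eq, dvd_neg]
    norm_cast

section

variable {t q : G} {T : Subgroup G} (l : centralizer ({t} : Set G) →* ℤˣ)

/-- the function on the cosets -/
noncomputable def Fn (q : G) (w : G ⧸ centralizer ({t} : Set G)) : ℤˣ :=
  val (centralizer ({t} : Set G)) l (q ^ Function.minimalPeriod (q • ·) w) w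

theorem per_smul [Finite G] (H : Subgroup G) {x : G} (w : G ⧸ H) (hx : ∃ j : ℤ, x * q * x⁻¹ = q ^ j)
    (hx' : ∃ j : ℤ, x⁻¹ * q * x⁻¹⁻¹ = q ^ j) :
    Function.minimalPeriod (q • ·) (x • w) = Function.minimalPeriod (q • ·) w := by
  obtain ⟨j, hj⟩ := hx
  obtain ⟨j', hj'⟩ := hx'
  rw [inv_inv] at hj'
  apply Nat.dvd_antisymm
  · rw [← pow_smul_iff]
    set r := Function.minimalPeriod (q • ·) w
    have h1 : x⁻¹ * q ^ r * x = (q ^ r) ^ j' := by
      have h2 : x⁻¹ * q ^ r * x = (x⁻¹ * q * x) ^ r := by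
        have := conj_pow (i := r) (a := x⁻¹) (b := q)
        simpa using this.symm
      rw [h2, hj', ← zpow_natCast, ← zpow_natCast, ← zpow_mul, ← zpow_mul, mul_comm]
    have h3 : q ^ r • w = w := (pow_smul_iff H q w r).2 dvd_rfl
    have h4 : (q ^ r) ^ j' • w = w := by
      have : (q ^ r) ^ j' ∈ stabilizer G w := (stabilizer G w).zpow_mem h3 j'
      exact this
    calc q ^ r • x • w = x • (x⁻¹ * q ^ r * x) • w := by
          rw [smul_smul, smul_smul]; congr 1; group
      _ = x • w := by rw [h1, h4]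
  · rw [← pow_smul_iff]
    set r := Function.minimalPeriod (q • ·) (x • w)
    have h1 : x * q ^ r * x⁻¹ = (q ^ r) ^ j := by
      rw [← conj_pow, hj, ← zpow_natCast, ← zpow_natCast, ← zpow_mul, ← zpow_mul, mul_comm]
    have h3 : q ^ r • x • w = x • w := (pow_smul_iff H q _ r).2 dvd_rfl
    have h4 : (q ^ r) ^ j • x • w = x • w := by
      have : (q ^ r) ^ j ∈ stabilizer G (x • w) := (stabilizer G (x • w)).zpow_mem h3 j
      exact this
    calc q ^ r • w = x⁻¹ • (x * q ^ r * x⁻¹) • x • w := by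
          rw [smul_smul, smul_smul]; congr 1; group
      _ = w := by rw [h1, h4, inv_smul_smul]

theorem Fn_smul [Finite G] {x : G} (w : G ⧸ centralizer ({t} : Set G))
    (hx : ∃ j : ℤ, x * q * x⁻¹ = q ^ j ∧ Odd j)
    (hx' : ∃ j : ℤ, x⁻¹ * q * x⁻¹⁻¹ = q ^ j) : Fn l q (x • w) = Fn l q w := by
  obtain ⟨j, hj, hodd⟩ := hx
  unfold Fn
  rw [per_smul _ w ⟨j, hj⟩ hx']
  set r := Function.minimalPeriod (q • ·) w with hr
  have h3 : q ^ r • w = w := (pow_smul_iff _ q w r).2 dvd_rfl
  have h1 : x * q ^ r * x⁻¹ = (q ^ r) ^ j := by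
    rw [← conj_pow, hj, ← zpow_natCast, ← zpow_natCast, ← zpow_mul, ← zpow_mul, mul_comm]
  have h2 := val_conj (centralizer ({t} : Set G)) l (q ^ r) x w h3
  have h5 : q ^ r • (x • w) = x • w := by
    rw [pow_smul_iff, per_smul _ w ⟨j, hj⟩ hx']
  rw [h1, val_pow _ _ _ _ h5] at h2
  rw [← h2]
  obtain ⟨c, rfl⟩ := hodd
  set v := val (centralizer ({t} : Set G)) l (q ^ r) (x • w)
  rcases Int.units_eq_one_or v with hv | hv
  · rw [hv, one_zpow]
  · rw [hv, zpow_add, zpow_mul]
    have : (-1 : ℤˣ) ^ (2 : ℤ) = 1 := by decide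
    rw [this, one_zpow, one_mul, zpow_one]

open Classical in
/-- **Transfer at `q`.** -/
theorem exists_orbit [Finite G] (hG : ∀ N : Subgroup G, N.index ≠ 2) (hT : IsPGroup 2 T)
    (hTt : ∀ x ∈ T, x * t = t * x) (hTq : ∀ x ∈ T, ∃ j : ℤ, x * q * x⁻¹ = q ^ j)
    (hqt : q ∈ centralizer ({t} : Set G)) (hq : l ⟨q, hqt⟩ = -1) :
    ∃ (g : G) (r : ℕ), g * t * g⁻¹ ≠ t ∧
      (∀ i : ℕ, q ^ i * (g * t * g⁻¹) = g * t * g⁻¹ * q ^ i ↔ r ∣ i) ∧
      (∀ x ∈ T, ∃ j : ℤ, x * (g * t * g⁻¹) * x⁻¹ = q ^ j * (g * t * g⁻¹) * (q ^ j)⁻¹) ∧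
      ∃ h : g⁻¹ * q ^ r * g ∈ centralizer ({t} : Set G), l ⟨g⁻¹ * q ^ r * g, h⟩ = -1 := by
  by_contra hcon
  have : Fintype (G ⧸ centralizer ({t} : Set G)) := Fintype.ofFinite _
  have : Fintype (Quotient (orbitRel (zpowers q) (G ⧸ centralizer ({t} : Set G)))) := Fintype.ofFinite _
  set X := G ⧸ centralizer ({t} : Set G) with hX
  set Ω := Quotient (orbitRel (zpowers q) X) with hΩ
  have htr : MonoidHom.transfer l q = ∏ O : Ω, Fn l q O.out := by
    rw [MonoidHom.transfer_eq_prod_quotient_orbitRel_zpowers_quot]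
    apply Finset.prod_congr rfl
    intro O _
    unfold Fn val
    rw [dif_pos (QuotientGroup.out_conj_pow_minimalPeriod_mem _ q O.out)]
  rw [hom_units_eq_one hG] at htr
  -- parity of the exponents
  have hodd : ∀ x ∈ T, ∃ j : ℤ, x * q * x⁻¹ = q ^ j ∧ Odd j := by
    intro x hx
    obtain ⟨j, hj⟩ := hTq x hx
    refine ⟨j, hj, ?_⟩
    by_contra hj2
    rw [Int.not_odd_iff_even] at hj2
    have hxt : x ∈ centralizer ({t} : Set G) := mem_centralizer_singleton_iff.2 (hTt x hx)
    have h1 : l (⟨x, hxt⟩ * ⟨q, hqt⟩ * ⟨x, hxt⟩⁻¹) = l (⟨q, hqt⟩ ^ j) := by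
      congr 1
      exact Subtype.ext hj
    rw [map_mul, map_mul, map_inv, mul_comm (l ⟨x, hxt⟩), mul_inv_cancel_right, map_zpow, hq,
      hj2.neg_one_zpow] at h1
    exact absurd h1 (by decide)
  -- the relation
  have hrel : ∀ w w' : X, (orbitRel (zpowers q) X) w w' ↔ ∃ j : ℤ, q ^ j • w' = w := by
    intro w w'
    rw [orbitRel_apply]
    constructor
    · rintro ⟨⟨y, hy⟩, h⟩
      obtain ⟨j, rfl⟩ := mem_zpowers_iff.1 hy
      exact ⟨j, h⟩
    · rintro ⟨j, h⟩
      exact ⟨⟨q ^ j, zpow_mem (mem_zpowers q) j⟩, h⟩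
  have hmap : ∀ x ∈ T, ∀ w w' : X, (orbitRel (zpowers q) X) w w' →
      (orbitRel (zpowers q) X) (x • w) (x • w') := by
    intro x hx w w' h
    obtain ⟨j, hj⟩ := (hrel w w').1 h
    obtain ⟨i, hi, -⟩ := hodd x hx
    rw [hrel]
    refine ⟨i * j, ?_⟩
    have h1 : x * q ^ j * x⁻¹ = q ^ (i * j) := by
      rw [← conj_zpow, hi, zpow_mul]
    rw [← hj, ← h1, smul_smul, smul_smul]
    congr 1
    group
  let act : MulAction T Ω :=
    { smul := fun x => Quotient.map (fun w => (x : G) • w) (hmap x x.2)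
      one_smul := by
        intro O
        induction O using Quotient.inductionOn with
        | h w =>
          change Quotient.mk _ (((1 : T) : G) • w) = Quotient.mk _ w
          rw [OneMemClass.coe_one, one_smul]
      mul_smul := by
        intro x y O
        induction O using Quotient.inductionOn with
        | h w =>
          change Quotient.mk _ (((x * y : T) : G) • w) = Quotient.mk _ ((x : G) • (y : G) • w)
          rw [Subgroup.coe_mul, mul_smul] }
  have hsm : ∀ (x : T) (w : X), x • (Quotient.mk (orbitRel (zpowers q) X) w : Ω) =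
      Quotient.mk _ ((x : G) • w) := fun _ _ => rfl
  have hout : ∀ w : X, ∃ j : ℤ, q ^ j • w = (Quotient.mk (orbitRel (zpowers q) X) w : Ω).out := by
    intro w
    have := Quotient.exact (Quotient.out_eq (Quotient.mk (orbitRel (zpowers q) X) w : Ω))
    exact (hrel _ _).1 this
  have hFq : ∀ (j : ℤ) (w : X), Fn l q (q ^ j • w) = Fn l q w := by
    intro j w
    refine Fn_smul l w ⟨1, ?_, odd_one⟩ ⟨1, ?_⟩
    · rw [zpow_one]; group
    · rw [zpow_one]; group
  have hFout : ∀ w : X, Fn l q (Quotient.mk (orbitRel (zpowers q) X) w : Ω).out = Fn l q w := by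
    intro w
    obtain ⟨j, hj⟩ := hout w
    rw [← hj, hFq]
  rw [prod_fixed hT Finset.univ (fun _ _ _ => Finset.mem_univ _) (fun O : Ω => Fn l q O.out) ?_ ?_] at htr
  · -- the orbit of the trivial coset
    set O₀ : Ω := Quotient.mk _ ((1 : G) : X) with hO₀
    have h0 : Fn l q O₀.out = -1 := by
      rw [hO₀, hFout, ← hq]
      have hfix : q • ((1 : G) : X) = ((1 : G) : X) := by
        rw [smul_mk_eq, inv_one, one_mul, mul_one]; exact hqt
      have hper : Function.minimalPeriod (q • ·) ((1 : G) : X) = 1 :=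
        Function.minimalPeriod_eq_one_iff_isFixedPt.2 hfix
      unfold Fn
      rw [hper, pow_one]
      rw [val_mk _ _ q 1 (by rw [inv_one, one_mul, mul_one]; exact hqt)]
      congr 1
      apply Subtype.ext
      simp
    rw [Finset.prod_eq_single O₀, h0] at htr
    · exact absurd htr (by decide)
    · intro O hO hne
      have hOf := (Finset.mem_filter.1 hO).2
      by_contra hF
      have hF' : Fn l q O.out = -1 := (Int.units_eq_one_or _).resolve_left hF
      obtain ⟨g, hg⟩ := QuotientGroup.mk_surjective O.out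
      have hst : ∀ y : G, y • (g : X) = (g : X) ↔ y * (g * t * g⁻¹) = g * t * g⁻¹ * y := by
        intro y
        rw [smul_mk_eq, mem_centralizer_singleton_iff]
        constructor
        · intro h
          calc y * (g * t * g⁻¹) = g * (g⁻¹ * y * g * t) * g⁻¹ := by group
            _ = g * (t * (g⁻¹ * y * g)) * g⁻¹ := by rw [h]
            _ = g * t * g⁻¹ * y := by group
        · intro h
          calc g⁻¹ * y * g * t = g⁻¹ * (y * (g * t * g⁻¹)) * g := by group
            _ = g⁻¹ * (g * t * g⁻¹ * y) * g := by rw [h]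
            _ = t * (g⁻¹ * y * g) := by group
      apply hcon
      refine ⟨g, Function.minimalPeriod (q • ·) (g : X), ?_, ?_, ?_, ?_⟩
      · intro h
        apply hne
        rw [← Quotient.out_eq O, hO₀]
        change (Quotient.mk _ O.out : Ω) = _
        rw [← hg]
        congr 1
        rw [QuotientGroup.eq, mul_one, inv_mem_iff, mem_centralizer_singleton_iff]
        rwa [mul_inv_eq_iff_eq_mul] at h
      · intro i
        rw [← hst, pow_smul_iff]
      · intro x hx
        have h1 := hOf ⟨x, hx⟩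
        rw [← Quotient.out_eq O] at h1
        have h2 := Quotient.exact h1
        obtain ⟨j, hj⟩ := (hrel _ _).1 h2
        change q ^ j • O.out = x • O.out at hj
        rw [← hg] at hj
        have h3 : (x⁻¹ * q ^ j) • (g : X) = (g : X) := by
          rw [mul_smul, hj, inv_smul_smul]
        rw [hst] at h3
        refine ⟨j, ?_⟩
        calc x * (g * t * g⁻¹) * x⁻¹ = x * (g * t * g⁻¹ * (x⁻¹ * q ^ j)) * (q ^ j)⁻¹ := by group
          _ = x * (x⁻¹ * q ^ j * (g * t * g⁻¹)) * (q ^ j)⁻¹ := by rw [h3]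
          _ = q ^ j * (g * t * g⁻¹) * (q ^ j)⁻¹ := by group
      · have h1 : g⁻¹ * q ^ Function.minimalPeriod (q • ·) (g : X) * g ∈ centralizer ({t} : Set G) := by
          rw [← smul_mk_eq]
          exact (pow_smul_iff _ q _ _).2 dvd_rfl
        refine ⟨h1, ?_⟩
        rw [← hF', ← hg]
        unfold Fn
        rw [val_mk _ _ _ _ h1]
    · intro h
      exfalso
      apply h
      rw [Finset.mem_filter]
      refine ⟨Finset.mem_univ _, fun x => ?_⟩
      rw [hO₀, hsm]
      congr 1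
      rw [smul_mk_eq, inv_one, one_mul, mul_one]
      exact mem_centralizer_singleton_iff.2 (hTt x x.2)
  · intro x O _
    rw [← Quotient.out_eq O, hsm, hFout, hFout]
    refine Fn_smul l _ (hodd x x.2) ?_
    obtain ⟨j, hj⟩ := hTq _ (T.inv_mem x.2)
    exact ⟨j, hj⟩
  · intro O _
    exact Int.units_sq _

end

end Cfsg.Agent.OddHalf.D5.QTransfer
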