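import Cfsg.Agent.OddHalf.D5.QFusion
import Cfsg.Agent.OddHalf.D5.QChar
import Cfsg.Agent.OddHalf.D5.QTransfer
import Cfsg.Agent.OddHalf.TFormula
import Cfsg.Agent.Blocks.SylowIn

/-!
# ODD half, D5: `K = A_n`, `n ≥ 7`, `C(K)` cyclic of order at least four: contradiction
-/

set_option autoImplicit false

namespace Cfsg.Agent.OddHalf.D5.QFrame.Fr

open Equiv Equiv.Perm Subgroup Cfsg.Agent.OddHalf.D5.QPerm

variable {G : Type*} [Group G] {α : Type*} [Fintype α] [DecidableEq α]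
variable {k : ℕ} {t q : G} {e : alternatingGroup α →* G} {p : G → Perm α}

/-- `⟨q⟩` lies in every Sylow subgroup of `C(t)` -/
theorem q_mem [Finite G] (F : Fr k t q e p) {T : Subgroup G}
    (hT : ∃ S : Sylow 2 (centralizer ({t} : Set G)),
      (S : Subgroup (centralizer ({t} : Set G))).map (centralizer ({t} : Set G)).subtype = T) : q ∈ T := by
  obtain ⟨h1, h2, h3⟩ := Blocks.SylowIn.exists_sylow_map_eq_iff.1 hT
  have hqp : IsPGroup 2 (zpowers q) := by
    apply IsPGroup.of_card (n := k + 1)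
    rw [Nat.card_zpowers, F.ord]
  have hn : T ≤ normalizer ((zpowers q : Subgroup G) : Set G) := by
    intro x hx
    have hxt := mem_centralizer_singleton_iff.1 (h1 hx)
    rw [mem_normalizer_iff]
    have hmem : ∀ y : G, y * t = t * y → ∀ w ∈ zpowers q, y * w * y⁻¹ ∈ zpowers q := by
      intro y hy w hw
      obtain ⟨i, rfl⟩ := mem_zpowers_iff.1 hw
      obtain ⟨j, hj⟩ := F.norm hy
      rw [← conj_zpow, hj, ← zpow_mul]
      exact zpow_mem (mem_zpowers q) _
    intro w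
    constructor
    · exact hmem x hxt w
    · intro hw
      have := hmem x⁻¹ (ci hxt) _ hw
      have h4 : x⁻¹ * (x * w * x⁻¹) * x⁻¹⁻¹ = w := by group
      rwa [h4] at this
  have h5 : IsPGroup 2 ((T ⊔ zpowers q : Subgroup G)) := h2.to_sup_of_normal_right' hqp hn
  have h6 : T ⊔ zpowers q ≤ centralizer ({t} : Set G) := by
    refine sup_le h1 ?_
    rw [zpowers_le]
    exact mem_centralizer_singleton_iff.2 F.qtc
  have h7 := h3 _ h6 h5 le_sup_left
  rw [← h7]
  exact (le_sup_right : zpowers q ≤ _) (mem_zpowers q)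

/-- **`N_G(T) ≤ C(t)`** -/
theorem norm_le [Finite G] (F : Fr k t q e p) {T : Subgroup G}
    (hT : ∃ S : Sylow 2 (centralizer ({t} : Set G)),
      (S : Subgroup (centralizer ({t} : Set G))).map (centralizer ({t} : Set G)).subtype = T)
    {g : G} (hg : T.map (MulAut.conj g).toMonoidHom = T) : g * t * g⁻¹ = t := by
  have h1 := (Blocks.SylowIn.exists_sylow_map_eq_iff.1 hT).1
  have hq := F.q_mem hT
  have hf : f q k ∈ T := T.pow_mem hq _
  have hf' : g * f q k * g⁻¹ ∈ T := by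
    rw [← hg]; exact ⟨f q k, hf, rfl⟩
  have hf'' : g⁻¹ * f q k * g ∈ T := by
    have h2 : f q k ∈ T.map (MulAut.conj g).toMonoidHom := by rw [hg]; exact hf
    obtain ⟨y, hy, hyf⟩ := h2
    have h3 : g * y * g⁻¹ = f q k := hyf
    have h4 : g⁻¹ * f q k * g = y := by rw [← h3]; group
    rw [h4]; exact hy
  have hf't := mem_centralizer_singleton_iff.1 (h1 hf')
  have hf''t := mem_centralizer_singleton_iff.1 (h1 hf'')
  have hft' : f q k * (g * t * g⁻¹) = g * t * g⁻¹ * f q k := by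
    calc f q k * (g * t * g⁻¹) = g * (g⁻¹ * f q k * g * t) * g⁻¹ := by group
      _ = g * (t * (g⁻¹ * f q k * g)) * g⁻¹ := by rw [hf''t]
      _ = g * t * g⁻¹ * f q k := by group
  have hsq : g * f q k * g⁻¹ * (g * f q k * g⁻¹) = g * t * g⁻¹ := by
    calc g * f q k * g⁻¹ * (g * f q k * g⁻¹) = g * (f q k * f q k) * g⁻¹ := by group
      _ = g * t * g⁻¹ := by rw [F.ff]
  rcases F.normf hf't with h2 | h2
  · -- they commute
    apply F.comm_fix
    rwa [mul_inv_eq_iff_eq_mul] at h2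
  · rcases F.normf' hft' with h3 | h3
    · apply F.comm_fix
      rw [mul_inv_eq_iff_eq_mul] at h3
      exact h3.symm
    · -- `f f' f⁻¹ = f' t = f'⁻¹`
      set y := g * f q k * g⁻¹ with hy
      have h4 : f q k * y * (f q k)⁻¹ = y * t := by
        have h5 : y * f q k = (f q k)⁻¹ * y := by rw [← h2]; group
        calc f q k * y * (f q k)⁻¹ = f q k * (y * f q k) * (f q k * f q k)⁻¹ := by group
          _ = f q k * ((f q k)⁻¹ * y) * (f q k * f q k)⁻¹ := by rw [h5]
          _ = y * (f q k * f q k)⁻¹ := by group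
          _ = y * t := by rw [F.ff, inv_eq_of_mul_eq_one_left F.tt]
      rw [h3] at h4
      have h6 : y * y * t = 1 := by
        calc y * y * t = y * (y * t) := by group
          _ = y * y⁻¹ := by rw [h4]
          _ = 1 := by group
      rw [hsq] at h6
      calc g * t * g⁻¹ = g * t * g⁻¹ * t * t := by rw [mul_assoc _ t t, F.tt, mul_one]
        _ = t := by rw [h6, one_mul]

/-- `t` is the only conjugate of `t` centralizing `T` -/
theorem unique [Finite G] (F : Fr k t q e p) {T : Subgroup G}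
    (hT : ∃ S : Sylow 2 (centralizer ({t} : Set G)),
      (S : Subgroup (centralizer ({t} : Set G))).map (centralizer ({t} : Set G)).subtype = T)
    (g : G) (hg : ∀ x ∈ T, x * (g * t * g⁻¹) = g * t * g⁻¹ * x) : g * t * g⁻¹ = t := by
  have : Fact (Nat.Prime 2) := ⟨Nat.prime_two⟩
  have h1 : T ≤ centralizer ({g * t * g⁻¹} : Set G) := by
    intro x hx
    exact mem_centralizer_singleton_iff.2 (hg x hx)
  have h2 : Nat.card T = 2 ^ (Nat.card (centralizer ({g * t * g⁻¹} : Set G))).factorization 2 := by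
    rw [Blocks.SylowIn.card_centralizer_singleton_conj]
    exact Blocks.SylowIn.card_of_sylow_map_eq hT
  have h3 := Blocks.SylowIn.exists_sylow_map_eq_of_card h1 h2
  have h4 : T.map (MulAut.conj g).toMonoidHom ≤ centralizer ({g * t * g⁻¹} : Set G) := by
    rw [← Blocks.SylowIn.centralizer_singleton_conj]
    exact map_mono (Blocks.SylowIn.exists_sylow_map_eq_iff.1 hT).1
  have h5 : Nat.card (T.map (MulAut.conj g).toMonoidHom) =
      2 ^ (Nat.card (centralizer ({g * t * g⁻¹} : Set G))).factorization 2 := by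
    rw [← h2]
    exact (Nat.card_congr (T.equivMapOfInjective _ (MulAut.conj g).injective).toEquiv).symm
  have h6 := Blocks.SylowIn.exists_sylow_map_eq_of_card h4 h5
  obtain ⟨c, hc, hcT⟩ := Blocks.SylowIn.exists_conj_of_sylow_map_eq h6 h3
  rw [map_map] at hcT
  have h7 : ((MulAut.conj c).toMonoidHom.comp (MulAut.conj g).toMonoidHom) =
      (MulAut.conj (c * g)).toMonoidHom := by
    ext x
    simp [MulAut.conj_apply, mul_assoc]
  rw [h7] at hcT
  have h8 := F.norm_le hT hcT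
  have hc' := mem_centralizer_singleton_iff.1 hc
  calc g * t * g⁻¹ = c * (g * t * g⁻¹) * c⁻¹ := by rw [hc']; group
    _ = c * g * t * (c * g)⁻¹ := by group
    _ = t := h8

/-- there is an element of `C(t)` not commuting with `q` -/
theorem exists_noncomm [Finite G] (F : Fr k t q e p) (hG : commutator G = ⊤) :
    ∃ s, s * t = t * s ∧ s * q ≠ q * s := by
  by_contra hcon
  push Not at hcon
  have : Fact (Nat.Prime 2) := ⟨Nat.prime_two⟩
  obtain ⟨S⟩ : Nonempty (Sylow 2 (centralizer ({t} : Set G))) := inferInstance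
  set T := (S : Subgroup (centralizer ({t} : Set G))).map (centralizer ({t} : Set G)).subtype with hTd
  have hT : ∃ S : Sylow 2 (centralizer ({t} : Set G)),
      (S : Subgroup (centralizer ({t} : Set G))).map (centralizer ({t} : Set G)).subtype = T := ⟨S, rfl⟩
  have hTp : IsPGroup 2 T := S.isPGroup'.map _
  have hTt : ∀ x ∈ T, x * t = t * x := fun x hx =>
    mem_centralizer_singleton_iff.1 ((Blocks.SylowIn.exists_sylow_map_eq_iff.1 hT).1 hx)
  have h1 := TFormula.mem_commutator hG F.tt T hTp hTt hTt rfl (F.unique hT)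
  -- the range of `e`
  have hqc : ∀ (i : ℤ) (y : G), y * t = t * y → y * q ^ i = q ^ i * y := by
    intro i y hy
    exact ((show Commute y q from hcon y hy).zpow_right i)
  have hce : ∀ x : G, x * t = t * x → ∀ w ∈ e.range, x * w * x⁻¹ ∈ e.range := by
    rintro x hx _ ⟨a, rfl⟩
    exact ⟨cj (p x) a, (F.pc x hx a).symm⟩
  -- commutators with inner elements
  have hin : ∀ x y : G, x * t = t * x → sign (p x) = 1 → y * t = t * y → x * y * x⁻¹ * y⁻¹ ∈ e.range := by
    intro x y hx hxs hy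
    obtain ⟨i, a, rfl, -⟩ := F.inner hx hxs
    have h2 : q ^ i * e a * y * (q ^ i * e a)⁻¹ * y⁻¹ = e a * (y * (e a)⁻¹ * y⁻¹) := by
      have h3 := hqc i (e a * y * (e a)⁻¹) (tn_inv (F.et a) hy)
      calc q ^ i * e a * y * (q ^ i * e a)⁻¹ * y⁻¹ = (q ^ i * (e a * y * (e a)⁻¹)) * (q ^ i)⁻¹ * y⁻¹ := by
            group
        _ = (e a * y * (e a)⁻¹ * q ^ i) * (q ^ i)⁻¹ * y⁻¹ := by rw [h3]
        _ = e a * (y * (e a)⁻¹ * y⁻¹) := by group
    rw [h2]
    exact mul_mem ⟨a, rfl⟩ (hce y hy _ (inv_mem ⟨a, rfl⟩))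
  have hall : commutator (centralizer ({t} : Set G)) ≤ e.range.subgroupOf (centralizer ({t} : Set G)) := by
    rw [commutator_def, commutator_le]
    rintro ⟨x, hx⟩ - ⟨y, hy⟩ -
    rw [mem_centralizer_singleton_iff] at hx hy
    rw [mem_subgroupOf]
    change x * y * x⁻¹ * y⁻¹ ∈ e.range
    rcases sign_one_or x p with h2 | h2
    · exact hin x y hx h2 hy
    · rcases sign_one_or y p with h3 | h3
      · have h4 := hin y x hy h3 hx
        have h5 : x * y * x⁻¹ * y⁻¹ = (y * x * y⁻¹ * x⁻¹)⁻¹ := by group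
        rw [h5]; exact inv_mem h4
      · have h6 : x⁻¹ * y * t = t * (x⁻¹ * y) := cm (ci hx) hy
        have h7 : sign (p (x⁻¹ * y)) = 1 := by
          rw [F.pm _ _ (ci hx) hy, F.p_inv hx, map_mul, map_inv, h2, h3]; decide
        have h8 := hce x hx _ (hin _ x h6 h7 hx)
        have h9 : x * y * x⁻¹ * y⁻¹ = (x * (x⁻¹ * y * x * (x⁻¹ * y)⁻¹ * x⁻¹) * x⁻¹)⁻¹ := by group
        rw [h9]; exact inv_mem h8
  have h2 := hall h1
  rw [mem_subgroupOf] at h2
  obtain ⟨a, ha⟩ := h2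
  have ha' : e a = t := ha
  have h3 := F.pe a
  rw [ha', F.p_t] at h3
  have h4 : a = 1 := Subtype.ext h3.symm
  rw [h4, map_one] at ha'
  exact F.t_ne ha'.symm

/-- the consequences of the orbit formula -/
theorem exists_u [Finite G] (F : Fr k t q e p) (hG : ∀ N : Subgroup G, N.index ≠ 2) {s : G}
    (hs : s * t = t * s) (hss : sign (p s) = -1) (hsq : s * q ≠ q * s) :
    ∃ (g : G) (b : ℕ), 1 ≤ b ∧ b ≤ k ∧ g * t * g⁻¹ * t = t * (g * t * g⁻¹) ∧
      sign (p (g * t * g⁻¹)) = -1 ∧ g * t * g⁻¹ * q ^ (2 ^ b) = q ^ (2 ^ b) * (g * t * g⁻¹) ∧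
      g⁻¹ * q ^ (2 ^ b) * g * t = t * (g⁻¹ * q ^ (2 ^ b) * g) ∧
      ∃ (i : ℤ) (a : alternatingGroup α), Odd i ∧
        (g⁻¹ * q ^ (2 ^ b) * g = q ^ i * e a ∨ g⁻¹ * q ^ (2 ^ b) * g = s * (q ^ i * e a)) := by
  have : Fact (Nat.Prime 2) := ⟨Nat.prime_two⟩
  obtain ⟨l, hl1, hl2⟩ := F.exists_char hs hss hsq
  obtain ⟨S⟩ : Nonempty (Sylow 2 (centralizer ({t} : Set G))) := inferInstance
  set T := (S : Subgroup (centralizer ({t} : Set G))).map (centralizer ({t} : Set G)).subtype with hTd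
  have hT : ∃ S : Sylow 2 (centralizer ({t} : Set G)),
      (S : Subgroup (centralizer ({t} : Set G))).map (centralizer ({t} : Set G)).subtype = T := ⟨S, rfl⟩
  have hTp : IsPGroup 2 T := S.isPGroup'.map _
  have hTt : ∀ x ∈ T, x * t = t * x := fun x hx =>
    mem_centralizer_singleton_iff.1 ((Blocks.SylowIn.exists_sylow_map_eq_iff.1 hT).1 hx)
  have hqC : q ∈ centralizer ({t} : Set G) := mem_centralizer_singleton_iff.2 F.qtc
  have hlq : l ⟨q, hqC⟩ = -1 := by
    have h1 : q = q ^ (1 : ℤ) * e 1 := by rw [map_one, mul_one, zpow_one]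
    have h2 : q ^ (1 : ℤ) * e 1 ∈ centralizer ({t} : Set G) := by rw [← h1]; exact hqC
    have h3 : (⟨q, hqC⟩ : centralizer ({t} : Set G)) = ⟨q ^ (1 : ℤ) * e 1, h2⟩ := Subtype.ext h1
    rw [h3, hl1, zpow_one]
  obtain ⟨g, r, hne, hr, hTo, hm, hlm⟩ := QTransfer.exists_orbit l hG hTp hTt
    (fun x hx => F.norm (hTt x hx)) hqC hlq
  have hr1 : r ≠ 1 := by
    intro h1
    have hqu : q * (g * t * g⁻¹) = g * t * g⁻¹ * q := by
      have := (hr 1).2 (by rw [h1])
      rwa [pow_one] at this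
    apply hne
    apply F.unique hT
    intro x hx
    obtain ⟨j, hj⟩ := hTo x hx
    have h2 : q ^ j * (g * t * g⁻¹) = g * t * g⁻¹ * q ^ j := (show Commute q _ from hqu).zpow_left j
    rw [h2, mul_inv_cancel_right, mul_inv_eq_iff_eq_mul] at hj
    exact hj
  have hrd : r ∣ 2 ^ (k + 1) := by
    rw [← hr, ← F.ord, pow_orderOf_eq_one, one_mul, mul_one]
  obtain ⟨b, hb, rfl⟩ := (Nat.dvd_prime_pow Nat.prime_two).1 hrd
  have hb1 : 1 ≤ b := by
    rcases Nat.eq_zero_or_pos b with h | h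
    · exact absurd (by rw [h, pow_zero]) hr1
    · exact h
  have hbk : b ≤ k := by
    by_contra hcon
    have h1 : b = k + 1 := by omega
    have h2 : (⟨g⁻¹ * q ^ 2 ^ b * g, hm⟩ : centralizer ({t} : Set G)) = 1 := by
      apply Subtype.ext
      change g⁻¹ * q ^ 2 ^ b * g = 1
      rw [h1, ← F.ord, pow_orderOf_eq_one]; group
    rw [h2, map_one] at hlm
    exact absurd hlm (by decide)
  have hut : g * t * g⁻¹ * t = t * (g * t * g⁻¹) := by
    have := (hr (2 ^ k)).2 (pow_dvd_pow 2 hbk)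
    rw [F.qt] at this
    exact this.symm
  have hus : sign (p (g * t * g⁻¹)) = -1 := by
    rcases sign_one_or (g * t * g⁻¹) p with h1 | h1
    · exfalso
      have h2 := F.inner_comm hut h1
      have h3 := (hr 1).1 (by rw [pow_one]; exact h2.symm)
      exact hr1 (Nat.dvd_one.1 h3)
    · exact h1
  have hm' := mem_centralizer_singleton_iff.1 hm
  refine ⟨g, b, hb1, hbk, hut, hus, ((hr _).2 dvd_rfl).symm, hm', ?_⟩
  rcases sign_one_or (g⁻¹ * q ^ 2 ^ b * g) p with h1 | h1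
  · obtain ⟨i, a, hia, -⟩ := F.inner hm' h1
    refine ⟨i, a, ?_, Or.inl hia⟩
    have h2 : q ^ i * e a ∈ centralizer ({t} : Set G) := by rw [← hia]; exact hm
    have h3 : (⟨g⁻¹ * q ^ 2 ^ b * g, hm⟩ : centralizer ({t} : Set G)) = ⟨q ^ i * e a, h2⟩ :=
      Subtype.ext hia
    rw [h3, hl1] at hlm
    by_contra hi
    rw [Int.not_odd_iff_even] at hi
    rw [hi.neg_one_zpow] at hlm
    exact absurd hlm (by decide)
  · have h4 : sign (p (s⁻¹ * (g⁻¹ * q ^ 2 ^ b * g))) = 1 := by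
      rw [F.pm _ _ (ci hs) hm', F.p_inv hs, map_mul, map_inv, hss, h1]; decide
    obtain ⟨i, a, hia, -⟩ := F.inner (cm (ci hs) hm') h4
    have hia' : g⁻¹ * q ^ 2 ^ b * g = s * (q ^ i * e a) := by rw [← hia, mul_inv_cancel_left]
    refine ⟨i, a, ?_, Or.inr hia'⟩
    have h2 : s * (q ^ i * e a) ∈ centralizer ({t} : Set G) := by rw [← hia']; exact hm
    have h3 : (⟨g⁻¹ * q ^ 2 ^ b * g, hm⟩ : centralizer ({t} : Set G)) = ⟨s * (q ^ i * e a), h2⟩ :=
      Subtype.ext hia'
    rw [h3, hl2] at hlm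
    by_contra hi
    rw [Int.not_odd_iff_even] at hi
    rw [hi.neg_one_zpow] at hlm
    exact absurd hlm (by decide)

theorem cop {i : ℤ} (h : Odd i) (n : ℕ) : IsCoprime ((2 : ℤ) ^ n) i := by
  apply IsCoprime.pow_left
  obtain ⟨c, hc⟩ := h
  exact ⟨-c, 1, by rw [hc]; ring⟩

/-- **`K = A_n`, `n ≥ 7`, `|C(K)| ≥ 4` cyclic: contradiction.** -/
theorem false_of_simple [Finite G] (F : Fr k t q e p) (hG : commutator G = ⊤)
    (hG2 : ∀ N : Subgroup G, N.index ≠ 2) : False := by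
  -- an outer element
  obtain ⟨s, hs, hsq⟩ := F.exists_noncomm hG
  have hss : sign (p s) = -1 := by
    rcases sign_one_or s p with h1 | h1
    · exact absurd (F.inner_comm hs h1) hsq
    · exact h1
  -- an outer conjugate
  obtain ⟨g₀, b₀, hb₀, -, hu, hus, -⟩ := F.exists_u hG2 hs hss hsq
  set u := g₀ * t * g₀⁻¹ with hu_def
  have huu : u * u = 1 := by
    calc u * u = g₀ * (t * t) * g₀⁻¹ := by rw [hu_def]; group
      _ = 1 := by rw [F.tt]; group
  -- outer elements act on `q` in the same way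
  have hout : ∀ x y : G, x * t = t * x → sign (p x) = -1 → y * t = t * y → sign (p y) = -1 →
      x * q * x⁻¹ = y * q * y⁻¹ := by
    intro x y hx hxs hy hys
    have h1 : sign (p (y⁻¹ * x)) = 1 := by
      rw [F.pm _ _ (ci hy) hx, F.p_inv hy, map_mul, map_inv, hys, hxs]; decide
    have h2 := F.inner_comm (cm (ci hy) hx) h1
    calc x * q * x⁻¹ = y * (y⁻¹ * x * q) * (y⁻¹ * x)⁻¹ * y⁻¹ := by group
      _ = y * (q * (y⁻¹ * x)) * (y⁻¹ * x)⁻¹ * y⁻¹ := by rw [h2]
      _ = y * q * y⁻¹ := by group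
  have huq : u * q ≠ q * u := by
    intro h
    have h1 := hout s u hs hss hu hus
    rw [h, mul_inv_cancel_right, mul_inv_eq_iff_eq_mul] at h1
    exact hsq h1
  obtain ⟨j, hj⟩ := F.norm hu
  -- second application
  obtain ⟨g, b, hb1, hbk, hu', hus', hcomm, hy, i, a, hi, hia⟩ := F.exists_u hG2 hu hus huq
  set y := g⁻¹ * q ^ 2 ^ b * g with hy_def
  have hkb : 2 ^ b * 2 ^ (k + 1 - b) = 2 ^ (k + 1) := by rw [← pow_add]; congr 1; omega
  have hyp : y ^ (2 ^ (k + 1 - b)) = 1 := by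
    have h1 : y ^ (2 ^ (k + 1 - b)) = g⁻¹ * (q ^ 2 ^ b) ^ (2 ^ (k + 1 - b)) * g := by
      have := conj_pow (i := 2 ^ (k + 1 - b)) (a := g⁻¹) (b := q ^ 2 ^ b)
      simpa using this
    rw [h1, ← pow_mul, hkb, ← F.ord, pow_orderOf_eq_one]; group
  -- from `(q ^ m * e c) ^ n = 1`
  have hpow : ∀ (m : ℤ) (c : alternatingGroup α) (n : ℕ), (q ^ m * e c) ^ n = 1 → q ^ (m * n) = 1 := by
    intro m c n h
    have hc : Commute (q ^ m) (e c) := (F.qez m c).symm
    rw [hc.mul_pow, ← map_pow, ← zpow_natCast, ← zpow_mul] at h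
    have h1 : q ^ (m * n) * e (c ^ n) = q ^ (0 : ℤ) * e 1 := by rw [h, zpow_zero, map_one, mul_one]
    rw [(F.uniq h1).2, zpow_zero]
  rcases hia with hia | hia
  · -- inner: impossible by order
    rw [hia] at hyp
    have h1 := hpow _ _ _ hyp
    rw [F.qz_eq_one] at h1
    have h2 := (cop hi (k + 1)).dvd_of_dvd_mul_left h1
    have h3 : (2 : ℕ) ^ (k + 1) ∣ 2 ^ (k + 1 - b) := by exact_mod_cast h2
    have h4 := Nat.pow_dvd_pow_iff_le_right (Nat.one_lt_two) |>.1 h3
    omega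
  · -- outer
    have hys : sign (p y) = -1 := by
      rw [hia, F.pm _ _ hu (cm (F.ctq i) (F.et a)), F.pm _ _ (F.ctq i) (F.et a), F.p_qz, one_mul, F.pe,
        map_mul, hus, mem_alternatingGroup.1 a.2, mul_one]
    -- the square of `y`
    obtain ⟨c, hc⟩ : ∃ c : alternatingGroup α, y * y = q ^ (i * (j + 1)) * e c := by
      have h0 : u * e a * u = e (cj (p u) a) := by
        rw [← F.pc u hu a, inv_eq_of_mul_eq_one_left huu]
      have h00 : u * q ^ i * u = q ^ (j * i) := by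
        have h1 : (u * q * u⁻¹) ^ i = u * q ^ i * u⁻¹ := conj_zpow
        rw [hj, ← zpow_mul, inv_eq_of_mul_eq_one_left huu] at h1
        exact h1.symm
      refine ⟨cj (p u) a * a, ?_⟩
      rw [hia]
      calc u * (q ^ i * e a) * (u * (q ^ i * e a))
          = u * q ^ i * (e a * (u * q ^ i)) * e a := by group
        _ = u * q ^ i * (u * u) * (e a * (u * q ^ i)) * e a := by rw [huu, mul_one]
        _ = (u * q ^ i * u) * (u * e a * u) * q ^ i * e a := by group
        _ = q ^ (j * i) * e (cj (p u) a) * q ^ i * e a := by rw [h0, h00]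
        _ = q ^ (j * i) * (e (cj (p u) a) * q ^ i) * e a := by group
        _ = q ^ (j * i) * (q ^ i * e (cj (p u) a)) * e a := by rw [F.qez]
        _ = q ^ (i * (j + 1)) * e (cj (p u) a * a) := by
            rw [map_mul]
            have : i * (j + 1) = j * i + i := by ring
            rw [this, zpow_add]; group
    have h1 : y ^ (2 ^ (k + 1 - b)) = (y * y) ^ (2 ^ (k - b)) := by
      rw [← pow_two, ← pow_mul]
      congr 1
      have : k + 1 - b = k - b + 1 := by omega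
      rw [this, pow_succ']
    rw [h1, hc] at hyp
    have h2 := hpow _ _ _ hyp
    rw [F.qz_eq_one, mul_assoc] at h2
    have h3 := (cop hi (k + 1)).dvd_of_dvd_mul_left h2
    -- `2 ^ (b + 1) ∣ j + 1`
    have h4 : (2 : ℤ) ^ (b + 1) ∣ j + 1 := by
      have h5 : (2 : ℤ) ^ (k + 1) = 2 ^ (b + 1) * 2 ^ (k - b) := by
        rw [← pow_add]; congr 1; omega
      rw [h5] at h3
      push_cast at h3
      exact (mul_dvd_mul_iff_right (by positivity)).1 h3
    -- `u'` commutes with `q ^ 2 ^ b`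
    have hj' : g * t * g⁻¹ * q * (g * t * g⁻¹)⁻¹ = q ^ j := by
      rw [hout _ u hu' hus' hu hus, hj]
    have h5 : q ^ (j * (2 ^ b : ℕ)) = q ^ ((2 ^ b : ℕ) : ℤ) := by
      rw [zpow_mul, ← hj', zpow_natCast, zpow_natCast, conj_pow, hcomm, mul_inv_cancel_right]
    rw [F.qz_eq] at h5
    have h6 : b = k := by
      obtain ⟨c', hc'⟩ := h4
      have h7 : j * ((2 ^ b : ℕ) : ℤ) - ((2 ^ b : ℕ) : ℤ) = (2 * (2 ^ b * c') - 2) * 2 ^ b := by
        have : j = 2 ^ (b + 1) * c' - 1 := by linarith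
        rw [this, pow_succ]; push_cast; ring
      rw [h7] at h5
      have h8 : (2 : ℤ) ^ k ∣ (2 ^ b * c' - 1) * 2 ^ b := by
        have h9 : (2 * (2 ^ b * c') - 2) * (2 : ℤ) ^ b = 2 * ((2 ^ b * c' - 1) * 2 ^ b) := by ring
        rw [h9, pow_succ'] at h5
        exact (mul_dvd_mul_iff_left two_ne_zero).1 h5
      have h10 : Odd ((2 : ℤ) ^ b * c' - 1) := by
        obtain ⟨b', rfl⟩ : ∃ b', b = b' + 1 := ⟨b - 1, by omega⟩
        refine ⟨2 ^ b' * c' - 1, ?_⟩
        rw [pow_succ]; ring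
      have h11 := (cop h10 k).dvd_of_dvd_mul_left h8
      have h12 : (2 : ℕ) ^ k ∣ 2 ^ b := by exact_mod_cast h11
      have h13 := Nat.pow_dvd_pow_iff_le_right (Nat.one_lt_two) |>.1 h12
      omega
    subst h6
    have h7 : q ^ j = q⁻¹ := by
      have h8 : q ^ j = q ^ (-1 : ℤ) := by
        rw [F.qz_eq, sub_neg_eq_add]; exact h4
      rw [h8, zpow_neg_one]
    refine F.no_outer (g := g) ?_ hu' hus' ?_ ?_
    · intro x hx hxs
      rw [hout x u hx hxs hu hus, hj, h7]
    · rw [← F.qt]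
      rw [← F.qt] at hy
      exact hy
    · rw [← hys, hy_def, F.qt]

end Cfsg.Agent.OddHalf.D5.QFrame.Fr
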