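import Mathlib

/-!
# ODD half, D5: elementary facts on permutations
-/

set_option autoImplicit false
set_option linter.unusedSectionVars false

namespace Cfsg.Agent.OddHalf.D5.QPerm

open Equiv Equiv.Perm

variable {α : Type*} [Fintype α] [DecidableEq α]

/-- four different points -/
structure Four (a b c d : α) : Prop where
  ab : a ≠ b
  ac : a ≠ c
  ad : a ≠ d
  bc : b ≠ c
  bd : b ≠ d
  cd : c ≠ d

/-- product of two disjoint transpositions -/
def rt (a b c d : α) : Perm α := swap a b * swap c d

section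

variable {a b c d : α}

theorem rt_a (h : Four a b c d) : rt a b c d a = b := by
  unfold rt; rw [Perm.mul_apply, swap_apply_of_ne_of_ne h.ac h.ad, swap_apply_left]

theorem rt_b (h : Four a b c d) : rt a b c d b = a := by
  unfold rt; rw [Perm.mul_apply, swap_apply_of_ne_of_ne h.bc h.bd, swap_apply_right]

theorem rt_c (h : Four a b c d) : rt a b c d c = d := by
  unfold rt; rw [Perm.mul_apply, swap_apply_left, swap_apply_of_ne_of_ne h.ad.symm h.bd.symm]

theorem rt_d (h : Four a b c d) : rt a b c d d = c := by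
  unfold rt; rw [Perm.mul_apply, swap_apply_right, swap_apply_of_ne_of_ne h.ac.symm h.bc.symm]

theorem rt_o {x : α} (ha : x ≠ a) (hb : x ≠ b) (hc : x ≠ c) (hd : x ≠ d) : rt a b c d x = x := by
  unfold rt; rw [Perm.mul_apply, swap_apply_of_ne_of_ne hc hd, swap_apply_of_ne_of_ne ha hb]

theorem rt_mem (h : Four a b c d) : rt a b c d ∈ alternatingGroup α := by
  rw [mem_alternatingGroup]
  unfold rt
  rw [map_mul, sign_swap h.ab, sign_swap h.cd]
  decide

/-- Case analysis on a point. -/
theorem cases5 {P : α → Prop} (ha : P a) (hb : P b) (hc : P c) (hd : P d)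
    (ho : ∀ x, x ≠ a → x ≠ b → x ≠ c → x ≠ d → P x) (x : α) : P x := by
  by_cases h1 : x = a
  · rw [h1]; exact ha
  by_cases h2 : x = b
  · rw [h2]; exact hb
  by_cases h3 : x = c
  · rw [h3]; exact hc
  by_cases h4 : x = d
  · rw [h4]; exact hd
  exact ho x h1 h2 h3 h4

theorem rt_mul_self (h : Four a b c d) : rt a b c d * rt a b c d = 1 := by
  ext x
  refine cases5 (a := a) (b := b) (c := c) (d := d) (P := fun x => (rt a b c d * rt a b c d) x = (1 : Perm α) x)
    ?_ ?_ ?_ ?_ ?_ x
  · rw [Perm.mul_apply, rt_a h, rt_b h, Perm.one_apply]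
  · rw [Perm.mul_apply, rt_b h, rt_a h, Perm.one_apply]
  · rw [Perm.mul_apply, rt_c h, rt_d h, Perm.one_apply]
  · rw [Perm.mul_apply, rt_d h, rt_c h, Perm.one_apply]
  · intro x ha hb hc hd
    rw [Perm.mul_apply, rt_o ha hb hc hd, rt_o ha hb hc hd, Perm.one_apply]

theorem Four.s1 (h : Four a b c d) : Four b a c d := ⟨h.ab.symm, h.bc, h.bd, h.ac, h.ad, h.cd⟩
theorem Four.s2 (h : Four a b c d) : Four c d a b :=
  ⟨h.cd, h.ac.symm, h.bc.symm, h.ad.symm, h.bd.symm, h.ab⟩
theorem Four.s3 (h : Four a b c d) : Four a c b d := ⟨h.ac, h.ab, h.ad, h.bc.symm, h.cd, h.bd⟩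
theorem Four.s4 (h : Four a b c d) : Four a b d c := ⟨h.ab, h.ad, h.ac, h.bd, h.bc, h.cd.symm⟩

theorem rt_s1 : rt b a c d = rt a b c d := by unfold rt; rw [swap_comm b a]
theorem rt_s4 : rt a b d c = rt a b c d := by unfold rt; rw [swap_comm d c]
theorem rt_s2 (h : Four a b c d) : rt c d a b = rt a b c d := by
  ext x
  refine cases5 (a := a) (b := b) (c := c) (d := d) (P := fun x => (rt c d a b) x = (rt a b c d) x)
    ?_ ?_ ?_ ?_ ?_ x
  · rw [rt_c h.s2, rt_a h]
  · rw [rt_d h.s2, rt_b h]
  · rw [rt_a h.s2, rt_c h]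
  · rw [rt_b h.s2, rt_d h]
  · intro x ha hb hc hd
    rw [rt_o ha hb hc hd, rt_o hc hd ha hb]

/-- an element of order `3` commuting with a root fixes its support -/
theorem fix_a (h : Four a b c d) {s : Perm α} (h3 : s ^ 3 = 1) (hc : s * rt a b c d = rt a b c d * s) :
    s a = a := by
  have h3' : ∀ x, s (s (s x)) = x := by
    intro x
    have := congrArg (fun g : Perm α => g x) h3
    simpa [pow_succ] using this
  have hc' : ∀ x, s (rt a b c d x) = rt a b c d (s x) := by
    intro x
    have := congrArg (fun g : Perm α => g x) hc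
    simpa using this
  have hb : s b = rt a b c d (s a) := by rw [← hc', rt_a h]
  by_contra hne
  have h1 : s a = b ∨ s a = c ∨ s a = d := by
    by_contra hcon
    push Not at hcon
    rw [rt_o hne hcon.1 hcon.2.1 hcon.2.2] at hb
    exact h.ab (s.injective hb.symm)
  rcases h1 with h1 | h1 | h1
  · rw [h1, rt_b h] at hb
    have := h3' a
    rw [h1, hb, h1] at this
    exact h.ab this.symm
  · rw [h1, rt_c h] at hb
    have h2 := h3' a
    rw [h1] at h2
    have h4 : s d = rt a b c d (s c) := by rw [← hc', rt_c h]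
    have h5 : s (s c) = a := h2
    -- s c =: y with s y = a
    have h6 : s (s (s b)) = b := h3' b
    rw [hb] at h6
    -- s (s d) = b, s (s c) = a
    by_cases hca : s c = a
    · rw [hca, h1] at h5; exact h.ac h5.symm
    by_cases hcb : s c = b
    · rw [hcb, hb] at h5; exact h.ad h5.symm
    by_cases hcc : s c = c
    · exact h.ac (s.injective (h1.trans hcc.symm))
    by_cases hcd : s c = d
    · exact h.bc (s.injective (hb.trans hcd.symm))
    · rw [rt_o hca hcb hcc hcd] at h4
      exact h.cd (s.injective h4.symm)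
  · rw [h1, rt_d h] at hb
    have h2 := h3' a
    rw [h1] at h2
    have h4 : s c = rt a b c d (s d) := by rw [← hc', rt_d h]
    by_cases hda : s d = a
    · rw [hda, h1] at h2; exact h.ad h2.symm
    by_cases hdb : s d = b
    · rw [hdb, hb] at h2; exact h.ac h2.symm
    by_cases hdd : s d = d
    · exact h.ad (s.injective (h1.trans hdd.symm))
    by_cases hdc : s d = c
    · exact h.bd (s.injective (hb.trans hdc.symm))
    · rw [rt_o hda hdb hdc hdd] at h4
      exact h.cd (s.injective h4)

theorem fix_all (h : Four a b c d) {s : Perm α} (h3 : s ^ 3 = 1)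
    (hc : s * rt a b c d = rt a b c d * s) : s a = a ∧ s b = b ∧ s c = c ∧ s d = d := by
  refine ⟨fix_a h h3 hc, ?_, ?_, ?_⟩
  · exact fix_a h.s1 h3 (by rw [rt_s1]; exact hc)
  · exact fix_a h.s2 h3 (by rw [rt_s2 h]; exact hc)
  · exact fix_a h.s2.s1 h3 (by rw [rt_s1, rt_s2 h]; exact hc)

/-- commuting with the third root -/
theorem comm_rt {s : Perm α} {a b c d : α} (ha : s a = a) (hb : s b = b) (hc : s c = c) (hd : s d = d) :
    s * rt a b c d = rt a b c d * s := by
  unfold rt
  rw [← mul_assoc, mul_swap_eq_swap_mul s a b, ha, hb, mul_assoc, mul_swap_eq_swap_mul s c d, hc, hd,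
    mul_assoc]

/-- a square root of a root commuting with the elements of order `3` that commute with the root, fixes the
points outside -/
theorem out_fix (h7 : 7 ≤ Fintype.card α) {s : Perm α} (h2 : s * s = rt a b c d)
    (hc : ∀ y : Perm α, y ∈ alternatingGroup α → y ^ 3 = 1 → y * rt a b c d = rt a b c d * y →
      s * y = y * s) {x : α} (ha : x ≠ a) (hb : x ≠ b) (hcc : x ≠ c) (hd : x ≠ d) : s x = x := by
  -- two more points
  obtain ⟨l, hl⟩ : ∃ l, l ∉ ({a, b, c, d, x} : Finset α) := by
    by_contra hcon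
    push Not at hcon
    have : Fintype.card α ≤ ({a, b, c, d, x} : Finset α).card := by
      rw [← Finset.card_univ]; exact Finset.card_le_card fun y _ => hcon y
    have h5 := Finset.card_le_five (a := a) (b := b) (c := c) (d := d) (e := x)
    omega
  obtain ⟨m, hm⟩ : ∃ m, m ∉ ({a, b, c, d, x, l} : Finset α) := by
    by_contra hcon
    push Not at hcon
    have : Fintype.card α ≤ ({a, b, c, d, x, l} : Finset α).card := by
      rw [← Finset.card_univ]; exact Finset.card_le_card fun y _ => hcon y
    have h5 := Finset.card_le_six (a := a) (b := b) (c := c) (d := d) (e := x) (f := l)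
    omega
  simp only [Finset.mem_insert, Finset.mem_singleton, not_or] at hl hm
  obtain ⟨la, lb, lc, ld, lx⟩ := hl
  obtain ⟨ma, mb, mc, md, mx, ml⟩ := hm
  set y : Perm α := swap x l * swap l m with hy
  have yx : y x = l := by
    rw [hy, Perm.mul_apply, swap_apply_of_ne_of_ne (Ne.symm lx) (Ne.symm mx), swap_apply_left]
  have yl : y l = m := by
    rw [hy, Perm.mul_apply, swap_apply_left, swap_apply_of_ne_of_ne mx ml]
  have ym : y m = x := by
    rw [hy, Perm.mul_apply, swap_apply_right, swap_apply_right]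
  have yo : ∀ w, w ≠ x → w ≠ l → w ≠ m → y w = w := by
    intro w h1 h2 h3
    rw [hy, Perm.mul_apply, swap_apply_of_ne_of_ne h2 h3, swap_apply_of_ne_of_ne h1 h2]
  have y3 : y ^ 3 = 1 := by
    ext w
    have : (y ^ 3) w = y (y (y w)) := by simp [pow_succ]
    rw [this, Perm.one_apply]
    by_cases h1 : w = x
    · rw [h1, yx, yl, ym]
    by_cases h2 : w = l
    · rw [h2, yl, ym, yx]
    by_cases h3 : w = m
    · rw [h3, ym, yx, yl]
    rw [yo w h1 h2 h3, yo w h1 h2 h3, yo w h1 h2 h3]
  have yA : y ∈ alternatingGroup α := by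
    rw [mem_alternatingGroup, hy, map_mul, sign_swap (Ne.symm lx), sign_swap (Ne.symm ml)]
    decide
  have yr : y * rt a b c d = rt a b c d * y :=
    comm_rt (yo a ha.symm (Ne.symm la) (Ne.symm ma)) (yo b hb.symm (Ne.symm lb) (Ne.symm mb))
      (yo c hcc.symm (Ne.symm lc) (Ne.symm mc)) (yo d hd.symm (Ne.symm ld) (Ne.symm md))
  have hcy := hc y yA y3 yr
  have hcy' : ∀ w, s (y w) = y (s w) := by
    intro w
    have := congrArg (fun g : Perm α => g w) hcy
    simpa using this
  have h2' : ∀ w, s (s w) = rt a b c d w := by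
    intro w
    have := congrArg (fun g : Perm α => g w) h2
    simpa using this
  have hsx : s (s x) = x := by rw [h2', rt_o ha hb hcc hd]
  by_contra hne
  have h3 : s x = l ∨ s x = m := by
    by_contra hcon
    push Not at hcon
    have h4 : s (y x) = s x := by rw [hcy', yo _ hne hcon.1 hcon.2]
    rw [yx] at h4
    exact lx (s.injective h4)
  rcases h3 with h3 | h3
  · have h4 : s l = m := by rw [← yx, hcy', h3, yl]
    rw [h3, h4] at hsx
    exact mx hsx
  · have h4 : s m = l := by
      have h5 : s l = y (s x) := by rw [← yx, hcy']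
      have h6 : s m = y (s l) := by rw [← yl, hcy']
      rw [h6, h5, h3, ym, yx]
    rw [h3, h4] at hsx
    exact lx hsx

/-- The two square roots. -/
theorem root_cases (h : Four a b c d) {s : Perm α} (h2 : s * s = rt a b c d)
    (ho : ∀ x, x ≠ a → x ≠ b → x ≠ c → x ≠ d → s x = x) :
    (s a = c ∧ s c = b ∧ s b = d ∧ s d = a) ∨ (s a = d ∧ s d = b ∧ s b = c ∧ s c = a) := by
  have h2' : ∀ w, s (s w) = rt a b c d w := by
    intro w
    have := congrArg (fun g : Perm α => g w) h2
    simpa using this
  have h1 : s a ≠ a := by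
    intro h1
    have := h2' a
    rw [h1, h1, rt_a h] at this
    exact h.ab this
  have h3 : s a ≠ b := by
    intro h3
    have h4 := h2' a
    rw [h3, rt_a h] at h4
    exact h.ab (s.injective (h3.trans h4.symm))
  have h4 : s a = c ∨ s a = d := by
    by_contra hcon
    push Not at hcon
    have h5 := ho _ h1 h3 hcon.1 hcon.2
    exact h1 (s.injective h5)
  rcases h4 with h4 | h4
  · have e1 : s c = b := by rw [← h4, h2', rt_a h]
    have e2 : s b = d := by rw [← e1, h2', rt_c h]
    have e3 : s d = a := by rw [← e2, h2', rt_b h]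
    exact Or.inl ⟨h4, e1, e2, e3⟩
  · have e1 : s d = b := by rw [← h4, h2', rt_a h]
    have e2 : s b = c := by rw [← e1, h2', rt_d h]
    have e3 : s c = a := by rw [← e2, h2', rt_b h]
    exact Or.inr ⟨h4, e1, e2, e3⟩

theorem root_quot (h : Four a b c d) {s s' : Perm α} (h2 : s * s = rt a b c d)
    (ho : ∀ x, x ≠ a → x ≠ b → x ≠ c → x ≠ d → s x = x) (h2' : s' * s' = rt a b c d)
    (ho' : ∀ x, x ≠ a → x ≠ b → x ≠ c → x ≠ d → s' x = x) :
    s⁻¹ * s' = 1 ∨ s⁻¹ * s' = rt a b c d := by
  have key : s' = s ∨ s' = s * rt a b c d := by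
    rcases root_cases h h2 ho with ⟨a1, a2, a3, a4⟩ | ⟨a1, a2, a3, a4⟩ <;>
      rcases root_cases h h2' ho' with ⟨b1, b2, b3, b4⟩ | ⟨b1, b2, b3, b4⟩
    · left
      ext x
      refine cases5 (a := a) (b := b) (c := c) (d := d) (P := fun x => s' x = s x) ?_ ?_ ?_ ?_ ?_ x
      · rw [a1, b1]
      · rw [a3, b3]
      · rw [a2, b2]
      · rw [a4, b4]
      · intro x x1 x2 x3 x4
        rw [ho x x1 x2 x3 x4, ho' x x1 x2 x3 x4]
    · right
      ext x
      refine cases5 (a := a) (b := b) (c := c) (d := d) (P := fun x => s' x = (s * rt a b c d) x)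
        ?_ ?_ ?_ ?_ ?_ x
      · rw [Perm.mul_apply, rt_a h, a3, b1]
      · rw [Perm.mul_apply, rt_b h, a1, b3]
      · rw [Perm.mul_apply, rt_c h, a4, b4]
      · rw [Perm.mul_apply, rt_d h, a2, b2]
      · intro x x1 x2 x3 x4
        rw [Perm.mul_apply, rt_o x1 x2 x3 x4, ho x x1 x2 x3 x4, ho' x x1 x2 x3 x4]
    · right
      ext x
      refine cases5 (a := a) (b := b) (c := c) (d := d) (P := fun x => s' x = (s * rt a b c d) x)
        ?_ ?_ ?_ ?_ ?_ x
      · rw [Perm.mul_apply, rt_a h, a3, b1]
      · rw [Perm.mul_apply, rt_b h, a1, b3]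
      · rw [Perm.mul_apply, rt_c h, a2, b2]
      · rw [Perm.mul_apply, rt_d h, a4, b4]
      · intro x x1 x2 x3 x4
        rw [Perm.mul_apply, rt_o x1 x2 x3 x4, ho x x1 x2 x3 x4, ho' x x1 x2 x3 x4]
    · left
      ext x
      refine cases5 (a := a) (b := b) (c := c) (d := d) (P := fun x => s' x = s x) ?_ ?_ ?_ ?_ ?_ x
      · rw [a1, b1]
      · rw [a3, b3]
      · rw [a4, b4]
      · rw [a2, b2]
      · intro x x1 x2 x3 x4
        rw [ho x x1 x2 x3 x4, ho' x x1 x2 x3 x4]
  rcases key with rfl | rfl
  · left; rw [inv_mul_cancel]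
  · right; rw [inv_mul_cancel_left]

end

/-- **A permutation `c` of order four, normalised (up to inversion) by the even centralizer of its square, has
a root as its square.** -/
theorem isRoot_of_norm {c : Perm α} (h4 : c * c * (c * c) = 1) (h1 : c * c ≠ 1)
    (hn : ∀ a : Perm α, a ∈ alternatingGroup α → a * (c * c) = c * c * a →
      a * c * a⁻¹ = c ∨ a * c * a⁻¹ = c⁻¹) :
    ∃ i0 i1 i2 i3, Four i0 i1 i2 i3 ∧ c * c = rt i0 i1 i2 i3 := by
  have h4' : ∀ x, c (c (c (c x))) = x := by
    intro x
    have := congrArg (fun g : Perm α => g x) h4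
    simpa using this
  obtain ⟨i, hi⟩ : ∃ i, c (c i) ≠ i := by
    by_contra hcon
    push Not at hcon
    exact h1 (by ext x; simpa using hcon x)
  -- a point moved by `c²` has an orbit of length four
  have orb : ∀ i, c (c i) ≠ i → Four i (c (c i)) (c i) (c (c (c i))) := by
    intro i hi
    have e1 : c i ≠ i := by
      intro h; apply hi; rw [h, h]
    refine ⟨hi.symm, e1.symm, ?_, ?_, ?_, ?_⟩
    · intro h
      have := h4' i
      rw [← h] at this
      exact e1 this
    · intro h
      exact e1 (c.injective h)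
    · intro h
      have h5 := c.injective h
      exact e1 (c.injective h5).symm
    · intro h
      exact hi (c.injective h).symm
  have F := orb i hi
  refine ⟨i, c (c i), c i, c (c (c i)), F, ?_⟩
  -- all other points are fixed by `c²`
  have key : ∀ j, j ≠ i → j ≠ c (c i) → j ≠ c i → j ≠ c (c (c i)) → c (c j) = j := by
    intro j j0 j2 j1 j3
    by_contra hj
    have F' := orb j hj
    -- `c j` is outside the orbit of `i`
    have out : ∀ y, y ≠ i → y ≠ c (c i) → y ≠ c i → y ≠ c (c (c i)) →
        c y ≠ i ∧ c y ≠ c (c i) ∧ c y ≠ c i ∧ c y ≠ c (c (c i)) := by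
      intro y y0 y2 y1 y3
      refine ⟨?_, ?_, ?_, ?_⟩
      · intro h
        apply y3; apply c.injective; rw [h, h4']
      · intro h; exact y1 (c.injective h)
      · intro h; exact y0 (c.injective h)
      · intro h; exact y2 (c.injective h)
    obtain ⟨m0, m2, m1, m3⟩ := out j j0 j2 j1 j3
    obtain ⟨n0, n2, n1, n3⟩ := out _ m0 m2 m1 m3
    obtain ⟨o0, o2, o1, o3⟩ := out _ n0 n2 n1 n3
    set a : Perm α := swap (c i) (c j) * swap (c (c (c i))) (c (c (c j))) with ha
    have haA : a ∈ alternatingGroup α := by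
      rw [mem_alternatingGroup, ha, map_mul, sign_swap (Ne.symm m1), sign_swap (Ne.symm o3)]
      decide
    have hdis : swap (c (c (c i))) (c (c (c j))) * swap (c i) (c j) =
        swap (c i) (c j) * swap (c (c (c i))) (c (c (c j))) := by
      have F2 : Four (c i) (c j) (c (c (c i))) (c (c (c j))) :=
        ⟨m1.symm, F.cd, (Ne.symm o1), m3, F'.cd, (Ne.symm o3)⟩
      exact rt_s2 F2
    have hcomm : a * (c * c) = c * c * a := by
      have h5 : c * c * a = swap (c (c (c i))) (c (c (c j))) * swap (c i) (c j) * (c * c) := by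
        have e1 : (c * c) (c i) = c (c (c i)) := rfl
        have e2 : (c * c) (c j) = c (c (c j)) := rfl
        have e3 : (c * c) (c (c (c i))) = c i := h4' (c i)
        have e4 : (c * c) (c (c (c j))) = c j := h4' (c j)
        rw [ha, ← mul_assoc, mul_swap_eq_swap_mul (c * c), e1, e2, mul_assoc, mul_swap_eq_swap_mul (c * c),
          e3, e4, mul_assoc]
      rw [h5, hdis]
    have ai : a⁻¹ i = i := by
      rw [Perm.inv_eq_iff_eq, ha, Perm.mul_apply, swap_apply_of_ne_of_ne F.ad (Ne.symm o0),
        swap_apply_of_ne_of_ne F.ac (Ne.symm m0)]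
    have aci : a (c i) = c j := by
      rw [ha, Perm.mul_apply, swap_apply_of_ne_of_ne F.cd (Ne.symm o1), swap_apply_left]
    rcases hn a haA hcomm with h5 | h5
    · have h6 := congrArg (fun g : Perm α => g i) h5
      simp only [Perm.mul_apply] at h6
      rw [ai, aci] at h6
      exact m1 h6
    · have h6 := congrArg (fun g : Perm α => g i) h5
      simp only [Perm.mul_apply] at h6
      rw [ai, aci, Perm.eq_inv_iff_eq] at h6
      exact n0 h6
  ext x
  refine cases5 (a := i) (b := c (c i)) (c := c i) (d := c (c (c i)))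
    (P := fun x => (c * c) x = rt i (c (c i)) (c i) (c (c (c i))) x) ?_ ?_ ?_ ?_ ?_ x
  · rw [rt_a F, Perm.mul_apply]
  · rw [rt_b F, Perm.mul_apply, h4']
  · rw [rt_c F, Perm.mul_apply]
  · rw [rt_d F, Perm.mul_apply, h4']
  · intro x x0 x2 x1 x3
    rw [rt_o x0 x2 x1 x3, Perm.mul_apply, key x x0 x2 x1 x3]

/-- Two roots are conjugate under even permutations. -/
theorem conj_rt (h7 : 7 ≤ Fintype.card α) {a b c d a' b' c' d' : α} (h : Four a b c d)
    (h' : Four a' b' c' d') : ∃ g : alternatingGroup α,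
      (g : Perm α) * rt a b c d * (g : Perm α)⁻¹ = rt a' b' c' d' := by
  have hsup : ∀ {a b c d : α}, Four a b c d → (rt a b c d).support.card ≤ 4 := by
    intro a b c d h
    have : (rt a b c d).support ⊆ {a, b, c, d} := by
      intro x hx
      rw [mem_support] at hx
      by_contra hcon
      simp only [Finset.mem_insert, Finset.mem_singleton, not_or] at hcon
      exact hx (rt_o hcon.1 hcon.2.1 hcon.2.2.1 hcon.2.2.2)
    exact (Finset.card_le_card this).trans Finset.card_le_four
  have hconj : IsConj (rt a b c d) (rt a' b' c' d') := by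
    rw [isConj_iff_cycleType_eq]
    have hct : ∀ {a b c d : α}, Four a b c d → (rt a b c d).cycleType = {2, 2} := by
      intro a b c d h
      unfold rt
      have hd : Disjoint (swap a b) (swap c d) := by
        apply Equiv.Perm.disjoint_swap_swap
        simp [h.ab, h.ac, h.ad, h.bc, h.bd, h.cd]
      rw [hd.cycleType_mul, (IsCycle.cycleType (isCycle_swap h.ab)),
        (IsCycle.cycleType (isCycle_swap h.cd)), card_support_swap h.ab, card_support_swap h.cd]
      rfl
    rw [hct h, hct h']
  have h1 := alternatingGroup.isConj_of (σ := ⟨rt a b c d, rt_mem h⟩) (τ := ⟨rt a' b' c' d', rt_mem h'⟩)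
    hconj (by have := hsup h; simp only; omega)
  obtain ⟨g, hg⟩ := isConj_iff.1 h1
  refine ⟨g, ?_⟩
  have := congrArg (Subtype.val) hg
  simpa using this

end Cfsg.Agent.OddHalf.D5.QPerm
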