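import Cfsg.Agent.OddHalf.D5.QFrame
import Cfsg.Agent.OddHalf.D5.QPerm

/-!
# ODD half, D5, `C(K)` cyclic of order at least four: roots

`Fr.root_fix`: an element normalising `⟨t, r⟩`, `r ∈ K` a root, centralizes `t`.
`Fr.comm_fix`: if `f ∈ ⟨q⟩` has order four and `f^g` commutes with `f`, then `g` centralizes `t`.
-/

set_option autoImplicit false

namespace Cfsg.Agent.OddHalf.D5.QFrame.Fr

open Equiv Equiv.Perm Cfsg.Agent.OddHalf.D5.QPerm

variable {G : Type*} [Group G] {α : Type*} [Fintype α] [DecidableEq α]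
variable {k : ℕ} {t q : G} {e : alternatingGroup α →* G} {p : G → Perm α}

/-- the three involutions of `⟨t, r⟩` -/
def W (t r : G) (x : G) : Prop := x = t ∨ x = r ∨ x = t * r

/-- involutions of `C(t)` over a root -/
theorem over_root (F : Fr k t q e p) {x : G} (hx : x * t = t * x) (hxx : x * x = 1)
    {r : alternatingGroup α} (hr : p x = 1 ∨ p x = r) (h1 : x ≠ 1) (hrr : r * r = 1) : W t (e r) x := by
  rcases hr with hr | hr
  · obtain ⟨i, rfl⟩ := Subgroup.mem_zpowers_iff.1 (F.ker x hx hr)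
    rcases F.qz_sq hxx with h | h
    · exact absurd h h1
    · exact Or.inl h
  · obtain ⟨i, a, hxa, ha⟩ := F.inner hx (by rw [hr]; exact mem_alternatingGroup.1 r.2)
    have har : a = r := Subtype.ext (ha.trans hr)
    subst har
    rw [hxa] at hxx ⊢
    have h2 : q ^ i * q ^ i = 1 := by
      calc q ^ i * q ^ i = q ^ i * (q ^ i * e a) * e a := by
            rw [mul_assoc, mul_assoc (q ^ i) (e a), ← map_mul, hrr, map_one, mul_one]
        _ = q ^ i * (e a * q ^ i) * e a := by rw [F.qez]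
        _ = q ^ i * e a * (q ^ i * e a) := by group
        _ = 1 := hxx
    rcases F.qz_sq h2 with h | h
    · right; left; rw [h, one_mul]
    · right; right; rw [h]

/-- **Lemma U**: an element normalising `⟨t, r⟩` centralizes `t`. -/
theorem root_fix (F : Fr k t q e p) {a b c d : α} (h4 : Four a b c d) {r : alternatingGroup α}
    (hr : (r : Perm α) = rt a b c d) {g : G} (hgt : W t (e r) (g * t * g⁻¹))
    (hgr : W t (e r) (g * e r * g⁻¹)) : g * t * g⁻¹ = t := by
  by_contra hne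
  have hrr : r * r = 1 := by
    apply Subtype.ext
    rw [Subgroup.coe_mul, hr, rt_mul_self h4]; rfl
  have err : e r * e r = 1 := by rw [← map_mul, hrr, map_one]
  have tr : t * e r = e r * t := (F.et r).symm
  have hr1 : r ≠ 1 := by
    intro h
    rw [h] at hr
    have := congrArg (fun g : Perm α => g a) hr
    rw [rt_a h4] at this
    exact h4.ab this
  -- `g⁻¹ W g ⊆ W`
  have hprod : g * (t * e r) * g⁻¹ = g * t * g⁻¹ * (g * e r * g⁻¹) := by group
  have hne2 : g * t * g⁻¹ ≠ g * e r * g⁻¹ := by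
    intro h
    have h5 : t = e r := mul_left_cancel (mul_right_cancel h)
    have h6 := F.pe r
    rw [← h5, F.p_t] at h6
    exact hr1 (Subtype.ext h6.symm)
  have eW : ∀ {x y : G}, g * x * g⁻¹ = y → g⁻¹ * y * g = x := by
    intro x y h; rw [← h]; group
  have hinv : ∀ w, W t (e r) w → W t (e r) (g⁻¹ * w * g) := by
    have t1 : t * (t * e r) = e r := by rw [← mul_assoc, F.tt, one_mul]
    have t2 : e r * (t * e r) = t := by rw [tr, ← mul_assoc, err, one_mul]
    have t3 : t * e r * t = e r := by rw [tr, mul_assoc, F.tt, mul_one]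
    have t4 : t * e r * e r = t := by rw [mul_assoc, err, mul_one]
    intro w hw
    rcases hgt with h1 | h1 | h1
    · exact absurd h1 hne
    · rcases hgr with h2 | h2 | h2
      · rw [h1, h2, ← tr] at hprod
        rcases hw with rfl | rfl | rfl
        · rw [eW h2]; exact Or.inr (Or.inl rfl)
        · rw [eW h1]; exact Or.inl rfl
        · rw [eW hprod]; exact Or.inr (Or.inr rfl)
      · exact absurd (h1.trans h2.symm) hne2
      · rw [h1, h2, t2] at hprod
        rcases hw with rfl | rfl | rfl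
        · rw [eW hprod]; exact Or.inr (Or.inr rfl)
        · rw [eW h1]; exact Or.inl rfl
        · rw [eW h2]; exact Or.inr (Or.inl rfl)
    · rcases hgr with h2 | h2 | h2
      · rw [h1, h2, t3] at hprod
        rcases hw with rfl | rfl | rfl
        · rw [eW h2]; exact Or.inr (Or.inl rfl)
        · rw [eW hprod]; exact Or.inr (Or.inr rfl)
        · rw [eW h1]; exact Or.inl rfl
      · rw [h1, h2, t4] at hprod
        rcases hw with rfl | rfl | rfl
        · rw [eW hprod]; exact Or.inr (Or.inr rfl)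
        · rw [eW h2]; exact Or.inr (Or.inl rfl)
        · rw [eW h1]; exact Or.inl rfl
      · exact absurd (h1.trans h2.symm) hne2
  -- elements commuting with `t` and `r` are mapped to such elements
  have hcW : ∀ x, x * t = t * x → x * e r = e r * x → ∀ w, W t (e r) w → x * w = w * x := by
    intro x h1 h2 w hw
    rcases hw with rfl | rfl | rfl
    · exact h1
    · exact h2
    · rw [← mul_assoc, h1, mul_assoc, h2, mul_assoc]
  have hfwd : ∀ x, x * t = t * x → x * e r = e r * x → ∀ w, W t (e r) w →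
      g * x * g⁻¹ * w = w * (g * x * g⁻¹) := by
    intro x h1 h2 w hw
    have h3 := hcW x h1 h2 _ (hinv w hw)
    calc g * x * g⁻¹ * w = g * (x * (g⁻¹ * w * g)) * g⁻¹ := by group
      _ = g * (g⁻¹ * w * g * x) * g⁻¹ := by rw [h3]
      _ = w * (g * x * g⁻¹) := by group
  have hW : ∀ w, W t (e r) w → W t (e r) (g * w * g⁻¹) := by
    intro w hw
    rcases hw with rfl | rfl | rfl
    · exact hgt
    · exact hgr
    · rw [hprod]
      have t1 : t * (t * e r) = e r := by rw [← mul_assoc, F.tt, one_mul]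
      have t2 : e r * (t * e r) = t := by rw [tr, ← mul_assoc, err, one_mul]
      have t3 : t * e r * t = e r := by rw [tr, mul_assoc, F.tt, mul_one]
      have t4 : t * e r * e r = t := by rw [mul_assoc, err, mul_one]
      rcases hgt with h1 | h1 | h1 <;> rcases hgr with h2 | h2 | h2 <;>
        first
        | exact absurd (h1.trans h2.symm) hne2
        | exact absurd h1 hne
        | (rw [h1, h2]
           first
           | exact Or.inl (by assumption)
           | exact Or.inr (Or.inl (by assumption))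
           | exact Or.inr (Or.inr tr.symm))
  have hbwd : ∀ x, x * t = t * x → x * e r = e r * x → ∀ w, W t (e r) w →
      g⁻¹ * x * g * w = w * (g⁻¹ * x * g) := by
    intro x h1 h2 w hw
    have h3 := hcW x h1 h2 _ (hW w hw)
    calc g⁻¹ * x * g * w = g⁻¹ * (x * (g * w * g⁻¹)) * g := by group
      _ = g⁻¹ * (g * w * g⁻¹ * x) * g := by rw [h3]
      _ = w * (g⁻¹ * x * g) := by group
  -- elements of order three of `C(⟨t, r⟩)`
  have h3c : ∀ y : alternatingGroup α, (y : Perm α) ^ 3 = 1 → (y : Perm α) * rt a b c d = rt a b c d * y →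
      ∃ z : alternatingGroup α, g⁻¹ * e y * g = e z ∧ (z : Perm α) ^ 3 = 1 ∧
        (z : Perm α) * rt a b c d = rt a b c d * z := by
    intro y hy hyr
    have hyr' : e y * e r = e r * e y := by
      rw [← map_mul, ← map_mul]
      congr 1
      apply Subtype.ext
      rw [Subgroup.coe_mul, Subgroup.coe_mul, hr, hyr]
    have h1 := hbwd (e y) (F.et y) hyr' t (Or.inl rfl)
    have h2 := hbwd (e y) (F.et y) hyr' (e r) (Or.inr (Or.inl rfl))
    have h3 : (g⁻¹ * e y * g) ^ 3 = 1 := by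
      have : (g⁻¹ * e y * g) ^ 3 = g⁻¹ * (e y) ^ 3 * g := by simp [pow_succ, mul_assoc]
      rw [this, ← map_pow]
      have : y ^ 3 = 1 := Subtype.ext (by rw [Subgroup.coe_pow, hy]; rfl)
      rw [this, map_one]; group
    obtain ⟨z, hz⟩ := F.odd_mem h1 (m := 3) (by decide) h3
    refine ⟨z, hz, ?_, ?_⟩
    · rw [hz, ← map_pow] at h3
      have : z ^ 3 = 1 := F.inj (by rw [h3, map_one])
      rw [← Subgroup.coe_pow, this]; rfl
    · rw [hz, ← map_mul, ← map_mul] at h2
      have := congrArg Subtype.val (F.inj h2)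
      rw [Subgroup.coe_mul, Subgroup.coe_mul, hr] at this
      exact this
  -- the element `v`
  set v : alternatingGroup α := ⟨rt a c b d, rt_mem h4.s3⟩ with hv
  have hvv : v * v = 1 := by
    apply Subtype.ext
    rw [Subgroup.coe_mul, hv, rt_mul_self h4.s3]; rfl
  have hvr : (v : Perm α) * rt a b c d = rt a b c d * v := by
    rw [hv]
    ext x
    refine cases5 (a := a) (b := b) (c := c) (d := d)
      (P := fun x => (rt a c b d * rt a b c d) x = (rt a b c d * rt a c b d) x) ?_ ?_ ?_ ?_ ?_ x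
    · rw [Perm.mul_apply, Perm.mul_apply, rt_a h4, rt_a h4.s3, rt_c h4.s3, rt_c h4]
    · rw [Perm.mul_apply, Perm.mul_apply, rt_b h4, rt_c h4.s3, rt_a h4.s3, rt_d h4]
    · rw [Perm.mul_apply, Perm.mul_apply, rt_c h4, rt_d h4.s3, rt_b h4.s3, rt_a h4]
    · rw [Perm.mul_apply, Perm.mul_apply, rt_d h4, rt_d h4.s3, rt_b h4.s3, rt_b h4]
    · intro x x1 x2 x3 x4
      rw [Perm.mul_apply, Perm.mul_apply, rt_o x1 x2 x3 x4, rt_o x1 x3 x2 x4, rt_o x1 x2 x3 x4]
  have hvr' : e v * e r = e r * e v := by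
    rw [← map_mul, ← map_mul]
    congr 1
    apply Subtype.ext
    rw [Subgroup.coe_mul, Subgroup.coe_mul, hr, hvr]
  -- square roots
  have hpt : p (g * t * g⁻¹) = rt a b c d := by
    rcases hgt with h1 | h1 | h1
    · exact absurd h1 hne
    · rw [h1, F.pe, hr]
    · rw [h1, F.pm _ _ rfl (F.et r), F.p_t, one_mul, F.pe, hr]
  have key : ∀ u : alternatingGroup α, u * u = 1 → e u * e r = e r * e u →
      (∀ z : alternatingGroup α, (z : Perm α) ^ 3 = 1 → (z : Perm α) * rt a b c d = rt a b c d * z →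
        u * z = z * u) →
      g * (f q k * e u) * g⁻¹ * t = t * (g * (f q k * e u) * g⁻¹) ∧
      p (g * (f q k * e u) * g⁻¹) * p (g * (f q k * e u) * g⁻¹) = rt a b c d ∧
      ∀ x, x ≠ a → x ≠ b → x ≠ c → x ≠ d → p (g * (f q k * e u) * g⁻¹) x = x := by
    intro u huu hur hz
    have c1 : f q k * e u * t = t * (f q k * e u) := cm F.ftc (F.et u)
    have c2 : f q k * e u * e r = e r * (f q k * e u) := by
      rw [mul_assoc, hur, ← mul_assoc, ← F.fe r, mul_assoc]
    have h1 := hfwd _ c1 c2 t (Or.inl rfl)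
    have hsq : p (g * (f q k * e u) * g⁻¹) * p (g * (f q k * e u) * g⁻¹) = rt a b c d := by
      rw [← F.pm _ _ h1 h1, ← hpt]
      congr 1
      calc g * (f q k * e u) * g⁻¹ * (g * (f q k * e u) * g⁻¹) = g * (f q k * (e u * f q k) * e u) * g⁻¹ := by
            group
        _ = g * (f q k * (f q k * e u) * e u) * g⁻¹ := by rw [F.fe]
        _ = g * (f q k * f q k * (e u * e u)) * g⁻¹ := by group
        _ = g * t * g⁻¹ := by rw [F.ff, ← map_mul, huu, map_one, mul_one]
    refine ⟨h1, hsq, ?_⟩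
    intro x x1 x2 x3 x4
    refine out_fix F.c7 hsq ?_ x1 x2 x3 x4
    intro y hyA hy3 hyr
    obtain ⟨z, hz1, hz3, hzr⟩ := h3c ⟨y, hyA⟩ hy3 hyr
    have h5 : g * (f q k * e u) * g⁻¹ * e ⟨y, hyA⟩ = e ⟨y, hyA⟩ * (g * (f q k * e u) * g⁻¹) := by
      have h6 : e ⟨y, hyA⟩ = g * e z * g⁻¹ := by rw [← hz1]; group
      rw [h6]
      calc g * (f q k * e u) * g⁻¹ * (g * e z * g⁻¹) = g * (f q k * (e u * e z)) * g⁻¹ := by group
        _ = g * (f q k * (e z * e u)) * g⁻¹ := by rw [← map_mul, hz z hz3 hzr, map_mul]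
        _ = g * (f q k * e z * e u) * g⁻¹ := by group
        _ = g * (e z * f q k * e u) * g⁻¹ := by rw [F.fe]
        _ = g * e z * g⁻¹ * (g * (f q k * e u) * g⁻¹) := by group
    have h7 := congrArg p h5
    rw [F.pm _ _ h1 (F.et _), F.pm _ _ (F.et _) h1, F.pe] at h7
    exact h7
  obtain ⟨c1, s1, o1⟩ := key 1 (mul_one 1) (by rw [map_one, one_mul, mul_one]) (by
    intro z _ _; rw [one_mul, mul_one])
  obtain ⟨c2, s2, o2⟩ := key v hvv hvr' (by
    intro z hz3 hzr
    obtain ⟨z1, z2, z3, z4⟩ := fix_all h4 hz3 hzr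
    apply Subtype.ext
    rw [Subgroup.coe_mul, Subgroup.coe_mul, hv]
    exact (comm_rt z1 z3 z2 z4).symm)
  have hq := root_quot h4 s1 o1 s2 o2
  -- `g e(v) g⁻¹ = y₁⁻¹ y₂`
  have hx : g * e v * g⁻¹ = (g * (f q k * e 1) * g⁻¹)⁻¹ * (g * (f q k * e v) * g⁻¹) := by
    rw [map_one]; group
  have hxc : g * e v * g⁻¹ * t = t * (g * e v * g⁻¹) := by
    rw [hx]; exact cm (ci c1) c2
  have hpx : p (g * e v * g⁻¹) = 1 ∨ p (g * e v * g⁻¹) = r := by
    rw [hx, F.pm _ _ (ci c1) c2, F.p_inv c1, hr]; exact hq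
  have hvv' : g * e v * g⁻¹ * (g * e v * g⁻¹) = 1 := by
    calc g * e v * g⁻¹ * (g * e v * g⁻¹) = g * (e v * e v) * g⁻¹ := by group
      _ = 1 := by rw [← map_mul, hvv, map_one]; group
  have hv1 : g * e v * g⁻¹ ≠ 1 := by
    intro h
    have h5 : e v = 1 := by
      calc e v = g⁻¹ * (g * e v * g⁻¹) * g := by group
        _ = 1 := by rw [h]; group
    have h6 : v = 1 := F.inj (by rw [h5, map_one])
    have h7 := congrArg (fun w : alternatingGroup α => (w : Perm α) a) h6
    simp only [hv] at h7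
    rw [rt_a h4.s3] at h7
    exact h4.ac h7.symm
  have hWv := F.over_root hxc hvv' hpx hv1 hrr
  have hWe := hinv _ hWv
  have : g⁻¹ * (g * e v * g⁻¹) * g = e v := by group
  rw [this] at hWe
  have hpv : (v : Perm α) a = c := by rw [hv]; exact rt_a h4.s3
  rcases hWe with h | h | h
  · have h5 := congrArg p h
    rw [F.pe, F.p_t] at h5
    rw [h5] at hpv
    exact h4.ac hpv
  · have h5 := F.inj h
    rw [h5, hr, rt_a h4] at hpv
    exact h4.bc hpv
  · have h5 := congrArg p h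
    rw [F.pe, F.pm _ _ rfl (F.et _), F.p_t, one_mul, F.pe, hr] at h5
    rw [h5, rt_a h4] at hpv
    exact h4.bc hpv

/-- elements of `C(g t g⁻¹)` normalise `⟨g f g⁻¹⟩` -/
theorem normf' (F : Fr k t q e p) {g x : G} (hx : x * (g * t * g⁻¹) = g * t * g⁻¹ * x) :
    x * (g * f q k * g⁻¹) * x⁻¹ = g * f q k * g⁻¹ ∨
      x * (g * f q k * g⁻¹) * x⁻¹ = (g * f q k * g⁻¹)⁻¹ := by
  have h1 : g⁻¹ * x * g * t = t * (g⁻¹ * x * g) := by
    calc g⁻¹ * x * g * t = g⁻¹ * (x * (g * t * g⁻¹)) * g := by group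
      _ = g⁻¹ * (g * t * g⁻¹ * x) * g := by rw [hx]
      _ = t * (g⁻¹ * x * g) := by group
  rcases F.normf h1 with h2 | h2
  · left
    calc x * (g * f q k * g⁻¹) * x⁻¹ = g * (g⁻¹ * x * g * f q k * (g⁻¹ * x * g)⁻¹) * g⁻¹ := by group
      _ = g * f q k * g⁻¹ := by rw [h2]
  · right
    calc x * (g * f q k * g⁻¹) * x⁻¹ = g * (g⁻¹ * x * g * f q k * (g⁻¹ * x * g)⁻¹) * g⁻¹ := by group
      _ = g * (f q k)⁻¹ * g⁻¹ := by rw [h2]
      _ = (g * f q k * g⁻¹)⁻¹ := by group

/-- the first half of `comm_fix` -/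
theorem comm_root (F : Fr k t q e p) {g : G}
    (h : g * f q k * g⁻¹ * f q k = f q k * (g * f q k * g⁻¹)) (hne : g * t * g⁻¹ ≠ t) :
    g * t * g⁻¹ * t = t * (g * t * g⁻¹) ∧ ∃ a b c d, Four a b c d ∧ ∃ r : alternatingGroup α,
      (r : Perm α) = rt a b c d ∧ W t (e r) (g * t * g⁻¹) := by
  have hft : g * f q k * g⁻¹ * t = t * (g * f q k * g⁻¹) := by
    rw [← F.ff, ← mul_assoc, h, mul_assoc, h]
    simp only [mul_assoc]
  have hff : g * f q k * g⁻¹ * (g * f q k * g⁻¹) = g * t * g⁻¹ := by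
    calc g * f q k * g⁻¹ * (g * f q k * g⁻¹) = g * (f q k * f q k) * g⁻¹ := by group
      _ = g * t * g⁻¹ := by rw [F.ff]
  have htt : g * t * g⁻¹ * t = t * (g * t * g⁻¹) := by
    rw [← hff]; exact cm hft hft
  have hsq : g * t * g⁻¹ * (g * t * g⁻¹) = 1 := by
    calc g * t * g⁻¹ * (g * t * g⁻¹) = g * (t * t) * g⁻¹ := by group
      _ = 1 := by rw [F.tt]; group
  have ht1 : g * t * g⁻¹ ≠ 1 := by
    intro h1
    apply F.t_ne
    calc t = g⁻¹ * (g * t * g⁻¹) * g := by group
      _ = 1 := by rw [h1]; group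
  have hcc : p (g * f q k * g⁻¹) * p (g * f q k * g⁻¹) = p (g * t * g⁻¹) := by
    rw [← F.pm _ _ hft hft, hff]
  have hz1 : p (g * t * g⁻¹) ≠ 1 := by
    intro h1
    obtain ⟨i, hi⟩ := Subgroup.mem_zpowers_iff.1 (F.ker _ htt h1)
    rw [← hi] at hsq ht1 hne
    rcases F.qz_sq hsq with h2 | h2
    · exact ht1 h2
    · exact hne h2
  have hzz : p (g * t * g⁻¹) * p (g * t * g⁻¹) = 1 := by
    rw [← F.pm _ _ htt htt, hsq, F.p_one]
  obtain ⟨a, b, c, d, h4, hz⟩ := isRoot_of_norm (c := p (g * f q k * g⁻¹)) (by rw [hcc, hzz])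
    (by rw [hcc]; exact hz1) (by
      intro y hyA hy
      rw [hcc] at hy
      -- `e y` commutes with `t'`
      have h5 : g * t * g⁻¹ * e ⟨y, hyA⟩ * (g * t * g⁻¹)⁻¹ = e ⟨y, hyA⟩ := by
        rw [F.pc _ htt]
        congr 1
        apply Subtype.ext
        rw [coe_cj]
        simp only
        rw [← hy, mul_inv_cancel_right]
      have h6 : e ⟨y, hyA⟩ * (g * t * g⁻¹) = g * t * g⁻¹ * e ⟨y, hyA⟩ := by
        rw [mul_inv_eq_iff_eq_mul] at h5
        exact h5.symm
      rcases F.normf' h6 with h7 | h7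
      · left
        have h8 := congrArg p h7
        rwa [F.pm _ _ (cm (F.et _) hft) (ci (F.et _)), F.pm _ _ (F.et _) hft, F.p_inv (F.et _),
          F.pe] at h8
      · right
        have h8 := congrArg p h7
        rwa [F.pm _ _ (cm (F.et _) hft) (ci (F.et _)), F.pm _ _ (F.et _) hft, F.p_inv (F.et _),
          F.pe, F.p_inv hft] at h8)
  rw [hcc] at hz
  refine ⟨htt, a, b, c, d, h4, ⟨rt a b c d, rt_mem h4⟩, rfl, ?_⟩
  exact F.over_root htt hsq (Or.inr hz) ht1 (Subtype.ext (by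
    rw [Subgroup.coe_mul]; exact rt_mul_self h4))

/-- **Lemma 3**: if `f^g` commutes with `f`, then `g` centralizes `t`. -/
theorem comm_fix (F : Fr k t q e p) {g : G}
    (h : g * f q k * g⁻¹ * f q k = f q k * (g * f q k * g⁻¹)) : g * t * g⁻¹ = t := by
  by_contra hne
  obtain ⟨htt, a, b, c, d, h4, r, hr, hw⟩ := F.comm_root h hne
  have h' : g⁻¹ * f q k * g⁻¹⁻¹ * f q k = f q k * (g⁻¹ * f q k * g⁻¹⁻¹) := by
    rw [inv_inv]
    calc g⁻¹ * f q k * g * f q k = g⁻¹ * (f q k * (g * f q k * g⁻¹)) * g := by group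
      _ = g⁻¹ * (g * f q k * g⁻¹ * f q k) * g := by rw [h]
      _ = f q k * (g⁻¹ * f q k * g) := by group
  have hne' : g⁻¹ * t * g⁻¹⁻¹ ≠ t := by
    intro h1
    apply hne
    rw [inv_inv] at h1
    calc g * t * g⁻¹ = g * (g⁻¹ * t * g) * g⁻¹ := by rw [h1]
      _ = t := by group
  obtain ⟨htt', a', b', c', d', h4', r', hr', hw'⟩ := F.comm_root h' hne'
  rw [inv_inv] at hw' hne' htt'
  obtain ⟨s, hs⟩ := conj_rt F.c7 h4' h4
  have hsr : s * r' * s⁻¹ = r := by
    apply Subtype.ext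
    rw [Subgroup.coe_mul, Subgroup.coe_mul, Subgroup.coe_inv, hr', hr, hs]
  have hrr : r * r = 1 := by
    apply Subtype.ext
    rw [Subgroup.coe_mul, hr, rt_mul_self h4]; rfl
  have err : e r * e r = 1 := by rw [← map_mul, hrr, map_one]
  have tr : t * e r = e r * t := (F.et r).symm
  -- the element `g e(s)⁻¹`
  have e1 : g * (e s)⁻¹ * t * (g * (e s)⁻¹)⁻¹ = g * t * g⁻¹ := by
    have := ci (F.et s)
    calc g * (e s)⁻¹ * t * (g * (e s)⁻¹)⁻¹ = g * ((e s)⁻¹ * t) * e s * g⁻¹ := by group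
      _ = g * (t * (e s)⁻¹) * e s * g⁻¹ := by rw [this]
      _ = g * t * g⁻¹ := by group
  have e2 : g * (e s)⁻¹ * e r * (g * (e s)⁻¹)⁻¹ = g * e r' * g⁻¹ := by
    rw [← hsr, map_mul, map_mul, map_inv]; group
  -- the image of `r'`
  have e3 : W t (e r) (g * e r' * g⁻¹) := by
    rcases hw' with h1 | h1 | h1
    · exact absurd h1 hne'
    · rw [← h1]
      left; group
    · have h2 : e r' = t * (g⁻¹ * t * g) := by rw [h1, ← mul_assoc, F.tt, one_mul]
      have h3 : g * e r' * g⁻¹ = g * t * g⁻¹ * t := by rw [h2]; group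
      rw [h3]
      rcases hw with h5 | h5 | h5
      · exact absurd h5 hne
      · rw [h5]; right; right; rw [tr]
      · rw [h5]; right; left; rw [tr, mul_assoc, F.tt, mul_one]
  have e4 := F.root_fix h4 hr (g := g * (e s)⁻¹) (by rw [e1]; exact hw) (by rw [e2]; exact e3)
  rw [e1] at e4
  exact hne e4

end Cfsg.Agent.OddHalf.D5.QFrame.Fr
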